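import Cfsg.Agent.Schur.PrimeCert

/-!
Generators of the triple cover of Fi22 in dimension 27 over the field with four elements, and certificates at
the primes 2, 3 and 5 for its sixfold cover. A matrix is the list of its rows; a row is one number whose bits
0–26 are the coefficients of 1 and 27–53 those of a primitive cube root of unity.
-/

set_option autoImplicit false
set_option maxRecDepth 100000

namespace CfsgLib.Fi22Cover

/-- The generators. -/
def genPk : List (List ℕ) :=
  [
    [0x3f000007e00003, 0x3d000000000002, 0x3f6000004c0006, 0x3d200007a4000a, 0x2300007e60012, 0xb00007b60022, 0x7a00040, 0x3d000007aa0080, 0x3d000007ac0100, 0x3d000007b20200, 0x3d000007b40400, 0x3d000007b80800, 0x3d000007e21000, 0x3d000007e42000, 0x3d000007e84000, 0x3d000007f08000, 0x7a10000, 0x3d000007a20000, 0x3d000007a40000, 0x3d000007a80000, 0x3d000007b00000, 0x200000, 0x3d000007e00000, 0x800000, 0x1000000, 0x2000000, 0x4000000],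
    [0x1, 0x3c000000400003, 0x4, 0x3d080000442009, 0x10, 0x3c00000056b021, 0x40, 0x80, 0x100, 0x200, 0x400, 0x800, 0x20000, 0x40000, 0x80000, 0x100000, 0x200000, 0x1000, 0x2000, 0x4000, 0x8000, 0x10000, 0x400000, 0x800000, 0x1000000, 0x2000000, 0x4000000],
    [0x5000000003631, 0x2, 0x5000000005a34, 0x8, 0x20, 0x10, 0x40, 0x80, 0x100, 0x1000, 0x2000, 0x4000, 0x200, 0x400, 0x800, 0x8000, 0x10000, 0x20000, 0x40000, 0x80000, 0x400000, 0x800000, 0x100000, 0x200000, 0x1000000, 0x2000000, 0x4000000],
    [0x1, 0x2, 0x38080000009238, 0x8, 0x10, 0x3408000000509c, 0x40, 0x200, 0x400, 0x80, 0x100, 0x800, 0x1000, 0x2000, 0x8000, 0x4000, 0x10000, 0x20000, 0x40000, 0x100000, 0x80000, 0x200000, 0x400000, 0x1000000, 0x800000, 0x2000000, 0x4000000],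
    [0x1, 0x2, 0x4, 0x3d08000000610d, 0x18000007fffe15, 0x18000007ff9225, 0x40, 0x3d080007ffff80, 0x100, 0x200, 0x800, 0x400, 0x1000, 0x4000, 0x2000, 0x8000, 0x10000, 0x20000, 0x80000, 0x40000, 0x100000, 0x200000, 0x400000, 0x800000, 0x2000000, 0x1000000, 0x4000000],
    [0x1, 0x2, 0x31080007fffe55, 0x31080007ffcfd9, 0x10, 0x20, 0x40, 0x100, 0x80, 0x400, 0x200, 0x800, 0x2000, 0x1000, 0x4000, 0x8000, 0x10000, 0x40000, 0x20000, 0x80000, 0x100000, 0x200000, 0x400000, 0x800000, 0x1000000, 0x4000000, 0x2000000],
    [0xe700041ce001, 0x22e000005c0002, 0x846000108c04, 0x2c12804582508, 0x1a21400400ba27, 0x18a2200400ba17, 0x4000040, 0x20000004084980, 0x20000004000100, 0x20000004108e00, 0x20000004000400, 0x20000004000800, 0x2000000440f000, 0x20000004002000, 0x20000004004000, 0x20000004008000, 0x4010000, 0x200000045e0000, 0x20000004040000, 0x20000004080000, 0x20000004100000, 0x4200000, 0x20000004400000, 0x4800000, 0x5000000, 0x6000000, 0x4000000],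
    [0x398c0000000001, 0x3f800000000002, 0x398c0000000004, 0x100c000555927a, 0x398c0000000010, 0x3e0c0000000020, 0x40, 0x100000050a5a80, 0x200000030c6d00, 0x7318200, 0x7318400, 0x7318800, 0x7c19000, 0x7c1a000, 0x7c1c000, 0x8000, 0x7010000, 0x7f20000, 0x7f40000, 0x7f80000, 0x100000, 0x7200000, 0x400000, 0x7800000, 0x1000000, 0x2000000, 0x4000000],
    [0x34080007a198ed, 0x3404c7717f0002, 0x4, 0x34080007a198e4, 0x5c67e86395f7c, 0x247cf06c9214c, 0x34080007a198ac, 0x3d0cc76120986c, 0x3d0cc7612099ec, 0x3d0cc761209aec, 0x3d0cc761209cec, 0x3d0cc7612090ec, 0x3d0cc7612088ec, 0x3d0cc76120b8ec, 0x3d0cc76120d8ec, 0x3d0cc7612018ec, 0xbf80007fe98ee, 0x3d0cc7612298ec, 0x3d0cc7612498ec, 0x3d0cc7612898ec, 0x3d0cc7613098ec, 0x360780078168ef, 0x3d0cc7616098ec, 0x318470072120df, 0x94a4c06a1b063, 0xbded405ff4266, 0x3ae7680400ba37]]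

/-- The certificate at 2. -/
def certTwo : Schur.PrimeCert.Cert where
  p := 2
  n := 18
  rules := [
    ([0, 0], []), ([0, 1], [1, 0]), ([1, 1], []), ([0, 2], [2, 0]), ([1, 2], [2, 1]), ([2, 2], []),
    ([0, 3], [3, 0]), ([1, 3], [3, 1]), ([2, 3], [3, 2]), ([3, 3], []), ([0, 4], [4, 0]),
    ([1, 4], [4, 1]), ([2, 4], [4, 2]), ([3, 4], [4, 3]), ([4, 4], []), ([0, 5], [5, 0]),
    ([1, 5], [5, 1]), ([2, 5], [5, 2]), ([3, 5], [5, 3]), ([4, 5], [5, 4]), ([5, 5], []),
    ([0, 6], [6, 0]), ([1, 6], [6, 1]), ([2, 6], [6, 2]), ([3, 6], [6, 3]), ([4, 6], [6, 4]),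
    ([5, 6], [6, 5]), ([6, 6], []), ([0, 7], [7, 0]), ([1, 7], [7, 1]), ([2, 7], [7, 2]),
    ([3, 7], [7, 3]), ([4, 7], [7, 4]), ([5, 7], [7, 5]), ([6, 7], [7, 6]), ([7, 7], []),
    ([0, 8], [8, 0]), ([1, 8], [8, 1]), ([2, 8], [8, 2]), ([3, 8], [8, 3]), ([4, 8], [8, 4]),
    ([5, 8], [8, 5]), ([6, 8], [8, 6]), ([7, 8], [8, 7]), ([8, 8], []), ([0, 9], [9, 0]),
    ([1, 9], [9, 1]), ([2, 9], [9, 2]), ([3, 9], [9, 3]), ([4, 9], [9, 4]), ([5, 9], [9, 5]),
    ([6, 9], [9, 6]), ([7, 9], [9, 7]), ([8, 9], [9, 8]), ([9, 9], []), ([0, 10], [10, 0]),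
    ([1, 10], [10, 1]), ([2, 10], [10, 2]), ([3, 10], [10, 3]), ([4, 10], [10, 4]), ([5, 10], [10, 5]),
    ([6, 10], [10, 6]), ([7, 10], [10, 7]), ([8, 10], [10, 8]), ([9, 10], [10, 9]), ([10, 10], []),
    ([0, 11], [11, 0]), ([1, 11], [11, 10, 5, 4, 3, 2, 1, 0]), ([2, 11], [11, 5, 4, 3, 0]),
    ([3, 11], [11, 8, 7, 0]), ([4, 11], [11, 9, 8, 7, 4, 2, 1]), ([5, 11], [11, 9, 4, 1]),
    ([6, 11], [11, 6]), ([7, 11], [11, 7]), ([8, 11], [11, 7, 3, 0]), ([9, 11], [11, 10, 9, 8, 7, 3, 0]),
    ([10, 11], [11, 10]), ([11, 11], [10]), ([0, 12], [12, 0]), ([1, 12], [12, 5, 4, 3, 0]),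
    ([2, 12], [12, 10, 5, 4, 3, 2, 1, 0]), ([3, 12], [12, 9, 7, 6, 0]), ([4, 12], [12, 8, 5, 2]),
    ([5, 12], [12, 9, 8, 7, 6, 5, 2, 1]), ([6, 12], [12, 6]), ([7, 12], [12, 7]),
    ([8, 12], [12, 10, 9, 8, 7, 6, 3, 0]), ([9, 12], [12, 7, 6, 3, 0]), ([10, 12], [12, 10]),
    ([11, 12], [12, 11]), ([12, 12], [10]), ([0, 13], [13, 0]), ([1, 13], [13, 10, 9, 8, 6, 3]),
    ([2, 13], [13, 3]), ([3, 13], [13, 2]), ([4, 13], [13, 9, 8, 7, 6, 4, 2, 1, 0]),
    ([5, 13], [13, 9, 6, 4, 1, 0]), ([6, 13], [13, 6]), ([7, 13], [13, 7]), ([8, 13], [13, 7, 5, 4, 3]),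
    ([9, 13], [13, 10, 7, 6, 5, 4, 3, 2, 1]), ([10, 13], [13, 10]), ([11, 13], [13, 11, 8, 6, 5, 4, 2]),
    ([12, 13], [13, 12, 7]), ([13, 13], [10, 8, 5, 4, 2, 0]), ([0, 14], [14, 0]),
    ([1, 14], [14, 9, 8, 7, 5, 3, 2, 1, 0]), ([2, 14], [14, 10, 8, 4, 3, 1, 0]), ([3, 14], [14, 5, 1]),
    ([4, 14], [14, 8, 5, 2]), ([5, 14], [14, 9, 8, 7, 5, 2, 1, 0]), ([6, 14], [14, 6]),
    ([7, 14], [14, 7]), ([8, 14], [14, 10, 9, 7, 5, 3, 2]), ([9, 14], [14, 9, 8, 4, 3, 2, 1]),
    ([10, 14], [14, 10]), ([11, 14], [14, 11, 7]), ([12, 14], [14, 12, 8, 6, 5, 4, 2]),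
    ([13, 14], [14, 13]), ([14, 14], [10, 8, 5, 4, 2, 0]), ([0, 15], [15, 0]),
    ([1, 15], [15, 9, 7, 6, 0]), ([2, 15], [15, 4, 2]), ([3, 15], [15, 9, 8, 7, 5, 3, 2, 1, 0]),
    ([4, 15], [15, 4]), ([5, 15], [15, 6, 5, 0]), ([6, 15], [15, 6]), ([7, 15], [15, 7]),
    ([8, 15], [15, 8, 6, 4, 0]), ([9, 15], [15, 7, 6, 1, 0]), ([10, 15], [15, 10, 8, 5, 4, 2, 0]),
    ([11, 15], [15, 13, 0]), ([12, 15], [15, 14]), ([13, 15], [15, 11, 0]), ([14, 15], [15, 12]),
    ([15, 15], [6, 0]), ([0, 16], [16, 0]), ([1, 16], [16, 5, 1]), ([2, 16], [16, 8, 7, 0]),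
    ([3, 16], [16, 9, 8, 7, 6, 4, 3, 2, 1, 0]), ([4, 16], [16, 6, 4, 0]), ([5, 16], [16, 5]),
    ([6, 16], [16, 6]), ([7, 16], [16, 7]), ([8, 16], [16, 7, 2, 0]), ([9, 16], [16, 9, 6, 5, 0]),
    ([10, 16], [16, 10, 9, 5, 4, 1, 0]), ([11, 16], [16, 14, 13, 12, 10, 9, 5, 1, 0]),
    ([12, 16], [16, 13, 12, 11, 10, 8, 7, 6, 2, 0]), ([13, 16], [16, 14, 12, 11, 10, 9, 7, 5, 1, 0]),
    ([14, 16], [16, 14, 13, 11, 10, 8, 6, 2, 0]), ([15, 16], [16, 15]), ([16, 16], [6, 0]),
    ([0, 17], [17, 0]), ([1, 17], [17, 2]), ([2, 17], [17, 1]), ([3, 17], [17, 3]), ([4, 17], [17, 5]),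
    ([5, 17], [17, 4]), ([6, 17], [17, 6]), ([7, 17], [17, 7, 6]), ([8, 17], [17, 9]),
    ([9, 17], [17, 8]), ([10, 17], [17, 10]), ([11, 17], [17, 12]), ([12, 17], [17, 11]),
    ([13, 17], [17, 13, 12, 11, 10, 8, 7, 6, 2]), ([14, 17], [17, 14, 13, 12, 10, 9, 5, 1, 0]),
    ([15, 17], [17, 16]), ([16, 17], [17, 15]), ([17, 17], [6]), ([18, 0], [0, 18]),
    ([18, 7, 6], [7, 6, 18]), ([18, 12, 11, 10, 8, 5, 4, 1], [14, 9, 8, 7, 3, 1, 0, 18]),
    ([18, 14, 12, 11, 10, 3, 1], [14, 12, 11, 7, 6, 3, 1, 0, 18]), ([19, 0], [0, 19]),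
    ([19, 4], [14, 13, 12, 11, 8, 7, 6, 4, 2, 0, 19]), ([19, 5], [16, 14, 13, 12, 11, 0, 19]),
    ([19, 6], [6, 19]), ([19, 7], [7, 19]), ([19, 8, 2], [14, 12, 10, 9, 1, 19]),
    ([19, 9, 1], [15, 13, 11, 10, 9, 8, 7, 6, 5, 2, 1, 19]),
    ([19, 13, 11, 10], [16, 15, 14, 12, 10, 7, 5, 4, 0, 19]),
    ([19, 14, 12, 10], [14, 12, 10, 8, 7, 6, 5, 2, 0, 19]), ([19, 15], [15, 14, 13, 12, 11, 5, 4, 19]),
    ([19, 16], [15, 14, 13, 12, 11, 8, 7, 5, 4, 2, 19]), ([20, 0], [0, 20]),
    ([20, 6], [10, 7, 6, 5, 4, 3, 2, 1, 0, 20]), ([20, 7], [10, 5, 4, 3, 2, 1, 0, 20]),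
    ([20, 13, 11, 10, 9, 5, 1], [10, 9, 6, 5, 2, 1, 20]), ([20, 14, 12, 10, 8, 2], [5, 3, 2, 20]),
    ([20, 15, 9, 8, 2, 1], [10, 9, 6, 20]), ([20, 16, 15], [9, 8, 4, 20]), ([21, 0], [0, 21]),
    ([21, 4], [16, 14, 13, 12, 11, 9, 4, 1, 0, 21]), ([21, 5], [15, 13, 11, 10, 7, 5, 4, 0, 21]),
    ([21, 6], [6, 21]), ([21, 7], [7, 21]), ([21, 8, 2], [16, 15, 14, 12, 10, 9, 6, 1, 21]),
    ([21, 9, 1], [16, 15, 14, 12, 10, 7, 0, 21]), ([21, 10], [9, 7, 6, 5, 21]),
    ([21, 11, 3, 1], [16, 15, 14, 12, 9, 8, 7, 5, 3, 2, 1, 0, 21]),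
    ([21, 12, 3, 2], [16, 15, 14, 12, 10, 9, 8, 7, 4, 3, 21]),
    ([21, 13, 11], [16, 14, 13, 12, 11, 9, 8, 7, 4, 2, 0, 21]),
    ([21, 14, 12], [16, 15, 14, 12, 10, 7, 5, 4, 1, 0, 21]), ([21, 15], [15, 14, 12, 10, 8, 7, 2, 21]),
    ([21, 16], [16, 13, 11, 10, 9, 7, 6, 5, 4, 1, 21]), ([21, 17], [17, 13, 12, 10, 8, 5, 2, 0, 21]),
    ([22, 0], [0, 22]), ([22, 6], [8, 6, 4, 3, 1, 0, 22]), ([22, 7], [10, 8, 4, 3, 1, 0, 22]),
    ([22, 11, 8, 3, 2, 1], [17, 13, 11, 10, 7, 5, 4, 3, 2, 1, 22]),
    ([22, 13, 8, 4, 3, 2, 1], [17, 13, 11, 4, 2, 1, 0, 22]), ([22, 14, 12, 10, 9, 1], [7, 4, 3, 22]),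
    ([22, 15, 8, 2], [8, 7, 5, 4, 3, 22]),
    ([22, 16, 13, 3, 1], [17, 13, 11, 10, 7, 6, 4, 3, 2, 1, 0, 22])]
  eqs := [
    ([11, 11, 11], [(0, 77, true), (0, 76, true)], [(1, 77, true)]),
    ([0, 11, 11], [(0, 66, true), (1, 66, true), (0, 77, true)], [(1, 77, true), (0, 55, true)]),
    ([1, 1, 11], [(0, 2, true)], [(1, 67, true), (0, 67, true), (7, 55, true), (6, 56, true), (5, 57, true), (4, 58, true), (3, 59, true), (2, 60, true), (1, 65, true), (6, 15, true), (5, 16, true), (4, 17, true), (3, 18, true), (2, 19, true), (1, 20, true), (5, 10, true), (4, 11, true), (3, 12, true), (2, 13, true), (1, 14, true), (4, 6, true), (3, 7, true), (2, 8, true), (1, 9, true), (3, 3, true), (2, 4, true), (1, 5, true), (2, 1, true), (1, 2, true), (1, 0, true)]),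
    ([1, 11, 11], [(0, 67, true), (7, 66, true), (6, 67, true), (5, 68, true), (4, 69, true), (3, 70, true), (2, 71, true), (1, 76, true), (0, 77, true), (0, 65, true), (2, 46, true), (1, 49, true), (0, 54, true), (1, 37, true), (0, 40, true), (2, 29, true), (1, 32, true), (3, 11, true), (2, 14, true), (2, 4, true), (3, 2, true), (2, 38, true), (1, 43, true), (0, 44, true), (1, 30, true), (0, 35, true), (1, 15, true), (0, 17, true), (2, 10, true), (1, 12, true), (3, 6, true), (2, 8, true), (4, 0, true), (3, 57, true), (2, 58, true), (1, 59, true), (0, 60, true), (4, 17, true), (3, 18, true), (2, 19, true), (1, 20, true), (3, 12, true), (2, 13, true), (1, 14, true), (2, 8, true), (1, 9, true), (1, 5, true), (2, 0, true)], [(1, 77, true), (0, 56, true)]),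
    ([0, 1, 11], [(0, 1, true), (1, 66, true), (0, 67, true), (7, 0, true)], [(1, 67, true), (0, 66, true), (1, 55, true), (2, 15, true), (3, 10, true), (4, 6, true), (5, 3, true), (6, 1, true), (7, 0, true)]),
    ([2, 2, 11], [(0, 5, true)], [(1, 68, true), (0, 68, true), (4, 15, true), (3, 18, true), (2, 19, true), (1, 20, true), (3, 10, true), (2, 13, true), (1, 14, true), (2, 6, true), (1, 9, true), (1, 0, true)]),
    ([2, 11, 11], [(0, 68, true), (4, 66, true), (3, 69, true), (2, 70, true), (1, 71, true), (0, 77, true), (3, 46, true), (2, 49, true), (1, 54, true), (2, 37, true), (1, 40, true), (3, 29, true), (2, 32, true), (4, 11, true), (3, 14, true), (3, 4, true), (4, 2, true), (3, 38, true), (2, 43, true), (1, 44, true), (2, 30, true), (1, 35, true), (2, 0, true)], [(1, 77, true), (0, 57, true)]),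
    ([1, 2, 11], [(0, 4, true), (1, 67, true), (0, 68, true), (4, 55, true), (3, 58, true), (2, 59, true), (1, 60, true), (5, 15, true), (4, 18, true), (3, 19, true), (2, 20, true), (4, 10, true), (3, 13, true), (2, 14, true), (3, 6, true), (2, 9, true), (2, 3, true), (3, 1, true), (4, 0, true)], [(1, 68, true), (0, 67, true), (7, 15, true), (6, 16, true), (5, 17, true), (4, 18, true), (3, 19, true), (2, 20, true), (6, 10, true), (5, 11, true), (4, 12, true), (3, 13, true), (2, 14, true), (5, 6, true), (4, 7, true), (3, 8, true), (2, 9, true), (4, 0, true)]),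
    ([3, 3, 11], [(0, 9, true)], [(1, 69, true), (0, 69, true), (3, 36, true), (2, 43, true), (1, 44, true), (2, 28, true), (1, 35, true), (1, 0, true)]),
    ([3, 11, 11], [(0, 69, true), (3, 66, true), (2, 73, true), (1, 74, true), (0, 77, true), (3, 28, true), (2, 31, true), (1, 35, true), (2, 0, true)], [(1, 77, true), (0, 58, true)]),
    ([0, 3, 11], [(0, 6, true), (1, 66, true), (0, 69, true), (3, 0, true)], [(1, 69, true), (0, 66, true), (1, 36, true), (2, 28, true), (3, 0, true)]),
    ([1, 3, 11], [(0, 7, true), (1, 67, true), (0, 69, true), (3, 55, true), (2, 62, true), (1, 63, true), (4, 15, true), (5, 10, true), (6, 6, true), (7, 3, true), (8, 1, true), (9, 0, true)], [(1, 69, true), (0, 67, true), (7, 36, true), (6, 37, true), (5, 38, true), (4, 39, true), (3, 40, true), (2, 41, true), (8, 28, true), (7, 29, true), (6, 30, true), (5, 31, true), (4, 32, true), (3, 33, true), (9, 0, true)]),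
    ([2, 3, 11], [(0, 8, true), (1, 68, true), (0, 69, true), (3, 15, true), (4, 10, true), (5, 6, true), (6, 0, true)], [(1, 69, true), (0, 68, true), (4, 36, true), (3, 39, true), (2, 40, true), (1, 41, true), (5, 28, true), (4, 31, true), (3, 32, true), (2, 33, true), (6, 0, true)]),
    ([4, 4, 11], [(0, 14, true)], [(1, 70, true), (0, 70, true), (6, 46, true), (5, 47, true), (4, 49, true), (3, 52, true), (2, 53, true), (1, 54, true), (5, 37, true), (4, 38, true), (3, 40, true), (2, 43, true), (1, 44, true), (4, 29, true), (3, 30, true), (2, 32, true), (1, 35, true), (3, 11, true), (2, 12, true), (1, 14, true), (2, 4, true), (1, 5, true), (1, 2, true)]),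
    ([4, 11, 11], [(0, 70, true), (6, 67, true), (5, 68, true), (4, 70, true), (3, 73, true), (2, 74, true), (1, 75, true), (0, 77, true), (0, 65, true), (4, 28, true), (3, 31, true), (2, 35, true), (3, 6, true), (2, 9, true), (2, 0, true), (2, 52, true), (1, 53, true), (0, 54, true), (1, 43, true), (0, 44, true), (0, 35, true), (2, 16, true), (1, 17, true), (0, 19, true), (3, 11, true), (2, 12, true), (1, 14, true), (2, 7, true), (1, 8, true), (4, 55, true), (3, 56, true), (2, 57, true), (1, 58, true), (0, 60, true), (5, 15, true), (4, 16, true), (3, 17, true), (2, 18, true), (1, 20, true), (4, 10, true), (3, 11, true), (2, 12, true), (1, 13, true), (5, 6, true), (4, 7, true), (3, 8, true), (2, 9, true), (4, 3, true), (3, 4, true), (2, 5, true), (3, 1, true), (2, 2, true), (2, 0, true)], [(1, 77, true), (0, 59, true)]),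
    ([0, 4, 11], [(0, 10, true), (1, 66, true), (0, 70, true)], [(1, 70, true), (0, 66, true), (1, 45, true), (2, 36, true), (3, 28, true), (4, 10, true), (5, 3, true), (6, 1, true)]),
    ([1, 4, 11], [(0, 11, true), (1, 67, true), (0, 70, true), (6, 56, true), (5, 57, true), (4, 59, true), (3, 62, true), (2, 63, true), (1, 64, true), (7, 16, true), (6, 17, true), (5, 19, true), (8, 11, true), (7, 12, true), (6, 14, true), (7, 7, true), (6, 8, true), (8, 4, true), (7, 5, true), (7, 2, true)], [(1, 70, true), (0, 67, true), (7, 45, true), (6, 46, true), (5, 47, true), (4, 48, true), (3, 49, true), (2, 50, true), (8, 36, true), (7, 37, true), (6, 38, true), (5, 39, true), (4, 40, true), (3, 41, true), (9, 28, true), (8, 29, true), (7, 30, true), (6, 31, true), (5, 32, true), (4, 33, true), (10, 10, true), (9, 11, true), (8, 12, true), (7, 13, true), (6, 14, true), (9, 3, true), (8, 4, true), (7, 5, true), (8, 1, true), (7, 2, true)]),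
    ([2, 4, 11], [(0, 12, true), (1, 68, true), (0, 70, true), (6, 16, true), (5, 17, true), (4, 19, true), (7, 11, true), (6, 12, true), (5, 14, true), (6, 7, true), (5, 8, true)], [(1, 70, true), (0, 68, true), (4, 45, true), (3, 48, true), (2, 49, true), (1, 50, true), (5, 36, true), (4, 39, true), (3, 40, true), (2, 41, true), (6, 28, true), (5, 31, true), (4, 32, true), (3, 33, true), (7, 10, true), (6, 13, true), (5, 14, true), (6, 3, true), (7, 1, true)]),
    ([3, 4, 11], [(0, 13, true), (1, 69, true), (0, 70, true), (6, 37, true), (5, 38, true), (4, 40, true), (3, 43, true), (2, 44, true), (5, 29, true), (4, 30, true), (3, 32, true), (2, 35, true)], [(1, 70, true), (0, 69, true), (3, 45, true), (2, 52, true), (1, 53, true), (4, 36, true), (3, 43, true), (2, 44, true), (3, 28, true), (2, 35, true), (2, 10, true), (3, 3, true), (4, 1, true)]),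
    ([5, 5, 11], [(0, 20, true)], [(1, 71, true), (0, 71, true), (3, 46, true), (2, 49, true), (1, 54, true), (2, 11, true), (1, 14, true), (1, 2, true)]),
    ([5, 11, 11], [(0, 71, true), (3, 67, true), (2, 70, true), (1, 75, true), (0, 77, true), (0, 65, true), (4, 45, true), (3, 48, true), (2, 52, true), (1, 53, true), (0, 54, true), (3, 36, true), (2, 39, true), (1, 43, true), (0, 44, true), (2, 28, true), (1, 31, true), (0, 35, true), (1, 10, true), (0, 13, true), (2, 3, true), (3, 1, true), (4, 55, true), (3, 56, true), (2, 57, true), (1, 58, true), (0, 59, true), (5, 15, true), (4, 16, true), (3, 17, true), (2, 18, true), (1, 19, true), (6, 10, true), (5, 11, true), (4, 12, true), (3, 13, true), (2, 14, true), (5, 6, true), (4, 7, true), (3, 8, true), (2, 9, true), (4, 3, true), (3, 4, true), (2, 5, true), (3, 1, true), (2, 2, true), (2, 0, true)], [(1, 77, true), (0, 60, true)]),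
    ([3, 5, 11], [(0, 18, true), (1, 69, true), (0, 71, true), (3, 37, true), (2, 40, true), (4, 29, true), (3, 32, true)], [(1, 71, true), (0, 69, true), (3, 45, true), (2, 52, true), (1, 53, true), (4, 10, true), (5, 1, true)]),
    ([6, 11, 11], [(0, 72, true), (1, 72, true), (0, 77, true)], [(1, 77, true), (0, 61, true)]),
    ([1, 6, 11], [(0, 22, true), (1, 67, true), (0, 72, true), (1, 61, true)], [(1, 72, true), (0, 67, true), (7, 21, true), (6, 22, true), (5, 23, true), (4, 24, true), (3, 25, true), (2, 26, true)]),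
    ([3, 6, 11], [(0, 24, true), (1, 69, true), (0, 72, true), (1, 42, true), (2, 34, true)], [(1, 72, true), (0, 69, true), (3, 21, true)]),
    ([4, 6, 11], [(0, 25, true), (1, 70, true), (0, 72, true), (1, 51, true), (2, 42, true), (3, 34, true)], [(1, 72, true), (0, 70, true), (6, 22, true), (5, 23, true), (4, 25, true)]),
    ([7, 11, 11], [(0, 73, true), (1, 73, true), (0, 77, true)], [(1, 77, true), (0, 62, true)]),
    ([1, 7, 11], [(0, 29, true), (1, 67, true), (0, 73, true), (1, 62, true)], [(1, 73, true), (0, 67, true), (7, 28, true), (6, 29, true), (5, 30, true), (4, 31, true), (3, 32, true), (2, 33, true)]),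
    ([3, 7, 11], [(0, 31, true), (1, 69, true), (0, 73, true), (1, 43, true), (2, 35, true)], [(1, 73, true), (0, 69, true), (3, 28, true), (2, 35, true)]),
    ([4, 7, 11], [(0, 32, true), (1, 70, true), (0, 73, true), (1, 52, true), (2, 43, true), (3, 35, true)], [(1, 73, true), (0, 70, true), (6, 29, true), (5, 30, true), (4, 32, true), (3, 35, true)]),
    ([8, 11, 11], [(0, 74, true), (3, 66, true), (2, 69, true), (1, 73, true), (0, 77, true), (1, 43, true), (2, 35, true), (2, 0, true)], [(1, 77, true), (0, 63, true)]),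
    ([9, 9, 11], [(0, 54, true)], [(1, 75, true), (0, 75, true), (6, 55, true), (5, 58, true), (4, 62, true), (3, 63, true), (2, 64, true), (1, 65, true), (5, 45, true), (4, 48, true), (3, 52, true), (2, 53, true), (1, 54, true), (4, 36, true), (3, 39, true), (2, 43, true), (1, 44, true), (3, 28, true), (2, 31, true), (1, 35, true), (2, 6, true), (1, 9, true), (1, 0, true)]),
    ([12, 12, 12], [(0, 90, true), (0, 88, true)], [(1, 90, true)]),
    ([1, 1, 12], [(0, 2, true)], [(1, 79, true), (0, 79, true), (4, 15, true), (3, 18, true), (2, 19, true), (1, 20, true), (3, 10, true), (2, 13, true), (1, 14, true), (2, 6, true), (1, 9, true), (1, 0, true)]),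
    ([1, 12, 12], [(0, 79, true), (4, 78, true), (3, 81, true), (2, 82, true), (1, 83, true), (0, 90, true), (7, 37, true), (6, 38, true), (5, 41, true), (4, 42, true), (3, 43, true), (2, 44, true), (6, 16, true), (5, 17, true), (4, 20, true), (5, 4, true), (4, 5, true), (4, 46, true), (3, 51, true), (2, 52, true), (1, 54, true), (3, 29, true), (2, 34, true), (1, 35, true), (2, 22, true), (1, 27, true), (2, 0, true)], [(1, 90, true), (0, 56, true)]),
    ([0, 1, 12], [(0, 1, true), (1, 78, true), (0, 79, true), (4, 0, true)], [(1, 79, true), (0, 78, true), (1, 15, true), (2, 10, true), (3, 6, true), (4, 0, true)]),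
    ([2, 12, 12], [(0, 80, true), (7, 78, true), (6, 79, true), (5, 80, true), (4, 81, true), (3, 82, true), (2, 83, true), (1, 88, true), (0, 90, true), (0, 65, true), (6, 37, true), (5, 38, true), (4, 41, true), (3, 42, true), (2, 43, true), (1, 44, true), (5, 16, true), (4, 17, true), (3, 20, true), (4, 4, true), (3, 5, true), (3, 46, true), (2, 51, true), (1, 52, true), (0, 54, true), (2, 29, true), (1, 34, true), (0, 35, true), (1, 22, true), (0, 27, true), (1, 55, true), (0, 56, true), (2, 15, true), (1, 16, true), (3, 10, true), (2, 11, true), (4, 6, true), (3, 7, true), (5, 3, true), (4, 4, true), (6, 1, true), (5, 2, true), (5, 0, true), (4, 17, true), (3, 18, true), (2, 19, true), (1, 20, true), (3, 12, true), (2, 13, true), (1, 14, true), (2, 8, true), (1, 9, true), (2, 0, true)], [(1, 90, true), (0, 57, true)]),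
    ([3, 3, 12], [(0, 9, true)], [(1, 81, true), (0, 81, true), (4, 45, true), (3, 51, true), (2, 52, true), (1, 54, true), (3, 28, true), (2, 34, true), (1, 35, true), (2, 21, true), (1, 27, true), (1, 0, true)]),
    ([3, 12, 12], [(0, 81, true), (4, 78, true), (3, 84, true), (2, 85, true), (1, 87, true), (0, 90, true), (4, 28, true), (3, 31, true), (2, 34, true), (1, 35, true), (3, 21, true), (2, 24, true), (1, 27, true), (2, 0, true)], [(1, 90, true), (0, 58, true)]),
    ([0, 3, 12], [(0, 6, true), (1, 78, true), (0, 81, true), (4, 0, true)], [(1, 81, true), (0, 78, true), (1, 45, true), (2, 28, true), (3, 21, true), (4, 0, true)]),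
    ([1, 3, 12], [(0, 7, true), (1, 79, true), (0, 81, true), (4, 15, true), (5, 10, true), (6, 6, true), (7, 0, true)], [(1, 81, true), (0, 79, true), (4, 45, true), (3, 48, true), (2, 49, true), (1, 50, true), (5, 28, true), (4, 31, true), (3, 32, true), (2, 33, true), (6, 21, true), (5, 24, true), (4, 25, true), (3, 26, true), (7, 0, true)]),
    ([2, 3, 12], [(0, 8, true), (1, 80, true), (0, 81, true), (4, 55, true), (3, 61, true), (2, 62, true), (1, 64, true), (5, 15, true), (6, 10, true), (7, 6, true), (8, 3, true), (9, 1, true), (10, 0, true)], [(1, 81, true), (0, 80, true), (7, 45, true), (6, 46, true), (5, 47, true), (4, 48, true), (3, 49, true), (2, 50, true), (8, 28, true), (7, 29, true), (6, 30, true), (5, 31, true), (4, 32, true), (3, 33, true), (9, 21, true), (8, 22, true), (7, 23, true), (6, 24, true), (5, 25, true), (4, 26, true), (10, 0, true)]),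
    ([4, 4, 12], [(0, 14, true)], [(1, 82, true), (0, 82, true), (3, 38, true), (2, 41, true), (1, 44, true), (2, 17, true), (1, 20, true), (1, 5, true)]),
    ([4, 12, 12], [(0, 82, true), (3, 80, true), (2, 83, true), (1, 86, true), (0, 90, true), (0, 65, true), (5, 45, true), (4, 48, true), (3, 51, true), (2, 52, true), (1, 53, true), (0, 54, true), (4, 36, true), (3, 39, true), (2, 42, true), (1, 43, true), (0, 44, true), (3, 28, true), (2, 31, true), (1, 34, true), (0, 35, true), (2, 21, true), (1, 24, true), (0, 27, true), (1, 15, true), (0, 18, true), (2, 3, true), (3, 1, true), (4, 55, true), (3, 56, true), (2, 57, true), (1, 58, true), (0, 60, true), (5, 15, true), (4, 16, true), (3, 17, true), (2, 18, true), (1, 20, true), (4, 10, true), (3, 11, true), (2, 12, true), (1, 13, true), (5, 6, true), (4, 7, true), (3, 8, true), (2, 9, true), (4, 3, true), (3, 4, true), (2, 5, true), (3, 1, true), (2, 2, true), (2, 0, true)], [(1, 90, true), (0, 59, true)]),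
    ([0, 4, 12], [(0, 10, true), (1, 78, true), (0, 82, true)], [(1, 82, true), (0, 78, true), (1, 36, true), (2, 15, true), (3, 3, true)]),
    ([1, 4, 12], [(0, 11, true), (1, 79, true), (0, 82, true), (3, 17, true), (2, 20, true), (2, 12, true), (3, 8, true)], [(1, 82, true), (0, 79, true), (4, 36, true), (3, 39, true), (2, 40, true), (1, 41, true), (5, 15, true), (4, 18, true), (3, 19, true), (2, 20, true), (4, 3, true)]),
    ([2, 4, 12], [(0, 12, true), (1, 80, true), (0, 82, true), (3, 57, true), (2, 60, true), (1, 63, true), (4, 17, true), (3, 20, true), (3, 12, true), (4, 8, true), (5, 5, true)], [(1, 82, true), (0, 80, true), (7, 36, true), (6, 37, true), (5, 38, true), (4, 39, true), (3, 40, true), (2, 41, true), (8, 15, true), (7, 16, true), (6, 17, true), (5, 18, true), (4, 19, true), (3, 20, true), (7, 3, true), (6, 4, true), (5, 5, true)]),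
    ([3, 4, 12], [(0, 13, true), (1, 81, true), (0, 82, true), (3, 47, true), (2, 50, true), (1, 53, true), (4, 30, true), (3, 33, true), (5, 23, true), (4, 26, true)], [(1, 82, true), (0, 81, true), (4, 36, true), (3, 42, true), (2, 43, true), (5, 15, true), (6, 3, true)]),
    ([5, 5, 12], [(0, 20, true)], [(1, 83, true), (0, 83, true), (7, 46, true), (6, 47, true), (5, 50, true), (4, 51, true), (3, 52, true), (2, 53, true), (1, 54, true), (6, 37, true), (5, 38, true), (4, 41, true), (3, 42, true), (2, 43, true), (1, 44, true), (5, 29, true), (4, 30, true), (3, 33, true), (2, 34, true), (1, 35, true), (4, 22, true), (3, 23, true), (2, 26, true), (1, 27, true), (3, 16, true), (2, 17, true), (1, 20, true), (2, 4, true), (1, 5, true), (1, 2, true)]),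
    ([5, 12, 12], [(0, 83, true), (7, 79, true), (6, 80, true), (5, 83, true), (4, 84, true), (3, 85, true), (2, 86, true), (1, 87, true), (0, 90, true), (4, 55, true), (3, 58, true), (2, 61, true), (1, 62, true), (0, 65, true), (3, 45, true), (2, 48, true), (1, 51, true), (0, 52, true), (4, 36, true), (3, 39, true), (2, 42, true), (1, 43, true), (5, 28, true), (4, 31, true), (3, 34, true), (2, 35, true), (4, 21, true), (3, 24, true), (2, 27, true), (3, 6, true), (2, 9, true), (2, 0, true), (3, 51, true), (2, 52, true), (1, 53, true), (0, 54, true), (2, 42, true), (1, 43, true), (0, 44, true), (1, 34, true), (0, 35, true), (0, 27, true), (2, 56, true), (1, 57, true), (0, 60, true), (3, 16, true), (2, 17, true), (1, 20, true), (2, 11, true), (1, 12, true), (3, 7, true), (2, 8, true), (4, 4, true), (3, 5, true), (3, 2, true), (3, 15, true), (2, 18, true), (1, 19, true), (4, 10, true), (3, 13, true), (2, 14, true), (3, 6, true), (2, 9, true), (2, 0, true)], [(1, 90, true), (0, 60, true)]),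
    ([3, 6, 12], [(0, 24, true), (1, 81, true), (0, 84, true), (1, 51, true), (2, 34, true), (3, 27, true)], [(1, 84, true), (0, 81, true), (4, 21, true), (3, 27, true)]),
    ([1, 11, 12], [(0, 67, true), (7, 78, true), (6, 79, true), (5, 80, true), (4, 81, true), (3, 82, true), (2, 83, true), (1, 88, true), (0, 89, true), (9, 37, true), (8, 38, true), (7, 41, true), (6, 42, true), (5, 43, true), (4, 44, true), (8, 16, true), (7, 17, true), (6, 20, true), (7, 4, true), (6, 5, true), (6, 46, true), (5, 51, true), (4, 52, true), (3, 54, true), (5, 29, true), (4, 34, true), (3, 35, true), (4, 22, true), (3, 27, true), (4, 55, true), (3, 56, true), (2, 65, true), (3, 15, true), (2, 16, true), (4, 10, true), (3, 11, true), (5, 6, true), (4, 7, true), (6, 3, true), (5, 4, true), (7, 1, true), (6, 2, true), (6, 0, true), (5, 17, true), (4, 18, true), (3, 19, true), (2, 20, true), (4, 12, true), (3, 13, true), (2, 14, true), (3, 8, true), (2, 9, true), (3, 0, true)], [(1, 89, true), (0, 79, true), (4, 66, true), (3, 69, true), (2, 70, true),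 (1, 71, true), (4, 46, true), (3, 49, true), (2, 54, true), (3, 37, true), (2, 40, true), (4, 29, true), (3, 32, true), (5, 11, true), (4, 14, true), (4, 4, true), (5, 2, true), (4, 38, true), (3, 43, true), (2, 44, true), (3, 30, true), (2, 35, true), (3, 0, true)]),
    ([3, 11, 12], [(0, 69, true), (3, 78, true), (2, 85, true), (1, 86, true), (0, 89, true), (8, 28, true), (7, 31, true), (6, 34, true), (5, 35, true), (7, 0, true)], [(1, 89, true), (0, 81, true), (4, 66, true), (3, 72, true), (2, 73, true), (1, 75, true), (7, 28, true), (6, 31, true), (5, 35, true), (6, 21, true), (5, 24, true), (7, 0, true)]),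
    ([4, 11, 12], [(0, 70, true), (6, 79, true), (5, 80, true), (4, 82, true), (3, 85, true), (2, 86, true), (1, 87, true), (0, 89, true), (5, 55, true), (4, 58, true), (3, 61, true), (2, 62, true), (6, 45, true), (5, 48, true), (4, 51, true), (3, 52, true), (7, 36, true), (6, 39, true), (5, 42, true), (4, 43, true), (8, 28, true), (7, 31, true), (6, 34, true), (5, 35, true), (7, 21, true), (6, 24, true), (5, 27, true), (6, 6, true), (5, 9, true), (5, 0, true), (5, 43, true), (4, 44, true), (6, 57, true), (5, 60, true), (4, 62, true), (3, 64, true), (2, 65, true), (5, 17, true), (4, 20, true), (4, 12, true), (5, 8, true), (6, 5, true), (7, 15, true), (6, 16, true), (5, 18, true), (4, 19, true), (8, 10, true), (7, 11, true), (6, 13, true), (5, 14, true), (7, 6, true), (6, 7, true), (5, 9, true), (6, 0, true)], [(1, 89, true), (0, 82, true), (3, 68, true), (2, 71, true), (1, 74, true), (4, 45, true), (3, 48, true), (2, 52, true), (5, 10, true), (4, 13, true), (6, 1, true), (7, 15, true), (6, 16, true), (5, 18, true), (4, 19, true), (8,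 10, true), (7, 11, true), (6, 13, true), (5, 14, true), (7, 6, true), (6, 7, true), (5, 9, true), (6, 0, true)]),
    ([13, 13, 13], [(0, 104, true), (5, 91, true), (4, 93, true), (3, 95, true), (2, 96, true), (1, 99, true), (0, 101, true), (5, 48, true), (4, 49, true), (3, 50, true), (2, 52, true), (6, 24, true), (5, 25, true), (4, 26, true), (7, 13, true), (6, 14, true), (8, 45, true), (7, 46, true), (6, 48, true), (5, 50, true), (4, 51, true), (3, 52, true), (2, 54, true), (7, 36, true), (6, 37, true), (5, 39, true), (4, 41, true), (3, 42, true), (2, 43, true), (8, 28, true), (7, 29, true), (6, 31, true), (5, 33, true), (4, 34, true), (3, 35, true), (7, 21, true), (6, 22, true), (5, 24, true), (4, 26, true), (3, 27, true), (6, 10, true), (5, 11, true), (4, 13, true), (7, 3, true), (6, 4, true), (8, 1, true), (7, 2, true), (7, 0, true), (6, 8, true), (5, 9, true)], [(1, 104, true)]),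
    ([1, 1, 13], [(0, 2, true)], [(1, 92, true), (0, 92, true), (5, 58, true), (4, 61, true), (3, 63, true), (2, 64, true), (1, 65, true), (4, 48, true), (3, 51, true), (2, 53, true), (1, 54, true), (3, 39, true), (2, 42, true), (1, 44, true), (2, 24, true), (1, 27, true), (1, 9, true)]),
    ([1, 13, 13], [(0, 92, true), (5, 94, true), (4, 97, true), (3, 99, true), (2, 100, true), (1, 101, true), (0, 104, true), (5, 55, true), (4, 57, true), (3, 59, true), (2, 60, true), (1, 63, true), (0, 65, true), (4, 55, true), (3, 57, true), (2, 59, true), (1, 60, true), (0, 63, true), (5, 28, true), (4, 30, true), (3, 32, true), (2, 33, true), (6, 21, true), (5, 23, true), (4, 25, true), (3, 26, true), (7, 15, true), (6, 17, true), (5, 19, true), (4, 20, true), (6, 10, true), (5, 12, true), (4, 14, true), (5, 6, true), (4, 8, true), (6, 3, true), (5, 5, true), (5, 1, true), (6, 28, true), (5, 29, true), (4, 31, true), (3, 34, true), (2, 35, true), (5, 15, true), (4, 16, true), (3, 18, true), (6, 10, true), (5, 11, true), (4, 13, true), (7, 6,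 true), (6, 7, true), (5, 9, true), (6, 21, true), (5, 22, true), (4, 25, true), (3, 26, true), (2, 27, true), (5, 3, true), (4, 4, true)], [(1, 104, true), (0, 56, true), (1, 37, true), (2, 16, true), (3, 11, true), (4, 4, true)]),
    ([0, 1, 13], [(0, 1, true), (1, 91, true), (0, 92, true)], [(1, 92, true), (0, 91, true), (1, 55, true), (2, 45, true), (3, 36, true), (4, 21, true), (5, 6, true)]),
    ([2, 13, 13], [(0, 93, true), (1, 94, true), (0, 104, true), (5, 3, true), (4, 5, true)], [(1, 104, true), (0, 57, true), (1, 38, true), (2, 17, true), (3, 12, true), (4, 5, true)]),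
    ([1, 2, 13], [(0, 4, true), (1, 92, true), (0, 93, true), (1, 58, true), (2, 48, true), (3, 39, true), (4, 24, true), (5, 9, true)], [(1, 93, true), (0, 92, true), (5, 9, true)]),
    ([3, 13, 13], [(0, 94, true), (1, 93, true), (0, 104, true), (5, 6, true), (4, 8, true)], [(1, 104, true), (0, 58, true), (1, 39, true), (2, 18, true), (3, 13, true)]),
    ([4, 4, 13], [(0, 14, true)], [(1, 95, true), (0, 95, true), (8, 45, true), (7, 46, true), (6, 47, true), (5, 49, true), (4, 51, true), (3, 52, true), (2, 53, true), (1, 54, true), (7, 36, true), (6, 37, true), (5, 38, true), (4, 40, true), (3, 42, true), (2, 43, true), (1, 44, true), (6, 28, true), (5, 29, true), (4, 30, true), (3, 32, true), (2, 34, true), (1, 35, true), (5, 21, true), (4, 22, true), (3, 23, true), (2, 25, true), (1, 27, true), (4, 10, true), (3, 11, true), (2, 12, true), (1, 14, true), (3, 3, true), (2, 4, true), (1, 5, true), (2, 1, true), (1, 2, true), (1, 0, true)]),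
    ([4, 13, 13], [(0, 95, true), (8, 91, true), (7, 92, true), (6, 93, true), (5, 95, true), (4, 97, true), (3, 98, true), (2, 99, true), (1, 100, true), (0, 104, true), (5, 55, true), (4, 57, true), (3, 59, true), (2, 60, true), (1, 63, true), (0, 65, true), (4, 28, true), (3, 30, true), (2, 32, true), (1, 33, true), (5, 21, true), (4, 23, true), (3, 25, true), (2, 26, true), (6, 15, true), (5, 17, true), (4, 19, true), (3, 20, true), (5, 10, true), (4, 12, true), (3, 14, true), (4, 6, true), (3, 8, true), (5, 3, true), (4, 5, true), (4, 1, true), (5, 28, true), (4, 29, true), (3, 31, true), (2, 34, true), (1, 35, true), (4, 15, true), (3, 16, true), (2, 18, true), (5, 10, true), (4, 11, true), (3, 13, true), (6, 6, true), (5, 7, true), (4, 9, true), (5, 28, true), (4, 29, true), (3, 32, true), (2, 33, true), (1, 34, true), (6, 21, true), (5, 22, true), (4, 25, true), (3, 26, true), (2, 27, true), (5, 45, true), (4, 46, true), (3, 49, true), (2, 50, true), (1, 52, true), (0, 53, true), (6, 36, true), (5, 37, true), (4, 40, true),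 (3, 41, true), (2, 43, true), (1, 44, true), (5, 28, true), (4, 29, true), (3, 32, true), (2, 33, true), (1, 35, true), (4, 21, true), (3, 22, true), (2, 25, true), (1, 26, true), (5, 10, true), (4, 11, true), (3, 14, true), (4, 3, true), (3, 4, true), (5, 1, true), (4, 2, true), (4, 0, true), (3, 8, true), (4, 57, true), (3, 58, true), (2, 60, true), (1, 61, true), (0, 64, true), (5, 47, true), (4, 48, true), (3, 50, true), (2, 51, true), (1, 54, true), (4, 38, true), (3, 39, true), (2, 41, true), (1, 42, true), (5, 23, true), (4, 24, true), (3, 26, true), (2, 27, true), (4, 8, true), (3, 9, true)], [(1, 104, true), (0, 59, true), (1, 40, true), (2, 19, true), (3, 14, true)]),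
    ([1, 4, 13], [(0, 11, true), (1, 92, true), (0, 95, true), (8, 55, true), (7, 56, true), (6, 57, true), (5, 59, true), (4, 61, true), (3, 62, true), (2, 63, true), (1, 64, true), (9, 45, true), (8, 46, true), (7, 47, true), (6, 49, true), (5, 51, true), (4, 52, true), (3, 53, true), (2, 54, true), (8, 36, true), (7, 37, true), (6, 38, true), (5, 40, true), (4, 42, true), (3, 43, true), (2, 44, true), (7, 21, true), (6, 22, true), (5, 23, true), (4, 25, true), (3, 27, true), (6, 6, true), (5, 7, true), (4, 8, true)], [(1, 95, true), (0, 92, true), (5, 48, true), (4, 51, true), (3, 53, true), (2, 54, true), (4, 39, true), (3, 42, true), (2, 44, true), (3, 31, true), (2, 34, true), (4, 24, true), (3, 27, true), (3, 13, true)]),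
    ([2, 4, 13], [(0, 12, true), (1, 93, true), (0, 95, true), (8, 6, true), (7, 7, true), (6, 8, true)], [(1, 95, true), (0, 93, true), (1, 48, true), (2, 39, true), (3, 31, true), (4, 24, true), (5, 13, true)]),
    ([3, 4, 13], [(0, 13, true), (1, 94, true), (0, 95, true), (8, 3, true), (7, 4, true), (6, 5, true)], [(1, 95, true), (0, 94, true), (1, 47, true), (2, 38, true), (3, 30, true), (4, 23, true), (5, 12, true), (6, 5, true)]),
    ([11, 11, 13], [(0, 77, true), (0, 101, true)], [(1, 102, true), (0, 102, true), (6, 68, true), (5, 70, true), (4, 71, true), (3, 72, true), (2, 74, true), (1, 77, true), (4, 21, true), (3, 24, true), (5, 45, true), (4, 48, true), (3, 51, true), (2, 52, true), (6, 10, true), (5, 13, true), (7, 1, true), (8, 45, true), (7, 46, true), (6, 48, true), (5, 49, true), (4, 51, true), (3, 52, true), (2, 54, true), (7, 36, true), (6, 37, true), (5, 39, true), (4, 40, true), (3, 42, true), (2, 43, true), (8, 28, true), (7, 29, true), (6, 31, true), (5, 32, true), (4, 34, true), (3, 35, true), (7, 10, true),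 (6, 11, true), (5, 13, true), (4, 14, true), (6, 3, true), (5, 4, true), (7, 1, true), (6, 2, true), (6, 15, true), (5, 17, true), (4, 18, true), (7, 10, true), (6, 12, true), (5, 13, true), (8, 6, true), (7, 8, true), (6, 9, true), (7, 0, true), (6, 38, true), (5, 40, true), (4, 41, true), (3, 42, true), (2, 44, true), (5, 23, true), (4, 25, true), (3, 26, true), (2, 27, true), (4, 17, true), (3, 19, true), (2, 20, true), (3, 12, true), (2, 14, true), (2, 5, true)]),
    ([11, 13, 13], [(0, 102, true), (6, 93, true), (5, 95, true), (4, 96, true), (3, 97, true), (2, 99, true), (1, 102, true), (0, 104, true), (5, 66, true), (4, 68, true), (3, 70, true), (2, 71, true), (1, 74, true), (0, 76, true), (4, 45, true), (3, 48, true), (2, 52, true), (5, 10, true), (4, 13, true), (6, 1, true), (7, 45, true), (6, 46, true), (5, 48, true), (4, 49, true), (3, 52, true), (2, 54, true), (6, 36, true), (5, 37, true), (4, 39, true), (3, 40, true), (2, 43, true), (7, 28, true), (6, 29, true), (5, 31, true), (4, 32, true), (3, 35, true), (6, 10, true),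 (5, 11, true), (4, 13, true), (3, 14, true), (5, 3, true), (4, 4, true), (6, 1, true), (5, 2, true), (5, 15, true), (4, 17, true), (3, 18, true), (6, 10, true), (5, 12, true), (4, 13, true), (7, 6, true), (6, 8, true), (5, 9, true), (6, 0, true), (6, 36, true), (5, 38, true), (4, 40, true), (3, 41, true), (2, 44, true), (5, 21, true), (4, 23, true), (3, 25, true), (2, 26, true), (6, 15, true), (5, 17, true), (4, 19, true), (3, 20, true), (5, 10, true), (4, 12, true), (3, 14, true), (4, 3, true), (3, 5, true), (3, 28, true), (2, 34, true), (4, 15, true), (5, 10, true), (6, 6, true), (7, 21, true), (6, 24, true), (5, 25, true), (4, 26, true), (3, 27, true), (6, 45, true), (5, 48, true), (4, 49, true), (3, 50, true), (2, 52, true), (7, 21, true), (6, 24, true), (5, 25, true), (4, 26, true), (8, 10, true), (7, 13, true), (6, 14, true), (7, 1, true), (8, 0, true), (7, 46, true), (6, 48, true), (5, 50, true), (4, 51, true), (3, 52, true), (2, 54, true), (6, 37, true), (5, 39, true), (4, 41, true), (3, 42, true), (2, 43, true), (7, 29, true),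 (6, 31, true), (5, 33, true), (4, 34, true), (3, 35, true), (6, 22, true), (5, 24, true), (4, 26, true), (3, 27, true), (5, 11, true), (4, 13, true), (6, 4, true), (7, 2, true), (7, 6, true), (6, 8, true), (5, 9, true)], [(1, 104, true)]),
    ([1, 11, 13], [(0, 67, true), (7, 91, true), (6, 92, true), (5, 93, true), (4, 94, true), (3, 95, true), (2, 96, true), (1, 101, true), (0, 102, true), (6, 57, true), (5, 59, true), (4, 60, true), (3, 61, true), (2, 63, true), (7, 47, true), (6, 49, true), (5, 50, true), (4, 51, true), (3, 53, true), (8, 23, true), (7, 25, true), (6, 26, true), (5, 27, true), (7, 12, true), (6, 14, true), (8, 45, true), (7, 46, true), (6, 47, true), (5, 50, true), (4, 53, true), (3, 54, true), (7, 36, true), (6, 37, true), (5, 38, true), (4, 41, true), (3, 44, true), (6, 28, true), (5, 29, true), (4, 30, true), (3, 33, true), (7, 21, true), (6, 22, true), (5, 23, true), (4, 26, true), (8, 10, true), (7, 11, true), (6, 12, true), (9, 3, true), (8, 4, true), (7, 5, true), (8, 1, true), (7, 2, true), (7, 0, true),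 (7, 8, true), (8, 57, true), (7, 58, true), (6, 59, true), (5, 60, true), (4, 61, true), (3, 62, true), (2, 65, true), (7, 47, true), (6, 48, true), (5, 49, true), (4, 50, true), (3, 51, true), (2, 52, true), (8, 38, true), (7, 39, true), (6, 40, true), (5, 41, true), (4, 42, true), (3, 43, true), (9, 23, true), (8, 24, true), (7, 25, true), (6, 26, true), (5, 27, true), (8, 8, true), (7, 9, true)], [(1, 102, true), (0, 92, true), (5, 69, true), (4, 72, true), (3, 74, true), (2, 75, true), (1, 76, true), (2, 65, true), (6, 28, true), (5, 31, true), (4, 35, true), (5, 6, true), (4, 9, true), (4, 0, true), (4, 42, true), (3, 44, true), (3, 34, true), (5, 36, true), (4, 42, true), (3, 43, true), (6, 21, true), (5, 27, true), (5, 15, true), (6, 10, true), (7, 3, true)]),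
    ([12, 13, 13], [(0, 103, true), (2, 98, true), (1, 103, true), (0, 104, true), (5, 78, true), (4, 80, true), (3, 82, true), (2, 83, true), (1, 86, true), (0, 88, true), (1, 65, true), (6, 45, true), (5, 48, true), (4, 51, true), (3, 52, true), (2, 53, true), (1, 54, true), (5, 36, true), (4, 39, true), (3, 42, true), (2, 43, true), (1, 44, true), (4, 28, true), (3, 31, true), (2, 34, true), (1, 35, true), (3, 21, true), (2, 24, true), (1, 27, true), (2, 15, true), (1, 18, true), (3, 3, true), (4, 1, true), (5, 36, true), (4, 37, true), (3, 38, true), (2, 39, true), (1, 41, true), (6, 15, true), (5, 16, true), (4, 17, true), (3, 18, true), (2, 20, true), (5, 3, true), (4, 4, true), (3, 5, true), (4, 55, true), (3, 56, true), (2, 58, true), (1, 63, true), (5, 15, true), (4, 16, true), (3, 18, true), (6, 10, true), (5, 11, true), (4, 13, true), (7, 6, true), (6, 7, true), (5, 9, true), (6, 3, true), (5, 4, true), (7, 1, true), (6, 2, true), (6, 0, true), (6, 28, true), (5, 30, true), (4, 32, true), (3, 33, true), (7, 28, true), (6,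 30, true), (5, 32, true), (4, 33, true), (3, 35, true)], [(1, 104, true)]),
    ([1, 12, 13], [(0, 79, true), (4, 91, true), (3, 94, true), (2, 95, true), (1, 96, true), (0, 103, true), (2, 52, true), (7, 45, true), (6, 46, true), (5, 49, true), (4, 51, true), (3, 52, true), (2, 54, true), (6, 36, true), (5, 37, true), (4, 40, true), (3, 42, true), (2, 43, true), (7, 28, true), (6, 29, true), (5, 32, true), (4, 34, true), (3, 35, true), (6, 21, true), (5, 22, true), (4, 25, true), (3, 27, true), (5, 10, true), (4, 11, true), (3, 14, true), (4, 3, true), (3, 4, true), (5, 1, true), (4, 2, true), (4, 0, true), (3, 5, true)], [(1, 103, true), (0, 92, true), (5, 81, true), (4, 84, true), (3, 86, true), (2, 87, true), (1, 88, true), (6, 55, true), (5, 58, true), (4, 61, true), (3, 62, true), (2, 65, true), (5, 45, true), (4, 48, true), (3, 51, true), (2, 52, true), (6, 36, true), (5, 39, true), (4, 42, true), (3, 43, true), (7, 28, true), (6, 31, true), (5, 34, true), (4, 35, true), (6, 21, true), (5, 24, true), (4, 27, true), (5, 6, true),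 (4, 9, true), (4, 0, true), (4, 51, true), (3, 53, true), (2, 54, true), (3, 34, true), (4, 27, true), (4, 28, true), (3, 35, true)]),
    ([14, 14, 14], [(0, 119, true), (5, 105, true), (4, 107, true), (3, 109, true), (2, 110, true), (1, 113, true), (0, 115, true), (1, 65, true), (5, 47, true), (4, 48, true), (3, 50, true), (2, 52, true), (1, 54, true), (4, 38, true), (3, 39, true), (2, 41, true), (1, 43, true), (5, 30, true), (4, 31, true), (3, 33, true), (2, 35, true), (4, 17, true), (3, 18, true), (2, 20, true), (3, 5, true), (4, 36, true), (3, 37, true), (2, 39, true), (1, 44, true), (3, 15, true), (2, 16, true), (1, 18, true), (4, 3, true), (3, 4, true), (5, 55, true), (4, 56, true), (3, 57, true), (2, 58, true), (1, 60, true), (6, 36, true), (5, 37, true), (4, 38, true), (3, 39, true), (2, 41, true), (7, 10, true), (6, 11, true), (5, 12, true), (4, 13, true), (8, 6, true), (7, 7, true), (6, 8, true), (5, 9, true), (7, 1, true), (6, 2, true), (6, 0, true)], [(1, 119, true)]),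
    ([1, 1, 14], [(0, 2, true)], [(1, 106, true), (0, 106, true), (8, 45, true), (7, 46, true), (6, 47, true), (5, 48, true), (4, 50, true), (3, 52, true), (2, 53, true), (1, 54, true), (7, 36, true), (6, 37, true), (5, 38, true), (4, 39, true), (3, 41, true), (2, 43, true), (1, 44, true), (6, 28, true), (5, 29, true), (4, 30, true), (3, 31, true), (2, 33, true), (1, 35, true), (5, 15, true), (4, 16, true), (3, 17, true), (2, 18, true), (1, 20, true), (4, 6, true), (3, 7, true), (2, 8, true), (1, 9, true), (3, 3, true), (2, 4, true), (1, 5, true), (2, 1, true), (1, 2, true), (1, 0, true)]),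
    ([1, 14, 14], [(0, 106, true), (8, 105, true), (7, 106, true), (6, 107, true), (5, 108, true), (4, 110, true), (3, 112, true), (2, 113, true), (1, 114, true), (0, 119, true), (5, 45, true), (4, 47, true), (3, 49, true), (2, 50, true), (1, 53, true), (6, 36, true), (5, 38, true), (4, 40, true), (3, 41, true), (2, 44, true), (5, 10, true), (4, 12, true), (3, 14, true), (4, 6, true), (3, 8, true), (5, 3, true), (4, 5, true), (4, 1, true), (5, 55, true), (4, 56, true), (3, 58, true), (2, 60, true), (1, 64, true), (0, 65, true), (4, 45, true), (3, 46, true), (2, 48, true), (1, 50, true), (0, 54, true), (3, 28, true), (2, 29, true), (1, 31, true), (0, 33, true), (4, 15, true), (3, 16, true), (2, 18, true), (1, 20, true), (3, 6, true), (2, 7, true), (1, 9, true), (2, 3, true), (1, 4, true), (3, 28, true), (2, 29, true), (1, 30, true), (0, 35, true), (2, 45, true), (1, 46, true), (0, 47, true), (3, 36, true), (2, 37, true), (1, 38, true), (4, 28, true), (3, 29, true), (2, 30, true), (5, 15, true), (4, 16, true), (3, 17, true), (6, 3, true),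 (5, 4, true), (4, 5, true), (5, 1, true), (4, 2, true), (4, 0, true), (3, 20, true), (3, 56, true), (2, 62, true), (1, 63, true), (0, 64, true), (4, 37, true), (3, 43, true), (2, 44, true), (3, 11, true), (4, 7, true), (5, 2, true), (5, 45, true), (4, 48, true), (3, 49, true), (2, 52, true), (1, 54, true), (4, 36, true), (3, 39, true), (2, 40, true), (1, 43, true), (5, 28, true), (4, 31, true), (3, 32, true), (2, 35, true), (4, 15, true), (3, 18, true), (2, 19, true), (5, 6, true), (4, 9, true), (4, 3, true), (5, 1, true), (6, 0, true)], [(1, 119, true), (0, 56, true), (1, 37, true), (2, 16, true), (3, 11, true), (4, 4, true)]),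
    ([0, 1, 14], [(0, 1, true), (1, 105, true), (0, 106, true), (8, 0, true)], [(1, 106, true), (0, 105, true), (1, 45, true), (2, 36, true), (3, 28, true), (4, 15, true), (5, 6, true), (6, 3, true), (7, 1, true), (8, 0, true)]),
    ([2, 14, 14], [(0, 107, true), (6, 105, true), (5, 106, true), (4, 108, true), (3, 109, true), (2, 113, true), (1, 115, true), (0, 119, true), (5, 55, true), (4, 57, true), (3, 59, true), (2, 60, true), (1, 63, true), (0, 65, true), (4, 55, true), (3, 57, true), (2, 59, true), (1, 60, true), (0, 63, true), (5, 45, true), (4, 47, true), (3, 49, true), (2, 50, true), (1, 53, true), (6, 28, true), (5, 30, true), (4, 32, true), (3, 33, true), (7, 15, true), (6, 17, true), (5, 19, true), (4, 20, true), (6, 6, true), (5, 8, true), (7, 3, true), (6, 5, true), (6, 36, true), (5, 39, true), (4, 40, true), (3, 43, true), (2, 44, true), (5, 15, true), (4, 18, true), (3, 19, true), (6, 3, true), (7, 15, true), (6, 17, true), (5, 18, true), (4, 19, true), (3, 20, true), (6, 1, true), (7, 45, true), (6, 46, true), (5,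 47, true), (4, 48, true), (3, 49, true), (2, 52, true), (1, 54, true), (6, 36, true), (5, 37, true), (4, 38, true), (3, 39, true), (2, 40, true), (1, 43, true), (7, 28, true), (6, 29, true), (5, 30, true), (4, 31, true), (3, 32, true), (2, 35, true), (6, 15, true), (5, 16, true), (4, 17, true), (3, 18, true), (2, 19, true), (7, 6, true), (6, 7, true), (5, 8, true), (4, 9, true), (6, 3, true), (5, 4, true), (4, 5, true), (5, 1, true), (4, 2, true), (4, 0, true)], [(1, 119, true), (0, 57, true), (1, 38, true), (2, 17, true), (3, 12, true), (4, 5, true)]),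
    ([1, 2, 14], [(0, 4, true), (1, 106, true), (0, 107, true), (6, 45, true), (5, 46, true), (4, 48, true), (3, 49, true), (2, 53, true), (7, 36, true), (6, 37, true), (5, 39, true), (4, 40, true), (3, 44, true), (6, 28, true), (5, 29, true), (4, 31, true), (3, 32, true), (7, 15, true), (6, 16, true), (5, 18, true), (4, 19, true), (8, 6, true), (7, 7, true), (6, 9, true), (7, 3, true), (6, 4, true), (8, 1, true), (7, 2, true), (7, 0, true)], [(1, 107, true), (0, 106, true), (8, 55, true), (7, 56, true), (6, 57, true), (5, 58, true), (4, 60, true), (3, 62, true), (2, 63, true), (1, 64, true), (9, 36, true), (8, 37, true), (7, 38, true), (6, 39, true), (5, 41, true), (4, 43, true), (3, 44, true), (8, 10, true), (7, 11, true), (6, 12, true), (5, 13, true), (9, 6, true), (8, 7, true), (7, 8, true), (6, 9, true), (8, 1, true), (7, 2, true), (7, 0, true)]),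
    ([1, 3, 14], [(0, 7, true), (1, 106, true), (0, 108, true), (2, 46, true), (1, 50, true), (3, 37, true), (2, 41, true), (4, 29, true), (3, 33, true), (5, 16, true), (4, 20, true), (4, 7, true), (5, 4, true), (6, 2, true)], [(1, 108, true), (0, 106, true), (8, 15, true), (7, 16, true), (6, 17, true), (5, 18, true), (4, 20, true), (7, 1, true), (6, 2, true)]),
    ([4, 14, 14], [(0, 109, true), (3, 107, true), (2, 110, true), (1, 113, true), (0, 119, true), (5, 55, true), (4, 57, true), (3, 59, true), (2, 60, true), (1, 63, true), (0, 65, true), (4, 45, true), (3, 47, true), (2, 49, true), (1, 50, true), (0, 53, true), (5, 28, true), (4, 30, true), (3, 32, true), (2, 33, true), (6, 15, true), (5, 17, true), (4, 19, true), (3, 20, true), (5, 6, true), (4, 8, true), (6, 3, true), (5, 5, true), (5, 45, true), (4, 48, true), (3, 49, true), (2, 52, true), (1, 53, true), (0, 54, true), (4, 36, true), (3, 39, true), (2, 40, true), (1, 43, true), (0, 44, true), (3, 28, true), (2, 31, true), (1, 32, true), (0, 35, true), (2, 15, true), (1,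 18, true), (0, 19, true), (3, 3, true), (4, 1, true), (5, 0, true), (4, 56, true), (3, 57, true), (2, 58, true), (1, 59, true), (0, 60, true), (5, 37, true), (4, 38, true), (3, 39, true), (2, 40, true), (1, 41, true), (6, 11, true), (5, 12, true), (4, 13, true), (3, 14, true), (5, 7, true), (4, 8, true), (3, 9, true), (4, 2, true)], [(1, 119, true), (0, 59, true), (1, 40, true), (2, 19, true), (3, 14, true)]),
    ([11, 11, 14], [(0, 77, true), (0, 115, true)], [(1, 116, true), (0, 116, true), (2, 73, true), (1, 77, true), (2, 35, true)]),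
    ([11, 14, 14], [(0, 116, true), (2, 112, true), (1, 116, true), (0, 119, true), (5, 66, true), (4, 68, true), (3, 70, true), (2, 71, true), (1, 74, true), (0, 76, true), (4, 45, true), (3, 48, true), (2, 52, true), (5, 10, true), (4, 13, true), (6, 1, true), (7, 45, true), (6, 46, true), (5, 48, true), (4, 49, true), (3, 52, true), (2, 54, true), (6, 36, true), (5, 37, true), (4, 39, true), (3, 40, true), (2, 43, true), (7, 28, true), (6, 29, true), (5, 31, true), (4, 32, true), (3, 35, true), (6, 10, true), (5, 11, true), (4, 13, true), (3, 14, true), (5, 3, true), (4, 4, true), (6, 1, true), (5, 2, true), (5, 15, true), (4, 17, true), (3, 18, true), (6, 10, true), (5, 12, true), (4, 13, true), (7, 6, true), (6, 8, true), (5, 9, true), (6, 0, true), (6, 28, true), (5, 30, true), (4, 32, true), (3, 33, true), (7, 28, true), (6, 30, true), (5, 32, true), (4, 33, true), (3, 35, true)], [(1, 119, true)]),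
    ([1, 11, 14], [(0, 67, true), (7, 105, true), (6, 106, true), (5, 107, true), (4, 108, true), (3, 109, true), (2, 110, true), (1, 115, true), (0, 116, true), (2, 62, true), (3, 52, true), (4, 43, true), (5, 35, true), (8, 36, true), (7, 37, true), (6, 38, true), (5, 41, true), (4, 44, true), (7, 15, true), (6, 16, true), (5, 17, true), (4, 20, true), (6, 3, true), (5, 4, true), (4, 5, true), (5, 15, true), (4, 16, true), (6, 1, true), (5, 2, true), (5, 55, true), (4, 60, true), (3, 64, true), (2, 65, true), (4, 36, true), (3, 41, true), (5, 10, true), (6, 6, true), (7, 1, true), (8, 0, true), (7, 46, true), (6, 48, true), (5, 49, true), (4, 50, true), (3, 53, true), (2, 54, true), (6, 37, true), (5, 39, true), (4, 40, true), (3, 41, true), (2, 44, true), (5, 29, true), (4, 31, true), (3, 32, true), (2, 33, true), (6, 16, true), (5, 18, true), (4, 19, true), (3, 20, true), (5, 7, true), (4, 9, true), (4, 4, true), (5, 2, true), (5, 0, true)], [(1, 116, true), (0, 106, true), (8, 66, true), (7, 67, true), (6, 68, true), (5, 69, true),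 (4, 71, true), (3, 73, true), (2, 74, true), (1, 75, true), (7, 28, true), (6, 31, true), (5, 35, true), (6, 6, true), (5, 9, true), (5, 0, true), (5, 52, true), (4, 53, true), (3, 54, true), (6, 37, true), (5, 40, true), (4, 43, true), (3, 44, true), (5, 29, true), (4, 32, true), (3, 35, true), (5, 15, true), (4, 16, true), (3, 19, true), (6, 10, true), (5, 11, true), (4, 14, true), (5, 6, true), (4, 7, true), (6, 0, true), (5, 56, true), (4, 58, true), (3, 60, true), (2, 65, true), (4, 16, true), (3, 18, true), (2, 20, true), (3, 11, true), (2, 13, true), (4, 7, true), (3, 9, true), (3, 4, true), (4, 2, true), (4, 0, true), (3, 30, true), (2, 32, true)]),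
    ([12, 14, 14], [(0, 117, true), (6, 107, true), (5, 109, true), (4, 110, true), (3, 111, true), (2, 113, true), (1, 117, true), (0, 119, true), (5, 78, true), (4, 80, true), (3, 82, true), (2, 83, true), (1, 86, true), (0, 88, true), (1, 65, true), (6, 45, true), (5, 48, true), (4, 51, true), (3, 52, true), (2, 53, true), (1, 54, true), (5, 36, true), (4, 39, true), (3, 42, true), (2, 43, true), (1, 44, true), (4, 28, true), (3, 31, true), (2, 34, true), (1, 35, true), (3, 21, true), (2, 24, true), (1, 27, true), (2, 15, true), (1, 18, true), (3, 3, true), (4, 1, true), (5, 36, true), (4, 37, true), (3, 38, true), (2, 39, true), (1, 41, true), (6, 15, true), (5, 16, true), (4, 17, true), (3, 18, true), (2, 20, true), (5, 3, true), (4, 4, true), (3, 5, true), (4, 55, true), (3, 56, true), (2, 58, true), (1, 63, true), (5, 15, true), (4, 16, true), (3, 18, true), (6, 10, true), (5, 11, true), (4, 13, true), (7, 6, true), (6, 7, true), (5, 9, true), (6, 3, true), (5, 4, true), (7, 1, true), (6, 2, true), (6, 0, true), (6, 36, true),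 (5, 38, true), (4, 40, true), (3, 41, true), (2, 44, true), (5, 21, true), (4, 23, true), (3, 25, true), (2, 26, true), (6, 15, true), (5, 17, true), (4, 19, true), (3, 20, true), (5, 10, true), (4, 12, true), (3, 14, true), (4, 3, true), (3, 5, true), (3, 55, true), (2, 61, true), (1, 65, true), (2, 45, true), (1, 51, true), (3, 28, true), (2, 34, true), (4, 15, true), (5, 6, true), (6, 3, true), (7, 21, true), (6, 23, true), (5, 24, true), (4, 26, true), (3, 27, true), (6, 45, true), (5, 47, true), (4, 48, true), (3, 50, true), (2, 52, true), (1, 54, true), (5, 36, true), (4, 38, true), (3, 39, true), (2, 41, true), (1, 43, true), (6, 28, true), (5, 30, true), (4, 31, true), (3, 33, true), (2, 35, true), (5, 15, true), (4, 17, true), (3, 18, true), (2, 20, true), (4, 3, true), (3, 5, true), (3, 1, true), (4, 0, true), (3, 37, true), (2, 39, true), (1, 44, true), (2, 16, true), (1, 18, true), (3, 4, true), (4, 56, true), (3, 57, true), (2, 58, true), (1, 60, true), (5, 37, true), (4, 38, true), (3, 39, true), (2, 41, true), (6, 11,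 true), (5, 12, true), (4, 13, true), (7, 7, true), (6, 8, true), (5, 9, true), (6, 2, true)], [(1, 119, true)]),
    ([1, 12, 14], [(0, 79, true), (4, 105, true), (3, 108, true), (2, 109, true), (1, 110, true), (0, 117, true), (6, 47, true), (5, 49, true), (4, 50, true), (3, 51, true), (2, 53, true), (7, 38, true), (6, 40, true), (5, 41, true), (4, 42, true), (3, 44, true), (6, 30, true), (5, 32, true), (4, 33, true), (3, 34, true), (7, 17, true), (6, 19, true), (5, 20, true), (6, 5, true), (7, 36, true), (6, 37, true), (5, 40, true), (4, 42, true), (3, 43, true), (8, 15, true), (7, 16, true), (6, 19, true), (9, 3, true), (8, 4, true), (10, 15, true), (9, 16, true), (8, 17, true), (7, 19, true), (6, 20, true), (9, 1, true), (8, 2, true), (8, 0, true)], [(1, 117, true), (0, 106, true), (8, 78, true), (7, 79, true), (6, 80, true), (5, 81, true), (4, 83, true), (3, 85, true), (2, 86, true), (1, 87, true), (5, 55, true), (4, 58, true), (3, 61, true), (2, 62, true), (6, 45, true), (5, 48, true), (4, 51, true), (3, 52, true), (7, 36, true),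 (6, 39, true), (5, 42, true), (4, 43, true), (8, 28, true), (7, 31, true), (6, 34, true), (5, 35, true), (7, 21, true), (6, 24, true), (5, 27, true), (6, 6, true), (5, 9, true), (5, 0, true), (5, 52, true), (4, 53, true), (3, 54, true), (4, 43, true), (3, 44, true), (3, 35, true), (6, 46, true), (5, 47, true), (4, 50, true), (3, 51, true), (7, 29, true), (6, 30, true), (5, 33, true), (4, 34, true), (8, 22, true), (7, 23, true), (6, 26, true), (5, 27, true), (8, 55, true), (7, 56, true), (6, 57, true), (5, 60, true), (4, 62, true), (3, 64, true), (2, 65, true), (7, 15, true), (6, 16, true), (5, 17, true), (4, 20, true), (6, 10, true), (5, 11, true), (4, 12, true), (7, 6, true), (6, 7, true), (5, 8, true), (8, 3, true), (7, 4, true), (6, 5, true), (7, 1, true), (6, 2, true), (6, 0, true), (5, 18, true), (4, 19, true), (6, 13, true), (5, 14, true), (5, 9, true), (5, 0, true), (4, 41, true), (3, 43, true), (5, 26, true), (6, 20, true)]),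
    ([1, 13, 14], [(0, 92, true), (5, 108, true), (4, 111, true), (3, 113, true), (2, 114, true), (1, 115, true), (0, 118, true), (8, 56, true), (7, 57, true), (6, 58, true), (5, 59, true), (4, 63, true), (3, 64, true), (2, 65, true), (7, 46, true), (6, 47, true), (5, 48, true), (4, 49, true), (3, 53, true), (2, 54, true), (6, 29, true), (5, 30, true), (4, 31, true), (3, 32, true), (7, 16, true), (6, 17, true), (5, 18, true), (4, 19, true), (8, 7, true), (7, 8, true), (6, 9, true), (7, 4, true), (6, 5, true), (6, 22, true), (5, 25, true), (4, 26, true), (7, 16, true), (6, 19, true), (5, 20, true), (6, 2, true)], [(1, 118, true), (0, 106, true), (8, 91, true), (7, 92, true), (6, 93, true), (5, 94, true), (4, 96, true), (3, 98, true), (2, 99, true), (1, 100, true), (9, 29, true), (8, 30, true), (7, 31, true), (6, 32, true), (5, 33, true), (4, 34, true), (3, 35, true), (8, 16, true), (7, 17, true), (6, 18, true), (5, 19, true), (4, 20, true), (7, 11, true), (6, 12, true), (5, 13, true), (4, 14, true), (6, 7, true), (5, 8, true), (4, 9,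 true), (5, 29, true), (4, 30, true), (3, 34, true), (6, 46, true), (5, 47, true), (4, 51, true), (3, 52, true), (7, 22, true), (6, 23, true), (5, 27, true), (6, 11, true), (5, 12, true), (7, 2, true), (7, 3, true), (6, 5, true), (6, 6, true), (7, 55, true), (6, 58, true), (5, 59, true), (4, 62, true), (3, 64, true), (2, 65, true), (6, 45, true), (5, 48, true), (4, 49, true), (3, 52, true), (2, 54, true), (5, 36, true), (4, 39, true), (3, 40, true), (2, 43, true), (6, 21, true), (5, 24, true), (4, 25, true), (7, 6, true), (6, 9, true), (6, 0, true)]),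
    ([15, 15, 15], [(0, 135, true), (1, 120, true), (0, 126, true)], [(1, 135, true)]),
    ([1, 15, 15], [(0, 121, true), (4, 120, true), (3, 126, true), (2, 127, true), (1, 129, true), (0, 135, true), (1, 28, true), (0, 34, true), (2, 21, true), (1, 27, true), (1, 1, true), (2, 0, true), (1, 29, true), (0, 35, true), (0, 22, true)], [(1, 135, true), (0, 22, true)]),
    ([2, 15, 15], [(0, 122, true), (2, 122, true), (1, 124, true), (0, 135, true), (1, 10, true), (2, 10, true), (1, 14, true), (1, 3, true)], [(1, 135, true), (0, 23, true)]),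
    ([1, 2, 15], [(0, 4, true), (1, 121, true), (0, 122, true), (2, 47, true), (1, 49, true), (3, 30, true), (2, 32, true), (4, 23, true), (3, 25, true)], [(1, 122, true), (0, 121, true), (4, 10, true), (5, 3, true)]),
    ([3, 15, 15], [(0, 123, true), (8, 120, true), (7, 121, true), (6, 122, true), (5, 123, true), (4, 125, true), (3, 127, true), (2, 128, true), (1, 129, true), (0, 135, true), (1, 28, true), (0, 34, true), (2, 21, true), (1, 27, true), (1, 1, true), (2, 0, true), (1, 37, true), (0, 43, true), (2, 22, true), (3, 11, true), (5, 28, true), (4, 29, true), (3, 32, true), (2, 34, true), (1, 35, true), (4, 21, true), (3, 22, true), (2, 25, true), (1, 27, true), (3, 15, true), (2, 16, true), (1, 19, true), (4, 0, true), (3, 46, true), (2, 49, true), (1, 50, true), (0, 53, true), (4, 37, true), (3, 40, true), (2, 41, true), (1, 44, true), (3, 29, true), (2, 32, true), (1, 33, true), (4, 16, true), (3, 19, true), (2, 20, true), (3, 7, true), (4, 4, true), (5, 2, true), (5, 10, true), (4, 12, true), (3, 13, true), (2, 14, true),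 (4, 3, true), (3, 5, true), (3, 45, true), (2, 48, true), (1, 52, true), (0, 54, true), (2, 28, true), (1, 31, true), (0, 35, true), (1, 21, true), (0, 24, true), (2, 0, true)], [(1, 135, true), (0, 24, true)]),
    ([1, 3, 15], [(0, 7, true), (1, 121, true), (0, 123, true), (8, 45, true), (7, 46, true), (6, 47, true), (5, 48, true), (4, 50, true), (3, 52, true), (2, 53, true), (1, 54, true), (7, 28, true), (6, 29, true), (5, 30, true), (4, 31, true), (3, 33, true), (2, 35, true), (6, 21, true), (5, 22, true), (4, 23, true), (3, 24, true), (2, 26, true), (7, 0, true)], [(1, 123, true), (0, 121, true), (4, 45, true), (3, 51, true), (2, 52, true), (1, 54, true), (3, 36, true), (2, 42, true), (1, 43, true), (4, 28, true), (3, 34, true), (2, 35, true), (3, 15, true), (4, 6, true), (5, 3, true), (6, 1, true), (7, 0, true)]),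
    ([2, 3, 15], [(0, 8, true), (1, 122, true), (0, 123, true), (8, 10, true), (7, 11, true), (6, 12, true), (5, 13, true), (9, 3, true), (8, 4, true), (7, 5, true)], [(1, 123, true), (0, 122, true), (2, 47, true), (1, 49, true), (3, 38, true), (2, 40, true), (4, 30, true), (3, 32, true), (5, 17, true), (4, 19, true), (6, 8, true), (7, 5, true)]),
    ([1, 4, 15], [(0, 11, true), (1, 121, true), (0, 124, true), (1, 49, true), (2, 32, true), (3, 25, true)], [(1, 124, true), (0, 121, true), (4, 10, true)]),
    ([11, 11, 15], [(0, 77, true), (0, 130, true)], [(1, 131, true), (0, 131, true), (2, 91, true), (1, 104, true), (6, 0, true)]),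
    ([11, 15, 15], [(0, 131, true), (2, 120, true), (1, 133, true), (0, 135, true), (1, 66, true), (0, 72, true), (2, 0, true)], [(1, 135, true)]),
    ([0, 11, 15], [(0, 66, true), (1, 120, true), (0, 131, true), (2, 0, true)], [(1, 131, true), (0, 120, true), (1, 91, true), (2, 0, true)]),
    ([1, 11, 15], [(0, 67, true), (7, 120, true), (6, 121, true), (5, 122, true), (4, 123, true), (3, 124, true), (2, 125, true), (1, 130, true), (0, 131, true), (2, 55, true), (3, 36, true), (4, 15, true), (5, 10, true), (6, 3, true), (7, 0, true), (6, 23, true), (5, 25, true), (4, 26, true), (7, 17, true), (6, 19, true), (5, 20, true), (7, 10, true), (6, 12, true), (5, 14, true), (6, 45, true), (5, 47, true), (4, 51, true), (3, 53, true), (7, 36, true), (6, 38, true), (5, 42, true), (4, 44, true), (6, 28, true), (5, 30, true), (4, 34, true), (7, 15, true), (6, 17, true), (8, 6, true), (7, 8, true), (9, 3, true), (8, 5, true), (8, 1, true), (9, 0, true), (8, 11, true), (7, 13, true), (9, 4, true), (10, 46, true), (9, 47, true), (8, 48, true), (7,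 49, true), (6, 50, true), (5, 51, true), (4, 52, true), (3, 54, true), (9, 29, true), (8, 30, true), (7, 31, true), (6, 32, true), (5, 33, true), (4, 34, true), (3, 35, true), (8, 22, true), (7, 23, true), (6, 24, true), (5, 25, true), (4, 26, true), (3, 27, true), (8, 0, true)], [(1, 131, true), (0, 121, true), (4, 91, true), (3, 97, true), (2, 98, true), (1, 100, true), (9, 29, true), (8, 30, true), (7, 31, true), (6, 32, true), (5, 33, true), (4, 34, true), (3, 35, true), (8, 22, true), (7, 23, true), (6, 24, true), (5, 25, true), (4, 26, true), (3, 27, true), (8, 0, true)]),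
    ([2, 11, 15], [(0, 68, true), (4, 120, true), (3, 123, true), (2, 124, true), (1, 125, true), (0, 131, true), (2, 21, true), (3, 15, true), (4, 0, true), (4, 49, true), (3, 50, true), (2, 51, true), (5, 40, true), (4, 41, true), (3, 42, true), (6, 32, true), (5, 33, true), (4, 34, true), (7, 19, true), (6, 20, true), (10, 0, true)], [(1, 131, true), (0, 122, true), (2, 93, true), (1, 95, true), (9, 6, true), (8, 7, true), (7, 8, true), (10, 0, true)]),
    ([3, 11, 15], [(0, 69, true), (3, 120, true), (2, 127, true), (1, 128, true), (0, 131, true), (2, 36, true), (3, 21, true), (4, 10, true), (5, 0, true), (4, 32, true), (3, 34, true)], [(1, 131, true), (0, 123, true), (8, 91, true), (7, 92, true), (6, 93, true), (5, 94, true), (4, 96, true), (3, 98, true), (2, 99, true), (1, 100, true), (9, 29, true), (8, 30, true), (7, 31, true), (6, 32, true), (5, 33, true), (4, 34, true), (3, 35, true), (8, 16, true), (7, 17, true), (6, 18, true), (5, 19, true), (4, 20, true), (7, 11, true), (6, 12, true), (5, 13, true), (4, 14, true), (6, 7,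 true), (5, 8, true), (4, 9, true), (5, 29, true), (4, 30, true), (3, 34, true), (6, 46, true), (5, 47, true), (4, 51, true), (3, 52, true), (7, 22, true), (6, 23, true), (5, 27, true), (6, 11, true), (5, 12, true), (7, 2, true), (7, 3, true), (6, 5, true), (6, 6, true), (7, 55, true), (6, 58, true), (5, 59, true), (4, 62, true), (3, 64, true), (2, 65, true), (6, 45, true), (5, 48, true), (4, 49, true), (3, 52, true), (2, 54, true), (5, 36, true), (4, 39, true), (3, 40, true), (2, 43, true), (6, 21, true), (5, 24, true), (4, 25, true), (7, 6, true), (6, 9, true), (6, 0, true)]),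
    ([4, 11, 15], [(0, 70, true), (6, 121, true), (5, 122, true), (4, 124, true), (3, 127, true), (2, 128, true), (1, 129, true), (0, 131, true), (2, 28, true), (3, 21, true), (4, 1, true), (5, 0, true), (4, 37, true), (3, 42, true), (2, 43, true), (5, 22, true), (4, 27, true), (4, 11, true), (6, 28, true), (5, 29, true), (4, 32, true), (3, 35, true), (5, 10, true), (4, 11, true), (3, 14, true), (4, 10, true), (3, 11, true), (5, 3, true), (4, 4, true), (6, 45, true), (5, 46, true), (4, 47, true), (3, 49, true), (2, 53, true), (7, 28, true), (6, 29, true), (5, 30, true), (4, 32, true), (8, 21, true), (7, 22, true), (6, 23, true), (5, 25, true), (9, 0, true)], [(1, 131, true), (0, 124, true), (1, 95, true), (9, 0, true)]),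
    ([7, 11, 15], [(0, 73, true), (1, 127, true), (0, 131, true), (2, 28, true)], [(1, 131, true), (0, 127, true), (1, 98, true)]),
    ([12, 12, 15], [(0, 90, true), (0, 130, true)], [(1, 132, true), (0, 132, true), (1, 119, true)]),
    ([12, 15, 15], [(0, 132, true), (1, 134, true), (0, 135, true), (1, 78, true), (0, 84, true)], [(1, 135, true)]),
    ([1, 12, 15], [(0, 79, true), (4, 120, true), (3, 123, true), (2, 124, true), (1, 125, true), (0, 132, true), (4, 10, true), (5, 45, true), (4, 49, true), (3, 50, true), (2, 51, true), (6, 36, true), (5, 40, true), (4, 41, true), (3, 42, true), (7, 28, true), (6, 32, true), (5, 33, true), (4, 34, true), (8, 15, true), (7, 19, true), (6, 20, true), (7, 6, true), (8, 3, true), (9, 1, true), (10, 0, true)], [(1, 132, true), (0, 121, true), (4, 105, true), (3, 111, true), (2, 112, true), (1, 114, true), (7, 29, true), (6, 30, true), (5, 31, true), (4, 32, true), (8, 22, true), (7, 23, true), (6, 24, true), (5, 25, true)]),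
    ([4, 12, 15], [(0, 82, true), (3, 122, true), (2, 125, true), (1, 128, true), (0, 132, true), (5, 21, true), (4, 25, true), (3, 27, true), (4, 15, true), (3, 19, true), (5, 0, true), (4, 14, true)], [(1, 132, true), (0, 124, true), (1, 109, true)]),
    ([11, 12, 15], [(0, 89, true), (1, 131, true), (0, 132, true)], [(1, 132, true), (0, 131, true), (2, 105, true), (1, 118, true)]),
    ([12, 13, 15], [(0, 103, true), (2, 127, true), (1, 132, true), (0, 133, true), (2, 105, true), (1, 116, true), (4, 28, true), (3, 35, true)], [(1, 133, true), (0, 132, true)]),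
    ([16, 16, 16], [(0, 152, true), (1, 136, true), (0, 142, true)], [(1, 152, true)]),
    ([1, 16, 16], [(0, 137, true), (2, 137, true), (1, 141, true), (0, 152, true), (1, 15, true), (2, 15, true), (1, 20, true), (1, 1, true)], [(1, 152, true), (0, 22, true)]),
    ([2, 16, 16], [(0, 138, true), (3, 136, true), (2, 143, true), (1, 144, true), (0, 152, true), (1, 28, true), (0, 34, true), (2, 3, true), (3, 0, true), (2, 30, true), (1, 34, true), (0, 35, true)], [(1, 152, true), (0, 23, true)]),
    ([1, 2, 16], [(0, 4, true), (1, 137, true), (0, 138, true), (3, 15, true), (4, 1, true)], [(1, 138, true), (0, 137, true), (2, 37, true), (1, 41, true), (3, 29, true), (2, 33, true)]),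
    ([3, 16, 16], [(0, 139, true), (9, 136, true), (8, 137, true), (7, 138, true), (6, 139, true), (5, 140, true), (4, 142, true), (3, 143, true), (2, 144, true), (1, 145, true), (0, 152, true), (1, 45, true), (0, 51, true), (2, 21, true), (1, 27, true), (1, 15, true), (2, 0, true), (1, 33, true), (4, 28, true), (3, 30, true), (2, 33, true), (1, 35, true), (3, 21, true), (2, 23, true), (1, 26, true), (4, 21, true), (3, 23, true), (2, 26, true), (1, 27, true), (3, 10, true), (2, 12, true), (4, 0, true), (3, 47, true), (2, 49, true), (1, 50, true), (0, 54, true), (2, 38, true), (1, 40, true), (0, 41, true), (3, 30, true), (2, 32, true), (1, 33, true), (4, 23, true), (3, 25, true), (2, 26, true), (5, 12, true), (4, 14, true), (4, 8, true), (5, 5, true), (6, 36, true), (5, 37, true), (4, 39, true), (3, 41, true), (2, 42, true), (1, 43, true), (0, 44, true), (5, 28, true), (4, 29, true), (3, 31, true), (2, 33, true), (1, 34, true), (0, 35, true), (4, 0, true), (3, 16, true), (2, 18, true), (1, 20, true), (2, 2, true)], [(1, 152, true), (0,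 24, true)]),
    ([1, 3, 16], [(0, 7, true), (1, 137, true), (0, 139, true), (9, 15, true), (8, 16, true), (7, 17, true), (6, 18, true), (5, 19, true), (10, 1, true), (9, 2, true)], [(1, 139, true), (0, 137, true), (2, 46, true), (1, 50, true), (3, 37, true), (2, 41, true), (4, 29, true), (3, 33, true), (5, 22, true), (4, 26, true), (6, 11, true), (7, 7, true), (8, 4, true), (9, 2, true)]),
    ([2, 3, 16], [(0, 8, true), (1, 138, true), (0, 139, true), (9, 36, true), (8, 37, true), (7, 38, true), (6, 39, true), (5, 40, true), (4, 42, true), (3, 43, true), (2, 44, true), (8, 28, true), (7, 29, true), (6, 30, true), (5, 31, true), (4, 32, true), (3, 34, true), (2, 35, true), (7, 0, true)], [(1, 139, true), (0, 138, true), (3, 45, true), (2, 52, true), (1, 53, true), (4, 36, true), (3, 43, true), (2, 44, true), (3, 28, true), (2, 35, true), (2, 21, true), (3, 10, true), (4, 6, true), (5, 3, true), (6, 1, true), (7, 0, true)]),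
    ([11, 11, 16], [(0, 77, true), (0, 146, true)], [(1, 147, true), (0, 147, true), (8, 105, true), (7, 106, true), (6, 110, true), (5, 114, true), (4, 115, true), (3, 117, true), (2, 118, true), (1, 119, true), (6, 91, true), (5, 93, true), (4, 95, true), (3, 96, true), (2, 99, true), (1, 101, true), (6, 48, true), (5, 49, true), (4, 50, true), (3, 52, true), (7, 24, true), (6, 25, true), (5, 26, true), (8, 13, true), (7, 14, true), (9, 45, true), (8, 46, true), (7, 48, true), (6, 50, true), (5, 51, true), (4, 52, true), (3, 54, true), (8, 36, true), (7, 37, true), (6, 39, true), (5, 41, true), (4, 42, true), (3, 43, true), (9, 28, true), (8, 29, true), (7, 31, true), (6, 33, true), (5, 34, true), (4, 35, true), (8, 21, true), (7, 22, true), (6, 24, true), (5, 26, true), (4, 27, true), (7, 10, true), (6, 11, true), (5, 13, true), (8, 3, true), (7, 4, true), (9, 1, true), (8, 2, true), (8, 0, true), (7, 8, true), (6, 9, true), (7, 78, true), (6, 80, true), (5, 82, true), (4, 83, true), (3, 86, true), (2, 88, true), (3, 65, true), (8,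 45, true), (7, 48, true), (6, 51, true), (5, 52, true), (4, 53, true), (3, 54, true), (7, 36, true), (6, 39, true), (5, 42, true), (4, 43, true), (3, 44, true), (6, 28, true), (5, 31, true), (4, 34, true), (3, 35, true), (5, 21, true), (4, 24, true), (3, 27, true), (4, 15, true), (3, 18, true), (5, 3, true), (6, 1, true), (7, 36, true), (6, 37, true), (5, 38, true), (4, 39, true), (3, 41, true), (8, 15, true), (7, 16, true), (6, 17, true), (5, 18, true), (4, 20, true), (7, 3, true), (6, 4, true), (5, 5, true), (6, 55, true), (5, 56, true), (4, 58, true), (3, 63, true), (7, 15, true), (6, 16, true), (5, 18, true), (8, 10, true), (7, 11, true), (6, 13, true), (9, 6, true), (8, 7, true), (7, 9, true), (8, 3, true), (7, 4, true), (9, 1, true), (8, 2, true), (8, 0, true), (8, 36, true), (7, 38, true), (6, 40, true), (5, 41, true), (4, 44, true), (7, 21, true), (6, 23, true), (5, 25, true), (4, 26, true), (8, 15, true), (7, 17, true), (6, 19, true), (5, 20, true), (7, 10, true), (6, 12, true), (5, 14, true), (6, 3, true), (5, 5, true), (5,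 55, true), (4, 61, true), (3, 65, true), (4, 45, true), (3, 51, true), (5, 36, true), (4, 42, true), (6, 10, true), (7, 6, true), (8, 3, true), (9, 1, true), (10, 45, true), (9, 46, true), (8, 47, true), (7, 48, true), (6, 49, true), (5, 51, true), (4, 53, true), (3, 54, true), (9, 36, true), (8, 37, true), (7, 38, true), (6, 39, true), (5, 40, true), (4, 42, true), (3, 44, true), (8, 28, true), (7, 29, true), (6, 30, true), (5, 31, true), (4, 32, true), (3, 34, true), (9, 15, true), (8, 16, true), (7, 17, true), (6, 18, true), (5, 19, true), (10, 3, true), (9, 4, true), (8, 5, true), (9, 1, true), (8, 2, true), (8, 0, true), (7, 48, true), (6, 49, true), (5, 50, true), (4, 51, true), (3, 52, true), (8, 39, true), (7, 40, true), (6, 41, true), (5, 42, true), (4, 43, true), (9, 31, true), (8, 32, true), (7, 33, true), (6, 34, true), (5, 35, true), (8, 18, true), (7, 19, true), (6, 20, true), (7, 9, true), (9, 0, true), (8, 92, true), (7, 93, true), (6, 95, true), (5, 97, true), (4, 99, true), (3, 100, true), (2, 103, true), (1, 104,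 true), (6, 78, true), (5, 80, true), (4, 82, true), (3, 83, true), (2, 86, true), (1, 88, true), (2, 65, true), (7, 45, true), (6, 48, true), (5, 51, true), (4, 52, true), (3, 53, true), (2, 54, true), (6, 36, true), (5, 39, true), (4, 42, true), (3, 43, true), (2, 44, true), (5, 28, true), (4, 31, true), (3, 34, true), (2, 35, true), (4, 21, true), (3, 24, true), (2, 27, true), (3, 15, true), (2, 18, true), (4, 3, true), (5, 1, true), (6, 36, true), (5, 37, true), (4, 38, true), (3, 39, true), (2, 41, true), (7, 15, true), (6, 16, true), (5, 17, true), (4, 18, true), (3, 20, true), (6, 3, true), (5, 4, true), (4, 5, true), (5, 55, true), (4, 56, true), (3, 58, true), (2, 63, true), (6, 15, true), (5, 16, true), (4, 18, true), (7, 10, true), (6, 11, true), (5, 13, true), (8, 6, true), (7, 7, true), (6, 9, true), (7, 3, true), (6, 4, true), (8, 1, true), (7, 2, true), (7, 0, true), (7, 28, true), (6, 30, true), (5, 32, true), (4, 33, true), (8, 55, true), (7, 57, true), (6, 59, true), (5, 60, true), (4, 62, true), (3, 63, true), (2,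 65, true), (7, 28, true), (6, 30, true), (5, 32, true), (4, 33, true), (3, 35, true), (6, 21, true), (5, 23, true), (4, 25, true), (3, 26, true), (7, 15, true), (6, 17, true), (5, 19, true), (4, 20, true), (6, 10, true), (5, 12, true), (4, 14, true), (5, 6, true), (4, 8, true), (6, 3, true), (5, 5, true), (5, 1, true), (6, 28, true), (5, 29, true), (4, 31, true), (3, 34, true), (7, 15, true), (6, 16, true), (5, 18, true), (8, 10, true), (7, 11, true), (6, 13, true), (9, 6, true), (8, 7, true), (7, 9, true), (8, 21, true), (7, 22, true), (6, 25, true), (5, 26, true), (4, 27, true), (7, 45, true), (6, 46, true), (5, 49, true), (4, 50, true), (3, 52, true), (2, 53, true), (8, 36, true), (7, 37, true), (6, 40, true), (5, 41, true), (4, 43, true), (3, 44, true), (7, 28, true), (6, 29, true), (5, 32, true), (4, 33, true), (3, 35, true), (6, 21, true), (5, 22, true), (4, 25, true), (3, 26, true), (7, 10, true), (6, 11, true), (5, 14, true), (6, 3, true), (5, 4, true), (7, 1, true), (6, 2, true), (6, 0, true), (5, 8, true), (6, 57, true), (5,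 58, true), (4, 60, true), (3, 61, true), (2, 64, true), (7, 47, true), (6, 48, true), (5, 50, true), (4, 51, true), (3, 54, true), (6, 38, true), (5, 39, true), (4, 41, true), (3, 42, true), (7, 23, true), (6, 24, true), (5, 26, true), (4, 27, true), (6, 8, true), (5, 9, true), (5, 80, true), (4, 83, true), (3, 86, true), (2, 88, true), (1, 90, true), (1, 65, true), (7, 45, true), (6, 48, true), (5, 51, true), (4, 52, true), (3, 53, true), (2, 54, true), (6, 36, true), (5, 39, true), (4, 42, true), (3, 43, true), (2, 44, true), (5, 28, true), (4, 31, true), (3, 34, true), (2, 35, true), (4, 21, true), (3, 24, true), (2, 27, true), (3, 15, true), (2, 18, true), (4, 3, true), (5, 1, true), (6, 55, true), (5, 56, true), (4, 57, true), (3, 58, true), (2, 60, true), (1, 65, true), (5, 15, true), (4, 16, true), (3, 17, true), (2, 18, true), (1, 20, true), (4, 10, true), (3, 11, true), (2, 12, true), (1, 13, true), (5, 6, true), (4, 7, true), (3, 8, true), (2, 9, true), (4, 3, true), (3, 4, true), (2, 5, true), (3, 1, true), (2, 2, true),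 (2, 0, true), (1, 59, true), (2, 49, true), (3, 19, true)]),
    ([11, 16, 16], [(0, 147, true), (8, 136, true), (7, 137, true), (6, 141, true), (5, 145, true), (4, 146, true), (3, 148, true), (2, 149, true), (1, 150, true), (0, 152, true), (1, 105, true), (0, 111, true), (2, 91, true), (1, 97, true), (3, 66, true), (2, 72, true), (4, 55, true), (3, 61, true), (5, 36, true), (4, 42, true), (6, 21, true), (5, 27, true), (5, 3, true), (6, 0, true), (5, 107, true), (4, 113, true), (3, 115, true), (2, 116, true), (1, 118, true), (0, 119, true), (5, 91, true), (4, 93, true), (3, 95, true), (2, 96, true), (1, 99, true), (0, 101, true), (5, 48, true), (4, 49, true), (3, 50, true), (2, 52, true), (6, 24, true), (5, 25, true), (4, 26, true), (7, 13, true), (6, 14, true), (8, 45, true), (7, 46, true), (6, 48, true), (5, 50, true), (4, 51, true), (3, 52, true), (2, 54, true), (7, 36, true), (6, 37, true), (5, 39, true), (4, 41, true), (3, 42, true), (2, 43, true), (8, 28, true), (7, 29, true), (6, 31, true), (5, 33, true), (4, 34, true), (3, 35,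 true), (7, 21, true), (6, 22, true), (5, 24, true), (4, 26, true), (3, 27, true), (6, 10, true), (5, 11, true), (4, 13, true), (7, 3, true), (6, 4, true), (8, 1, true), (7, 2, true), (7, 0, true), (6, 8, true), (5, 9, true), (6, 66, true), (5, 68, true), (4, 70, true), (3, 71, true), (2, 74, true), (1, 76, true), (5, 45, true), (4, 48, true), (3, 52, true), (6, 10, true), (5, 13, true), (7, 1, true), (8, 45, true), (7, 46, true), (6, 48, true), (5, 49, true), (4, 52, true), (3, 54, true), (7, 36, true), (6, 37, true), (5, 39, true), (4, 40, true), (3, 43, true), (8, 28, true), (7, 29, true), (6, 31, true), (5, 32, true), (4, 35, true), (7, 10, true), (6, 11, true), (5, 13, true), (4, 14, true), (6, 3, true), (5, 4, true), (7, 1, true), (6, 2, true), (6, 15, true), (5, 17, true), (4, 18, true), (7, 10, true), (6, 12, true), (5, 13, true), (8, 6, true), (7, 8, true), (6, 9, true), (7, 0, true), (7, 28, true), (6, 30, true), (5, 32, true), (4, 33, true), (8, 55, true), (7, 57, true), (6, 59, true), (5, 60, true), (4, 62, true), (3, 63,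 true), (2, 65, true), (7, 55, true), (6, 57, true), (5, 59, true), (4, 60, true), (3, 62, true), (2, 63, true), (8, 45, true), (7, 47, true), (6, 49, true), (5, 50, true), (4, 52, true), (3, 53, true), (9, 28, true), (8, 30, true), (7, 32, true), (6, 33, true), (5, 35, true), (8, 15, true), (7, 17, true), (6, 19, true), (5, 20, true), (7, 6, true), (6, 8, true), (8, 3, true), (7, 5, true), (7, 55, true), (6, 58, true), (5, 59, true), (4, 63, true), (3, 64, true), (2, 65, true), (6, 36, true), (5, 39, true), (4, 40, true), (3, 44, true), (5, 10, true), (4, 13, true), (3, 14, true), (4, 6, true), (3, 9, true), (3, 1, true), (4, 0, true), (3, 79, true), (2, 87, true), (1, 89, true), (6, 15, true), (5, 18, true), (7, 10, true), (6, 13, true), (8, 6, true), (7, 9, true), (7, 0, true), (6, 70, true), (5, 71, true), (4, 72, true), (3, 73, true), (2, 77, true), (4, 51, true), (3, 52, true), (7, 46, true), (6, 49, true), (5, 51, true), (4, 52, true), (3, 54, true), (6, 37, true), (5, 40, true), (4, 42, true), (3, 43, true), (7, 29, true), (6,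 32, true), (5, 34, true), (4, 35, true), (6, 11, true), (5, 14, true), (5, 4, true), (6, 2, true), (5, 57, true), (4, 61, true), (3, 63, true), (2, 65, true), (4, 47, true), (3, 51, true), (2, 53, true), (5, 30, true), (4, 34, true), (6, 17, true), (9, 91, true), (8, 92, true), (7, 93, true), (6, 96, true), (5, 97, true), (4, 98, true), (3, 99, true), (2, 100, true), (1, 103, true), (0, 104, true), (5, 78, true), (4, 80, true), (3, 82, true), (2, 83, true), (1, 86, true), (0, 88, true), (1, 65, true), (6, 45, true), (5, 48, true), (4, 51, true), (3, 52, true), (2, 53, true), (1, 54, true), (5, 36, true), (4, 39, true), (3, 42, true), (2, 43, true), (1, 44, true), (4, 28, true), (3, 31, true), (2, 34, true), (1, 35, true), (3, 21, true), (2, 24, true), (1, 27, true), (2, 15, true), (1, 18, true), (3, 3, true), (4, 1, true), (5, 36, true), (4, 37, true), (3, 38, true), (2, 39, true), (1, 41, true), (6, 15, true), (5, 16, true), (4, 17, true), (3, 18, true), (2, 20, true), (5, 3, true), (4, 4, true), (3, 5, true), (4, 55, true), (3, 56,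 true), (2, 58, true), (1, 63, true), (5, 15, true), (4, 16, true), (3, 18, true), (6, 10, true), (5, 11, true), (4, 13, true), (7, 6, true), (6, 7, true), (5, 9, true), (6, 3, true), (5, 4, true), (7, 1, true), (6, 2, true), (6, 0, true), (6, 28, true), (5, 30, true), (4, 32, true), (3, 33, true), (7, 55, true), (6, 57, true), (5, 59, true), (4, 60, true), (3, 62, true), (2, 63, true), (1, 65, true), (6, 28, true), (5, 30, true), (4, 32, true), (3, 33, true), (2, 35, true), (5, 21, true), (4, 23, true), (3, 25, true), (2, 26, true), (6, 15, true), (5, 17, true), (4, 19, true), (3, 20, true), (5, 10, true), (4, 12, true), (3, 14, true), (4, 6, true), (3, 8, true), (5, 3, true), (4, 5, true), (4, 1, true), (5, 28, true), (4, 29, true), (3, 31, true), (2, 34, true), (6, 15, true), (5, 16, true), (4, 18, true), (7, 10, true), (6, 11, true), (5, 13, true), (8, 6, true), (7, 7, true), (6, 9, true), (7, 28, true), (6, 29, true), (5, 32, true), (4, 33, true), (3, 34, true), (2, 35, true), (6, 21, true), (5, 22, true), (4, 25, true), (3, 26,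 true), (2, 27, true), (5, 45, true), (4, 46, true), (3, 49, true), (2, 50, true), (1, 53, true), (6, 21, true), (5, 22, true), (4, 25, true), (3, 26, true), (7, 10, true), (6, 11, true), (5, 14, true), (6, 1, true), (5, 2, true), (5, 0, true), (5, 58, true), (4, 60, true), (3, 61, true), (2, 63, true), (1, 64, true), (6, 48, true), (5, 50, true), (4, 51, true), (3, 53, true), (2, 54, true), (5, 39, true), (4, 41, true), (3, 42, true), (2, 44, true), (4, 24, true), (3, 26, true), (2, 27, true), (3, 9, true), (3, 78, true), (2, 83, true), (1, 88, true), (0, 90, true), (0, 65, true), (7, 66, true), (6, 67, true), (5, 68, true), (4, 71, true), (3, 72, true), (2, 73, true), (1, 74, true), (0, 75, true), (6, 28, true), (5, 31, true), (4, 35, true), (5, 6, true), (4, 9, true), (4, 0, true), (5, 51, true), (4, 52, true), (3, 53, true), (2, 54, true), (6, 16, true), (5, 19, true), (7, 11, true), (6, 14, true), (6, 7, true), (8, 55, true), (7, 56, true), (6, 58, true), (5, 60, true), (4, 61, true), (3, 62, true), (2, 63, true), (1, 65, true),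 (7, 15, true), (6, 16, true), (5, 18, true), (4, 20, true), (6, 10, true), (5, 11, true), (4, 13, true), (7, 6, true), (6, 7, true), (5, 9, true), (6, 3, true), (5, 4, true), (7, 1, true), (6, 2, true), (6, 0, true), (6, 55, true), (5, 57, true), (4, 59, true), (3, 61, true), (2, 62, true), (1, 63, true), (7, 36, true), (6, 38, true), (5, 40, true), (4, 42, true), (3, 43, true), (2, 44, true), (6, 28, true), (5, 30, true), (4, 32, true), (3, 34, true), (2, 35, true), (5, 21, true), (4, 23, true), (3, 25, true), (2, 27, true), (4, 3, true), (3, 5, true), (3, 0, true), (2, 59, true), (1, 65, true), (1, 49, true), (2, 19, true), (3, 14, true), (4, 45, true), (3, 46, true), (2, 50, true), (1, 54, true), (3, 21, true), (2, 22, true), (1, 26, true), (4, 15, true), (3, 16, true), (2, 20, true), (3, 0, true), (2, 16, true), (3, 16, true), (2, 20, true), (2, 2, true)], [(1, 152, true)]),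
    ([1, 11, 16], [(0, 67, true), (7, 136, true), (6, 137, true), (5, 138, true), (4, 139, true), (3, 140, true), (2, 141, true), (1, 146, true), (0, 147, true), (8, 55, true), (7, 56, true), (6, 60, true), (5, 64, true), (4, 65, true), (7, 45, true), (6, 46, true), (5, 50, true), (4, 54, true), (6, 15, true), (5, 16, true), (4, 20, true), (5, 10, true), (4, 11, true), (6, 1, true), (5, 2, true), (5, 0, true), (4, 19, true), (5, 25, true), (4, 26, true), (6, 14, true), (6, 45, true), (5, 50, true), (4, 51, true), (7, 36, true), (6, 41, true), (5, 42, true), (8, 28, true), (7, 33, true), (6, 34, true), (9, 21, true), (8, 26, true), (7, 27, true), (8, 10, true), (9, 6, true), (10, 3, true), (11, 1, true), (12, 0, true), (11, 37, true), (10, 38, true), (9, 39, true), (8, 40, true), (7, 41, true), (6, 43, true), (5, 44, true), (10, 29, true), (9, 30, true), (8, 31, true), (7, 32, true), (6, 33, true), (5, 35, true), (10, 15, true), (9, 16, true), (8, 17, true), (7, 18, true), (6, 19, true), (5, 20, true), (9, 1, true), (8, 2, true), (8,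 0, true)], [(1, 147, true), (0, 137, true), (2, 106, true), (1, 110, true), (8, 45, true), (7, 46, true), (6, 47, true), (5, 50, true), (4, 52, true), (3, 53, true), (2, 54, true), (7, 36, true), (6, 37, true), (5, 38, true), (4, 41, true), (3, 43, true), (2, 44, true), (6, 28, true), (5, 29, true), (4, 30, true), (3, 33, true), (2, 35, true), (5, 15, true), (4, 16, true), (3, 17, true), (2, 20, true), (4, 6, true), (3, 7, true), (2, 8, true), (5, 3, true), (4, 4, true), (3, 5, true), (4, 1, true), (3, 2, true), (3, 0, true), (2, 94, true), (3, 80, true), (10, 55, true), (9, 56, true), (8, 57, true), (7, 58, true), (6, 59, true), (5, 60, true), (4, 65, true), (9, 45, true), (8, 46, true), (7, 47, true), (6, 48, true), (5, 49, true), (4, 50, true), (10, 15, true), (9, 16, true), (8, 17, true), (7, 18, true), (6, 19, true), (5, 20, true), (9, 1, true), (8, 2, true), (8, 0, true)]),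
    ([2, 11, 16], [(0, 68, true), (4, 136, true), (3, 139, true), (2, 140, true), (1, 141, true), (0, 147, true), (8, 15, true), (7, 16, true), (6, 20, true), (7, 21, true), (6, 22, true), (8, 10, true), (7, 11, true), (9, 0, true), (8, 46, true), (7, 49, true), (6, 51, true), (5, 54, true), (7, 37, true), (6, 40, true), (5, 42, true), (8, 29, true), (7, 32, true), (6, 34, true), (9, 22, true), (8, 25, true), (7, 27, true), (8, 11, true), (7, 14, true), (7, 7, true), (8, 4, true), (9, 2, true), (9, 0, true)], [(1, 147, true), (0, 138, true), (3, 105, true), (2, 112, true), (1, 113, true), (7, 30, true), (6, 31, true), (5, 33, true), (4, 35, true), (7, 91, true), (6, 93, true), (5, 94, true), (4, 96, true), (3, 100, true), (2, 101, true), (3, 65, true), (9, 46, true), (8, 47, true), (7, 48, true), (6, 49, true), (5, 50, true), (4, 51, true), (3, 52, true), (10, 22, true), (9, 23, true), (8, 24, true), (7, 25, true), (6, 26, true), (5, 27, true), (9, 11, true), (8, 12, true), (7, 13, true), (6, 14, true), (8, 2, true), (8, 3, true), (7,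 5, true), (7, 6, true), (6, 9, true), (6, 0, true), (5, 83, true), (4, 85, true), (3, 87, true), (7, 28, true), (6, 31, true), (5, 34, true), (4, 35, true), (6, 45, true), (5, 48, true), (4, 51, true), (7, 36, true), (6, 39, true), (5, 42, true), (8, 28, true), (7, 31, true), (6, 34, true), (9, 21, true), (8, 24, true), (7, 27, true), (8, 15, true), (7, 18, true), (9, 3, true), (10, 1, true), (11, 55, true), (10, 56, true), (9, 57, true), (8, 58, true), (7, 60, true), (6, 62, true), (5, 63, true), (4, 64, true), (12, 45, true), (11, 46, true), (10, 47, true), (9, 48, true), (8, 50, true), (7, 52, true), (6, 53, true), (5, 54, true), (11, 15, true), (10, 16, true), (9, 17, true), (8, 18, true), (7, 20, true), (10, 1, true), (9, 2, true), (9, 0, true)]),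
    ([3, 11, 16], [(0, 69, true), (3, 136, true), (2, 143, true), (1, 144, true), (0, 147, true), (8, 28, true), (7, 29, true), (6, 33, true), (9, 3, true), (8, 4, true), (10, 0, true), (9, 29, true), (8, 30, true), (7, 33, true), (6, 35, true)], [(1, 147, true), (0, 139, true), (9, 105, true), (8, 106, true), (7, 107, true), (6, 108, true), (5, 109, true), (4, 111, true), (3, 112, true), (2, 113, true), (1, 114, true), (7, 56, true), (6, 57, true), (5, 58, true), (4, 59, true), (3, 63, true), (2, 64, true), (8, 46, true), (7, 47, true), (6, 48, true), (5, 49, true), (4, 53, true), (3, 54, true), (7, 29, true), (6, 30, true), (5, 31, true), (4, 32, true), (8, 16, true), (7, 17, true), (6, 18, true), (5, 19, true), (9, 7, true), (8, 8, true), (7, 9, true), (8, 4, true), (7, 5, true), (7, 29, true), (6, 32, true), (5, 33, true), (4, 35, true), (6, 22, true), (5, 25, true), (4, 26, true), (7, 37, true), (6, 40, true), (5, 41, true), (4, 42, true), (3, 44, true), (6, 16, true), (5, 19, true), (4, 20, true), (5, 4, true), (6, 16, true),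 (5, 17, true), (4, 19, true), (7, 2, true), (6, 57, true), (5, 59, true), (4, 60, true), (3, 61, true), (2, 65, true), (5, 38, true), (4, 40, true), (3, 41, true), (2, 42, true), (6, 12, true), (5, 14, true), (5, 8, true), (8, 45, true), (7, 46, true), (6, 47, true), (5, 48, true), (4, 50, true), (3, 51, true), (2, 53, true), (9, 36, true), (8, 37, true), (7, 38, true), (6, 39, true), (5, 41, true), (4, 42, true), (3, 44, true), (8, 28, true), (7, 29, true), (6, 30, true), (5, 31, true), (4, 33, true), (3, 34, true), (9, 15, true), (8, 16, true), (7, 17, true), (6, 18, true), (5, 20, true), (8, 6, true), (7, 7, true), (6, 8, true), (5, 9, true), (7, 3, true), (6, 4, true), (5, 5, true), (6, 1, true), (5, 2, true), (5, 0, true), (5, 91, true), (4, 97, true), (3, 98, true), (2, 100, true), (10, 29, true), (9, 30, true), (8, 31, true), (7, 32, true), (6, 33, true), (5, 34, true), (4, 35, true), (9, 22, true), (8, 23, true), (7, 24, true), (6, 25, true), (5, 26, true), (4, 27, true), (9, 78, true), (8, 79, true), (7, 80, true), (6, 81,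 true), (5, 82, true), (4, 83, true), (3, 88, true), (11, 37, true), (10, 38, true), (9, 41, true), (8, 42, true), (7, 43, true), (6, 44, true), (10, 16, true), (9, 17, true), (8, 20, true), (9, 4, true), (8, 5, true), (8, 46, true), (7, 51, true), (6, 52, true), (5, 54, true), (7, 29, true), (6, 34, true), (5, 35, true), (6, 22, true), (5, 27, true), (6, 55, true), (5, 56, true), (4, 65, true), (5, 15, true), (4, 16, true), (6, 10, true), (5, 11, true), (7, 6, true), (6, 7, true), (8, 3, true), (7, 4, true), (9, 1, true), (8, 2, true), (8, 0, true), (7, 17, true), (6, 18, true), (5, 19, true), (4, 20, true), (6, 12, true), (5, 13, true), (4, 14, true), (5, 8, true), (4, 9, true), (5, 0, true), (4, 57, true), (5, 47, true), (6, 17, true)]),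
    ([4, 11, 16], [(0, 70, true), (6, 137, true), (5, 138, true), (4, 140, true), (3, 143, true), (2, 144, true), (1, 145, true), (0, 147, true), (8, 45, true), (7, 46, true), (6, 50, true), (5, 54, true), (7, 21, true), (6, 22, true), (5, 26, true), (8, 15, true), (7, 16, true), (6, 20, true), (7, 0, true), (6, 29, true), (5, 34, true), (7, 4, true), (9, 28, true), (8, 29, true), (7, 30, true), (6, 34, true), (5, 35, true), (8, 21, true), (7, 22, true), (6, 23, true), (5, 27, true), (7, 10, true), (6, 11, true), (5, 12, true), (8, 0, true), (7, 37, true), (6, 38, true), (5, 40, true), (8, 29, true), (7, 30, true), (6, 32, true), (10, 15, true), (9, 16, true), (8, 17, true), (7, 19, true), (11, 1, true), (10, 2, true)], [(1, 147, true), (0, 140, true), (3, 105, true), (2, 109, true), (1, 111, true), (2, 42, true), (6, 91, true), (5, 93, true), (4, 96, true), (3, 97, true), (2, 99, true), (6, 24, true), (5, 25, true), (4, 26, true), (7, 48, true), (6, 49, true), (5, 50, true), (4, 51, true), (3, 52, true), (8, 24, true), (7, 25, true),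 (6, 26, true), (5, 27, true), (7, 13, true), (6, 14, true), (8, 6, true), (7, 7, true), (6, 9, true), (7, 0, true), (6, 79, true), (5, 83, true), (4, 85, true), (3, 87, true), (7, 28, true), (6, 31, true), (5, 34, true), (4, 35, true), (6, 45, true), (5, 48, true), (4, 51, true), (7, 36, true), (6, 39, true), (5, 42, true), (8, 28, true), (7, 31, true), (6, 34, true), (9, 21, true), (8, 24, true), (7, 27, true), (8, 15, true), (7, 18, true), (9, 3, true), (10, 1, true), (11, 15, true), (10, 16, true), (9, 17, true), (8, 18, true), (7, 20, true), (10, 10, true), (9, 11, true), (8, 12, true), (7, 13, true), (11, 6, true), (10, 7, true), (9, 8, true), (8, 9, true), (10, 0, true), (9, 56, true), (8, 57, true), (7, 59, true), (6, 62, true), (5, 63, true), (4, 64, true), (10, 46, true), (9, 47, true), (8, 49, true), (7, 52, true), (6, 53, true), (5, 54, true), (9, 16, true), (8, 17, true), (7, 19, true), (10, 2, true)]),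
    ([12, 12, 16], [(0, 90, true), (0, 146, true)], [(1, 148, true), (0, 148, true), (9, 91, true), (8, 93, true), (7, 97, true), (6, 98, true), (5, 99, true), (4, 101, true), (3, 102, true), (2, 103, true), (1, 104, true), (6, 78, true), (5, 80, true), (4, 82, true), (3, 83, true), (2, 86, true), (1, 88, true), (2, 65, true), (7, 45, true), (6, 48, true), (5, 51, true), (4, 52, true), (3, 53, true), (2, 54, true), (6, 36, true), (5, 39, true), (4, 42, true), (3, 43, true), (2, 44, true), (5, 28, true), (4, 31, true), (3, 34, true), (2, 35, true), (4, 21, true), (3, 24, true), (2, 27, true), (3, 15, true), (2, 18, true), (4, 3, true), (5, 1, true), (6, 36, true), (5, 37, true), (4, 38, true), (3, 39, true), (2, 41, true), (7, 15, true), (6, 16, true), (5, 17, true), (4, 18, true), (3, 20, true), (6, 3, true), (5, 4, true), (4, 5, true), (5, 55, true), (4, 56, true), (3, 58, true), (2, 63, true), (6, 15, true), (5, 16, true), (4, 18, true), (7, 10, true), (6, 11, true), (5, 13, true), (8, 6, true), (7, 7, true), (6, 9, true), (7, 3,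 true), (6, 4, true), (8, 1, true), (7, 2, true), (7, 0, true), (7, 28, true), (6, 30, true), (5, 32, true), (4, 33, true), (8, 66, true), (7, 68, true), (6, 70, true), (5, 71, true), (4, 73, true), (3, 74, true), (2, 76, true), (6, 28, true), (5, 31, true), (4, 35, true), (5, 45, true), (4, 48, true), (6, 10, true), (5, 13, true), (7, 1, true), (8, 45, true), (7, 46, true), (6, 48, true), (5, 49, true), (4, 54, true), (7, 36, true), (6, 37, true), (5, 39, true), (4, 40, true), (8, 28, true), (7, 29, true), (6, 31, true), (5, 32, true), (9, 10, true), (8, 11, true), (7, 13, true), (6, 14, true), (8, 3, true), (7, 4, true), (9, 1, true), (8, 2, true), (8, 15, true), (7, 17, true), (6, 18, true), (9, 10, true), (8, 12, true), (7, 13, true), (10, 6, true), (9, 8, true), (8, 9, true), (9, 0, true), (9, 36, true), (8, 38, true), (7, 40, true), (6, 41, true), (5, 43, true), (4, 44, true), (8, 21, true), (7, 23, true), (6, 25, true), (5, 26, true), (9, 15, true), (8, 17, true), (7, 19, true), (6, 20, true), (8, 10, true), (7, 12, true), (6,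 14, true), (7, 3, true), (6, 5, true), (6, 55, true), (5, 61, true), (4, 62, true), (3, 65, true), (5, 28, true), (4, 34, true), (3, 35, true), (4, 15, true), (5, 10, true), (6, 6, true), (7, 28, true), (6, 31, true), (5, 32, true), (4, 33, true), (3, 34, true), (8, 21, true), (7, 24, true), (6, 25, true), (5, 26, true), (4, 27, true), (7, 6, true), (6, 9, true), (6, 0, true), (5, 82, true), (4, 83, true), (3, 85, true), (2, 89, true), (1, 90, true), (1, 76, true), (3, 52, true), (4, 43, true), (5, 35, true), (8, 37, true), (7, 38, true), (6, 41, true), (5, 42, true), (4, 44, true), (7, 16, true), (6, 17, true), (5, 20, true), (6, 4, true), (5, 5, true), (5, 67, true), (4, 72, true), (3, 75, true), (2, 76, true), (1, 77, true), (1, 65, true), (6, 21, true), (5, 24, true), (7, 55, true), (6, 58, true), (5, 61, true), (4, 62, true), (3, 63, true), (2, 64, true), (1, 65, true), (6, 15, true), (5, 18, true), (7, 10, true), (6, 13, true), (8, 6, true), (7, 9, true), (7, 3, true), (8, 1, true), (9, 0, true), (8, 56, true), (7, 57, true),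 (6, 59, true), (5, 60, true), (4, 61, true), (3, 62, true), (2, 63, true), (1, 64, true), (9, 37, true), (8, 38, true), (7, 40, true), (6, 41, true), (5, 42, true), (4, 43, true), (3, 44, true), (8, 29, true), (7, 30, true), (6, 32, true), (5, 33, true), (4, 34, true), (3, 35, true), (7, 22, true), (6, 23, true), (5, 25, true), (4, 26, true), (3, 27, true), (6, 4, true), (5, 5, true)]),
    ([12, 16, 16], [(0, 148, true), (9, 136, true), (8, 138, true), (7, 142, true), (6, 143, true), (5, 144, true), (4, 146, true), (3, 147, true), (2, 148, true), (1, 149, true), (0, 152, true), (1, 105, true), (0, 111, true), (2, 78, true), (1, 84, true), (3, 66, true), (2, 72, true), (4, 55, true), (3, 61, true), (5, 45, true), (4, 51, true), (6, 28, true), (5, 34, true), (7, 15, true), (8, 1, true), (9, 0, true), (8, 92, true), (7, 96, true), (6, 97, true), (5, 98, true), (4, 100, true), (3, 101, true), (2, 102, true), (1, 103, true), (3, 73, true), (4, 43, true), (9, 57, true), (8, 59, true), (7, 60, true), (6, 61, true), (5, 62, true), (4, 63,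 true), (10, 57, true), (9, 59, true), (8, 60, true), (7, 61, true), (6, 62, true), (5, 63, true), (4, 65, true), (9, 30, true), (8, 32, true), (7, 33, true), (6, 34, true), (5, 35, true), (8, 23, true), (7, 25, true), (6, 26, true), (5, 27, true), (7, 17, true), (6, 19, true), (5, 20, true), (6, 12, true), (5, 14, true), (5, 8, true), (6, 5, true), (6, 29, true), (5, 31, true), (7, 22, true), (6, 24, true), (8, 46, true), (7, 48, true), (6, 51, true), (5, 52, true), (4, 53, true), (9, 22, true), (8, 24, true), (7, 27, true), (8, 11, true), (7, 13, true), (9, 2, true), (9, 55, true), (8, 58, true), (7, 59, true), (6, 62, true), (5, 63, true), (4, 64, true), (10, 45, true), (9, 48, true), (8, 49, true), (7, 52, true), (6, 53, true), (5, 54, true), (9, 36, true), (8, 39, true), (7, 40, true), (6, 43, true), (5, 44, true), (8, 21, true), (7, 24, true), (6, 25, true), (9, 6, true), (8, 9, true), (8, 78, true), (7, 82, true), (6, 84, true), (5, 85, true), (4, 88, true), (3, 89, true), (2, 90, true), (2, 76, true), (3, 65, true), (4, 42, true),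 (3, 43, true), (8, 66, true), (7, 68, true), (6, 71, true), (5, 72, true), (4, 73, true), (3, 74, true), (2, 77, true), (5, 28, true), (4, 31, true), (3, 35, true), (4, 21, true), (3, 24, true), (5, 45, true), (4, 48, true), (3, 51, true), (6, 10, true), (5, 13, true), (7, 1, true), (8, 15, true), (7, 16, true), (6, 18, true), (5, 19, true), (9, 10, true), (8, 11, true), (7, 13, true), (6, 14, true), (8, 6, true), (7, 7, true), (6, 9, true), (7, 0, true), (7, 55, true), (6, 56, true), (5, 60, true), (4, 61, true), (3, 64, true), (2, 65, true), (6, 36, true), (5, 37, true), (4, 41, true), (3, 42, true), (7, 28, true), (6, 29, true), (5, 33, true), (4, 34, true), (8, 21, true), (7, 22, true), (6, 26, true), (5, 27, true), (7, 3, true), (6, 4, true), (8, 0, true), (7, 106, true), (6, 107, true), (5, 110, true), (4, 112, true), (3, 113, true), (2, 114, true), (1, 118, true), (0, 119, true), (5, 91, true), (4, 93, true), (3, 95, true), (2, 96, true), (1, 99, true), (0, 101, true), (5, 48, true), (4, 49, true), (3, 50, true), (2, 52, true),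 (6, 24, true), (5, 25, true), (4, 26, true), (7, 13, true), (6, 14, true), (8, 45, true), (7, 46, true), (6, 48, true), (5, 50, true), (4, 51, true), (3, 52, true), (2, 54, true), (7, 36, true), (6, 37, true), (5, 39, true), (4, 41, true), (3, 42, true), (2, 43, true), (8, 28, true), (7, 29, true), (6, 31, true), (5, 33, true), (4, 34, true), (3, 35, true), (7, 21, true), (6, 22, true), (5, 24, true), (4, 26, true), (3, 27, true), (6, 10, true), (5, 11, true), (4, 13, true), (7, 3, true), (6, 4, true), (8, 1, true), (7, 2, true), (7, 0, true), (6, 8, true), (5, 9, true), (6, 45, true), (5, 47, true), (4, 49, true), (3, 50, true), (2, 53, true), (7, 36, true), (6, 38, true), (5, 40, true), (4, 41, true), (3, 44, true), (6, 10, true), (5, 12, true), (4, 14, true), (5, 6, true), (4, 8, true), (6, 3, true), (5, 5, true), (5, 1, true), (6, 55, true), (5, 56, true), (4, 58, true), (3, 60, true), (2, 64, true), (1, 65, true), (5, 45, true), (4, 46, true), (3, 48, true), (2, 50, true), (1, 54, true), (4, 28, true), (3, 29, true), (2, 31, true),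 (1, 33, true), (5, 15, true), (4, 16, true), (3, 18, true), (2, 20, true), (4, 6, true), (3, 7, true), (2, 9, true), (3, 3, true), (2, 4, true), (4, 28, true), (3, 29, true), (2, 30, true), (1, 35, true), (3, 45, true), (2, 46, true), (1, 47, true), (4, 36, true), (3, 37, true), (2, 38, true), (5, 28, true), (4, 29, true), (3, 30, true), (6, 15, true), (5, 16, true), (4, 17, true), (7, 3, true), (6, 4, true), (5, 5, true), (6, 1, true), (5, 2, true), (5, 0, true), (4, 60, true), (3, 62, true), (2, 63, true), (1, 64, true), (5, 41, true), (4, 43, true), (3, 44, true), (8, 45, true), (7, 46, true), (6, 48, true), (5, 49, true), (4, 50, true), (3, 52, true), (2, 54, true), (7, 36, true), (6, 37, true), (5, 39, true), (4, 40, true), (3, 41, true), (2, 43, true), (8, 28, true), (7, 29, true), (6, 31, true), (5, 32, true), (4, 33, true), (3, 35, true), (7, 15, true), (6, 16, true), (5, 18, true), (4, 19, true), (3, 20, true), (6, 6, true), (5, 7, true), (4, 9, true), (5, 3, true), (4, 4, true), (6, 1, true), (5, 2, true), (5, 0, true), (4,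 93, true), (3, 95, true), (2, 99, true), (1, 101, true), (0, 104, true), (5, 55, true), (4, 57, true), (3, 59, true), (2, 60, true), (1, 63, true), (0, 65, true), (4, 28, true), (3, 30, true), (2, 32, true), (1, 33, true), (5, 15, true), (4, 17, true), (3, 19, true), (2, 20, true), (4, 10, true), (3, 12, true), (2, 14, true), (3, 6, true), (2, 8, true), (4, 45, true), (3, 47, true), (2, 48, true), (1, 52, true), (0, 53, true), (5, 36, true), (4, 38, true), (3, 39, true), (2, 43, true), (1, 44, true), (4, 28, true), (3, 30, true), (2, 31, true), (1, 35, true), (3, 21, true), (2, 23, true), (1, 24, true), (4, 10, true), (3, 12, true), (2, 13, true), (5, 3, true), (4, 5, true), (4, 1, true), (5, 0, true), (4, 7, true), (3, 9, true), (3, 79, true), (2, 82, true), (1, 84, true), (0, 87, true), (4, 21, true), (3, 24, true), (2, 27, true), (3, 36, true), (2, 39, true), (1, 43, true), (4, 15, true), (3, 18, true), (5, 3, true), (6, 15, true), (5, 17, true), (4, 18, true), (3, 20, true), (5, 10, true), (4, 12, true), (3, 13, true), (6, 6, true),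 (5, 8, true), (4, 9, true), (5, 0, true), (4, 57, true), (3, 59, true), (2, 62, true), (1, 63, true), (5, 47, true), (4, 49, true), (3, 52, true), (2, 53, true), (6, 17, true), (5, 19, true), (9, 55, true), (8, 56, true), (7, 57, true), (6, 59, true), (5, 60, true), (4, 62, true), (3, 63, true), (2, 64, true), (1, 65, true), (8, 45, true), (7, 46, true), (6, 47, true), (5, 49, true), (4, 50, true), (3, 52, true), (2, 53, true), (1, 54, true), (7, 15, true), (6, 16, true), (5, 17, true), (4, 19, true), (3, 20, true), (6, 10, true), (5, 11, true), (4, 12, true), (3, 14, true), (5, 1, true), (4, 2, true), (4, 0, true), (3, 30, true), (2, 35, true), (2, 5, true), (2, 28, true), (3, 21, true), (4, 36, true), (3, 42, true), (2, 43, true), (1, 44, true), (3, 28, true), (2, 34, true), (1, 35, true), (2, 0, true)], [(1, 152, true)]),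
    ([1, 12, 16], [(0, 79, true), (4, 136, true), (3, 139, true), (2, 140, true), (1, 141, true), (0, 148, true), (9, 15, true), (8, 17, true), (10, 21, true), (9, 23, true), (8, 26, true), (7, 27, true), (9, 10, true), (8, 12, true), (10, 0, true), (9, 47, true), (8, 49, true), (7, 50, true), (6, 52, true), (5, 53, true), (10, 38, true), (9, 40, true), (8, 41, true), (7, 43, true), (6, 44, true), (9, 30, true), (8, 32, true), (7, 33, true), (6, 35, true), (8, 23, true), (7, 25, true), (6, 26, true), (9, 12, true), (8, 14, true), (8, 8, true), (9, 5, true), (10, 0, true)], [(1, 148, true), (0, 137, true), (2, 92, true), (1, 96, true), (6, 55, true), (5, 56, true), (4, 59, true), (3, 61, true), (2, 64, true), (7, 45, true), (6, 46, true), (5, 49, true), (4, 51, true), (3, 54, true), (6, 36, true), (5, 37, true), (4, 40, true), (3, 42, true), (7, 21, true), (6, 22, true), (5, 25, true), (4, 27, true), (6, 6, true), (5, 7, true), (7, 78, true), (6, 79, true), (5, 81, true), (4, 82, true), (3, 86, true), (2, 88, true), (3, 65, true), (8,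 36, true), (7, 39, true), (6, 42, true), (5, 43, true), (4, 44, true), (7, 15, true), (6, 18, true), (8, 3, true), (9, 45, true), (8, 47, true), (7, 48, true), (6, 50, true), (5, 51, true), (4, 52, true), (3, 54, true), (8, 28, true), (7, 30, true), (6, 31, true), (5, 33, true), (4, 34, true), (3, 35, true), (7, 21, true), (6, 23, true), (5, 24, true), (4, 26, true), (3, 27, true), (6, 0, true), (5, 17, true), (4, 18, true), (3, 20, true), (4, 12, true), (3, 13, true), (5, 8, true), (4, 9, true), (5, 0, true), (4, 68, true), (3, 70, true), (9, 16, true), (8, 17, true), (7, 19, true), (10, 11, true), (9, 12, true), (8, 14, true), (9, 7, true), (8, 8, true), (11, 55, true), (10, 56, true), (9, 57, true), (8, 58, true), (7, 60, true), (6, 62, true), (5, 63, true), (4, 64, true), (12, 36, true), (11, 37, true), (10, 38, true), (9, 39, true), (8, 41, true), (7, 43, true), (6, 44, true), (11, 28, true), (10, 29, true), (9, 30, true), (8, 31, true), (7, 33, true), (6, 35, true), (10, 21, true), (9, 22, true), (8, 23, true), (7, 24, true),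 (6, 26, true), (11, 3, true), (10, 4, true), (9, 5, true), (10, 0, true)]),
    ([3, 12, 16], [(0, 81, true), (4, 136, true), (3, 142, true), (2, 143, true), (1, 145, true), (0, 148, true), (9, 45, true), (8, 47, true), (7, 51, true), (6, 52, true), (5, 53, true), (10, 21, true), (9, 23, true), (8, 27, true), (9, 15, true), (8, 17, true), (10, 0, true), (9, 30, true), (8, 33, true), (7, 35, true), (8, 23, true), (7, 26, true)], [(1, 148, true), (0, 139, true), (9, 91, true), (8, 92, true), (7, 93, true), (6, 94, true), (5, 95, true), (4, 97, true), (3, 98, true), (2, 99, true), (1, 100, true), (9, 29, true), (8, 30, true), (7, 31, true), (6, 32, true), (5, 33, true), (4, 34, true), (3, 35, true), (8, 16, true), (7, 17, true), (6, 18, true), (5, 19, true), (4, 20, true), (7, 11, true), (6, 12, true), (5, 13, true), (4, 14, true), (6, 7, true), (5, 8, true), (4, 9, true), (5, 29, true), (4, 30, true), (3, 34, true), (6, 22, true), (5, 23, true), (4, 27, true), (5, 46, true), (4, 47, true), (3, 52, true), (6, 37, true), (5, 38, true),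 (4, 43, true), (7, 29, true), (6, 30, true), (5, 35, true), (6, 22, true), (5, 23, true), (7, 11, true), (6, 12, true), (8, 4, true), (7, 5, true), (7, 2, true), (7, 3, true), (8, 6, true), (7, 8, true), (9, 55, true), (8, 57, true), (7, 58, true), (6, 59, true), (5, 61, true), (4, 63, true), (3, 64, true), (2, 65, true), (8, 45, true), (7, 47, true), (6, 48, true), (5, 49, true), (4, 51, true), (3, 53, true), (2, 54, true), (7, 36, true), (6, 38, true), (5, 39, true), (4, 40, true), (3, 42, true), (2, 44, true), (6, 21, true), (5, 23, true), (4, 24, true), (3, 25, true), (2, 27, true), (5, 6, true), (4, 8, true), (3, 9, true), (4, 0, true), (3, 80, true), (2, 82, true), (5, 57, true), (4, 60, true), (3, 63, true), (6, 17, true), (5, 20, true), (5, 12, true), (6, 8, true), (7, 5, true), (8, 66, true), (7, 67, true), (6, 69, true), (5, 70, true), (4, 74, true), (3, 76, true), (7, 45, true), (6, 48, true), (5, 52, true), (8, 36, true), (7, 39, true), (6, 43, true), (9, 28, true), (8, 31, true), (7, 35, true), (8, 10, true), (7, 13, true),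 (9, 3, true), (10, 1, true), (11, 36, true), (10, 37, true), (9, 38, true), (8, 39, true), (7, 40, true), (6, 44, true), (10, 28, true), (9, 29, true), (8, 30, true), (7, 31, true), (6, 32, true), (11, 0, true), (10, 56, true), (9, 57, true), (8, 58, true), (7, 59, true), (6, 62, true), (5, 64, true), (4, 65, true), (9, 16, true), (8, 17, true), (7, 18, true), (6, 19, true), (10, 11, true), (9, 12, true), (8, 13, true), (7, 14, true), (9, 7, true), (8, 8, true), (7, 9, true), (8, 4, true), (7, 5, true), (7, 2, true), (7, 0, true), (6, 60, true), (5, 62, true), (4, 64, true), (7, 41, true), (6, 43, true), (8, 33, true), (7, 35, true), (7, 26, true)]),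
    ([11, 12, 16], [(0, 89, true), (1, 147, true), (0, 148, true), (9, 105, true), (8, 107, true), (7, 111, true), (6, 112, true), (5, 113, true), (4, 115, true), (3, 116, true), (2, 117, true), (1, 118, true), (8, 68, true), (7, 70, true), (6, 71, true), (5, 72, true), (4, 74, true), (7, 21, true), (6, 24, true), (8, 45, true), (7, 48, true), (6, 51, true), (5, 52, true), (9, 10, true), (8, 13, true), (10, 1, true), (11, 45, true), (10, 46, true), (9, 48, true), (8, 49, true), (7, 51, true), (6, 52, true), (5, 54, true), (10, 36, true), (9, 37, true), (8, 39, true), (7, 40, true), (6, 42, true), (5, 43, true), (11, 28, true), (10, 29, true), (9, 31, true), (8, 32, true), (7, 34, true), (6, 35, true), (10, 10, true), (9, 11, true), (8, 13, true), (7, 14, true), (9, 3, true), (8, 4, true), (10, 1, true), (9, 2, true), (9, 15, true), (8, 17, true), (7, 18, true), (10, 10, true), (9, 12, true), (8, 13, true), (11, 6, true), (10, 8, true), (9, 9, true), (10, 0, true), (9, 30, true), (8, 32, true), (7, 33, true), (6, 34, true), (10, 57,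 true), (9, 59, true), (8, 60, true), (7, 61, true), (6, 62, true), (5, 63, true), (11, 57, true), (10, 59, true), (9, 60, true), (8, 61, true), (7, 62, true), (6, 63, true), (5, 65, true), (10, 47, true), (9, 49, true), (8, 50, true), (7, 51, true), (6, 52, true), (5, 53, true), (11, 30, true), (10, 32, true), (9, 33, true), (8, 34, true), (7, 35, true), (10, 17, true), (9, 19, true), (8, 20, true), (9, 8, true), (10, 5, true), (9, 31, true), (8, 32, true), (7, 34, true), (10, 24, true), (9, 25, true), (8, 27, true), (9, 58, true), (8, 59, true), (7, 62, true), (6, 63, true), (5, 64, true), (10, 39, true), (9, 40, true), (8, 43, true), (7, 44, true), (9, 13, true), (8, 14, true), (8, 9, true), (9, 0, true), (8, 92, true), (7, 98, true), (6, 100, true), (5, 101, true), (4, 102, true), (3, 103, true), (2, 104, true), (7, 78, true), (6, 80, true), (5, 82, true), (4, 83, true), (3, 86, true), (2, 88, true), (3, 65, true), (8, 45, true), (7, 48, true), (6, 51, true), (5, 52, true), (4, 53, true), (3, 54, true), (7, 36, true), (6, 39, true),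 (5, 42, true), (4, 43, true), (3, 44, true), (6, 28, true), (5, 31, true), (4, 34, true), (3, 35, true), (5, 21, true), (4, 24, true), (3, 27, true), (4, 15, true), (3, 18, true), (5, 3, true), (6, 1, true), (7, 36, true), (6, 37, true), (5, 38, true), (4, 39, true), (3, 41, true), (8, 15, true), (7, 16, true), (6, 17, true), (5, 18, true), (4, 20, true), (7, 3, true), (6, 4, true), (5, 5, true), (6, 55, true), (5, 56, true), (4, 58, true), (3, 63, true), (7, 15, true), (6, 16, true), (5, 18, true), (8, 10, true), (7, 11, true), (6, 13, true), (9, 6, true), (8, 7, true), (7, 9, true), (8, 3, true), (7, 4, true), (9, 1, true), (8, 2, true), (8, 0, true), (8, 28, true), (7, 30, true), (6, 32, true), (5, 33, true), (9, 66, true), (8, 68, true), (7, 70, true), (6, 71, true), (5, 73, true), (4, 74, true), (3, 76, true), (7, 28, true), (6, 31, true), (5, 35, true), (6, 45, true), (5, 48, true), (7, 10, true), (6, 13, true), (8, 1, true), (9, 45, true), (8, 46, true), (7, 48, true), (6, 49, true), (5, 54, true), (8, 36, true), (7, 37, true),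 (6, 39, true), (5, 40, true), (9, 28, true), (8, 29, true), (7, 31, true), (6, 32, true), (10, 10, true), (9, 11, true), (8, 13, true), (7, 14, true), (9, 3, true), (8, 4, true), (10, 1, true), (9, 2, true), (9, 15, true), (8, 17, true), (7, 18, true), (10, 10, true), (9, 12, true), (8, 13, true), (11, 6, true), (10, 8, true), (9, 9, true), (10, 0, true), (10, 36, true), (9, 38, true), (8, 40, true), (7, 41, true), (6, 43, true), (5, 44, true), (9, 21, true), (8, 23, true), (7, 25, true), (6, 26, true), (10, 15, true), (9, 17, true), (8, 19, true), (7, 20, true), (9, 10, true), (8, 12, true), (7, 14, true), (8, 3, true), (7, 5, true), (7, 55, true), (6, 61, true), (5, 62, true), (4, 65, true), (6, 55, true), (5, 61, true), (4, 62, true), (7, 28, true), (6, 34, true), (5, 35, true), (6, 21, true), (5, 27, true), (5, 15, true), (6, 10, true), (7, 6, true), (8, 3, true), (9, 1, true), (10, 28, true), (9, 29, true), (8, 30, true), (7, 31, true), (6, 32, true), (5, 33, true), (11, 55, true), (10, 56, true), (9, 57, true), (8, 58, true),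 (7, 59, true), (6, 60, true), (5, 62, true), (4, 65, true), (10, 45, true), (9, 46, true), (8, 47, true), (7, 48, true), (6, 49, true), (5, 50, true), (4, 52, true), (11, 36, true), (10, 37, true), (9, 38, true), (8, 39, true), (7, 40, true), (6, 41, true), (5, 43, true), (12, 21, true), (11, 22, true), (10, 23, true), (9, 24, true), (8, 25, true), (7, 26, true), (13, 6, true), (12, 7, true), (11, 8, true), (10, 9, true), (12, 78, true), (11, 79, true), (10, 80, true), (9, 82, true), (8, 83, true), (7, 84, true), (6, 85, true), (5, 86, true), (4, 87, true), (3, 89, true), (2, 90, true), (2, 76, true), (7, 55, true), (6, 58, true), (5, 61, true), (4, 62, true), (3, 65, true), (6, 45, true), (5, 48, true), (4, 51, true), (3, 52, true), (7, 36, true), (6, 39, true), (5, 42, true), (4, 43, true), (8, 28, true), (7, 31, true), (6, 34, true), (5, 35, true), (7, 21, true), (6, 24, true), (5, 27, true), (6, 6, true), (5, 9, true), (5, 0, true), (6, 51, true), (5, 52, true), (4, 53, true), (3, 54, true), (5, 42, true), (4, 43, true), (3, 44,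 true), (4, 34, true), (3, 35, true), (3, 27, true), (5, 37, true), (4, 38, true), (3, 41, true), (6, 16, true), (5, 17, true), (4, 20, true), (5, 4, true), (4, 5, true), (4, 56, true), (3, 63, true), (5, 16, true), (6, 11, true), (7, 7, true), (8, 4, true), (9, 2, true), (9, 15, true), (8, 17, true), (7, 18, true), (6, 19, true), (5, 20, true), (8, 10, true), (7, 12, true), (6, 13, true), (5, 14, true), (7, 6, true), (6, 8, true), (5, 9, true), (6, 0, true), (6, 55, true), (5, 57, true), (4, 63, true), (3, 65, true), (5, 45, true), (4, 47, true), (3, 53, true), (6, 15, true), (5, 17, true), (7, 1, true), (8, 0, true)], [(1, 148, true), (0, 147, true), (8, 91, true), (7, 92, true), (6, 96, true), (5, 100, true), (4, 101, true), (3, 103, true), (2, 104, true), (7, 78, true), (6, 80, true), (5, 82, true), (4, 83, true), (3, 86, true), (2, 88, true), (3, 65, true), (8, 45, true), (7, 48, true), (6, 51, true), (5, 52, true), (4, 53, true), (3, 54, true), (7, 36, true), (6, 39, true), (5, 42, true), (4, 43, true), (3, 44, true), (6, 28, true),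 (5, 31, true), (4, 34, true), (3, 35, true), (5, 21, true), (4, 24, true), (3, 27, true), (4, 15, true), (3, 18, true), (5, 3, true), (6, 1, true), (7, 36, true), (6, 37, true), (5, 38, true), (4, 39, true), (3, 41, true), (8, 15, true), (7, 16, true), (6, 17, true), (5, 18, true), (4, 20, true), (7, 3, true), (6, 4, true), (5, 5, true), (6, 55, true), (5, 56, true), (4, 58, true), (3, 63, true), (7, 15, true), (6, 16, true), (5, 18, true), (8, 10, true), (7, 11, true), (6, 13, true), (9, 6, true), (8, 7, true), (7, 9, true), (8, 3, true), (7, 4, true), (9, 1, true), (8, 2, true), (8, 0, true), (8, 28, true), (7, 30, true), (6, 32, true), (5, 33, true), (9, 55, true), (8, 57, true), (7, 59, true), (6, 60, true), (5, 62, true), (4, 63, true), (3, 65, true), (8, 55, true), (7, 57, true), (6, 59, true), (5, 60, true), (4, 62, true), (3, 63, true), (9, 28, true), (8, 30, true), (7, 32, true), (6, 33, true), (5, 35, true), (8, 21, true), (7, 23, true), (6, 25, true), (5, 26, true), (9, 15, true), (8, 17, true), (7, 19, true), (6, 20, true),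 (8, 10, true), (7, 12, true), (6, 14, true), (7, 6, true), (6, 8, true), (8, 3, true), (7, 5, true), (7, 1, true), (8, 45, true), (7, 46, true), (6, 48, true), (5, 51, true), (4, 53, true), (9, 21, true), (8, 22, true), (7, 24, true), (6, 27, true), (8, 10, true), (7, 11, true), (6, 13, true), (9, 1, true), (8, 2, true), (8, 0, true), (7, 58, true), (6, 59, true), (5, 63, true), (4, 64, true), (3, 65, true), (6, 48, true), (5, 49, true), (4, 53, true), (3, 54, true), (5, 39, true), (4, 40, true), (3, 44, true), (4, 24, true), (3, 25, true), (5, 9, true), (5, 78, true), (4, 82, true), (3, 84, true), (2, 90, true), (3, 42, true), (7, 66, true), (6, 68, true), (5, 71, true), (4, 72, true), (3, 74, true), (2, 76, true), (6, 21, true), (5, 24, true), (7, 45, true), (6, 48, true), (5, 51, true), (4, 52, true), (8, 10, true), (7, 13, true), (9, 1, true), (10, 15, true), (9, 16, true), (8, 18, true), (7, 19, true), (11, 10, true), (10, 11, true), (9, 13, true), (8, 14, true), (10, 6, true), (9, 7, true), (8, 9, true), (9, 0, true), (9, 55,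 true), (8, 56, true), (7, 60, true), (6, 61, true), (5, 62, true), (4, 64, true), (3, 65, true), (8, 36, true), (7, 37, true), (6, 41, true), (5, 42, true), (4, 43, true), (9, 28, true), (8, 29, true), (7, 33, true), (6, 34, true), (5, 35, true), (8, 21, true), (7, 22, true), (6, 26, true), (5, 27, true), (7, 3, true), (6, 4, true), (8, 0, true)]),
    ([11, 15, 16], [(0, 131, true), (2, 136, true), (1, 149, true), (0, 151, true), (10, 0, true)], [(1, 151, true), (0, 147, true), (8, 120, true), (7, 121, true), (6, 125, true), (5, 129, true), (4, 130, true), (3, 132, true), (2, 133, true), (1, 134, true), (4, 105, true), (3, 116, true), (2, 117, true), (8, 68, true), (7, 70, true), (6, 71, true), (5, 72, true), (4, 74, true), (7, 21, true), (6, 24, true), (8, 45, true), (7, 48, true), (6, 51, true), (5, 52, true), (9, 10, true), (8, 13, true), (10, 1, true), (11, 45, true), (10, 46, true), (9, 48, true), (8, 49, true), (7, 51, true), (6, 52, true), (5, 54, true), (10, 36, true), (9, 37, true), (8, 39, true), (7, 40, true), (6, 42, true),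 (5, 43, true), (11, 28, true), (10, 29, true), (9, 31, true), (8, 32, true), (7, 34, true), (6, 35, true), (10, 10, true), (9, 11, true), (8, 13, true), (7, 14, true), (9, 3, true), (8, 4, true), (10, 1, true), (9, 2, true), (9, 15, true), (8, 17, true), (7, 18, true), (10, 10, true), (9, 12, true), (8, 13, true), (11, 6, true), (10, 8, true), (9, 9, true), (10, 0, true), (9, 30, true), (8, 32, true), (7, 33, true), (6, 34, true), (11, 55, true), (10, 57, true), (9, 59, true), (8, 60, true), (7, 61, true), (6, 62, true), (5, 63, true), (12, 36, true), (11, 38, true), (10, 40, true), (9, 41, true), (8, 42, true), (7, 43, true), (6, 44, true), (11, 15, true), (10, 17, true), (9, 19, true), (8, 20, true), (10, 10, true), (9, 12, true), (8, 14, true), (9, 3, true), (8, 5, true), (8, 0, true), (7, 34, true), (6, 35, true), (6, 27, true), (7, 21, true), (6, 22, true), (8, 15, true), (7, 16, true), (9, 0, true), (8, 46, true), (7, 50, true), (6, 51, true), (9, 29, true), (8, 33, true), (7, 34, true), (10, 22, true), (9, 26, true), (8, 27,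 true), (10, 0, true)]),
    ([12, 15, 16], [(0, 132, true), (1, 150, true), (0, 151, true)], [(1, 151, true), (0, 148, true), (9, 120, true), (8, 122, true), (7, 126, true), (6, 127, true), (5, 128, true), (4, 130, true), (3, 131, true), (2, 132, true), (1, 133, true), (3, 105, true), (2, 116, true), (5, 91, true), (4, 98, true), (3, 102, true), (9, 30, true), (8, 32, true), (7, 33, true), (6, 34, true), (11, 0, true), (10, 57, true), (9, 59, true), (8, 60, true), (7, 61, true), (6, 62, true), (5, 63, true), (11, 38, true), (10, 40, true), (9, 41, true), (8, 42, true), (7, 43, true), (6, 44, true), (10, 17, true), (9, 19, true), (8, 20, true), (9, 12, true), (8, 14, true), (8, 5, true), (8, 36, true), (7, 42, true), (6, 43, true), (9, 21, true), (8, 27, true), (8, 10, true), (9, 0, true), (8, 32, true), (7, 35, true), (7, 25, true), (8, 14, true)]),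
    ([17, 17, 17], [(0, 170, true), (0, 159, true)], [(1, 170, true)]),
    ([1, 17, 17], [(0, 154, true), (1, 155, true), (0, 170, true)], [(1, 170, true), (0, 22, true)]),
    ([1, 3, 17], [(0, 7, true), (1, 154, true), (0, 156, true)], [(1, 156, true), (0, 154, true), (1, 8, true)]),
    ([4, 17, 17], [(0, 157, true), (1, 158, true), (0, 170, true)], [(1, 170, true), (0, 25, true)]),
    ([8, 17, 17], [(0, 161, true), (1, 162, true), (0, 170, true), (0, 42, true)], [(1, 170, true)]),
    ([11, 11, 17], [(0, 77, true), (0, 163, true)], [(1, 164, true), (0, 164, true), (1, 90, true)]),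
    ([11, 17, 17], [(0, 164, true), (1, 165, true), (0, 170, true), (0, 72, true)], [(1, 170, true)]),
    ([1, 11, 17], [(0, 67, true), (7, 153, true), (6, 154, true), (5, 155, true), (4, 156, true), (3, 157, true), (2, 158, true), (1, 163, true), (0, 164, true), (3, 19, true), (6, 4, true)], [(1, 164, true), (0, 154, true), (1, 80, true)]),
    ([2, 11, 17], [(0, 68, true), (4, 153, true), (3, 156, true), (2, 157, true), (1, 158, true), (0, 164, true), (2, 19, true)], [(1, 164, true), (0, 155, true), (1, 79, true)]),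
    ([3, 11, 17], [(0, 69, true), (3, 153, true), (2, 160, true), (1, 161, true), (0, 164, true)], [(1, 164, true), (0, 156, true), (1, 81, true)]),
    ([4, 11, 17], [(0, 70, true), (6, 154, true), (5, 155, true), (4, 157, true), (3, 160, true), (2, 161, true), (1, 162, true), (0, 164, true), (2, 53, true), (7, 4, true)], [(1, 164, true), (0, 157, true), (1, 83, true)]),
    ([13, 13, 17], [(0, 104, true), (5, 153, true), (4, 155, true), (3, 157, true), (2, 158, true), (1, 161, true), (0, 163, true), (3, 19, true)], [(1, 166, true), (0, 166, true), (8, 93, true), (7, 97, true), (6, 98, true), (5, 99, true), (4, 101, true), (3, 102, true), (2, 103, true), (1, 104, true), (6, 78, true), (5, 80, true), (4, 82, true), (3, 83, true), (2, 86, true), (1, 88, true), (2, 65, true), (7, 45, true), (6, 48, true), (5, 51, true), (4, 52, true), (3, 53, true), (2, 54, true), (6, 36, true), (5, 39, true), (4, 42, true), (3, 43, true), (2, 44, true), (5, 28, true), (4, 31, true), (3, 34, true), (2, 35, true), (4, 21, true), (3, 24, true), (2, 27,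 true), (3, 15, true), (2, 18, true), (4, 3, true), (5, 1, true), (6, 36, true), (5, 37, true), (4, 38, true), (3, 39, true), (2, 41, true), (7, 15, true), (6, 16, true), (5, 17, true), (4, 18, true), (3, 20, true), (6, 3, true), (5, 4, true), (4, 5, true), (5, 55, true), (4, 56, true), (3, 58, true), (2, 63, true), (6, 15, true), (5, 16, true), (4, 18, true), (7, 10, true), (6, 11, true), (5, 13, true), (8, 6, true), (7, 7, true), (6, 9, true), (7, 3, true), (6, 4, true), (8, 1, true), (7, 2, true), (7, 0, true), (7, 28, true), (6, 30, true), (5, 32, true), (4, 33, true), (8, 66, true), (7, 68, true), (6, 70, true), (5, 71, true), (4, 73, true), (3, 74, true), (2, 76, true), (6, 28, true), (5, 31, true), (4, 35, true), (5, 45, true), (4, 48, true), (6, 10, true), (5, 13, true), (7, 1, true), (8, 45, true), (7, 46, true), (6, 48, true), (5, 49, true), (4, 54, true), (7, 36, true), (6, 37, true), (5, 39, true), (4, 40, true), (8, 28, true), (7, 29, true), (6, 31, true), (5, 32, true), (9, 10, true), (8, 11, true), (7, 13, true), (6, 14,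 true), (8, 3, true), (7, 4, true), (9, 1, true), (8, 2, true), (8, 15, true), (7, 17, true), (6, 18, true), (9, 10, true), (8, 12, true), (7, 13, true), (10, 6, true), (9, 8, true), (8, 9, true), (9, 0, true), (9, 36, true), (8, 38, true), (7, 40, true), (6, 41, true), (5, 43, true), (4, 44, true), (8, 21, true), (7, 23, true), (6, 25, true), (5, 26, true), (9, 15, true), (8, 17, true), (7, 19, true), (6, 20, true), (8, 10, true), (7, 12, true), (6, 14, true), (7, 3, true), (6, 5, true), (6, 55, true), (5, 61, true), (4, 62, true), (3, 65, true), (5, 28, true), (4, 34, true), (3, 35, true), (4, 15, true), (5, 10, true), (6, 6, true), (7, 28, true), (6, 31, true), (5, 32, true), (4, 33, true), (3, 34, true), (8, 21, true), (7, 24, true), (6, 25, true), (5, 26, true), (4, 27, true), (7, 6, true), (6, 9, true), (6, 78, true), (5, 82, true), (4, 83, true), (3, 85, true), (2, 89, true), (1, 90, true), (1, 76, true), (3, 52, true), (4, 43, true), (5, 35, true), (8, 37, true), (7, 38, true), (6, 41, true), (5, 42, true), (4, 44, true), (7,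 16, true), (6, 17, true), (5, 20, true), (6, 4, true), (5, 5, true), (6, 66, true), (5, 67, true), (4, 72, true), (3, 75, true), (2, 76, true), (1, 77, true), (1, 65, true), (6, 21, true), (5, 24, true), (7, 55, true), (6, 58, true), (5, 61, true), (4, 62, true), (3, 63, true), (2, 64, true), (1, 65, true), (6, 15, true), (5, 18, true), (7, 10, true), (6, 13, true), (8, 6, true), (7, 9, true), (7, 3, true), (8, 1, true), (9, 0, true), (9, 55, true), (8, 56, true), (7, 57, true), (6, 59, true), (5, 60, true), (4, 61, true), (3, 62, true), (2, 63, true), (1, 64, true), (10, 36, true), (9, 37, true), (8, 38, true), (7, 40, true), (6, 41, true), (5, 42, true), (4, 43, true), (3, 44, true), (9, 28, true), (8, 29, true), (7, 30, true), (6, 32, true), (5, 33, true), (4, 34, true), (3, 35, true), (8, 21, true), (7, 22, true), (6, 23, true), (5, 25, true), (4, 26, true), (3, 27, true), (7, 3, true), (6, 4, true), (5, 5, true)]),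
    ([14, 17, 17], [(0, 167, true), (8, 153, true), (7, 154, true), (6, 158, true), (5, 162, true), (4, 163, true), (3, 165, true), (2, 166, true), (1, 167, true), (0, 170, true), (0, 111, true), (1, 97, true), (2, 84, true), (3, 61, true), (4, 51, true), (8, 91, true), (7, 92, true), (6, 96, true), (5, 97, true), (4, 100, true), (3, 101, true), (2, 103, true), (1, 104, true), (6, 78, true), (5, 80, true), (4, 82, true), (3, 83, true), (2, 86, true), (1, 88, true), (2, 65, true), (7, 45, true), (6, 48, true), (5, 51, true), (4, 52, true), (3, 53, true), (2, 54, true), (6, 36, true), (5, 39, true), (4, 42, true), (3, 43, true), (2, 44, true), (5, 28, true), (4, 31, true), (3, 34, true), (2, 35, true), (4, 21, true), (3, 24, true), (2, 27, true), (3, 15, true), (2, 18, true), (4, 3, true), (5, 1, true), (6, 36, true), (5, 37, true), (4, 38, true), (3, 39, true), (2, 41, true), (7, 15, true), (6, 16, true), (5, 17, true), (4, 18, true), (3, 20, true), (6, 3, true), (5, 4, true), (4, 5, true), (5, 55, true), (4, 56, true), (3, 58, true),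 (2, 63, true), (6, 15, true), (5, 16, true), (4, 18, true), (7, 10, true), (6, 11, true), (5, 13, true), (8, 6, true), (7, 7, true), (6, 9, true), (7, 3, true), (6, 4, true), (8, 1, true), (7, 2, true), (7, 0, true), (7, 28, true), (6, 30, true), (5, 32, true), (4, 33, true), (8, 55, true), (7, 57, true), (6, 59, true), (5, 60, true), (4, 62, true), (3, 63, true), (2, 65, true), (7, 55, true), (6, 57, true), (5, 59, true), (4, 60, true), (3, 62, true), (2, 63, true), (8, 28, true), (7, 30, true), (6, 32, true), (5, 33, true), (4, 35, true), (7, 21, true), (6, 23, true), (5, 25, true), (4, 26, true), (8, 15, true), (7, 17, true), (6, 19, true), (5, 20, true), (7, 10, true), (6, 12, true), (5, 14, true), (6, 6, true), (5, 8, true), (7, 3, true), (6, 5, true), (6, 1, true), (7, 21, true), (6, 22, true), (5, 24, true), (4, 27, true), (6, 45, true), (5, 46, true), (4, 48, true), (3, 53, true), (7, 21, true), (6, 22, true), (5, 24, true), (8, 10, true), (7, 11, true), (6, 13, true), (9, 1, true), (8, 2, true), (8, 0, true), (7, 58, true),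 (6, 59, true), (5, 61, true), (4, 63, true), (3, 64, true), (2, 65, true), (6, 48, true), (5, 49, true), (4, 51, true), (3, 53, true), (2, 54, true), (5, 39, true), (4, 40, true), (3, 42, true), (2, 44, true), (4, 24, true), (3, 25, true), (2, 27, true), (3, 9, true), (3, 78, true), (2, 82, true), (1, 90, true), (5, 66, true), (4, 68, true), (3, 71, true), (2, 74, true), (1, 76, true), (5, 45, true), (4, 48, true), (3, 52, true), (6, 10, true), (5, 13, true), (7, 1, true), (8, 15, true), (7, 16, true), (6, 18, true), (5, 19, true), (9, 10, true), (8, 11, true), (7, 13, true), (6, 14, true), (8, 6, true), (7, 7, true), (6, 9, true), (7, 0, true), (7, 55, true), (6, 56, true), (5, 60, true), (4, 62, true), (3, 64, true), (2, 65, true), (6, 36, true), (5, 37, true), (4, 41, true), (3, 43, true), (7, 28, true), (6, 29, true), (5, 33, true), (4, 35, true), (6, 21, true), (5, 22, true), (4, 26, true), (7, 3, true), (6, 4, true), (8, 66, true), (7, 67, true), (6, 68, true), (5, 71, true), (4, 72, true), (3, 74, true), (2, 75, true), (1, 77,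 true), (1, 65, true), (5, 28, true), (4, 31, true), (3, 35, true), (4, 6, true), (3, 9, true), (3, 0, true), (3, 51, true), (2, 53, true), (1, 54, true), (4, 16, true), (3, 19, true), (5, 11, true), (4, 14, true), (4, 7, true), (6, 55, true), (5, 56, true), (4, 58, true), (3, 60, true), (2, 61, true), (1, 63, true), (7, 15, true), (6, 16, true), (5, 18, true), (4, 20, true), (6, 10, true), (5, 11, true), (4, 13, true), (7, 6, true), (6, 7, true), (5, 9, true), (6, 3, true), (5, 4, true), (7, 1, true), (6, 2, true), (6, 0, true), (6, 55, true), (5, 57, true), (4, 59, true), (3, 61, true), (2, 63, true), (1, 65, true), (5, 36, true), (4, 38, true), (3, 40, true), (2, 42, true), (1, 44, true), (4, 10, true), (3, 12, true), (2, 14, true), (3, 3, true), (2, 5, true), (2, 0, true)], [(1, 170, true)]),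
    ([1, 14, 17], [(0, 106, true), (8, 153, true), (7, 154, true), (6, 155, true), (5, 156, true), (4, 158, true), (3, 160, true), (2, 161, true), (1, 162, true), (0, 167, true), (8, 36, true), (7, 37, true), (6, 41, true), (9, 45, true), (8, 46, true), (7, 50, true), (6, 53, true), (5, 54, true), (8, 28, true), (7, 29, true), (6, 33, true), (9, 21, true), (8, 22, true), (7, 26, true), (10, 10, true), (9, 11, true), (11, 6, true), (10, 7, true), (12, 1, true), (11, 2, true), (11, 3, true), (12, 0, true)], [(1, 167, true), (0, 154, true), (1, 107, true), (7, 91, true), (6, 92, true), (5, 94, true), (4, 95, true), (3, 99, true), (2, 101, true), (7, 48, true), (6, 49, true), (5, 50, true), (4, 52, true), (8, 39, true), (7, 40, true), (6, 41, true), (5, 43, true), (9, 31, true), (8, 32, true), (7, 33, true), (6, 35, true), (8, 24, true), (7, 25, true), (6, 26, true), (9, 13, true), (8, 14, true), (11, 3, true), (10, 4, true), (9, 5, true), (10, 55, true), (9, 56, true), (8, 58, true), (7, 60, true), (6, 61, true), (5, 63, true), (4, 64,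 true), (3, 65, true), (9, 45, true), (8, 46, true), (7, 48, true), (6, 50, true), (5, 51, true), (4, 53, true), (3, 54, true), (8, 36, true), (7, 37, true), (6, 39, true), (5, 41, true), (4, 42, true), (3, 44, true), (7, 21, true), (6, 22, true), (5, 24, true), (4, 26, true), (3, 27, true), (6, 6, true), (5, 7, true), (4, 9, true), (5, 0, true), (4, 79, true), (3, 83, true), (10, 16, true), (9, 17, true), (8, 20, true), (9, 11, true), (8, 12, true), (10, 7, true), (9, 8, true), (12, 55, true), (11, 56, true), (10, 57, true), (9, 58, true), (8, 59, true), (7, 61, true), (6, 62, true), (5, 63, true), (4, 64, true), (13, 45, true), (12, 46, true), (11, 47, true), (10, 48, true), (9, 49, true), (8, 51, true), (7, 52, true), (6, 53, true), (5, 54, true), (12, 15, true), (11, 16, true), (10, 17, true), (9, 18, true), (8, 19, true), (13, 1, true), (12, 2, true), (12, 0, true)]),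
    ([15, 15, 17], [(0, 135, true), (1, 153, true), (0, 159, true)], [(1, 168, true), (0, 168, true), (1, 152, true)]),
    ([15, 17, 17], [(0, 168, true), (1, 169, true), (0, 170, true), (0, 126, true)], [(1, 170, true)]),
    ([1, 15, 17], [(0, 121, true), (4, 153, true), (3, 159, true), (2, 160, true), (1, 162, true), (0, 168, true), (4, 27, true)], [(1, 168, true), (0, 154, true), (1, 138, true)]),
    ([11, 15, 17], [(0, 131, true), (2, 153, true), (1, 166, true), (0, 168, true)], [(1, 168, true), (0, 164, true), (1, 148, true)]),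
    ([12, 15, 17], [(0, 132, true), (1, 167, true), (0, 168, true)], [(1, 168, true), (0, 165, true), (1, 147, true)]),
    ([18, 12, 11, 10, 8, 5, 4, 1, 12, 11, 10, 8, 5, 4, 1], [(0, 173, true), (7, 173, true), (6, 105, true), (5, 106, true), (4, 108, true), (3, 112, true), (2, 113, true), (1, 114, true), (0, 119, true), (5, 45, true), (4, 47, true), (3, 49, true), (2, 50, true), (1, 53, true), (6, 36, true), (5, 38, true), (4, 40, true), (3, 41, true), (2, 44, true), (5, 10, true), (4, 12, true), (3, 14, true), (4, 6, true), (3, 8, true), (5, 3, true), (4, 5, true), (4, 1, true), (5, 55, true), (4, 56, true), (3, 58, true), (2, 60, true), (1, 64, true), (0, 65, true), (4, 45, true), (3, 46, true), (2, 48, true), (1, 50, true), (0, 54, true), (3, 28, true), (2, 29, true), (1, 31, true), (0, 33, true), (4, 15, true), (3, 16, true), (2, 18, true), (1, 20, true), (3, 6, true), (2, 7, true), (1, 9, true), (2, 3, true), (1, 4, true), (3, 28, true), (2, 29, true), (1, 30, true), (0, 35, true), (2, 15, true), (1, 16, true), (0, 17, true),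 (3, 1, true), (2, 2, true), (2, 45, true), (1, 47, true), (0, 50, true), (3, 36, true), (2, 38, true), (1, 41, true), (4, 28, true), (3, 30, true), (2, 33, true), (5, 15, true), (4, 17, true), (3, 20, true), (4, 6, true), (3, 8, true), (5, 3, true), (4, 5, true), (4, 1, true), (5, 0, true), (5, 45, true), (4, 46, true), (3, 48, true), (2, 52, true), (1, 53, true), (0, 54, true), (4, 36, true), (3, 37, true), (2, 39, true), (1, 43, true), (0, 44, true), (3, 28, true), (2, 29, true), (1, 31, true), (0, 35, true), (2, 6, true), (1, 7, true), (0, 9, true), (1, 1, true), (0, 2, true), (0, 0, true)], [(7, 79, true), (6, 82, true), (5, 83, true), (4, 86, true), (3, 88, true), (2, 89, true), (1, 90, true), (1, 76, true), (2, 65, true), (8, 45, true), (7, 48, true), (6, 51, true), (5, 52, true), (4, 53, true), (3, 54, true), (7, 36, true), (6, 39, true), (5, 42, true), (4, 43, true), (3, 44, true), (6, 28, true), (5, 31, true), (4, 34, true), (3, 35, true), (5, 21, true), (4, 24, true), (3, 27, true), (4, 15, true), (3, 18, true), (5, 3, true),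 (6, 1, true), (7, 36, true), (6, 37, true), (5, 38, true), (4, 39, true), (3, 41, true), (8, 15, true), (7, 16, true), (6, 17, true), (5, 18, true), (4, 20, true), (7, 3, true), (6, 4, true), (5, 5, true), (6, 15, true), (5, 16, true), (4, 18, true), (7, 10, true), (6, 11, true), (5, 13, true), (8, 6, true), (7, 7, true), (6, 9, true), (7, 0, true), (6, 67, true), (5, 70, true), (4, 71, true), (3, 74, true), (2, 76, true), (1, 77, true), (1, 65, true), (3, 45, true), (2, 48, true), (1, 52, true), (4, 10, true), (3, 13, true), (5, 1, true), (6, 45, true), (5, 46, true), (4, 48, true), (3, 49, true), (2, 52, true), (1, 54, true), (5, 36, true), (4, 37, true), (3, 39, true), (2, 40, true), (1, 43, true), (6, 28, true), (5, 29, true), (4, 31, true), (3, 32, true), (2, 35, true), (5, 10, true), (4, 11, true), (3, 13, true), (2, 14, true), (4, 3, true), (3, 4, true), (5, 1, true), (4, 2, true), (4, 55, true), (3, 57, true), (2, 58, true), (1, 63, true), (5, 15, true), (4, 17, true), (3, 18, true), (6, 10, true), (5, 12, true), (4, 13, true),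 (7, 6, true), (6, 8, true), (5, 9, true), (6, 3, true), (5, 5, true), (5, 1, true), (6, 0, true), (5, 56, true), (4, 59, true), (3, 60, true), (2, 63, true), (1, 65, true), (4, 37, true), (3, 40, true), (2, 41, true), (1, 44, true), (3, 16, true), (2, 19, true), (1, 20, true), (2, 11, true), (1, 14, true), (1, 2, true)]),
    ([19, 5, 5], [(0, 177, true), (6, 177, true), (5, 136, true), (4, 147, true), (3, 148, true), (2, 149, true), (1, 150, true), (0, 152, true), (1, 105, true), (0, 111, true), (2, 91, true), (1, 97, true), (3, 66, true), (2, 72, true), (4, 55, true), (3, 61, true), (5, 36, true), (4, 42, true), (6, 21, true), (5, 27, true), (5, 3, true), (6, 0, true), (5, 107, true), (4, 113, true), (3, 115, true), (2, 116, true), (1, 118, true), (0, 119, true), (5, 91, true), (4, 93, true), (3, 95, true), (2, 96, true), (1, 99, true), (0, 101, true), (5, 48, true), (4, 49, true), (3, 50, true), (2, 52, true), (6, 24, true), (5, 25, true), (4, 26, true), (7, 13, true), (6, 14, true), (8, 45, true), (7, 46, true), (6, 48, true), (5,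 50, true), (4, 51, true), (3, 52, true), (2, 54, true), (7, 36, true), (6, 37, true), (5, 39, true), (4, 41, true), (3, 42, true), (2, 43, true), (8, 28, true), (7, 29, true), (6, 31, true), (5, 33, true), (4, 34, true), (3, 35, true), (7, 21, true), (6, 22, true), (5, 24, true), (4, 26, true), (3, 27, true), (6, 10, true), (5, 11, true), (4, 13, true), (7, 3, true), (6, 4, true), (8, 1, true), (7, 2, true), (7, 0, true), (6, 8, true), (5, 9, true), (6, 66, true), (5, 68, true), (4, 70, true), (3, 71, true), (2, 74, true), (1, 76, true), (5, 45, true), (4, 48, true), (3, 52, true), (6, 10, true), (5, 13, true), (7, 1, true), (8, 45, true), (7, 46, true), (6, 48, true), (5, 49, true), (4, 52, true), (3, 54, true), (7, 36, true), (6, 37, true), (5, 39, true), (4, 40, true), (3, 43, true), (8, 28, true), (7, 29, true), (6, 31, true), (5, 32, true), (4, 35, true), (7, 10, true), (6, 11, true), (5, 13, true), (4, 14, true), (6, 3, true), (5, 4, true), (7, 1, true), (6, 2, true), (6, 15, true), (5, 17, true), (4, 18, true), (7, 10, true),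 (6, 12, true), (5, 13, true), (8, 6, true), (7, 8, true), (6, 9, true), (7, 0, true), (7, 28, true), (6, 30, true), (5, 32, true), (4, 33, true), (8, 55, true), (7, 57, true), (6, 59, true), (5, 60, true), (4, 62, true), (3, 63, true), (2, 65, true), (7, 55, true), (6, 57, true), (5, 59, true), (4, 60, true), (3, 62, true), (2, 63, true), (8, 45, true), (7, 47, true), (6, 49, true), (5, 50, true), (4, 52, true), (3, 53, true), (9, 28, true), (8, 30, true), (7, 32, true), (6, 33, true), (5, 35, true), (8, 15, true), (7, 17, true), (6, 19, true), (5, 20, true), (7, 6, true), (6, 8, true), (8, 3, true), (7, 5, true), (7, 55, true), (6, 58, true), (5, 59, true), (4, 63, true), (3, 64, true), (2, 65, true), (6, 36, true), (5, 39, true), (4, 40, true), (3, 44, true), (5, 10, true), (4, 13, true), (3, 14, true), (4, 6, true), (3, 9, true), (3, 1, true), (4, 0, true), (3, 79, true), (2, 87, true), (1, 89, true), (6, 15, true), (5, 18, true), (7, 10, true), (6, 13, true), (8, 6, true), (7, 9, true), (7, 0, true), (6, 70, true), (5, 71, true),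 (4, 72, true), (3, 73, true), (2, 77, true), (4, 51, true), (3, 52, true), (7, 46, true), (6, 49, true), (5, 51, true), (4, 52, true), (3, 54, true), (6, 37, true), (5, 40, true), (4, 42, true), (3, 43, true), (7, 29, true), (6, 32, true), (5, 34, true), (4, 35, true), (6, 11, true), (5, 14, true), (5, 4, true), (6, 2, true), (5, 57, true), (4, 61, true), (3, 63, true), (2, 65, true), (4, 47, true), (3, 51, true), (2, 53, true), (5, 30, true), (4, 34, true), (6, 17, true), (9, 91, true), (8, 92, true), (7, 93, true), (6, 96, true), (5, 97, true), (4, 98, true), (3, 99, true), (2, 100, true), (1, 103, true), (0, 104, true), (5, 78, true), (4, 80, true), (3, 82, true), (2, 83, true), (1, 86, true), (0, 88, true), (1, 65, true), (6, 45, true), (5, 48, true), (4, 51, true), (3, 52, true), (2, 53, true), (1, 54, true), (5, 36, true), (4, 39, true), (3, 42, true), (2, 43, true), (1, 44, true), (4, 28, true), (3, 31, true), (2, 34, true), (1, 35, true), (3, 21, true), (2, 24, true), (1, 27, true), (2, 15, true), (1, 18, true), (3, 3, true),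 (4, 1, true), (5, 36, true), (4, 37, true), (3, 38, true), (2, 39, true), (1, 41, true), (6, 15, true), (5, 16, true), (4, 17, true), (3, 18, true), (2, 20, true), (5, 3, true), (4, 4, true), (3, 5, true), (4, 55, true), (3, 56, true), (2, 58, true), (1, 63, true), (5, 15, true), (4, 16, true), (3, 18, true), (6, 10, true), (5, 11, true), (4, 13, true), (7, 6, true), (6, 7, true), (5, 9, true), (6, 3, true), (5, 4, true), (7, 1, true), (6, 2, true), (6, 0, true), (6, 28, true), (5, 30, true), (4, 32, true), (3, 33, true), (7, 55, true), (6, 57, true), (5, 59, true), (4, 60, true), (3, 62, true), (2, 63, true), (1, 65, true), (6, 28, true), (5, 30, true), (4, 32, true), (3, 33, true), (2, 35, true), (5, 21, true), (4, 23, true), (3, 25, true), (2, 26, true), (6, 15, true), (5, 17, true), (4, 19, true), (3, 20, true), (5, 10, true), (4, 12, true), (3, 14, true), (4, 6, true), (3, 8, true), (5, 3, true), (4, 5, true), (4, 1, true), (5, 28, true), (4, 29, true), (3, 31, true), (2, 34, true), (6, 15, true), (5, 16, true), (4, 18, true),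 (7, 10, true), (6, 11, true), (5, 13, true), (8, 6, true), (7, 7, true), (6, 9, true), (7, 28, true), (6, 29, true), (5, 32, true), (4, 33, true), (3, 34, true), (2, 35, true), (6, 21, true), (5, 22, true), (4, 25, true), (3, 26, true), (2, 27, true), (5, 45, true), (4, 46, true), (3, 49, true), (2, 50, true), (1, 53, true), (6, 21, true), (5, 22, true), (4, 25, true), (3, 26, true), (7, 10, true), (6, 11, true), (5, 14, true), (6, 1, true), (5, 2, true), (5, 0, true), (5, 58, true), (4, 60, true), (3, 61, true), (2, 63, true), (1, 64, true), (6, 48, true), (5, 50, true), (4, 51, true), (3, 53, true), (2, 54, true), (5, 39, true), (4, 41, true), (3, 42, true), (2, 44, true), (4, 24, true), (3, 26, true), (2, 27, true), (3, 9, true), (3, 78, true), (2, 83, true), (1, 88, true), (0, 90, true), (0, 65, true), (7, 66, true), (6, 67, true), (5, 68, true), (4, 71, true), (3, 72, true), (2, 73, true), (1, 74, true), (0, 75, true), (6, 28, true), (5, 31, true), (4, 35, true), (5, 6, true), (4, 9, true), (4, 0, true), (5, 51, true), (4, 52,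 true), (3, 53, true), (2, 54, true), (6, 16, true), (5, 19, true), (7, 11, true), (6, 14, true), (6, 7, true), (8, 55, true), (7, 56, true), (6, 58, true), (5, 60, true), (4, 61, true), (3, 62, true), (2, 63, true), (1, 65, true), (7, 15, true), (6, 16, true), (5, 18, true), (4, 20, true), (6, 10, true), (5, 11, true), (4, 13, true), (7, 6, true), (6, 7, true), (5, 9, true), (6, 3, true), (5, 4, true), (7, 1, true), (6, 2, true), (6, 0, true), (6, 55, true), (5, 57, true), (4, 59, true), (3, 61, true), (2, 62, true), (1, 63, true), (7, 36, true), (6, 38, true), (5, 40, true), (4, 42, true), (3, 43, true), (2, 44, true), (6, 28, true), (5, 30, true), (4, 32, true), (3, 34, true), (2, 35, true), (5, 21, true), (4, 23, true), (3, 25, true), (2, 27, true), (4, 3, true), (3, 5, true), (3, 0, true), (2, 109, true), (1, 115, true), (0, 116, true), (2, 62, true), (3, 43, true), (6, 93, true), (5, 96, true), (4, 98, true), (3, 99, true), (2, 101, true), (1, 102, true), (7, 57, true), (6, 59, true), (5, 60, true), (4, 61, true), (3, 63, true),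 (8, 30, true), (7, 32, true), (6, 33, true), (5, 34, true), (9, 17, true), (8, 19, true), (7, 20, true), (8, 12, true), (7, 14, true), (7, 8, true), (8, 30, true), (7, 31, true), (6, 34, true), (5, 35, true), (7, 47, true), (6, 48, true), (5, 51, true), (4, 53, true), (8, 23, true), (7, 24, true), (6, 27, true), (7, 12, true), (6, 13, true), (10, 6, true), (9, 7, true), (8, 8, true), (7, 9, true), (9, 78, true), (8, 79, true), (7, 80, true), (6, 82, true), (5, 86, true), (4, 87, true), (3, 88, true), (2, 89, true), (8, 55, true), (7, 58, true), (6, 61, true), (5, 62, true), (4, 65, true), (7, 45, true), (6, 48, true), (5, 51, true), (4, 52, true), (8, 36, true), (7, 39, true), (6, 42, true), (5, 43, true), (9, 28, true), (8, 31, true), (7, 34, true), (6, 35, true), (8, 21, true), (7, 24, true), (6, 27, true), (7, 6, true), (6, 9, true), (6, 0, true), (5, 44, true), (6, 57, true), (5, 60, true), (4, 64, true), (7, 17, true), (6, 20, true), (6, 12, true), (7, 8, true), (8, 5, true), (9, 15, true), (8, 16, true), (7, 18, true), (6, 19,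 true), (10, 10, true), (9, 11, true), (8, 13, true), (7, 14, true), (9, 6, true), (8, 7, true), (7, 9, true), (8, 0, true), (8, 55, true), (7, 56, true), (6, 60, true), (5, 64, true), (4, 65, true), (7, 45, true), (6, 46, true), (5, 50, true), (4, 54, true), (6, 15, true), (5, 16, true), (4, 20, true), (5, 1, true), (4, 2, true), (4, 0, true), (4, 105, true), (3, 116, true), (2, 117, true), (1, 118, true), (0, 119, true), (5, 91, true), (4, 93, true), (3, 95, true), (2, 96, true), (1, 99, true), (0, 101, true), (5, 48, true), (4, 49, true), (3, 50, true), (2, 52, true), (6, 24, true), (5, 25, true), (4, 26, true), (7, 13, true), (6, 14, true), (8, 45, true), (7, 46, true), (6, 48, true), (5, 50, true), (4, 51, true), (3, 52, true), (2, 54, true), (7, 36, true), (6, 37, true), (5, 39, true), (4, 41, true), (3, 42, true), (2, 43, true), (8, 28, true), (7, 29, true), (6, 31, true), (5, 33, true), (4, 34, true), (3, 35, true), (7, 21, true), (6, 22, true), (5, 24, true), (4, 26, true), (3, 27, true), (6, 10, true), (5, 11, true), (4, 13,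 true), (7, 3, true), (6, 4, true), (8, 1, true), (7, 2, true), (7, 0, true), (6, 8, true), (5, 9, true), (6, 78, true), (5, 80, true), (4, 82, true), (3, 83, true), (2, 86, true), (1, 88, true), (2, 65, true), (7, 45, true), (6, 48, true), (5, 51, true), (4, 52, true), (3, 53, true), (2, 54, true), (6, 36, true), (5, 39, true), (4, 42, true), (3, 43, true), (2, 44, true), (5, 28, true), (4, 31, true), (3, 34, true), (2, 35, true), (4, 21, true), (3, 24, true), (2, 27, true), (3, 15, true), (2, 18, true), (4, 3, true), (5, 1, true), (6, 36, true), (5, 37, true), (4, 38, true), (3, 39, true), (2, 41, true), (7, 15, true), (6, 16, true), (5, 17, true), (4, 18, true), (3, 20, true), (6, 3, true), (5, 4, true), (4, 5, true), (5, 55, true), (4, 56, true), (3, 58, true), (2, 63, true), (6, 15, true), (5, 16, true), (4, 18, true), (7, 10, true), (6, 11, true), (5, 13, true), (8, 6, true), (7, 7, true), (6, 9, true), (7, 3, true), (6, 4, true), (8, 1, true), (7, 2, true), (7, 0, true), (7, 36, true), (6, 38, true), (5, 40, true), (4, 41, true),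 (3, 44, true), (6, 21, true), (5, 23, true), (4, 25, true), (3, 26, true), (7, 15, true), (6, 17, true), (5, 19, true), (4, 20, true), (6, 10, true), (5, 12, true), (4, 14, true), (5, 3, true), (4, 5, true), (4, 66, true), (3, 72, true), (2, 76, true), (5, 28, true), (4, 34, true), (6, 0, true), (5, 97, true), (4, 98, true), (3, 101, true), (2, 102, true), (1, 103, true), (0, 104, true), (5, 78, true), (4, 80, true), (3, 82, true), (2, 83, true), (1, 86, true), (0, 88, true), (1, 65, true), (6, 45, true), (5, 48, true), (4, 51, true), (3, 52, true), (2, 53, true), (1, 54, true), (5, 36, true), (4, 39, true), (3, 42, true), (2, 43, true), (1, 44, true), (4, 28, true), (3, 31, true), (2, 34, true), (1, 35, true), (3, 21, true), (2, 24, true), (1, 27, true), (2, 15, true), (1, 18, true), (3, 3, true), (4, 1, true), (5, 36, true), (4, 37, true), (3, 38, true), (2, 39, true), (1, 41, true), (6, 15, true), (5, 16, true), (4, 17, true), (3, 18, true), (2, 20, true), (5, 3, true), (4, 4, true), (3, 5, true), (4, 55, true), (3, 56, true), (2,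 58, true), (1, 63, true), (5, 15, true), (4, 16, true), (3, 18, true), (6, 10, true), (5, 11, true), (4, 13, true), (7, 6, true), (6, 7, true), (5, 9, true), (6, 3, true), (5, 4, true), (7, 1, true), (6, 2, true), (6, 0, true), (6, 28, true), (5, 30, true), (4, 32, true), (3, 33, true), (7, 66, true), (6, 68, true), (5, 70, true), (4, 71, true), (3, 73, true), (2, 74, true), (1, 76, true), (5, 28, true), (4, 31, true), (3, 35, true), (4, 45, true), (3, 48, true), (5, 10, true), (4, 13, true), (6, 1, true), (7, 45, true), (6, 46, true), (5, 48, true), (4, 49, true), (3, 54, true), (6, 36, true), (5, 37, true), (4, 39, true), (3, 40, true), (7, 28, true), (6, 29, true), (5, 31, true), (4, 32, true), (8, 10, true), (7, 11, true), (6, 13, true), (5, 14, true), (7, 3, true), (6, 4, true), (8, 1, true), (7, 2, true), (7, 15, true), (6, 17, true), (5, 18, true), (8, 10, true), (7, 12, true), (6, 13, true), (9, 6, true), (8, 8, true), (7, 9, true), (8, 0, true), (8, 36, true), (7, 38, true), (6, 40, true), (5, 41, true), (4, 43, true), (3,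 44, true), (7, 21, true), (6, 23, true), (5, 25, true), (4, 26, true), (8, 15, true), (7, 17, true), (6, 19, true), (5, 20, true), (7, 10, true), (6, 12, true), (5, 14, true), (6, 3, true), (5, 5, true), (5, 55, true), (4, 61, true), (3, 62, true), (2, 65, true), (4, 28, true), (3, 34, true), (2, 35, true), (3, 21, true), (2, 27, true), (2, 78, true), (1, 89, true), (0, 90, true), (0, 76, true), (2, 66, true), (1, 76, true), (0, 77, true), (0, 65, true), (0, 0, true)], [(1, 20, true)]),
    ([19, 5, 9, 1], [(0, 177, true), (6, 181, true), (5, 120, true), (4, 131, true), (3, 132, true), (2, 133, true), (1, 134, true), (4, 105, true), (3, 116, true), (2, 117, true), (8, 68, true), (7, 70, true), (6, 71, true), (5, 72, true), (4, 74, true), (7, 21, true), (6, 24, true), (8, 45, true), (7, 48, true), (6, 51, true), (5, 52, true), (9, 10, true), (8, 13, true), (10, 1, true), (11, 45, true), (10, 46, true), (9, 48, true), (8, 49, true), (7, 51, true), (6, 52, true), (5, 54, true), (10, 36, true), (9, 37, true), (8, 39, true), (7, 40, true),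 (6, 42, true), (5, 43, true), (11, 28, true), (10, 29, true), (9, 31, true), (8, 32, true), (7, 34, true), (6, 35, true), (10, 10, true), (9, 11, true), (8, 13, true), (7, 14, true), (9, 3, true), (8, 4, true), (10, 1, true), (9, 2, true), (9, 15, true), (8, 17, true), (7, 18, true), (10, 10, true), (9, 12, true), (8, 13, true), (11, 6, true), (10, 8, true), (9, 9, true), (10, 0, true), (9, 30, true), (8, 32, true), (7, 33, true), (6, 34, true), (11, 91, true), (10, 93, true), (9, 95, true), (8, 96, true), (7, 97, true), (6, 98, true), (5, 99, true), (4, 102, true), (3, 103, true), (5, 73, true), (6, 43, true), (11, 30, true), (10, 32, true), (9, 33, true), (8, 34, true), (7, 35, true), (10, 17, true), (9, 19, true), (8, 20, true), (9, 12, true), (8, 14, true), (8, 8, true), (9, 30, true), (8, 31, true), (7, 34, true), (10, 23, true), (9, 24, true), (8, 27, true), (9, 47, true), (8, 48, true), (7, 52, true), (6, 53, true), (10, 23, true), (9, 24, true), (11, 12, true), (10, 13, true), (14, 45, true), (13, 46, true), (12, 47, true),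 (11, 48, true), (10, 49, true), (9, 51, true), (8, 52, true), (7, 53, true), (6, 54, true), (13, 36, true), (12, 37, true), (11, 38, true), (10, 39, true), (9, 40, true), (8, 42, true), (7, 43, true), (6, 44, true), (12, 28, true), (11, 29, true), (10, 30, true), (9, 31, true), (8, 32, true), (7, 34, true), (6, 35, true), (11, 21, true), (10, 22, true), (9, 23, true), (8, 24, true), (7, 25, true), (6, 27, true), (10, 10, true), (9, 11, true), (8, 12, true), (7, 13, true), (6, 14, true), (9, 3, true), (8, 4, true), (7, 5, true), (8, 1, true), (7, 2, true), (7, 0, true), (6, 9, true), (6, 0, true), (6, 91, true), (5, 102, true), (4, 103, true), (3, 104, true), (8, 78, true), (7, 80, true), (6, 82, true), (5, 83, true), (4, 86, true), (3, 88, true), (4, 65, true), (9, 45, true), (8, 48, true), (7, 51, true), (6, 52, true), (5, 53, true), (4, 54, true), (8, 36, true), (7, 39, true), (6, 42, true), (5, 43, true), (4, 44, true), (7, 28, true), (6, 31, true), (5, 34, true), (4, 35, true), (6, 21, true), (5, 24, true), (4, 27, true), (5, 15,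 true), (4, 18, true), (6, 3, true), (7, 1, true), (8, 36, true), (7, 37, true), (6, 38, true), (5, 39, true), (4, 41, true), (9, 15, true), (8, 16, true), (7, 17, true), (6, 18, true), (5, 20, true), (8, 3, true), (7, 4, true), (6, 5, true), (7, 55, true), (6, 56, true), (5, 58, true), (4, 63, true), (8, 15, true), (7, 16, true), (6, 18, true), (9, 10, true), (8, 11, true), (7, 13, true), (10, 6, true), (9, 7, true), (8, 9, true), (9, 3, true), (8, 4, true), (10, 1, true), (9, 2, true), (9, 0, true), (9, 28, true), (8, 30, true), (7, 32, true), (6, 33, true), (10, 66, true), (9, 68, true), (8, 70, true), (7, 71, true), (6, 73, true), (5, 74, true), (4, 76, true), (8, 28, true), (7, 31, true), (6, 35, true), (7, 45, true), (6, 48, true), (8, 10, true), (7, 13, true), (9, 1, true), (10, 45, true), (9, 46, true), (8, 48, true), (7, 49, true), (6, 54, true), (9, 36, true), (8, 37, true), (7, 39, true), (6, 40, true), (10, 28, true), (9, 29, true), (8, 31, true), (7, 32, true), (11, 10, true), (10, 11, true), (9, 13, true), (8, 14, true),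 (10, 3, true), (9, 4, true), (11, 1, true), (10, 2, true), (10, 15, true), (9, 17, true), (8, 18, true), (11, 10, true), (10, 12, true), (9, 13, true), (12, 6, true), (11, 8, true), (10, 9, true), (11, 0, true), (11, 36, true), (10, 38, true), (9, 40, true), (8, 41, true), (7, 43, true), (6, 44, true), (10, 21, true), (9, 23, true), (8, 25, true), (7, 26, true), (11, 15, true), (10, 17, true), (9, 19, true), (8, 20, true), (10, 10, true), (9, 12, true), (8, 14, true), (9, 3, true), (8, 5, true), (8, 0, true), (7, 72, true), (6, 73, true), (5, 76, true), (4, 77, true), (4, 65, true), (5, 61, true), (4, 62, true), (6, 51, true), (5, 52, true), (7, 42, true), (6, 43, true), (8, 34, true), (7, 35, true), (7, 27, true)], [(1, 50, true), (2, 16, false), (0, 181, true), (11, 177, true), (10, 137, true), (9, 138, true), (8, 141, true), (7, 142, true), (6, 143, true), (5, 144, true), (4, 145, true), (3, 146, true), (2, 147, true), (1, 149, true), (0, 151, true), (10, 105, true), (9, 106, true), (8, 110, true), (7, 112, true), (6, 114, true),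 (5, 115, true), (4, 116, true), (3, 117, true), (2, 119, true), (7, 78, true), (6, 80, true), (5, 82, true), (4, 83, true), (3, 86, true), (2, 88, true), (3, 65, true), (8, 45, true), (7, 48, true), (6, 51, true), (5, 52, true), (4, 53, true), (3, 54, true), (7, 36, true), (6, 39, true), (5, 42, true), (4, 43, true), (3, 44, true), (6, 28, true), (5, 31, true), (4, 34, true), (3, 35, true), (5, 21, true), (4, 24, true), (3, 27, true), (4, 15, true), (3, 18, true), (5, 3, true), (6, 1, true), (7, 36, true), (6, 37, true), (5, 38, true), (4, 39, true), (3, 41, true), (8, 15, true), (7, 16, true), (6, 17, true), (5, 18, true), (4, 20, true), (7, 3, true), (6, 4, true), (5, 5, true), (6, 55, true), (5, 56, true), (4, 58, true), (3, 63, true), (7, 15, true), (6, 16, true), (5, 18, true), (8, 10, true), (7, 11, true), (6, 13, true), (9, 6, true), (8, 7, true), (7, 9, true), (8, 3, true), (7, 4, true), (9, 1, true), (8, 2, true), (8, 0, true), (8, 36, true), (7, 38, true), (6, 40, true), (5, 41, true), (4, 44, true), (7, 21, true), (6, 23,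 true), (5, 25, true), (4, 26, true), (8, 15, true), (7, 17, true), (6, 19, true), (5, 20, true), (7, 10, true), (6, 12, true), (5, 14, true), (6, 3, true), (5, 5, true), (5, 66, true), (4, 72, true), (3, 76, true), (6, 28, true), (5, 34, true), (7, 55, true), (6, 61, true), (5, 62, true), (4, 65, true), (6, 45, true), (5, 51, true), (4, 52, true), (7, 36, true), (6, 42, true), (5, 43, true), (8, 10, true), (9, 6, true), (10, 3, true), (11, 1, true), (12, 28, true), (11, 29, true), (10, 30, true), (9, 31, true), (8, 32, true), (7, 34, true), (6, 35, true), (11, 45, true), (10, 46, true), (9, 47, true), (8, 48, true), (7, 49, true), (6, 51, true), (5, 53, true), (4, 54, true), (10, 36, true), (9, 37, true), (8, 38, true), (7, 39, true), (6, 40, true), (5, 42, true), (4, 44, true), (9, 28, true), (8, 29, true), (7, 30, true), (6, 31, true), (5, 32, true), (4, 34, true), (10, 15, true), (9, 16, true), (8, 17, true), (7, 18, true), (6, 19, true), (11, 3, true), (10, 4, true), (9, 5, true), (10, 1, true), (9, 2, true), (9, 0, true), (8, 48,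 true), (7, 49, true), (6, 50, true), (5, 51, true), (4, 52, true), (9, 39, true), (8, 40, true), (7, 41, true), (6, 42, true), (5, 43, true), (10, 31, true), (9, 32, true), (8, 33, true), (7, 34, true), (6, 35, true), (9, 18, true), (8, 19, true), (7, 20, true), (8, 9, true), (10, 0, true), (9, 92, true), (8, 93, true), (7, 95, true), (6, 97, true), (5, 99, true), (4, 100, true), (3, 102, true), (2, 103, true), (4, 73, true), (5, 43, true), (10, 57, true), (9, 59, true), (8, 60, true), (7, 61, true), (6, 62, true), (5, 63, true), (11, 30, true), (10, 32, true), (9, 33, true), (8, 34, true), (7, 35, true), (10, 23, true), (9, 25, true), (8, 26, true), (7, 27, true), (9, 17, true), (8, 19, true), (7, 20, true), (8, 12, true), (7, 14, true), (7, 8, true), (8, 5, true), (8, 29, true), (7, 31, true), (9, 16, true), (8, 18, true), (10, 11, true), (9, 13, true), (11, 7, true), (10, 9, true), (10, 22, true), (9, 25, true), (8, 26, true), (11, 46, true), (10, 49, true), (9, 50, true), (8, 51, true), (7, 52, true), (6, 53, true), (12, 37, true),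 (11, 40, true), (10, 41, true), (9, 42, true), (8, 43, true), (7, 44, true), (11, 29, true), (10, 32, true), (9, 33, true), (8, 34, true), (7, 35, true), (10, 22, true), (9, 25, true), (8, 26, true), (7, 27, true), (9, 11, true), (8, 14, true), (8, 4, true), (9, 2, true), (9, 6, true), (8, 8, true), (10, 55, true), (9, 57, true), (8, 58, true), (7, 60, true), (6, 64, true), (5, 65, true), (9, 45, true), (8, 47, true), (7, 48, true), (6, 50, true), (5, 54, true), (8, 36, true), (7, 38, true), (6, 39, true), (5, 41, true), (9, 21, true), (8, 23, true), (7, 24, true), (6, 26, true), (10, 6, true), (9, 8, true), (8, 9, true), (9, 78, true), (8, 80, true), (7, 83, true), (6, 84, true), (5, 86, true), (4, 89, true), (3, 90, true), (3, 76, true), (4, 65, true), (9, 21, true), (8, 24, true), (7, 27, true), (8, 45, true), (7, 48, true), (6, 52, true), (5, 53, true), (4, 54, true), (7, 36, true), (6, 39, true), (5, 43, true), (4, 44, true), (6, 28, true), (5, 31, true), (4, 35, true), (5, 21, true), (4, 24, true), (6, 15, true), (5, 18, true),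 (7, 3, true), (8, 1, true), (9, 55, true), (8, 56, true), (7, 57, true), (6, 58, true), (5, 60, true), (4, 61, true), (10, 15, true), (9, 16, true), (8, 17, true), (7, 18, true), (6, 20, true), (9, 10, true), (8, 11, true), (7, 12, true), (6, 13, true), (10, 6, true), (9, 7, true), (8, 8, true), (7, 9, true), (9, 3, true), (8, 4, true), (7, 5, true), (8, 1, true), (7, 2, true), (7, 0, true), (7, 55, true), (6, 59, true), (5, 61, true), (4, 65, true), (6, 45, true), (5, 49, true), (4, 51, true), (7, 15, true), (6, 19, true), (8, 1, true), (9, 0, true), (8, 56, true), (7, 59, true), (6, 60, true), (5, 61, true), (4, 64, true), (9, 46, true), (8, 49, true), (7, 50, true), (6, 51, true), (5, 54, true), (8, 16, true), (7, 19, true), (6, 20, true), (7, 11, true), (6, 14, true), (6, 2, true), (6, 45, true), (5, 51, true), (7, 21, true), (6, 27, true), (6, 15, true), (7, 0, true), (6, 33, true), (9, 28, true), (8, 30, true), (7, 33, true), (6, 35, true), (8, 21, true), (7, 23, true), (6, 26, true), (9, 15, true), (8, 17, true), (7, 20, true),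 (8, 36, true), (7, 38, true), (6, 42, true), (9, 28, true), (8, 30, true), (7, 34, true), (10, 0, true), (9, 17, true), (11, 106, true), (10, 107, true), (9, 110, true), (8, 111, true), (7, 112, true), (6, 113, true), (5, 114, true), (4, 115, true), (3, 116, true), (2, 118, true), (5, 62, true), (6, 52, true), (7, 43, true), (12, 56, true), (11, 57, true), (10, 58, true), (9, 59, true), (8, 62, true), (7, 63, true), (6, 64, true), (5, 65, true), (11, 46, true), (10, 47, true), (9, 48, true), (8, 49, true), (7, 52, true), (6, 53, true), (5, 54, true), (10, 29, true), (9, 30, true), (8, 31, true), (7, 32, true), (6, 35, true), (9, 16, true), (8, 17, true), (7, 18, true), (6, 19, true), (10, 7, true), (9, 8, true), (8, 9, true), (9, 4, true), (8, 5, true), (8, 29, true), (7, 32, true), (6, 33, true), (9, 22, true), (8, 25, true), (7, 26, true), (10, 46, true), (9, 49, true), (8, 50, true), (7, 51, true), (6, 52, true), (5, 53, true), (11, 37, true), (10, 40, true), (9, 41, true), (8, 42, true), (7, 43, true), (6, 44, true), (10, 29, true),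 (9, 32, true), (8, 33, true), (7, 34, true), (6, 35, true), (9, 16, true), (8, 19, true), (7, 20, true), (8, 4, true), (9, 2, true), (9, 55, true), (8, 57, true), (7, 59, true), (6, 61, true), (5, 64, true), (10, 36, true), (9, 38, true), (8, 40, true), (7, 42, true), (11, 10, true), (10, 12, true), (9, 14, true), (10, 6, true), (9, 8, true), (11, 1, true), (12, 0, true), (11, 46, true), (10, 47, true), (9, 48, true), (8, 51, true), (7, 53, true), (6, 54, true), (10, 37, true), (9, 38, true), (8, 39, true), (7, 42, true), (6, 44, true), (9, 29, true), (8, 30, true), (7, 31, true), (6, 34, true), (10, 16, true), (9, 17, true), (8, 18, true), (11, 7, true), (10, 8, true), (9, 9, true), (10, 4, true), (9, 5, true), (9, 2, true), (9, 91, true), (8, 96, true), (7, 97, true), (6, 98, true), (5, 101, true), (4, 102, true), (3, 104, true), (8, 66, true), (7, 68, true), (6, 70, true), (5, 71, true), (4, 74, true), (3, 76, true), (7, 45, true), (6, 48, true), (5, 52, true), (8, 10, true), (7, 13, true), (9, 1, true), (10, 45, true), (9, 46, true),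 (8, 48, true), (7, 49, true), (6, 52, true), (5, 54, true), (9, 36, true), (8, 37, true), (7, 39, true), (6, 40, true), (5, 43, true), (10, 28, true), (9, 29, true), (8, 31, true), (7, 32, true), (6, 35, true), (9, 10, true), (8, 11, true), (7, 13, true), (6, 14, true), (8, 3, true), (7, 4, true), (9, 1, true), (8, 2, true), (8, 15, true), (7, 17, true), (6, 18, true), (9, 10, true), (8, 12, true), (7, 13, true), (10, 6, true), (9, 8, true), (8, 9, true), (9, 0, true), (9, 36, true), (8, 38, true), (7, 40, true), (6, 41, true), (5, 44, true), (8, 21, true), (7, 23, true), (6, 25, true), (5, 26, true), (9, 15, true), (8, 17, true), (7, 19, true), (6, 20, true), (8, 10, true), (7, 12, true), (6, 14, true), (7, 3, true), (6, 5, true), (6, 55, true), (5, 61, true), (4, 65, true), (5, 28, true), (4, 34, true), (6, 21, true), (5, 27, true), (5, 45, true), (4, 52, true), (6, 21, true), (7, 10, true), (8, 1, true), (9, 0, true), (9, 78, true), (8, 79, true), (7, 82, true), (6, 84, true), (5, 85, true), (4, 87, true), (3, 89, true), (8, 28,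 true), (7, 31, true), (6, 34, true), (5, 35, true), (7, 21, true), (6, 24, true), (5, 27, true), (6, 36, true), (5, 39, true), (7, 15, true), (6, 18, true), (8, 3, true), (9, 15, true), (8, 17, true), (7, 18, true), (6, 20, true), (8, 10, true), (7, 12, true), (6, 13, true), (9, 6, true), (8, 8, true), (7, 9, true), (8, 0, true), (8, 66, true), (7, 68, true), (6, 70, true), (5, 74, true), (4, 77, true), (7, 45, true), (6, 48, true), (5, 52, true), (8, 36, true), (7, 39, true), (6, 43, true), (9, 28, true), (8, 31, true), (7, 35, true), (8, 10, true), (7, 13, true), (9, 3, true), (10, 1, true), (11, 15, true), (10, 16, true), (9, 17, true), (8, 18, true), (7, 19, true), (12, 10, true), (11, 11, true), (10, 12, true), (9, 13, true), (8, 14, true), (11, 6, true), (10, 7, true), (9, 8, true), (8, 9, true), (10, 0, true), (10, 0, true)]),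
    ([19, 13, 11, 10, 13, 11, 10], [(0, 182, true), (9, 182, true), (8, 136, true), (7, 140, true), (6, 141, true), (5, 143, true), (4, 146, true), (3, 148, true), (2, 150, true), (1, 151, true), (0, 152, true), (1, 120, true), (0, 126, true), (2, 105, true), (1, 111, true), (3, 91, true), (2, 97, true), (4, 66, true), (3, 72, true), (5, 55, true), (4, 61, true), (6, 36, true), (5, 42, true), (7, 21, true), (6, 27, true), (6, 3, true), (7, 0, true), (6, 93, true), (5, 99, true), (4, 101, true), (3, 102, true), (2, 104, true), (7, 66, true), (6, 68, true), (5, 70, true), (4, 71, true), (3, 74, true), (2, 76, true), (6, 45, true), (5, 48, true), (4, 52, true), (7, 10, true), (6, 13, true), (8, 1, true), (9, 45, true), (8, 46, true), (7, 48, true), (6, 49, true), (5, 52, true), (4, 54, true), (8, 36, true), (7, 37, true), (6, 39, true), (5, 40, true), (4, 43, true), (9, 28, true), (8, 29, true), (7, 31, true), (6, 32, true), (5, 35, true), (8, 10, true), (7, 11, true), (6, 13, true), (5, 14, true), (7, 3, true), (6, 4, true), (8, 1, true),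 (7, 2, true), (7, 15, true), (6, 17, true), (5, 18, true), (8, 10, true), (7, 12, true), (6, 13, true), (9, 6, true), (8, 8, true), (7, 9, true), (8, 0, true), (8, 36, true), (7, 38, true), (6, 40, true), (5, 41, true), (4, 44, true), (7, 21, true), (6, 23, true), (5, 25, true), (4, 26, true), (8, 15, true), (7, 17, true), (6, 19, true), (5, 20, true), (7, 10, true), (6, 12, true), (5, 14, true), (6, 3, true), (5, 5, true), (5, 55, true), (4, 61, true), (3, 65, true), (4, 28, true), (3, 34, true), (5, 15, true), (6, 10, true), (7, 6, true), (8, 6, true), (7, 9, true), (7, 78, true), (6, 82, true), (5, 83, true), (4, 84, true), (3, 85, true), (2, 89, true), (5, 51, true), (4, 52, true), (6, 42, true), (5, 43, true), (7, 34, true), (6, 35, true), (6, 27, true), (8, 37, true), (7, 38, true), (6, 41, true), (5, 44, true), (7, 16, true), (6, 17, true), (5, 20, true), (6, 4, true), (5, 5, true), (6, 66, true), (5, 67, true), (4, 75, true), (3, 77, true), (3, 65, true), (7, 55, true), (6, 58, true), (5, 62, true), (4, 63, true), (3, 64, true),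 (8, 15, true), (7, 18, true), (9, 10, true), (8, 13, true), (10, 6, true), (9, 9, true), (9, 3, true), (10, 1, true), (11, 0, true), (11, 55, true), (10, 56, true), (9, 57, true), (8, 59, true), (7, 60, true), (6, 62, true), (5, 63, true), (4, 64, true), (3, 65, true), (10, 36, true), (9, 37, true), (8, 38, true), (7, 40, true), (6, 41, true), (5, 43, true), (4, 44, true), (9, 28, true), (8, 29, true), (7, 30, true), (6, 32, true), (5, 33, true), (4, 35, true), (8, 21, true), (7, 22, true), (6, 23, true), (5, 25, true), (4, 26, true), (9, 3, true), (8, 4, true), (7, 5, true), (8, 0, true), (7, 56, true), (6, 59, true), (5, 60, true), (4, 61, true), (3, 64, true), (8, 46, true), (7, 49, true), (6, 50, true), (5, 51, true), (4, 54, true), (7, 16, true), (6, 19, true), (5, 20, true), (6, 11, true), (5, 14, true), (5, 2, true), (5, 28, true), (4, 34, true), (6, 15, true), (7, 21, true), (6, 26, true), (5, 27, true), (6, 10, true), (7, 0, true), (7, 120, true), (6, 124, true), (5, 125, true), (4, 127, true), (3, 130, true), (2, 132, true),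 (1, 134, true), (0, 135, true), (1, 78, true), (0, 84, true), (2, 105, true), (1, 111, true), (0, 117, true), (6, 23, true), (5, 25, true), (4, 26, true), (3, 27, true), (6, 55, true), (5, 57, true), (4, 59, true), (3, 60, true), (2, 63, true), (7, 36, true), (6, 38, true), (5, 40, true), (4, 41, true), (3, 44, true), (6, 15, true), (5, 17, true), (4, 19, true), (3, 20, true), (5, 10, true), (4, 12, true), (3, 14, true), (4, 3, true), (3, 5, true), (3, 0, true), (6, 10, true), (7, 0, true), (6, 109, true), (5, 110, true), (4, 111, true), (3, 112, true), (2, 115, true), (1, 117, true), (0, 119, true), (5, 78, true), (4, 80, true), (3, 82, true), (2, 83, true), (1, 86, true), (0, 88, true), (1, 65, true), (6, 45, true), (5, 48, true), (4, 51, true), (3, 52, true), (2, 53, true), (1, 54, true), (5, 36, true), (4, 39, true), (3, 42, true), (2, 43, true), (1, 44, true), (4, 28, true), (3, 31, true), (2, 34, true), (1, 35, true), (3, 21, true), (2, 24, true), (1, 27, true), (2, 15, true), (1, 18, true), (3, 3, true), (4, 1, true), (5, 36,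 true), (4, 37, true), (3, 38, true), (2, 39, true), (1, 41, true), (6, 15, true), (5, 16, true), (4, 17, true), (3, 18, true), (2, 20, true), (5, 3, true), (4, 4, true), (3, 5, true), (4, 55, true), (3, 56, true), (2, 58, true), (1, 63, true), (5, 15, true), (4, 16, true), (3, 18, true), (6, 10, true), (5, 11, true), (4, 13, true), (7, 6, true), (6, 7, true), (5, 9, true), (6, 3, true), (5, 4, true), (7, 1, true), (6, 2, true), (6, 0, true), (6, 36, true), (5, 38, true), (4, 40, true), (3, 41, true), (2, 44, true), (5, 21, true), (4, 23, true), (3, 25, true), (2, 26, true), (6, 15, true), (5, 17, true), (4, 19, true), (3, 20, true), (5, 10, true), (4, 12, true), (3, 14, true), (4, 3, true), (3, 5, true), (3, 55, true), (2, 61, true), (1, 65, true), (2, 28, true), (1, 34, true), (3, 21, true), (2, 27, true), (2, 45, true), (1, 52, true), (3, 36, true), (2, 43, true), (4, 28, true), (3, 35, true), (3, 15, true), (4, 3, true), (5, 1, true), (6, 0, true), (5, 37, true), (4, 38, true), (3, 41, true), (2, 44, true), (4, 16, true), (3, 17,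 true), (2, 20, true), (3, 4, true), (2, 5, true), (2, 79, true), (1, 87, true), (0, 90, true), (4, 15, true), (3, 18, true), (5, 10, true), (4, 13, true), (6, 6, true), (5, 9, true), (5, 0, true), (4, 59, true), (3, 60, true), (2, 61, true), (1, 62, true), (0, 65, true), (3, 32, true), (2, 33, true), (1, 34, true), (0, 35, true), (2, 19, true), (1, 20, true), (1, 14, true)], [(3, 101, true), (2, 102, true), (1, 104, true), (6, 66, true), (5, 68, true), (4, 70, true), (3, 71, true), (2, 74, true), (1, 76, true), (5, 45, true), (4, 48, true), (3, 52, true), (6, 10, true), (5, 13, true), (7, 1, true), (8, 45, true), (7, 46, true), (6, 48, true), (5, 49, true), (4, 52, true), (3, 54, true), (7, 36, true), (6, 37, true), (5, 39, true), (4, 40, true), (3, 43, true), (8, 28, true), (7, 29, true), (6, 31, true), (5, 32, true), (4, 35, true), (7, 10, true), (6, 11, true), (5, 13, true), (4, 14, true), (6, 3, true), (5, 4, true), (7, 1, true), (6, 2, true), (6, 15, true), (5, 17, true), (4, 18, true), (7, 10, true), (6, 12, true), (5, 13, true),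 (8, 6, true), (7, 8, true), (6, 9, true), (7, 0, true), (7, 36, true), (6, 38, true), (5, 40, true), (4, 41, true), (3, 44, true), (6, 21, true), (5, 23, true), (4, 25, true), (3, 26, true), (7, 15, true), (6, 17, true), (5, 19, true), (4, 20, true), (6, 10, true), (5, 12, true), (4, 14, true), (5, 3, true), (4, 5, true), (4, 55, true), (3, 61, true), (2, 65, true), (3, 66, true), (2, 72, true), (1, 77, true), (3, 55, true), (2, 61, true), (1, 65, true), (0, 178, true), (1, 175, true)]),
    ([20, 6, 6], [(0, 187, true), (9, 187, true), (8, 55, true), (7, 56, true), (6, 57, true), (5, 58, true), (4, 59, true), (3, 60, true), (2, 61, true), (1, 62, true), (0, 65, true), (7, 28, true), (6, 29, true), (5, 30, true), (4, 31, true), (3, 32, true), (2, 33, true), (1, 34, true), (0, 35, true), (6, 21, true), (5, 22, true), (4, 23, true), (3, 24, true), (2, 25, true), (1, 26, true), (0, 27, true), (5, 15, true), (4, 16, true), (3, 17, true), (2, 18, true), (1, 19, true), (0, 20, true), (4, 10, true), (3, 11, true), (2, 12, true), (1, 13, true),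 (0, 14, true), (3, 6, true), (2, 7, true), (1, 8, true), (0, 9, true), (2, 3, true), (1, 4, true), (0, 5, true), (1, 1, true), (0, 2, true), (0, 0, true)], [(1, 27, true)]),
    ([20, 13, 11, 10, 9, 5, 1, 13, 11, 10, 9, 5, 1], [(0, 189, true), (6, 189, true), (5, 56, true), (4, 57, true), (3, 60, true), (2, 61, true), (1, 64, true), (0, 65, true), (4, 46, true), (3, 47, true), (2, 50, true), (1, 51, true), (0, 54, true), (3, 22, true), (2, 23, true), (1, 26, true), (0, 27, true), (2, 16, true), (1, 17, true), (0, 20, true), (1, 4, true), (0, 5, true), (0, 2, true)], [(6, 92, true), (5, 96, true), (4, 100, true), (3, 101, true), (2, 102, true), (1, 104, true), (6, 66, true), (5, 68, true), (4, 70, true), (3, 71, true), (2, 74, true), (1, 76, true), (5, 45, true), (4, 48, true), (3, 52, true), (6, 10, true), (5, 13, true), (7, 1, true), (8, 45, true), (7, 46, true), (6, 48, true), (5, 49, true), (4, 52, true), (3, 54, true), (7, 36, true), (6, 37, true), (5, 39, true), (4, 40, true), (3, 43, true), (8, 28, true), (7, 29, true), (6, 31,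 true), (5, 32, true), (4, 35, true), (7, 10, true), (6, 11, true), (5, 13, true), (4, 14, true), (6, 3, true), (5, 4, true), (7, 1, true), (6, 2, true), (6, 15, true), (5, 17, true), (4, 18, true), (7, 10, true), (6, 12, true), (5, 13, true), (8, 6, true), (7, 8, true), (6, 9, true), (7, 0, true), (7, 36, true), (6, 38, true), (5, 40, true), (4, 41, true), (3, 44, true), (6, 21, true), (5, 23, true), (4, 25, true), (3, 26, true), (7, 15, true), (6, 17, true), (5, 19, true), (4, 20, true), (6, 10, true), (5, 12, true), (4, 14, true), (5, 3, true), (4, 5, true), (4, 55, true), (3, 61, true), (2, 65, true), (3, 55, true), (2, 61, true), (4, 28, true), (3, 34, true), (5, 21, true), (4, 27, true), (4, 15, true), (5, 10, true), (6, 6, true), (7, 3, true), (8, 1, true), (9, 45, true), (8, 46, true), (7, 47, true), (6, 48, true), (5, 49, true), (4, 50, true), (3, 52, true), (10, 21, true), (9, 22, true), (8, 23, true), (7, 24, true), (6, 25, true), (5, 26, true), (11, 10, true), (10, 11, true), (9, 12, true), (8, 13, true), (7, 14, true), (10,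 1, true), (9, 2, true), (9, 0, true), (8, 57, true), (7, 58, true), (6, 60, true), (5, 61, true), (4, 62, true), (3, 64, true), (2, 65, true), (7, 47, true), (6, 48, true), (5, 50, true), (4, 51, true), (3, 52, true), (2, 54, true), (6, 38, true), (5, 39, true), (4, 41, true), (3, 42, true), (2, 43, true), (7, 23, true), (6, 24, true), (5, 26, true), (4, 27, true), (6, 8, true), (5, 9, true), (5, 68, true), (4, 71, true), (3, 73, true), (2, 74, true), (1, 77, true), (4, 28, true), (3, 31, true), (2, 35, true), (3, 45, true), (2, 48, true), (4, 10, true), (3, 13, true), (5, 1, true), (6, 15, true), (5, 16, true), (4, 18, true), (3, 19, true), (7, 10, true), (6, 11, true), (5, 13, true), (4, 14, true), (6, 6, true), (5, 7, true), (4, 9, true), (5, 0, true), (4, 56, true), (3, 60, true), (2, 64, true), (1, 65, true), (3, 46, true), (2, 50, true), (1, 54, true), (2, 16, true), (1, 20, true), (1, 2, true)]),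
    ([20, 6, 13, 11, 10, 9, 5, 1], [(0, 187, true), (9, 189, true), (8, 55, true), (7, 56, true), (6, 57, true), (5, 58, true), (4, 59, true), (3, 60, true), (2, 61, true), (1, 62, true), (0, 65, true), (7, 45, true), (6, 46, true), (5, 47, true), (4, 48, true), (3, 49, true), (2, 50, true), (1, 51, true), (0, 52, true), (8, 21, true), (7, 22, true), (6, 23, true), (5, 24, true), (4, 25, true), (3, 26, true), (2, 27, true), (7, 15, true), (6, 16, true), (5, 17, true), (4, 18, true), (3, 19, true), (2, 20, true), (6, 3, true), (5, 4, true), (4, 5, true), (5, 1, true), (4, 2, true)], [(1, 97, true), (2, 72, true), (3, 61, true), (4, 51, true), (5, 26, false), (6, 22, false), (0, 189, true), (6, 187, true), (5, 56, true), (4, 57, true), (3, 60, true), (2, 61, true), (1, 64, true), (0, 65, true), (4, 29, true), (3, 30, true), (2, 33, true), (1, 34, true), (5, 22, true), (4, 23, true), (3, 26, true), (2, 27, true), (4, 16, true), (3, 17, true), (2, 20, true), (3, 11, true), (2, 12, true), (4, 7, true), (3, 8, true), (5, 4, true), (4, 5,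 true), (4, 2, true)]),
    ([21, 4, 10], [(0, 194, true), (9, 200, true), (8, 45, true), (7, 46, true), (6, 49, true), (5, 54, true), (7, 28, true), (6, 29, true), (5, 32, true), (8, 21, true), (7, 22, true), (6, 25, true), (9, 15, true), (8, 16, true), (7, 19, true)], [(1, 59, true), (0, 200, true), (4, 194, true), (3, 141, true), (2, 142, true), (1, 143, true), (0, 145, true), (4, 28, true), (3, 33, true), (2, 34, true), (5, 21, true), (4, 26, true), (3, 27, true), (4, 15, true), (3, 20, true), (3, 105, true), (2, 112, true), (1, 114, true), (7, 29, true), (6, 30, true), (5, 31, true), (4, 32, true), (9, 91, true), (8, 92, true), (7, 93, true), (6, 94, true), (5, 95, true), (4, 98, true), (3, 99, true), (2, 100, true), (10, 29, true), (9, 30, true), (8, 31, true), (7, 32, true), (6, 33, true), (5, 34, true), (4, 35, true), (9, 16, true), (8, 17, true), (7, 18, true), (6, 19, true), (5, 20, true), (8, 11, true), (7, 12, true), (6, 13, true), (5, 14, true), (7, 7, true), (6, 8, true), (5, 9, true), (6, 29, true), (5, 30, true), (4,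 34, true), (7, 46, true), (6, 47, true), (5, 51, true), (4, 52, true), (8, 37, true), (7, 38, true), (6, 42, true), (5, 43, true), (9, 29, true), (8, 30, true), (7, 34, true), (6, 35, true), (8, 22, true), (7, 23, true), (6, 27, true), (7, 11, true), (6, 12, true), (8, 4, true), (7, 5, true), (7, 2, true), (7, 3, true), (8, 6, true), (7, 8, true), (9, 55, true), (8, 57, true), (7, 58, true), (6, 59, true), (5, 63, true), (4, 64, true), (3, 65, true), (8, 45, true), (7, 47, true), (6, 48, true), (5, 49, true), (4, 53, true), (3, 54, true), (7, 36, true), (6, 38, true), (5, 39, true), (4, 40, true), (3, 44, true), (6, 21, true), (5, 23, true), (4, 24, true), (3, 25, true), (7, 6, true), (6, 8, true), (5, 9, true), (6, 0, true), (5, 80, true), (4, 82, true), (3, 84, true), (4, 42, true), (7, 57, true), (6, 60, true), (5, 61, true), (4, 63, true), (8, 17, true), (7, 20, true), (7, 12, true), (8, 8, true), (9, 5, true), (10, 66, true), (9, 67, true), (8, 69, true), (7, 70, true), (6, 72, true), (5, 74, true), (4, 76, true), (8, 21, true),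 (7, 24, true), (9, 45, true), (8, 48, true), (7, 51, true), (6, 52, true), (10, 36, true), (9, 39, true), (8, 42, true), (7, 43, true), (11, 28, true), (10, 31, true), (9, 34, true), (8, 35, true), (10, 10, true), (9, 13, true), (11, 3, true), (12, 1, true), (13, 36, true), (12, 37, true), (11, 38, true), (10, 39, true), (9, 40, true), (8, 42, true), (7, 44, true), (12, 28, true), (11, 29, true), (10, 30, true), (9, 31, true), (8, 32, true), (7, 34, true), (13, 0, true), (12, 56, true), (11, 57, true), (10, 58, true), (9, 59, true), (8, 61, true), (7, 62, true), (6, 64, true), (5, 65, true), (11, 16, true), (10, 17, true), (9, 18, true), (8, 19, true), (12, 11, true), (11, 12, true), (10, 13, true), (9, 14, true), (11, 7, true), (10, 8, true), (9, 9, true), (10, 4, true), (9, 5, true), (9, 2, true), (9, 0, true), (8, 50, true), (7, 51, true), (6, 52, true), (5, 54, true)]),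
    ([21, 11, 3, 1, 11, 3, 1], [(0, 201, true), (12, 201, true), (11, 136, true), (10, 137, true), (9, 138, true), (8, 139, true), (7, 141, true), (6, 143, true), (5, 144, true), (4, 145, true), (3, 148, true), (2, 150, true), (1, 151, true), (0, 152, true), (1, 120, true), (0, 126, true), (2, 105, true), (1, 111, true), (3, 91, true), (2, 97, true), (4, 66, true), (3, 72, true), (5, 55, true), (4, 61, true), (6, 36, true), (5, 42, true), (7, 21, true), (6, 27, true), (6, 3, true), (7, 0, true), (6, 93, true), (5, 99, true), (4, 101, true), (3, 102, true), (2, 104, true), (7, 66, true), (6, 68, true), (5, 70, true), (4, 71, true), (3, 74, true), (2, 76, true), (6, 45, true), (5, 48, true), (4, 52, true), (7, 10, true), (6, 13, true), (8, 1, true), (9, 45, true), (8, 46, true), (7, 48, true), (6, 49, true), (5, 52, true), (4, 54, true), (8, 36, true), (7, 37, true), (6, 39, true), (5, 40, true), (4, 43, true), (9, 28, true), (8, 29, true), (7, 31, true), (6, 32, true), (5, 35, true), (8, 10, true), (7, 11, true), (6, 13, true), (5, 14,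 true), (7, 3, true), (6, 4, true), (8, 1, true), (7, 2, true), (7, 15, true), (6, 17, true), (5, 18, true), (8, 10, true), (7, 12, true), (6, 13, true), (9, 6, true), (8, 8, true), (7, 9, true), (8, 0, true), (8, 36, true), (7, 38, true), (6, 40, true), (5, 41, true), (4, 44, true), (7, 21, true), (6, 23, true), (5, 25, true), (4, 26, true), (8, 15, true), (7, 17, true), (6, 19, true), (5, 20, true), (7, 10, true), (6, 12, true), (5, 14, true), (6, 3, true), (5, 5, true), (5, 55, true), (4, 61, true), (3, 65, true), (4, 28, true), (3, 34, true), (5, 15, true), (6, 10, true), (7, 6, true), (8, 6, true), (7, 9, true), (7, 78, true), (6, 82, true), (5, 83, true), (4, 84, true), (3, 85, true), (2, 89, true), (5, 51, true), (4, 52, true), (6, 42, true), (5, 43, true), (7, 34, true), (6, 35, true), (6, 27, true), (8, 37, true), (7, 38, true), (6, 41, true), (5, 44, true), (7, 16, true), (6, 17, true), (5, 20, true), (6, 4, true), (5, 5, true), (6, 66, true), (5, 67, true), (4, 75, true), (3, 77, true), (3, 65, true), (7, 55, true), (6, 58,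 true), (5, 62, true), (4, 63, true), (3, 64, true), (8, 15, true), (7, 18, true), (9, 10, true), (8, 13, true), (10, 6, true), (9, 9, true), (9, 3, true), (10, 1, true), (11, 0, true), (11, 55, true), (10, 56, true), (9, 57, true), (8, 59, true), (7, 60, true), (6, 62, true), (5, 63, true), (4, 64, true), (3, 65, true), (10, 36, true), (9, 37, true), (8, 38, true), (7, 40, true), (6, 41, true), (5, 43, true), (4, 44, true), (9, 28, true), (8, 29, true), (7, 30, true), (6, 32, true), (5, 33, true), (4, 35, true), (8, 21, true), (7, 22, true), (6, 23, true), (5, 25, true), (4, 26, true), (9, 3, true), (8, 4, true), (7, 5, true), (8, 0, true), (7, 46, true), (6, 49, true), (5, 50, true), (4, 51, true), (3, 54, true), (6, 22, true), (5, 25, true), (4, 26, true), (3, 27, true), (5, 16, true), (4, 19, true), (3, 20, true), (5, 28, true), (4, 29, true), (3, 32, true), (6, 3, true), (5, 4, true), (7, 0, true), (6, 29, true), (5, 30, true), (4, 32, true), (3, 35, true), (5, 16, true), (4, 17, true), (3, 19, true), (6, 46, true), (5, 47, true),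 (4, 49, true), (3, 50, true), (7, 37, true), (6, 38, true), (5, 40, true), (4, 41, true), (8, 29, true), (7, 30, true), (6, 32, true), (5, 33, true), (9, 22, true), (8, 23, true), (7, 25, true), (6, 26, true), (10, 11, true), (9, 12, true), (8, 14, true), (9, 7, true), (8, 8, true), (10, 4, true), (9, 5, true), (9, 2, true), (9, 36, true), (8, 39, true), (7, 41, true), (6, 42, true), (5, 43, true), (4, 44, true), (8, 28, true), (7, 31, true), (6, 33, true), (5, 34, true), (4, 35, true), (7, 0, true), (6, 18, true), (5, 20, true), (7, 120, true), (6, 121, true), (5, 123, true), (4, 126, true), (3, 129, true), (2, 132, true), (1, 134, true), (0, 135, true), (1, 78, true), (0, 84, true), (2, 105, true), (1, 111, true), (0, 117, true), (6, 23, true), (5, 25, true), (4, 26, true), (3, 27, true), (6, 28, true), (5, 30, true), (4, 32, true), (3, 33, true), (7, 21, true), (6, 23, true), (5, 25, true), (4, 26, true), (8, 1, true), (9, 0, true), (8, 22, true), (7, 23, true), (6, 25, true), (5, 26, true), (4, 27, true), (7, 46, true), (6, 47,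 true), (5, 49, true), (4, 50, true), (3, 52, true), (2, 53, true), (8, 37, true), (7, 38, true), (6, 40, true), (5, 41, true), (4, 43, true), (3, 44, true), (7, 29, true), (6, 30, true), (5, 32, true), (4, 33, true), (3, 35, true), (6, 16, true), (5, 17, true), (4, 19, true), (3, 20, true), (5, 7, true), (4, 8, true), (6, 4, true), (5, 5, true), (5, 2, true), (5, 45, true), (4, 48, true), (3, 49, true), (2, 54, true), (4, 28, true), (3, 31, true), (2, 32, true), (5, 21, true), (4, 24, true), (3, 25, true), (6, 0, true), (6, 105, true), (5, 108, true), (4, 109, true), (3, 111, true), (2, 112, true), (1, 117, true), (0, 119, true), (5, 78, true), (4, 80, true), (3, 82, true), (2, 83, true), (1, 86, true), (0, 88, true), (1, 65, true), (6, 45, true), (5, 48, true), (4, 51, true), (3, 52, true), (2, 53, true), (1, 54, true), (5, 36, true), (4, 39, true), (3, 42, true), (2, 43, true), (1, 44, true), (4, 28, true), (3, 31, true), (2, 34, true), (1, 35, true), (3, 21, true), (2, 24, true), (1, 27, true), (2, 15, true), (1, 18, true), (3, 3,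 true), (4, 1, true), (5, 36, true), (4, 37, true), (3, 38, true), (2, 39, true), (1, 41, true), (6, 15, true), (5, 16, true), (4, 17, true), (3, 18, true), (2, 20, true), (5, 3, true), (4, 4, true), (3, 5, true), (4, 55, true), (3, 56, true), (2, 58, true), (1, 63, true), (5, 15, true), (4, 16, true), (3, 18, true), (6, 10, true), (5, 11, true), (4, 13, true), (7, 6, true), (6, 7, true), (5, 9, true), (6, 3, true), (5, 4, true), (7, 1, true), (6, 2, true), (6, 0, true), (6, 36, true), (5, 38, true), (4, 40, true), (3, 41, true), (2, 44, true), (5, 21, true), (4, 23, true), (3, 25, true), (2, 26, true), (6, 15, true), (5, 17, true), (4, 19, true), (3, 20, true), (5, 10, true), (4, 12, true), (3, 14, true), (4, 3, true), (3, 5, true), (3, 28, true), (2, 34, true), (4, 21, true), (3, 27, true), (3, 36, true), (2, 43, true), (4, 15, true), (5, 3, true), (6, 15, true), (5, 17, true), (4, 20, true), (5, 1, true), (6, 0, true), (5, 79, true), (4, 80, true), (3, 85, true), (2, 86, true), (1, 88, true), (0, 90, true), (0, 65, true), (6, 28,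 true), (5, 31, true), (4, 34, true), (3, 35, true), (5, 55, true), (4, 58, true), (3, 61, true), (2, 63, true), (1, 64, true), (0, 65, true), (4, 15, true), (3, 18, true), (5, 10, true), (4, 13, true), (6, 6, true), (5, 9, true), (5, 3, true), (6, 1, true), (7, 0, true), (6, 16, true), (5, 17, true), (4, 19, true), (3, 20, true), (5, 11, true), (4, 12, true), (3, 14, true), (4, 7, true), (3, 8, true), (6, 45, true), (5, 46, true), (4, 47, true), (3, 48, true), (2, 51, true), (1, 53, true), (0, 54, true), (5, 36, true), (4, 37, true), (3, 38, true), (2, 39, true), (1, 42, true), (0, 44, true), (4, 28, true), (3, 29, true), (2, 30, true), (1, 31, true), (0, 34, true), (5, 15, true), (4, 16, true), (3, 17, true), (2, 18, true), (6, 6, true), (5, 7, true), (4, 8, true), (3, 9, true), (5, 3, true), (4, 4, true), (3, 5, true), (4, 1, true), (3, 2, true), (3, 0, true)], [(3, 67, true), (2, 69, true), (1, 77, true), (4, 55, true), (3, 62, true), (2, 63, true), (1, 65, true), (3, 15, true), (4, 10, true), (5, 6, true), (6, 3, true), (7, 1, true),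 (8, 0, true), (7, 7, true), (6, 8, true), (5, 9, true), (6, 2, true), (4, 12, false), (3, 17, false), (2, 30, false), (0, 198, true), (8, 197, true), (9, 195, true), (17, 194, true), (7, 29, true), (6, 34, true), (8, 121, true), (7, 126, true), (6, 127, true), (5, 129, true), (4, 130, true), (3, 132, true), (2, 134, true), (1, 135, true), (2, 78, true), (1, 84, true), (3, 105, true), (2, 111, true), (1, 117, true), (7, 23, true), (6, 25, true), (5, 26, true), (4, 27, true), (7, 55, true), (6, 57, true), (5, 59, true), (4, 60, true), (3, 63, true), (8, 36, true), (7, 38, true), (6, 40, true), (5, 41, true), (4, 44, true), (7, 15, true), (6, 17, true), (5, 19, true), (4, 20, true), (6, 10, true), (5, 12, true), (4, 14, true), (5, 3, true), (4, 5, true), (4, 0, true), (7, 28, true), (6, 29, true), (5, 34, true), (4, 35, true), (6, 21, true), (5, 22, true), (4, 27, true), (5, 45, true), (4, 46, true), (6, 28, true), (5, 29, true), (7, 21, true), (6, 22, true), (8, 0, true), (7, 92, true), (6, 97, true), (5, 98, true), (4, 100, true), (3,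 101, true), (2, 103, true), (4, 62, true), (5, 62, true), (4, 65, true), (4, 35, true), (9, 29, true), (8, 30, true), (7, 31, true), (6, 32, true), (5, 33, true), (4, 34, true), (10, 22, true), (9, 23, true), (8, 24, true), (7, 25, true), (6, 26, true), (5, 27, true), (9, 56, true), (8, 57, true), (7, 58, true), (6, 59, true), (5, 60, true), (4, 62, true), (10, 46, true), (9, 47, true), (8, 48, true), (7, 49, true), (6, 50, true), (5, 52, true), (11, 37, true), (10, 38, true), (9, 39, true), (8, 40, true), (7, 41, true), (6, 43, true), (12, 22, true), (11, 23, true), (10, 24, true), (9, 25, true), (8, 26, true), (13, 7, true), (12, 8, true), (11, 9, true), (12, 67, true), (11, 68, true), (10, 70, true), (9, 71, true), (8, 72, true), (7, 73, true), (6, 74, true), (5, 75, true), (4, 76, true), (5, 65, true), (9, 28, true), (8, 31, true), (7, 35, true), (8, 6, true), (7, 9, true), (7, 0, true), (8, 51, true), (7, 52, true), (6, 53, true), (5, 54, true), (9, 46, true), (8, 49, true), (7, 51, true), (6, 52, true), (5, 53, true), (10, 37,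 true), (9, 40, true), (8, 42, true), (7, 43, true), (6, 44, true), (9, 29, true), (8, 32, true), (7, 34, true), (6, 35, true), (8, 11, true), (7, 14, true), (7, 4, true), (8, 2, true), (7, 17, true), (8, 12, true), (9, 8, true), (11, 55, true), (10, 57, true), (9, 58, true), (8, 59, true), (7, 60, true), (6, 61, true), (5, 64, true), (12, 15, true), (11, 17, true), (10, 18, true), (9, 19, true), (8, 20, true), (11, 10, true), (10, 12, true), (9, 13, true), (8, 14, true), (10, 6, true), (9, 8, true), (8, 9, true), (9, 3, true), (8, 5, true), (8, 1, true), (9, 0, true), (8, 56, true), (7, 61, true), (6, 64, true), (5, 65, true), (7, 29, true), (6, 34, true), (8, 16, true), (9, 11, true), (11, 136, true), (10, 137, true), (9, 140, true), (8, 141, true), (7, 142, true), (6, 143, true), (5, 145, true), (4, 147, true), (3, 148, true), (2, 149, true), (1, 150, true), (0, 152, true), (1, 105, true), (0, 111, true), (2, 91, true), (1, 97, true), (3, 66, true), (2, 72, true), (4, 55, true), (3, 61, true), (5, 36, true), (4, 42, true), (6, 21,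 true), (5, 27, true), (5, 3, true), (6, 0, true), (5, 107, true), (4, 113, true), (3, 115, true), (2, 116, true), (1, 118, true), (0, 119, true), (5, 91, true), (4, 93, true), (3, 95, true), (2, 96, true), (1, 99, true), (0, 101, true), (5, 48, true), (4, 49, true), (3, 50, true), (2, 52, true), (6, 24, true), (5, 25, true), (4, 26, true), (7, 13, true), (6, 14, true), (8, 45, true), (7, 46, true), (6, 48, true), (5, 50, true), (4, 51, true), (3, 52, true), (2, 54, true), (7, 36, true), (6, 37, true), (5, 39, true), (4, 41, true), (3, 42, true), (2, 43, true), (8, 28, true), (7, 29, true), (6, 31, true), (5, 33, true), (4, 34, true), (3, 35, true), (7, 21, true), (6, 22, true), (5, 24, true), (4, 26, true), (3, 27, true), (6, 10, true), (5, 11, true), (4, 13, true), (7, 3, true), (6, 4, true), (8, 1, true), (7, 2, true), (7, 0, true), (6, 8, true), (5, 9, true), (6, 66, true), (5, 68, true), (4, 70, true), (3, 71, true), (2, 74, true), (1, 76, true), (5, 45, true), (4, 48, true), (3, 52, true), (6, 10, true), (5, 13, true), (7, 1, true),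 (8, 45, true), (7, 46, true), (6, 48, true), (5, 49, true), (4, 52, true), (3, 54, true), (7, 36, true), (6, 37, true), (5, 39, true), (4, 40, true), (3, 43, true), (8, 28, true), (7, 29, true), (6, 31, true), (5, 32, true), (4, 35, true), (7, 10, true), (6, 11, true), (5, 13, true), (4, 14, true), (6, 3, true), (5, 4, true), (7, 1, true), (6, 2, true), (6, 15, true), (5, 17, true), (4, 18, true), (7, 10, true), (6, 12, true), (5, 13, true), (8, 6, true), (7, 8, true), (6, 9, true), (7, 0, true), (7, 28, true), (6, 30, true), (5, 32, true), (4, 33, true), (8, 55, true), (7, 57, true), (6, 59, true), (5, 60, true), (4, 62, true), (3, 63, true), (2, 65, true), (7, 55, true), (6, 57, true), (5, 59, true), (4, 60, true), (3, 62, true), (2, 63, true), (8, 45, true), (7, 47, true), (6, 49, true), (5, 50, true), (4, 52, true), (3, 53, true), (9, 28, true), (8, 30, true), (7, 32, true), (6, 33, true), (5, 35, true), (8, 15, true), (7, 17, true), (6, 19, true), (5, 20, true), (7, 6, true), (6, 8, true), (8, 3, true), (7, 5, true), (7, 55, true),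 (6, 58, true), (5, 59, true), (4, 63, true), (3, 64, true), (2, 65, true), (6, 36, true), (5, 39, true), (4, 40, true), (3, 44, true), (5, 10, true), (4, 13, true), (3, 14, true), (4, 6, true), (3, 9, true), (3, 1, true), (4, 0, true), (3, 79, true), (2, 87, true), (1, 89, true), (6, 15, true), (5, 18, true), (7, 10, true), (6, 13, true), (8, 6, true), (7, 9, true), (7, 0, true), (6, 70, true), (5, 71, true), (4, 72, true), (3, 73, true), (2, 77, true), (4, 51, true), (3, 52, true), (7, 46, true), (6, 49, true), (5, 51, true), (4, 52, true), (3, 54, true), (6, 37, true), (5, 40, true), (4, 42, true), (3, 43, true), (7, 29, true), (6, 32, true), (5, 34, true), (4, 35, true), (6, 11, true), (5, 14, true), (5, 4, true), (6, 2, true), (5, 57, true), (4, 61, true), (3, 63, true), (2, 65, true), (4, 47, true), (3, 51, true), (2, 53, true), (5, 30, true), (4, 34, true), (6, 17, true), (9, 91, true), (8, 92, true), (7, 93, true), (6, 96, true), (5, 97, true), (4, 98, true), (3, 99, true), (2, 100, true), (1, 103, true), (0, 104, true), (5,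 78, true), (4, 80, true), (3, 82, true), (2, 83, true), (1, 86, true), (0, 88, true), (1, 65, true), (6, 45, true), (5, 48, true), (4, 51, true), (3, 52, true), (2, 53, true), (1, 54, true), (5, 36, true), (4, 39, true), (3, 42, true), (2, 43, true), (1, 44, true), (4, 28, true), (3, 31, true), (2, 34, true), (1, 35, true), (3, 21, true), (2, 24, true), (1, 27, true), (2, 15, true), (1, 18, true), (3, 3, true), (4, 1, true), (5, 36, true), (4, 37, true), (3, 38, true), (2, 39, true), (1, 41, true), (6, 15, true), (5, 16, true), (4, 17, true), (3, 18, true), (2, 20, true), (5, 3, true), (4, 4, true), (3, 5, true), (4, 55, true), (3, 56, true), (2, 58, true), (1, 63, true), (5, 15, true), (4, 16, true), (3, 18, true), (6, 10, true), (5, 11, true), (4, 13, true), (7, 6, true), (6, 7, true), (5, 9, true), (6, 3, true), (5, 4, true), (7, 1, true), (6, 2, true), (6, 0, true), (6, 28, true), (5, 30, true), (4, 32, true), (3, 33, true), (7, 55, true), (6, 57, true), (5, 59, true), (4, 60, true), (3, 62, true), (2, 63, true), (1, 65, true),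 (6, 28, true), (5, 30, true), (4, 32, true), (3, 33, true), (2, 35, true), (5, 21, true), (4, 23, true), (3, 25, true), (2, 26, true), (6, 15, true), (5, 17, true), (4, 19, true), (3, 20, true), (5, 10, true), (4, 12, true), (3, 14, true), (4, 6, true), (3, 8, true), (5, 3, true), (4, 5, true), (4, 1, true), (5, 28, true), (4, 29, true), (3, 31, true), (2, 34, true), (6, 15, true), (5, 16, true), (4, 18, true), (7, 10, true), (6, 11, true), (5, 13, true), (8, 6, true), (7, 7, true), (6, 9, true), (7, 28, true), (6, 29, true), (5, 32, true), (4, 33, true), (3, 34, true), (2, 35, true), (6, 21, true), (5, 22, true), (4, 25, true), (3, 26, true), (2, 27, true), (5, 45, true), (4, 46, true), (3, 49, true), (2, 50, true), (1, 53, true), (6, 21, true), (5, 22, true), (4, 25, true), (3, 26, true), (7, 10, true), (6, 11, true), (5, 14, true), (6, 1, true), (5, 2, true), (5, 0, true), (5, 58, true), (4, 60, true), (3, 61, true), (2, 63, true), (1, 64, true), (6, 48, true), (5, 50, true), (4, 51, true), (3, 53, true), (2, 54, true), (5, 39, true),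 (4, 41, true), (3, 42, true), (2, 44, true), (4, 24, true), (3, 26, true), (2, 27, true), (3, 9, true), (3, 78, true), (2, 83, true), (1, 88, true), (0, 90, true), (0, 65, true), (7, 66, true), (6, 67, true), (5, 68, true), (4, 71, true), (3, 72, true), (2, 73, true), (1, 74, true), (0, 75, true), (6, 28, true), (5, 31, true), (4, 35, true), (5, 6, true), (4, 9, true), (4, 0, true), (5, 51, true), (4, 52, true), (3, 53, true), (2, 54, true), (6, 16, true), (5, 19, true), (7, 11, true), (6, 14, true), (6, 7, true), (8, 55, true), (7, 56, true), (6, 58, true), (5, 60, true), (4, 61, true), (3, 62, true), (2, 63, true), (1, 65, true), (7, 15, true), (6, 16, true), (5, 18, true), (4, 20, true), (6, 10, true), (5, 11, true), (4, 13, true), (7, 6, true), (6, 7, true), (5, 9, true), (6, 3, true), (5, 4, true), (7, 1, true), (6, 2, true), (6, 0, true), (6, 55, true), (5, 57, true), (4, 59, true), (3, 61, true), (2, 62, true), (1, 63, true), (7, 36, true), (6, 38, true), (5, 40, true), (4, 42, true), (3, 43, true), (2, 44, true), (6, 28, true),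 (5, 30, true), (4, 32, true), (3, 34, true), (2, 35, true), (5, 21, true), (4, 23, true), (3, 25, true), (2, 27, true), (4, 3, true), (3, 5, true), (3, 0, true), (2, 109, true), (1, 115, true), (0, 116, true), (2, 62, true), (3, 43, true), (6, 93, true), (5, 96, true), (4, 98, true), (3, 99, true), (2, 101, true), (1, 102, true), (7, 57, true), (6, 59, true), (5, 60, true), (4, 61, true), (3, 63, true), (8, 30, true), (7, 32, true), (6, 33, true), (5, 34, true), (9, 17, true), (8, 19, true), (7, 20, true), (8, 12, true), (7, 14, true), (7, 8, true), (8, 30, true), (7, 31, true), (6, 34, true), (5, 35, true), (7, 47, true), (6, 48, true), (5, 51, true), (4, 53, true), (8, 23, true), (7, 24, true), (6, 27, true), (7, 12, true), (6, 13, true), (10, 6, true), (9, 7, true), (8, 8, true), (7, 9, true), (9, 78, true), (8, 79, true), (7, 80, true), (6, 82, true), (5, 86, true), (4, 87, true), (3, 88, true), (2, 89, true), (8, 55, true), (7, 58, true), (6, 61, true), (5, 62, true), (4, 65, true), (7, 45, true), (6, 48, true), (5, 51, true),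 (4, 52, true), (8, 36, true), (7, 39, true), (6, 42, true), (5, 43, true), (9, 28, true), (8, 31, true), (7, 34, true), (6, 35, true), (8, 21, true), (7, 24, true), (6, 27, true), (7, 6, true), (6, 9, true), (6, 0, true), (5, 44, true), (6, 57, true), (5, 60, true), (4, 64, true), (7, 17, true), (6, 20, true), (6, 12, true), (7, 8, true), (8, 5, true), (9, 15, true), (8, 16, true), (7, 18, true), (6, 19, true), (10, 10, true), (9, 11, true), (8, 13, true), (7, 14, true), (9, 6, true), (8, 7, true), (7, 9, true), (8, 0, true), (8, 55, true), (7, 56, true), (6, 60, true), (5, 64, true), (4, 65, true), (7, 45, true), (6, 46, true), (5, 50, true), (4, 54, true), (6, 15, true), (5, 16, true), (4, 20, true), (5, 1, true), (4, 2, true), (4, 0, true), (7, 28, true), (6, 33, true), (5, 34, true), (8, 21, true), (7, 26, true), (6, 27, true), (7, 15, true), (6, 20, true), (6, 21, true), (7, 10, true), (8, 0, true), (7, 19, true), (10, 105, true), (9, 106, true), (8, 109, true), (7, 110, true), (6, 111, true), (5, 112, true), (4, 114, true), (3,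 116, true), (2, 117, true), (1, 118, true), (0, 119, true), (5, 91, true), (4, 93, true), (3, 95, true), (2, 96, true), (1, 99, true), (0, 101, true), (5, 48, true), (4, 49, true), (3, 50, true), (2, 52, true), (6, 24, true), (5, 25, true), (4, 26, true), (7, 13, true), (6, 14, true), (8, 45, true), (7, 46, true), (6, 48, true), (5, 50, true), (4, 51, true), (3, 52, true), (2, 54, true), (7, 36, true), (6, 37, true), (5, 39, true), (4, 41, true), (3, 42, true), (2, 43, true), (8, 28, true), (7, 29, true), (6, 31, true), (5, 33, true), (4, 34, true), (3, 35, true), (7, 21, true), (6, 22, true), (5, 24, true), (4, 26, true), (3, 27, true), (6, 10, true), (5, 11, true), (4, 13, true), (7, 3, true), (6, 4, true), (8, 1, true), (7, 2, true), (7, 0, true), (6, 8, true), (5, 9, true), (6, 78, true), (5, 80, true), (4, 82, true), (3, 83, true), (2, 86, true), (1, 88, true), (2, 65, true), (7, 45, true), (6, 48, true), (5, 51, true), (4, 52, true), (3, 53, true), (2, 54, true), (6, 36, true), (5, 39, true), (4, 42, true), (3, 43, true), (2,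 44, true), (5, 28, true), (4, 31, true), (3, 34, true), (2, 35, true), (4, 21, true), (3, 24, true), (2, 27, true), (3, 15, true), (2, 18, true), (4, 3, true), (5, 1, true), (6, 36, true), (5, 37, true), (4, 38, true), (3, 39, true), (2, 41, true), (7, 15, true), (6, 16, true), (5, 17, true), (4, 18, true), (3, 20, true), (6, 3, true), (5, 4, true), (4, 5, true), (5, 55, true), (4, 56, true), (3, 58, true), (2, 63, true), (6, 15, true), (5, 16, true), (4, 18, true), (7, 10, true), (6, 11, true), (5, 13, true), (8, 6, true), (7, 7, true), (6, 9, true), (7, 3, true), (6, 4, true), (8, 1, true), (7, 2, true), (7, 0, true), (7, 36, true), (6, 38, true), (5, 40, true), (4, 41, true), (3, 44, true), (6, 21, true), (5, 23, true), (4, 25, true), (3, 26, true), (7, 15, true), (6, 17, true), (5, 19, true), (4, 20, true), (6, 10, true), (5, 12, true), (4, 14, true), (5, 3, true), (4, 5, true), (4, 66, true), (3, 72, true), (2, 76, true), (5, 28, true), (4, 34, true), (6, 45, true), (5, 51, true), (4, 52, true), (7, 36, true), (6, 42, true), (5,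 43, true), (8, 10, true), (9, 6, true), (10, 3, true), (11, 1, true), (12, 28, true), (11, 29, true), (10, 30, true), (9, 31, true), (8, 32, true), (7, 34, true), (6, 35, true), (11, 21, true), (10, 22, true), (9, 23, true), (8, 24, true), (7, 25, true), (6, 27, true), (10, 45, true), (9, 46, true), (8, 47, true), (7, 48, true), (6, 49, true), (5, 53, true), (4, 54, true), (9, 36, true), (8, 37, true), (7, 38, true), (6, 39, true), (5, 40, true), (4, 44, true), (8, 28, true), (7, 29, true), (6, 30, true), (5, 31, true), (4, 32, true), (9, 15, true), (8, 16, true), (7, 17, true), (6, 18, true), (5, 19, true), (10, 3, true), (9, 4, true), (8, 5, true), (9, 1, true), (8, 2, true), (8, 0, true), (7, 39, true), (6, 40, true), (5, 41, true), (4, 43, true), (8, 18, true), (7, 19, true), (6, 20, true), (8, 47, true), (7, 48, true), (6, 49, true), (5, 52, true), (4, 53, true), (9, 38, true), (8, 39, true), (7, 40, true), (6, 43, true), (5, 44, true), (8, 30, true), (7, 31, true), (6, 32, true), (5, 35, true), (7, 17, true), (6, 18, true), (5,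 19, true), (8, 8, true), (7, 9, true), (7, 5, true), (8, 0, true), (7, 92, true), (6, 95, true), (5, 96, true), (4, 100, true), (3, 101, true), (2, 102, true), (1, 103, true), (0, 104, true), (5, 78, true), (4, 80, true), (3, 82, true), (2, 83, true), (1, 86, true), (0, 88, true), (1, 65, true), (6, 45, true), (5, 48, true), (4, 51, true), (3, 52, true), (2, 53, true), (1, 54, true), (5, 36, true), (4, 39, true), (3, 42, true), (2, 43, true), (1, 44, true), (4, 28, true), (3, 31, true), (2, 34, true), (1, 35, true), (3, 21, true), (2, 24, true), (1, 27, true), (2, 15, true), (1, 18, true), (3, 3, true), (4, 1, true), (5, 36, true), (4, 37, true), (3, 38, true), (2, 39, true), (1, 41, true), (6, 15, true), (5, 16, true), (4, 17, true), (3, 18, true), (2, 20, true), (5, 3, true), (4, 4, true), (3, 5, true), (4, 55, true), (3, 56, true), (2, 58, true), (1, 63, true), (5, 15, true), (4, 16, true), (3, 18, true), (6, 10, true), (5, 11, true), (4, 13, true), (7, 6, true), (6, 7, true), (5, 9, true), (6, 3, true), (5, 4, true), (7, 1, true),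 (6, 2, true), (6, 0, true), (6, 28, true), (5, 30, true), (4, 32, true), (3, 33, true), (7, 66, true), (6, 68, true), (5, 70, true), (4, 71, true), (3, 73, true), (2, 74, true), (1, 76, true), (5, 28, true), (4, 31, true), (3, 35, true), (4, 45, true), (3, 48, true), (5, 10, true), (4, 13, true), (6, 1, true), (7, 45, true), (6, 46, true), (5, 48, true), (4, 49, true), (3, 54, true), (6, 36, true), (5, 37, true), (4, 39, true), (3, 40, true), (7, 28, true), (6, 29, true), (5, 31, true), (4, 32, true), (8, 10, true), (7, 11, true), (6, 13, true), (5, 14, true), (7, 3, true), (6, 4, true), (8, 1, true), (7, 2, true), (7, 15, true), (6, 17, true), (5, 18, true), (8, 10, true), (7, 12, true), (6, 13, true), (9, 6, true), (8, 8, true), (7, 9, true), (8, 0, true), (8, 36, true), (7, 38, true), (6, 40, true), (5, 41, true), (4, 43, true), (3, 44, true), (7, 21, true), (6, 23, true), (5, 25, true), (4, 26, true), (8, 15, true), (7, 17, true), (6, 19, true), (5, 20, true), (7, 10, true), (6, 12, true), (5, 14, true), (6, 3, true), (5, 5, true),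 (5, 55, true), (4, 61, true), (3, 62, true), (2, 65, true), (4, 55, true), (3, 61, true), (2, 62, true), (5, 28, true), (4, 34, true), (3, 35, true), (4, 21, true), (3, 27, true), (3, 15, true), (4, 10, true), (5, 6, true), (6, 3, true), (7, 1, true), (8, 45, true), (7, 46, true), (6, 47, true), (5, 48, true), (4, 49, true), (3, 50, true), (9, 21, true), (8, 22, true), (7, 23, true), (6, 24, true), (5, 25, true), (4, 26, true), (10, 10, true), (9, 11, true), (8, 12, true), (7, 13, true), (6, 14, true), (9, 1, true), (8, 2, true), (8, 0, true), (7, 47, true), (6, 48, true), (5, 50, true), (4, 51, true), (3, 54, true), (6, 38, true), (5, 39, true), (4, 41, true), (3, 42, true), (7, 30, true), (6, 31, true), (5, 33, true), (4, 34, true), (8, 23, true), (7, 24, true), (6, 26, true), (5, 27, true), (7, 12, true), (6, 13, true), (8, 5, true), (9, 55, true), (8, 56, true), (7, 58, true), (6, 59, true), (5, 60, true), (4, 62, true), (3, 63, true), (2, 65, true), (8, 45, true), (7, 46, true), (6, 48, true), (5, 49, true), (4, 50, true), (3,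 52, true), (2, 53, true), (9, 36, true), (8, 37, true), (7, 39, true), (6, 40, true), (5, 41, true), (4, 43, true), (3, 44, true), (8, 21, true), (7, 22, true), (6, 24, true), (5, 25, true), (4, 26, true), (9, 6, true), (8, 7, true), (7, 9, true), (8, 78, true), (7, 79, true), (6, 82, true), (5, 83, true), (4, 84, true), (3, 85, true), (2, 87, true), (1, 89, true), (0, 90, true), (0, 76, true), (5, 28, true), (4, 31, true), (3, 34, true), (2, 35, true), (4, 21, true), (3, 24, true), (2, 27, true), (3, 45, true), (2, 48, true), (4, 36, true), (3, 39, true), (5, 28, true), (4, 31, true), (6, 21, true), (5, 24, true), (7, 15, true), (6, 18, true), (8, 3, true), (9, 1, true), (10, 36, true), (9, 37, true), (8, 38, true), (7, 39, true), (6, 41, true), (5, 42, true), (4, 43, true), (3, 44, true), (9, 15, true), (8, 16, true), (7, 17, true), (6, 18, true), (5, 20, true), (8, 3, true), (7, 4, true), (6, 5, true), (7, 15, true), (6, 16, true), (5, 18, true), (8, 10, true), (7, 11, true), (6, 13, true), (9, 6, true), (8, 7, true), (7, 9, true),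 (8, 0, true), (8, 66, true), (7, 67, true), (6, 70, true), (5, 71, true), (4, 72, true), (3, 73, true), (2, 75, true), (1, 76, true), (0, 77, true), (0, 65, true), (5, 28, true), (4, 31, true), (3, 35, true), (4, 21, true), (3, 24, true), (5, 45, true), (4, 48, true), (3, 51, true), (2, 53, true), (1, 54, true), (4, 10, true), (3, 13, true), (5, 1, true), (6, 45, true), (5, 46, true), (4, 48, true), (3, 49, true), (2, 51, true), (1, 53, true), (7, 36, true), (6, 37, true), (5, 39, true), (4, 40, true), (3, 42, true), (2, 44, true), (6, 28, true), (5, 29, true), (4, 31, true), (3, 32, true), (2, 34, true), (7, 10, true), (6, 11, true), (5, 13, true), (4, 14, true), (6, 3, true), (5, 4, true), (7, 1, true), (6, 2, true), (6, 55, true), (5, 57, true), (4, 58, true), (3, 61, true), (2, 62, true), (1, 64, true), (0, 65, true), (5, 15, true), (4, 17, true), (3, 18, true), (6, 10, true), (5, 12, true), (4, 13, true), (7, 6, true), (6, 8, true), (5, 9, true), (6, 3, true), (5, 5, true), (5, 1, true), (6, 0, true), (6, 45, true), (5, 46, true),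 (4, 49, true), (3, 50, true), (2, 51, true), (1, 52, true), (0, 54, true), (5, 10, true), (4, 11, true), (3, 14, true), (4, 1, true), (3, 2, true), (3, 0, true)]),
    ([21, 4, 11, 3, 1], [(0, 194, true), (9, 201, true), (8, 136, true), (7, 137, true), (6, 140, true), (5, 145, true), (4, 147, true), (3, 148, true), (2, 149, true), (1, 150, true), (0, 152, true), (1, 105, true), (0, 111, true), (2, 91, true), (1, 97, true), (3, 66, true), (2, 72, true), (4, 55, true), (3, 61, true), (5, 36, true), (4, 42, true), (6, 21, true), (5, 27, true), (5, 3, true), (6, 0, true), (5, 107, true), (4, 113, true), (3, 115, true), (2, 116, true), (1, 118, true), (0, 119, true), (5, 91, true), (4, 93, true), (3, 95, true), (2, 96, true), (1, 99, true), (0, 101, true), (5, 48, true), (4, 49, true), (3, 50, true), (2, 52, true), (6, 24, true), (5, 25, true), (4, 26, true), (7, 13, true), (6, 14, true), (8, 45, true), (7, 46, true), (6, 48, true), (5, 50, true), (4, 51, true), (3, 52, true), (2, 54, true), (7, 36, true), (6, 37, true), (5, 39, true), (4,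 41, true), (3, 42, true), (2, 43, true), (8, 28, true), (7, 29, true), (6, 31, true), (5, 33, true), (4, 34, true), (3, 35, true), (7, 21, true), (6, 22, true), (5, 24, true), (4, 26, true), (3, 27, true), (6, 10, true), (5, 11, true), (4, 13, true), (7, 3, true), (6, 4, true), (8, 1, true), (7, 2, true), (7, 0, true), (6, 8, true), (5, 9, true), (6, 66, true), (5, 68, true), (4, 70, true), (3, 71, true), (2, 74, true), (1, 76, true), (5, 45, true), (4, 48, true), (3, 52, true), (6, 10, true), (5, 13, true), (7, 1, true), (8, 45, true), (7, 46, true), (6, 48, true), (5, 49, true), (4, 52, true), (3, 54, true), (7, 36, true), (6, 37, true), (5, 39, true), (4, 40, true), (3, 43, true), (8, 28, true), (7, 29, true), (6, 31, true), (5, 32, true), (4, 35, true), (7, 10, true), (6, 11, true), (5, 13, true), (4, 14, true), (6, 3, true), (5, 4, true), (7, 1, true), (6, 2, true), (6, 15, true), (5, 17, true), (4, 18, true), (7, 10, true), (6, 12, true), (5, 13, true), (8, 6, true), (7, 8, true), (6, 9, true), (7, 0, true), (7, 28, true), (6,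 30, true), (5, 32, true), (4, 33, true), (8, 55, true), (7, 57, true), (6, 59, true), (5, 60, true), (4, 62, true), (3, 63, true), (2, 65, true), (7, 55, true), (6, 57, true), (5, 59, true), (4, 60, true), (3, 62, true), (2, 63, true), (8, 45, true), (7, 47, true), (6, 49, true), (5, 50, true), (4, 52, true), (3, 53, true), (9, 28, true), (8, 30, true), (7, 32, true), (6, 33, true), (5, 35, true), (8, 15, true), (7, 17, true), (6, 19, true), (5, 20, true), (7, 6, true), (6, 8, true), (8, 3, true), (7, 5, true), (7, 55, true), (6, 58, true), (5, 59, true), (4, 63, true), (3, 64, true), (2, 65, true), (6, 36, true), (5, 39, true), (4, 40, true), (3, 44, true), (5, 10, true), (4, 13, true), (3, 14, true), (4, 6, true), (3, 9, true), (3, 1, true), (4, 0, true), (3, 79, true), (2, 87, true), (1, 89, true), (6, 15, true), (5, 18, true), (7, 10, true), (6, 13, true), (8, 6, true), (7, 9, true), (7, 0, true), (6, 70, true), (5, 71, true), (4, 72, true), (3, 73, true), (2, 77, true), (4, 51, true), (3, 52, true), (7, 46, true), (6, 49, true),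 (5, 51, true), (4, 52, true), (3, 54, true), (6, 37, true), (5, 40, true), (4, 42, true), (3, 43, true), (7, 29, true), (6, 32, true), (5, 34, true), (4, 35, true), (6, 11, true), (5, 14, true), (5, 4, true), (6, 2, true), (5, 57, true), (4, 61, true), (3, 63, true), (2, 65, true), (4, 47, true), (3, 51, true), (2, 53, true), (5, 30, true), (4, 34, true), (6, 17, true), (9, 91, true), (8, 92, true), (7, 93, true), (6, 96, true), (5, 97, true), (4, 98, true), (3, 99, true), (2, 100, true), (1, 103, true), (0, 104, true), (5, 78, true), (4, 80, true), (3, 82, true), (2, 83, true), (1, 86, true), (0, 88, true), (1, 65, true), (6, 45, true), (5, 48, true), (4, 51, true), (3, 52, true), (2, 53, true), (1, 54, true), (5, 36, true), (4, 39, true), (3, 42, true), (2, 43, true), (1, 44, true), (4, 28, true), (3, 31, true), (2, 34, true), (1, 35, true), (3, 21, true), (2, 24, true), (1, 27, true), (2, 15, true), (1, 18, true), (3, 3, true), (4, 1, true), (5, 36, true), (4, 37, true), (3, 38, true), (2, 39, true), (1, 41, true), (6, 15, true),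 (5, 16, true), (4, 17, true), (3, 18, true), (2, 20, true), (5, 3, true), (4, 4, true), (3, 5, true), (4, 55, true), (3, 56, true), (2, 58, true), (1, 63, true), (5, 15, true), (4, 16, true), (3, 18, true), (6, 10, true), (5, 11, true), (4, 13, true), (7, 6, true), (6, 7, true), (5, 9, true), (6, 3, true), (5, 4, true), (7, 1, true), (6, 2, true), (6, 0, true), (6, 28, true), (5, 30, true), (4, 32, true), (3, 33, true), (7, 55, true), (6, 57, true), (5, 59, true), (4, 60, true), (3, 62, true), (2, 63, true), (1, 65, true), (6, 28, true), (5, 30, true), (4, 32, true), (3, 33, true), (2, 35, true), (5, 21, true), (4, 23, true), (3, 25, true), (2, 26, true), (6, 15, true), (5, 17, true), (4, 19, true), (3, 20, true), (5, 10, true), (4, 12, true), (3, 14, true), (4, 6, true), (3, 8, true), (5, 3, true), (4, 5, true), (4, 1, true), (5, 28, true), (4, 29, true), (3, 31, true), (2, 34, true), (6, 15, true), (5, 16, true), (4, 18, true), (7, 10, true), (6, 11, true), (5, 13, true), (8, 6, true), (7, 7, true), (6, 9, true), (7, 28, true), (6,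 29, true), (5, 32, true), (4, 33, true), (3, 34, true), (2, 35, true), (6, 21, true), (5, 22, true), (4, 25, true), (3, 26, true), (2, 27, true), (5, 45, true), (4, 46, true), (3, 49, true), (2, 50, true), (1, 53, true), (6, 21, true), (5, 22, true), (4, 25, true), (3, 26, true), (7, 10, true), (6, 11, true), (5, 14, true), (6, 1, true), (5, 2, true), (5, 0, true), (5, 58, true), (4, 60, true), (3, 61, true), (2, 63, true), (1, 64, true), (6, 48, true), (5, 50, true), (4, 51, true), (3, 53, true), (2, 54, true), (5, 39, true), (4, 41, true), (3, 42, true), (2, 44, true), (4, 24, true), (3, 26, true), (2, 27, true), (3, 9, true), (3, 78, true), (2, 83, true), (1, 88, true), (0, 90, true), (0, 65, true), (7, 66, true), (6, 67, true), (5, 68, true), (4, 71, true), (3, 72, true), (2, 73, true), (1, 74, true), (0, 75, true), (6, 28, true), (5, 31, true), (4, 35, true), (5, 6, true), (4, 9, true), (4, 0, true), (5, 51, true), (4, 52, true), (3, 53, true), (2, 54, true), (6, 16, true), (5, 19, true), (7, 11, true), (6, 14, true), (6, 7, true),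 (8, 55, true), (7, 56, true), (6, 58, true), (5, 60, true), (4, 61, true), (3, 62, true), (2, 63, true), (1, 65, true), (7, 15, true), (6, 16, true), (5, 18, true), (4, 20, true), (6, 10, true), (5, 11, true), (4, 13, true), (7, 6, true), (6, 7, true), (5, 9, true), (6, 3, true), (5, 4, true), (7, 1, true), (6, 2, true), (6, 0, true), (6, 55, true), (5, 57, true), (4, 59, true), (3, 61, true), (2, 62, true), (1, 63, true), (7, 36, true), (6, 38, true), (5, 40, true), (4, 42, true), (3, 43, true), (2, 44, true), (6, 28, true), (5, 30, true), (4, 32, true), (3, 34, true), (2, 35, true), (5, 21, true), (4, 23, true), (3, 25, true), (2, 27, true), (4, 3, true), (3, 5, true), (3, 0, true), (2, 109, true), (1, 115, true), (0, 116, true), (2, 62, true), (3, 43, true), (6, 93, true), (5, 96, true), (4, 98, true), (3, 99, true), (2, 101, true), (1, 102, true), (7, 57, true), (6, 59, true), (5, 60, true), (4, 61, true), (3, 63, true), (8, 30, true), (7, 32, true), (6, 33, true), (5, 34, true), (9, 17, true), (8, 19, true), (7, 20, true), (8,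 12, true), (7, 14, true), (7, 8, true), (8, 30, true), (7, 31, true), (6, 34, true), (5, 35, true), (7, 47, true), (6, 48, true), (5, 51, true), (4, 53, true), (8, 23, true), (7, 24, true), (6, 27, true), (7, 12, true), (6, 13, true), (10, 6, true), (9, 7, true), (8, 8, true), (7, 9, true), (9, 78, true), (8, 79, true), (7, 80, true), (6, 82, true), (5, 86, true), (4, 87, true), (3, 88, true), (2, 89, true), (8, 55, true), (7, 58, true), (6, 61, true), (5, 62, true), (4, 65, true), (7, 45, true), (6, 48, true), (5, 51, true), (4, 52, true), (8, 36, true), (7, 39, true), (6, 42, true), (5, 43, true), (9, 28, true), (8, 31, true), (7, 34, true), (6, 35, true), (8, 21, true), (7, 24, true), (6, 27, true), (7, 6, true), (6, 9, true), (6, 0, true), (5, 44, true), (6, 57, true), (5, 60, true), (4, 64, true), (7, 17, true), (6, 20, true), (6, 12, true), (7, 8, true), (8, 5, true), (9, 15, true), (8, 16, true), (7, 18, true), (6, 19, true), (10, 10, true), (9, 11, true), (8, 13, true), (7, 14, true), (9, 6, true), (8, 7, true), (7, 9, true),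 (8, 0, true), (8, 55, true), (7, 56, true), (6, 60, true), (5, 64, true), (4, 65, true), (7, 45, true), (6, 46, true), (5, 50, true), (4, 54, true), (6, 15, true), (5, 16, true), (4, 20, true), (5, 1, true), (4, 2, true), (4, 0, true), (7, 21, true), (6, 26, true), (5, 27, true), (6, 10, true), (7, 0, true), (6, 19, true), (5, 20, true), (7, 120, true), (6, 121, true), (5, 124, true), (4, 129, true), (3, 131, true), (2, 132, true), (1, 133, true), (0, 134, true), (3, 105, true), (2, 116, true), (1, 117, true), (7, 68, true), (6, 70, true), (5, 71, true), (4, 72, true), (3, 74, true), (6, 21, true), (5, 24, true), (7, 45, true), (6, 48, true), (5, 51, true), (4, 52, true), (8, 10, true), (7, 13, true), (9, 1, true), (10, 45, true), (9, 46, true), (8, 48, true), (7, 49, true), (6, 51, true), (5, 52, true), (4, 54, true), (9, 36, true), (8, 37, true), (7, 39, true), (6, 40, true), (5, 42, true), (4, 43, true), (10, 28, true), (9, 29, true), (8, 31, true), (7, 32, true), (6, 34, true), (5, 35, true), (9, 10, true), (8, 11, true), (7, 13,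 true), (6, 14, true), (8, 3, true), (7, 4, true), (9, 1, true), (8, 2, true), (8, 15, true), (7, 17, true), (6, 18, true), (9, 10, true), (8, 12, true), (7, 13, true), (10, 6, true), (9, 8, true), (8, 9, true), (9, 0, true), (8, 30, true), (7, 32, true), (6, 33, true), (5, 34, true), (10, 91, true), (9, 93, true), (8, 95, true), (7, 96, true), (6, 97, true), (5, 98, true), (4, 99, true), (3, 102, true), (2, 103, true), (4, 73, true), (5, 43, true), (10, 30, true), (9, 32, true), (8, 33, true), (7, 34, true), (6, 35, true), (9, 17, true), (8, 19, true), (7, 20, true), (8, 12, true), (7, 14, true), (7, 8, true), (8, 30, true), (7, 31, true), (6, 34, true), (9, 23, true), (8, 24, true), (7, 27, true), (8, 47, true), (7, 48, true), (6, 52, true), (5, 53, true), (9, 23, true), (8, 24, true), (10, 12, true), (9, 13, true), (13, 45, true), (12, 46, true), (11, 47, true), (10, 48, true), (9, 49, true), (8, 51, true), (7, 52, true), (6, 53, true), (5, 54, true), (12, 36, true), (11, 37, true), (10, 38, true), (9, 39, true), (8, 40, true), (7,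 42, true), (6, 43, true), (5, 44, true), (11, 28, true), (10, 29, true), (9, 30, true), (8, 31, true), (7, 32, true), (6, 34, true), (5, 35, true), (10, 21, true), (9, 22, true), (8, 23, true), (7, 24, true), (6, 25, true), (5, 27, true), (9, 10, true), (8, 11, true), (7, 12, true), (6, 13, true), (5, 14, true), (8, 3, true), (7, 4, true), (6, 5, true), (7, 1, true), (6, 2, true), (6, 0, true), (5, 9, true), (5, 0, true), (8, 10, true), (7, 11, true), (9, 45, true), (8, 46, true), (7, 49, true), (6, 51, true), (5, 52, true), (10, 28, true), (9, 29, true), (8, 32, true), (7, 34, true), (6, 35, true), (9, 21, true), (8, 22, true), (7, 25, true), (6, 27, true), (8, 0, true), (8, 105, true), (7, 106, true), (6, 109, true), (5, 114, true), (4, 116, true), (3, 117, true), (2, 118, true), (1, 119, true), (6, 91, true), (5, 93, true), (4, 95, true), (3, 96, true), (2, 99, true), (1, 101, true), (6, 48, true), (5, 49, true), (4, 50, true), (3, 52, true), (7, 24, true), (6, 25, true), (5, 26, true), (8, 13, true), (7, 14, true), (9, 45, true),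 (8, 46, true), (7, 48, true), (6, 50, true), (5, 51, true), (4, 52, true), (3, 54, true), (8, 36, true), (7, 37, true), (6, 39, true), (5, 41, true), (4, 42, true), (3, 43, true), (9, 28, true), (8, 29, true), (7, 31, true), (6, 33, true), (5, 34, true), (4, 35, true), (8, 21, true), (7, 22, true), (6, 24, true), (5, 26, true), (4, 27, true), (7, 10, true), (6, 11, true), (5, 13, true), (8, 3, true), (7, 4, true), (9, 1, true), (8, 2, true), (8, 0, true), (7, 8, true), (6, 9, true), (7, 78, true), (6, 80, true), (5, 82, true), (4, 83, true), (3, 86, true), (2, 88, true), (3, 65, true), (8, 45, true), (7, 48, true), (6, 51, true), (5, 52, true), (4, 53, true), (3, 54, true), (7, 36, true), (6, 39, true), (5, 42, true), (4, 43, true), (3, 44, true), (6, 28, true), (5, 31, true), (4, 34, true), (3, 35, true), (5, 21, true), (4, 24, true), (3, 27, true), (4, 15, true), (3, 18, true), (5, 3, true), (6, 1, true), (7, 36, true), (6, 37, true), (5, 38, true), (4, 39, true), (3, 41, true), (8, 15, true), (7, 16, true), (6, 17, true), (5, 18,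 true), (4, 20, true), (7, 3, true), (6, 4, true), (5, 5, true), (6, 55, true), (5, 56, true), (4, 58, true), (3, 63, true), (7, 15, true), (6, 16, true), (5, 18, true), (8, 10, true), (7, 11, true), (6, 13, true), (9, 6, true), (8, 7, true), (7, 9, true), (8, 3, true), (7, 4, true), (9, 1, true), (8, 2, true), (8, 0, true), (8, 36, true), (7, 38, true), (6, 40, true), (5, 41, true), (4, 44, true), (7, 21, true), (6, 23, true), (5, 25, true), (4, 26, true), (8, 15, true), (7, 17, true), (6, 19, true), (5, 20, true), (7, 10, true), (6, 12, true), (5, 14, true), (6, 3, true), (5, 5, true), (5, 66, true), (4, 72, true), (3, 76, true), (6, 28, true), (5, 34, true), (7, 45, true), (6, 51, true), (5, 52, true), (8, 36, true), (7, 42, true), (6, 43, true), (9, 10, true), (10, 6, true), (11, 3, true), (12, 1, true), (13, 36, true), (12, 37, true), (11, 38, true), (10, 39, true), (9, 40, true), (8, 42, true), (7, 43, true), (6, 44, true), (12, 15, true), (11, 16, true), (10, 17, true), (9, 18, true), (8, 19, true), (13, 3, true), (12, 4, true),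 (11, 5, true), (12, 45, true), (11, 46, true), (10, 48, true), (9, 49, true), (8, 50, true), (7, 51, true), (6, 52, true), (5, 54, true), (11, 36, true), (10, 37, true), (9, 39, true), (8, 40, true), (7, 41, true), (6, 42, true), (5, 43, true), (12, 28, true), (11, 29, true), (10, 31, true), (9, 32, true), (8, 33, true), (7, 34, true), (6, 35, true), (11, 15, true), (10, 16, true), (9, 18, true), (8, 19, true), (7, 20, true), (10, 6, true), (9, 7, true), (8, 9, true), (9, 3, true), (8, 4, true), (10, 1, true), (9, 2, true), (9, 0, true), (9, 78, true), (8, 80, true), (7, 82, true), (6, 84, true), (5, 86, true), (4, 88, true), (3, 89, true), (2, 90, true), (2, 76, true), (3, 65, true), (9, 21, true), (8, 24, true), (7, 27, true), (8, 36, true), (7, 39, true), (6, 43, true), (5, 44, true), (7, 15, true), (6, 18, true), (8, 3, true), (9, 55, true), (8, 57, true), (7, 58, true), (6, 60, true), (5, 62, true), (4, 64, true), (3, 65, true), (8, 15, true), (7, 17, true), (6, 18, true), (5, 20, true), (7, 10, true), (6, 12, true), (5, 13, true),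 (8, 6, true), (7, 8, true), (6, 9, true), (7, 3, true), (6, 5, true), (6, 1, true), (7, 0, true), (7, 45, true), (6, 46, true), (5, 49, true), (4, 52, true), (3, 54, true), (6, 36, true), (5, 37, true), (4, 40, true), (3, 43, true), (7, 28, true), (6, 29, true), (5, 32, true), (4, 35, true), (6, 15, true), (5, 16, true), (4, 19, true), (7, 6, true), (6, 7, true), (8, 3, true), (7, 4, true), (9, 1, true), (8, 2, true), (8, 0, true)], [(1, 70, true), (7, 7, true), (6, 8, true), (8, 2, true), (5, 13, false), (6, 12, false), (4, 31, false), (5, 30, false), (3, 39, false), (4, 2, false), (2, 48, false), (3, 46, false), (0, 201, true), (12, 199, true), (19, 198, true), (27, 197, true), (28, 194, true), (11, 136, true), (10, 137, true), (9, 138, true), (8, 139, true), (7, 141, true), (6, 143, true), (5, 144, true), (4, 145, true), (3, 148, true), (2, 150, true), (1, 151, true), (0, 152, true), (1, 120, true), (0, 126, true), (2, 105, true), (1, 111, true), (3, 91, true), (2, 97, true), (4, 66, true), (3, 72, true), (5, 55, true), (4, 61, true),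 (6, 36, true), (5, 42, true), (7, 21, true), (6, 27, true), (6, 3, true), (7, 0, true), (6, 93, true), (5, 99, true), (4, 101, true), (3, 102, true), (2, 104, true), (7, 66, true), (6, 68, true), (5, 70, true), (4, 71, true), (3, 74, true), (2, 76, true), (6, 45, true), (5, 48, true), (4, 52, true), (7, 10, true), (6, 13, true), (8, 1, true), (9, 45, true), (8, 46, true), (7, 48, true), (6, 49, true), (5, 52, true), (4, 54, true), (8, 36, true), (7, 37, true), (6, 39, true), (5, 40, true), (4, 43, true), (9, 28, true), (8, 29, true), (7, 31, true), (6, 32, true), (5, 35, true), (8, 10, true), (7, 11, true), (6, 13, true), (5, 14, true), (7, 3, true), (6, 4, true), (8, 1, true), (7, 2, true), (7, 15, true), (6, 17, true), (5, 18, true), (8, 10, true), (7, 12, true), (6, 13, true), (9, 6, true), (8, 8, true), (7, 9, true), (8, 0, true), (8, 36, true), (7, 38, true), (6, 40, true), (5, 41, true), (4, 44, true), (7, 21, true), (6, 23, true), (5, 25, true), (4, 26, true), (8, 15, true), (7, 17, true), (6, 19, true), (5, 20, true), (7, 10,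 true), (6, 12, true), (5, 14, true), (6, 3, true), (5, 5, true), (5, 55, true), (4, 61, true), (3, 65, true), (4, 28, true), (3, 34, true), (5, 15, true), (6, 10, true), (7, 6, true), (8, 6, true), (7, 9, true), (7, 78, true), (6, 82, true), (5, 83, true), (4, 84, true), (3, 85, true), (2, 89, true), (5, 51, true), (4, 52, true), (6, 42, true), (5, 43, true), (7, 34, true), (6, 35, true), (6, 27, true), (8, 37, true), (7, 38, true), (6, 41, true), (5, 44, true), (7, 16, true), (6, 17, true), (5, 20, true), (6, 4, true), (5, 5, true), (6, 66, true), (5, 67, true), (4, 75, true), (3, 77, true), (3, 65, true), (7, 55, true), (6, 58, true), (5, 62, true), (4, 63, true), (3, 64, true), (8, 15, true), (7, 18, true), (9, 10, true), (8, 13, true), (10, 6, true), (9, 9, true), (9, 3, true), (10, 1, true), (11, 0, true), (11, 55, true), (10, 56, true), (9, 57, true), (8, 59, true), (7, 60, true), (6, 62, true), (5, 63, true), (4, 64, true), (3, 65, true), (10, 36, true), (9, 37, true), (8, 38, true), (7, 40, true), (6, 41, true), (5, 43, true),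 (4, 44, true), (9, 28, true), (8, 29, true), (7, 30, true), (6, 32, true), (5, 33, true), (4, 35, true), (8, 21, true), (7, 22, true), (6, 23, true), (5, 25, true), (4, 26, true), (9, 3, true), (8, 4, true), (7, 5, true), (8, 0, true), (7, 46, true), (6, 49, true), (5, 50, true), (4, 51, true), (3, 54, true), (6, 22, true), (5, 25, true), (4, 26, true), (3, 27, true), (5, 16, true), (4, 19, true), (3, 20, true), (5, 28, true), (4, 29, true), (3, 32, true), (6, 3, true), (5, 4, true), (7, 0, true), (6, 29, true), (5, 30, true), (4, 32, true), (3, 35, true), (5, 16, true), (4, 17, true), (3, 19, true), (6, 46, true), (5, 47, true), (4, 49, true), (3, 50, true), (7, 37, true), (6, 38, true), (5, 40, true), (4, 41, true), (8, 29, true), (7, 30, true), (6, 32, true), (5, 33, true), (9, 22, true), (8, 23, true), (7, 25, true), (6, 26, true), (10, 11, true), (9, 12, true), (8, 14, true), (9, 7, true), (8, 8, true), (10, 4, true), (9, 5, true), (9, 2, true), (9, 36, true), (8, 39, true), (7, 41, true), (6, 42, true), (5, 43, true), (4, 44,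 true), (8, 28, true), (7, 31, true), (6, 33, true), (5, 34, true), (4, 35, true), (7, 0, true), (6, 18, true), (5, 20, true), (7, 120, true), (6, 121, true), (5, 123, true), (4, 126, true), (3, 129, true), (2, 132, true), (1, 134, true), (0, 135, true), (1, 78, true), (0, 84, true), (2, 105, true), (1, 111, true), (0, 117, true), (6, 23, true), (5, 25, true), (4, 26, true), (3, 27, true), (6, 28, true), (5, 30, true), (4, 32, true), (3, 33, true), (7, 21, true), (6, 23, true), (5, 25, true), (4, 26, true), (8, 1, true), (9, 0, true), (8, 22, true), (7, 23, true), (6, 25, true), (5, 26, true), (4, 27, true), (7, 46, true), (6, 47, true), (5, 49, true), (4, 50, true), (3, 52, true), (2, 53, true), (8, 37, true), (7, 38, true), (6, 40, true), (5, 41, true), (4, 43, true), (3, 44, true), (7, 29, true), (6, 30, true), (5, 32, true), (4, 33, true), (3, 35, true), (6, 16, true), (5, 17, true), (4, 19, true), (3, 20, true), (5, 7, true), (4, 8, true), (6, 4, true), (5, 5, true), (5, 2, true), (5, 45, true), (4, 48, true), (3, 49, true), (2,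 54, true), (4, 28, true), (3, 31, true), (2, 32, true), (5, 21, true), (4, 24, true), (3, 25, true), (6, 0, true), (6, 105, true), (5, 108, true), (4, 109, true), (3, 111, true), (2, 112, true), (1, 117, true), (0, 119, true), (5, 78, true), (4, 80, true), (3, 82, true), (2, 83, true), (1, 86, true), (0, 88, true), (1, 65, true), (6, 45, true), (5, 48, true), (4, 51, true), (3, 52, true), (2, 53, true), (1, 54, true), (5, 36, true), (4, 39, true), (3, 42, true), (2, 43, true), (1, 44, true), (4, 28, true), (3, 31, true), (2, 34, true), (1, 35, true), (3, 21, true), (2, 24, true), (1, 27, true), (2, 15, true), (1, 18, true), (3, 3, true), (4, 1, true), (5, 36, true), (4, 37, true), (3, 38, true), (2, 39, true), (1, 41, true), (6, 15, true), (5, 16, true), (4, 17, true), (3, 18, true), (2, 20, true), (5, 3, true), (4, 4, true), (3, 5, true), (4, 55, true), (3, 56, true), (2, 58, true), (1, 63, true), (5, 15, true), (4, 16, true), (3, 18, true), (6, 10, true), (5, 11, true), (4, 13, true), (7, 6, true), (6, 7, true), (5, 9, true), (6,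 3, true), (5, 4, true), (7, 1, true), (6, 2, true), (6, 0, true), (6, 36, true), (5, 38, true), (4, 40, true), (3, 41, true), (2, 44, true), (5, 21, true), (4, 23, true), (3, 25, true), (2, 26, true), (6, 15, true), (5, 17, true), (4, 19, true), (3, 20, true), (5, 10, true), (4, 12, true), (3, 14, true), (4, 3, true), (3, 5, true), (3, 28, true), (2, 34, true), (4, 21, true), (3, 27, true), (3, 36, true), (2, 43, true), (4, 15, true), (5, 3, true), (6, 15, true), (5, 17, true), (4, 20, true), (5, 1, true), (6, 0, true), (5, 79, true), (4, 80, true), (3, 85, true), (2, 86, true), (1, 88, true), (0, 90, true), (0, 65, true), (6, 28, true), (5, 31, true), (4, 34, true), (3, 35, true), (5, 55, true), (4, 58, true), (3, 61, true), (2, 63, true), (1, 64, true), (0, 65, true), (4, 15, true), (3, 18, true), (5, 10, true), (4, 13, true), (6, 6, true), (5, 9, true), (5, 3, true), (6, 1, true), (7, 0, true), (6, 16, true), (5, 17, true), (4, 19, true), (3, 20, true), (5, 11, true), (4, 12, true), (3, 14, true), (4, 7, true), (3, 8, true), (6,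 55, true), (5, 56, true), (4, 57, true), (3, 58, true), (2, 61, true), (1, 63, true), (0, 64, true), (7, 28, true), (6, 29, true), (5, 30, true), (4, 31, true), (3, 34, true), (8, 0, true), (7, 137, true), (6, 138, true), (5, 139, true), (4, 142, true), (3, 143, true), (2, 144, true), (1, 145, true), (0, 146, true), (6, 45, true), (5, 46, true), (4, 49, true), (3, 50, true), (2, 54, true), (5, 21, true), (4, 22, true), (3, 25, true), (2, 26, true), (6, 15, true), (5, 16, true), (4, 19, true), (3, 20, true), (5, 0, true), (4, 29, true), (3, 32, true), (2, 34, true), (5, 4, true), (7, 28, true), (6, 29, true), (5, 30, true), (4, 32, true), (3, 34, true), (2, 35, true), (6, 21, true), (5, 22, true), (4, 23, true), (3, 25, true), (2, 27, true), (5, 45, true), (4, 46, true), (3, 47, true), (2, 49, true), (6, 36, true), (5, 37, true), (4, 38, true), (3, 40, true), (7, 28, true), (6, 29, true), (5, 30, true), (4, 32, true), (8, 21, true), (7, 22, true), (6, 23, true), (5, 25, true), (9, 10, true), (8, 11, true), (7, 12, true), (6, 14, true),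 (8, 6, true), (7, 7, true), (6, 8, true), (9, 3, true), (8, 4, true), (7, 5, true), (8, 1, true), (7, 2, true), (7, 0, true), (6, 39, true), (5, 42, true), (4, 43, true), (3, 44, true), (5, 31, true), (4, 34, true), (3, 35, true), (5, 15, true), (4, 18, true), (6, 1, true), (7, 120, true), (6, 121, true), (5, 123, true), (4, 125, true), (3, 126, true), (2, 129, true), (1, 130, true), (7, 28, true), (6, 30, true), (5, 32, true), (4, 33, true), (8, 21, true), (7, 23, true), (6, 25, true), (5, 26, true), (9, 1, true), (10, 0, true), (9, 22, true), (8, 23, true), (7, 25, true), (6, 26, true), (5, 27, true), (8, 22, true), (7, 23, true), (6, 25, true), (5, 26, true), (9, 16, true), (8, 17, true), (7, 19, true), (6, 20, true), (9, 45, true), (8, 46, true), (7, 47, true), (6, 49, true), (5, 51, true), (4, 52, true), (3, 53, true), (10, 36, true), (9, 37, true), (8, 38, true), (7, 40, true), (6, 42, true), (5, 43, true), (4, 44, true), (9, 28, true), (8, 29, true), (7, 30, true), (6, 32, true), (5, 34, true), (4, 35, true), (8, 15, true), (7,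 16, true), (6, 17, true), (5, 19, true), (9, 6, true), (8, 7, true), (7, 8, true), (10, 3, true), (9, 4, true), (8, 5, true), (9, 1, true), (8, 2, true), (8, 0, true), (7, 48, true), (6, 49, true), (5, 50, true), (4, 51, true), (3, 54, true), (6, 31, true), (5, 32, true), (4, 33, true), (3, 34, true), (7, 24, true), (6, 25, true), (5, 26, true), (4, 27, true), (7, 0, true), (6, 108, true), (5, 109, true), (4, 110, true), (3, 112, true), (2, 115, true), (4, 52, true), (5, 43, true), (6, 35, true), (9, 36, true), (8, 37, true), (7, 38, true), (6, 41, true), (5, 44, true), (8, 15, true), (7, 16, true), (6, 17, true), (5, 20, true), (7, 3, true), (6, 4, true), (5, 5, true), (6, 15, true), (5, 16, true), (7, 1, true), (6, 2, true), (6, 78, true), (5, 83, true), (4, 87, true), (3, 88, true), (8, 45, true), (7, 48, true), (6, 51, true), (5, 52, true), (9, 36, true), (8, 39, true), (7, 42, true), (6, 43, true), (10, 28, true), (9, 31, true), (8, 34, true), (7, 35, true), (9, 21, true), (8, 24, true), (7, 27, true), (8, 15, true), (7, 18, true),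 (9, 3, true), (10, 1, true), (11, 0, true), (10, 56, true), (9, 57, true), (8, 58, true), (7, 60, true), (6, 63, true), (5, 64, true), (4, 65, true), (9, 46, true), (8, 47, true), (7, 48, true), (6, 50, true), (5, 53, true), (4, 54, true), (8, 22, true), (7, 23, true), (6, 24, true), (5, 26, true), (9, 2, true), (8, 30, true), (7, 31, true), (6, 33, true), (5, 34, true), (9, 138, true), (8, 139, true), (7, 141, true), (6, 142, true), (5, 143, true), (4, 144, true), (3, 148, true), (2, 150, true), (1, 151, true), (0, 152, true), (1, 120, true), (0, 126, true), (2, 105, true), (1, 111, true), (3, 91, true), (2, 97, true), (4, 66, true), (3, 72, true), (5, 55, true), (4, 61, true), (6, 36, true), (5, 42, true), (7, 21, true), (6, 27, true), (6, 3, true), (7, 0, true), (6, 93, true), (5, 99, true), (4, 101, true), (3, 102, true), (2, 104, true), (7, 66, true), (6, 68, true), (5, 70, true), (4, 71, true), (3, 74, true), (2, 76, true), (6, 45, true), (5, 48, true), (4, 52, true), (7, 10, true), (6, 13, true), (8, 1, true), (9, 45, true),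 (8, 46, true), (7, 48, true), (6, 49, true), (5, 52, true), (4, 54, true), (8, 36, true), (7, 37, true), (6, 39, true), (5, 40, true), (4, 43, true), (9, 28, true), (8, 29, true), (7, 31, true), (6, 32, true), (5, 35, true), (8, 10, true), (7, 11, true), (6, 13, true), (5, 14, true), (7, 3, true), (6, 4, true), (8, 1, true), (7, 2, true), (7, 15, true), (6, 17, true), (5, 18, true), (8, 10, true), (7, 12, true), (6, 13, true), (9, 6, true), (8, 8, true), (7, 9, true), (8, 0, true), (8, 36, true), (7, 38, true), (6, 40, true), (5, 41, true), (4, 44, true), (7, 21, true), (6, 23, true), (5, 25, true), (4, 26, true), (8, 15, true), (7, 17, true), (6, 19, true), (5, 20, true), (7, 10, true), (6, 12, true), (5, 14, true), (6, 3, true), (5, 5, true), (5, 55, true), (4, 61, true), (3, 65, true), (4, 28, true), (3, 34, true), (5, 15, true), (6, 10, true), (7, 6, true), (8, 6, true), (7, 9, true), (7, 78, true), (6, 82, true), (5, 83, true), (4, 84, true), (3, 85, true), (2, 89, true), (5, 51, true), (4, 52, true), (6, 42, true), (5, 43, true),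 (7, 34, true), (6, 35, true), (6, 27, true), (8, 37, true), (7, 38, true), (6, 41, true), (5, 44, true), (7, 16, true), (6, 17, true), (5, 20, true), (6, 4, true), (5, 5, true), (6, 66, true), (5, 67, true), (4, 75, true), (3, 77, true), (3, 65, true), (7, 55, true), (6, 58, true), (5, 62, true), (4, 63, true), (3, 64, true), (8, 15, true), (7, 18, true), (9, 10, true), (8, 13, true), (10, 6, true), (9, 9, true), (9, 3, true), (10, 1, true), (11, 0, true), (11, 55, true), (10, 56, true), (9, 57, true), (8, 59, true), (7, 60, true), (6, 62, true), (5, 63, true), (4, 64, true), (3, 65, true), (10, 36, true), (9, 37, true), (8, 38, true), (7, 40, true), (6, 41, true), (5, 43, true), (4, 44, true), (9, 28, true), (8, 29, true), (7, 30, true), (6, 32, true), (5, 33, true), (4, 35, true), (8, 21, true), (7, 22, true), (6, 23, true), (5, 25, true), (4, 26, true), (9, 3, true), (8, 4, true), (7, 5, true), (8, 0, true), (7, 29, true), (6, 32, true), (5, 33, true), (4, 34, true), (8, 4, true), (10, 28, true), (9, 29, true), (8, 30, true), (7,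 32, true), (6, 33, true), (5, 34, true), (4, 35, true), (9, 21, true), (8, 22, true), (7, 23, true), (6, 25, true), (5, 26, true), (4, 27, true), (8, 15, true), (7, 16, true), (6, 17, true), (5, 19, true), (4, 20, true), (7, 45, true), (6, 46, true), (5, 47, true), (4, 49, true), (3, 54, true), (6, 36, true), (5, 37, true), (4, 38, true), (3, 40, true), (7, 28, true), (6, 29, true), (5, 30, true), (4, 32, true), (8, 21, true), (7, 22, true), (6, 23, true), (5, 25, true), (9, 10, true), (8, 11, true), (7, 12, true), (6, 14, true), (8, 6, true), (7, 7, true), (6, 8, true), (9, 3, true), (8, 4, true), (7, 5, true), (8, 1, true), (7, 2, true), (7, 0, true), (6, 39, true), (5, 42, true), (4, 43, true), (3, 44, true), (5, 31, true), (4, 34, true), (3, 35, true), (5, 105, true), (4, 108, true), (3, 111, true), (2, 117, true), (1, 119, true), (6, 78, true), (5, 80, true), (4, 82, true), (3, 83, true), (2, 86, true), (1, 88, true), (2, 65, true), (7, 45, true), (6, 48, true), (5, 51, true), (4, 52, true), (3, 53, true), (2, 54, true), (6, 36,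 true), (5, 39, true), (4, 42, true), (3, 43, true), (2, 44, true), (5, 28, true), (4, 31, true), (3, 34, true), (2, 35, true), (4, 21, true), (3, 24, true), (2, 27, true), (3, 15, true), (2, 18, true), (4, 3, true), (5, 1, true), (6, 36, true), (5, 37, true), (4, 38, true), (3, 39, true), (2, 41, true), (7, 15, true), (6, 16, true), (5, 17, true), (4, 18, true), (3, 20, true), (6, 3, true), (5, 4, true), (4, 5, true), (5, 55, true), (4, 56, true), (3, 58, true), (2, 63, true), (6, 15, true), (5, 16, true), (4, 18, true), (7, 10, true), (6, 11, true), (5, 13, true), (8, 6, true), (7, 7, true), (6, 9, true), (7, 3, true), (6, 4, true), (8, 1, true), (7, 2, true), (7, 0, true), (7, 36, true), (6, 38, true), (5, 40, true), (4, 41, true), (3, 44, true), (6, 21, true), (5, 23, true), (4, 25, true), (3, 26, true), (7, 15, true), (6, 17, true), (5, 19, true), (4, 20, true), (6, 10, true), (5, 12, true), (4, 14, true), (5, 3, true), (4, 5, true), (4, 21, true), (3, 27, true), (3, 15, true), (4, 1, true), (5, 0, true), (4, 92, true), (3, 96,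 true), (2, 101, true), (1, 103, true), (3, 62, true), (4, 52, true), (9, 55, true), (8, 56, true), (7, 59, true), (6, 61, true), (5, 62, true), (4, 64, true), (3, 65, true), (8, 45, true), (7, 46, true), (6, 49, true), (5, 51, true), (4, 52, true), (3, 54, true), (7, 36, true), (6, 37, true), (5, 40, true), (4, 42, true), (3, 43, true), (8, 21, true), (7, 22, true), (6, 25, true), (5, 27, true), (7, 6, true), (6, 7, true), (8, 78, true), (7, 79, true), (6, 81, true), (5, 82, true), (4, 85, true), (3, 86, true), (2, 90, true), (2, 65, true), (7, 28, true), (6, 31, true), (5, 34, true), (4, 35, true), (6, 36, true), (5, 39, true), (4, 42, true), (3, 44, true), (5, 15, true), (4, 18, true), (6, 3, true), (7, 45, true), (6, 47, true), (5, 48, true), (4, 50, true), (3, 51, true), (2, 54, true), (6, 28, true), (5, 30, true), (4, 31, true), (3, 33, true), (2, 34, true), (7, 21, true), (6, 23, true), (5, 24, true), (4, 26, true), (3, 27, true), (6, 0, true), (5, 17, true), (4, 18, true), (3, 20, true), (4, 12, true), (3, 13, true), (5, 8, true),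 (4, 9, true), (5, 0, true), (4, 68, true), (3, 70, true), (2, 73, true), (3, 52, true), (4, 43, true), (5, 35, true), (7, 16, true), (6, 17, true), (5, 19, true), (8, 11, true), (7, 12, true), (6, 14, true), (7, 7, true), (6, 8, true), (9, 45, true), (8, 46, true), (7, 47, true), (6, 48, true), (5, 50, true), (4, 53, true), (3, 54, true), (8, 10, true), (7, 11, true), (6, 12, true), (5, 13, true), (9, 1, true), (8, 2, true), (8, 0, true)]),
    ([21, 5, 11, 3, 1], [(0, 195, true), (8, 201, true), (7, 136, true), (6, 140, true), (5, 141, true), (4, 143, true), (3, 146, true), (2, 147, true), (1, 149, true), (0, 151, true), (10, 105, true), (9, 106, true), (8, 110, true), (7, 112, true), (6, 114, true), (5, 115, true), (4, 116, true), (3, 117, true), (2, 119, true), (7, 78, true), (6, 80, true), (5, 82, true), (4, 83, true), (3, 86, true), (2, 88, true), (3, 65, true), (8, 45, true), (7, 48, true), (6, 51, true), (5, 52, true), (4, 53, true), (3, 54, true), (7, 36, true), (6, 39, true), (5, 42, true), (4, 43, true), (3, 44, true), (6,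 28, true), (5, 31, true), (4, 34, true), (3, 35, true), (5, 21, true), (4, 24, true), (3, 27, true), (4, 15, true), (3, 18, true), (5, 3, true), (6, 1, true), (7, 36, true), (6, 37, true), (5, 38, true), (4, 39, true), (3, 41, true), (8, 15, true), (7, 16, true), (6, 17, true), (5, 18, true), (4, 20, true), (7, 3, true), (6, 4, true), (5, 5, true), (6, 55, true), (5, 56, true), (4, 58, true), (3, 63, true), (7, 15, true), (6, 16, true), (5, 18, true), (8, 10, true), (7, 11, true), (6, 13, true), (9, 6, true), (8, 7, true), (7, 9, true), (8, 3, true), (7, 4, true), (9, 1, true), (8, 2, true), (8, 0, true), (8, 36, true), (7, 38, true), (6, 40, true), (5, 41, true), (4, 44, true), (7, 21, true), (6, 23, true), (5, 25, true), (4, 26, true), (8, 15, true), (7, 17, true), (6, 19, true), (5, 20, true), (7, 10, true), (6, 12, true), (5, 14, true), (6, 3, true), (5, 5, true), (5, 66, true), (4, 72, true), (3, 76, true), (6, 28, true), (5, 34, true), (7, 55, true), (6, 61, true), (5, 62, true), (4, 65, true), (6, 45, true), (5, 51, true), (4,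 52, true), (7, 36, true), (6, 42, true), (5, 43, true), (8, 10, true), (9, 6, true), (10, 3, true), (11, 1, true), (12, 28, true), (11, 29, true), (10, 30, true), (9, 31, true), (8, 32, true), (7, 34, true), (6, 35, true), (11, 45, true), (10, 46, true), (9, 47, true), (8, 48, true), (7, 49, true), (6, 51, true), (5, 53, true), (4, 54, true), (10, 36, true), (9, 37, true), (8, 38, true), (7, 39, true), (6, 40, true), (5, 42, true), (4, 44, true), (9, 28, true), (8, 29, true), (7, 30, true), (6, 31, true), (5, 32, true), (4, 34, true), (10, 15, true), (9, 16, true), (8, 17, true), (7, 18, true), (6, 19, true), (11, 3, true), (10, 4, true), (9, 5, true), (10, 1, true), (9, 2, true), (9, 0, true), (8, 48, true), (7, 49, true), (6, 50, true), (5, 51, true), (4, 52, true), (9, 39, true), (8, 40, true), (7, 41, true), (6, 42, true), (5, 43, true), (10, 31, true), (9, 32, true), (8, 33, true), (7, 34, true), (6, 35, true), (9, 18, true), (8, 19, true), (7, 20, true), (8, 9, true), (10, 0, true), (9, 92, true), (8, 93, true), (7, 95, true),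 (6, 97, true), (5, 99, true), (4, 100, true), (3, 102, true), (2, 103, true), (4, 73, true), (5, 43, true), (10, 57, true), (9, 59, true), (8, 60, true), (7, 61, true), (6, 62, true), (5, 63, true), (11, 30, true), (10, 32, true), (9, 33, true), (8, 34, true), (7, 35, true), (10, 23, true), (9, 25, true), (8, 26, true), (7, 27, true), (9, 17, true), (8, 19, true), (7, 20, true), (8, 12, true), (7, 14, true), (7, 8, true), (8, 5, true), (8, 29, true), (7, 31, true), (9, 16, true), (8, 18, true), (10, 11, true), (9, 13, true), (11, 7, true), (10, 9, true), (10, 22, true), (9, 25, true), (8, 26, true), (11, 46, true), (10, 49, true), (9, 50, true), (8, 51, true), (7, 52, true), (6, 53, true), (12, 37, true), (11, 40, true), (10, 41, true), (9, 42, true), (8, 43, true), (7, 44, true), (11, 29, true), (10, 32, true), (9, 33, true), (8, 34, true), (7, 35, true), (10, 22, true), (9, 25, true), (8, 26, true), (7, 27, true), (9, 11, true), (8, 14, true), (8, 4, true), (9, 2, true), (9, 6, true), (8, 8, true), (10, 55, true), (9, 57, true), (8,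 58, true), (7, 60, true), (6, 64, true), (5, 65, true), (9, 45, true), (8, 47, true), (7, 48, true), (6, 50, true), (5, 54, true), (8, 36, true), (7, 38, true), (6, 39, true), (5, 41, true), (9, 21, true), (8, 23, true), (7, 24, true), (6, 26, true), (10, 6, true), (9, 8, true), (8, 9, true), (9, 78, true), (8, 80, true), (7, 83, true), (6, 84, true), (5, 86, true), (4, 89, true), (3, 90, true), (3, 76, true), (4, 65, true), (9, 21, true), (8, 24, true), (7, 27, true), (8, 45, true), (7, 48, true), (6, 52, true), (5, 53, true), (4, 54, true), (7, 36, true), (6, 39, true), (5, 43, true), (4, 44, true), (6, 28, true), (5, 31, true), (4, 35, true), (5, 21, true), (4, 24, true), (6, 15, true), (5, 18, true), (7, 3, true), (8, 1, true), (9, 55, true), (8, 56, true), (7, 57, true), (6, 58, true), (5, 60, true), (4, 61, true), (10, 15, true), (9, 16, true), (8, 17, true), (7, 18, true), (6, 20, true), (9, 10, true), (8, 11, true), (7, 12, true), (6, 13, true), (10, 6, true), (9, 7, true), (8, 8, true), (7, 9, true), (9, 3, true), (8, 4, true),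 (7, 5, true), (8, 1, true), (7, 2, true), (7, 0, true), (7, 55, true), (6, 59, true), (5, 61, true), (4, 65, true), (6, 45, true), (5, 49, true), (4, 51, true), (7, 15, true), (6, 19, true), (8, 1, true), (9, 0, true), (8, 56, true), (7, 59, true), (6, 60, true), (5, 61, true), (4, 64, true), (9, 46, true), (8, 49, true), (7, 50, true), (6, 51, true), (5, 54, true), (8, 16, true), (7, 19, true), (6, 20, true), (7, 11, true), (6, 14, true), (6, 2, true), (6, 28, true), (5, 34, true), (7, 15, true), (8, 21, true), (7, 26, true), (6, 27, true), (7, 10, true), (8, 0, true), (8, 120, true), (7, 124, true), (6, 125, true), (5, 127, true), (4, 130, true), (3, 131, true), (2, 133, true), (1, 135, true), (2, 66, true), (1, 72, true), (3, 0, true), (2, 97, true), (1, 102, true), (7, 23, true), (6, 25, true), (5, 26, true), (4, 27, true), (7, 55, true), (6, 57, true), (5, 59, true), (4, 60, true), (3, 63, true), (8, 36, true), (7, 38, true), (6, 40, true), (5, 41, true), (4, 44, true), (7, 15, true), (6, 17, true), (5, 19, true), (4, 20, true),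 (6, 10, true), (5, 12, true), (4, 14, true), (5, 3, true), (4, 5, true), (4, 0, true), (7, 10, true), (8, 0, true), (7, 109, true), (6, 110, true), (5, 111, true), (4, 112, true), (3, 115, true), (2, 116, true), (1, 118, true), (4, 62, true), (5, 35, true), (5, 51, true), (6, 42, true), (7, 34, true), (12, 36, true), (11, 37, true), (10, 38, true), (9, 41, true), (8, 42, true), (7, 43, true), (6, 44, true), (11, 15, true), (10, 16, true), (9, 17, true), (8, 20, true), (10, 3, true), (9, 4, true), (8, 5, true), (9, 78, true), (8, 79, true), (7, 84, true), (6, 85, true), (5, 87, true), (4, 88, true), (3, 89, true), (9, 28, true), (8, 31, true), (7, 34, true), (6, 35, true), (8, 21, true), (7, 24, true), (6, 27, true), (7, 15, true), (6, 18, true), (8, 10, true), (7, 13, true), (9, 6, true), (8, 9, true), (8, 0, true), (8, 45, true), (7, 49, true), (6, 50, true), (9, 36, true), (8, 40, true), (7, 41, true), (10, 28, true), (9, 32, true), (8, 33, true), (11, 15, true), (10, 19, true), (9, 20, true), (10, 6, true), (11, 3, true), (12, 1,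 true), (13, 0, true)], [(1, 71, true), (4, 7, true), (5, 2, true), (3, 13, false), (4, 2, false), (2, 48, false), (3, 46, false), (0, 201, true), (12, 199, true), (19, 194, true), (11, 136, true), (10, 137, true), (9, 138, true), (8, 139, true), (7, 141, true), (6, 143, true), (5, 144, true), (4, 145, true), (3, 148, true), (2, 150, true), (1, 151, true), (0, 152, true), (1, 120, true), (0, 126, true), (2, 105, true), (1, 111, true), (3, 91, true), (2, 97, true), (4, 66, true), (3, 72, true), (5, 55, true), (4, 61, true), (6, 36, true), (5, 42, true), (7, 21, true), (6, 27, true), (6, 3, true), (7, 0, true), (6, 93, true), (5, 99, true), (4, 101, true), (3, 102, true), (2, 104, true), (7, 66, true), (6, 68, true), (5, 70, true), (4, 71, true), (3, 74, true), (2, 76, true), (6, 45, true), (5, 48, true), (4, 52, true), (7, 10, true), (6, 13, true), (8, 1, true), (9, 45, true), (8, 46, true), (7, 48, true), (6, 49, true), (5, 52, true), (4, 54, true), (8, 36, true), (7, 37, true), (6, 39, true), (5, 40, true), (4, 43, true), (9, 28, true),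 (8, 29, true), (7, 31, true), (6, 32, true), (5, 35, true), (8, 10, true), (7, 11, true), (6, 13, true), (5, 14, true), (7, 3, true), (6, 4, true), (8, 1, true), (7, 2, true), (7, 15, true), (6, 17, true), (5, 18, true), (8, 10, true), (7, 12, true), (6, 13, true), (9, 6, true), (8, 8, true), (7, 9, true), (8, 0, true), (8, 36, true), (7, 38, true), (6, 40, true), (5, 41, true), (4, 44, true), (7, 21, true), (6, 23, true), (5, 25, true), (4, 26, true), (8, 15, true), (7, 17, true), (6, 19, true), (5, 20, true), (7, 10, true), (6, 12, true), (5, 14, true), (6, 3, true), (5, 5, true), (5, 55, true), (4, 61, true), (3, 65, true), (4, 28, true), (3, 34, true), (5, 15, true), (6, 10, true), (7, 6, true), (8, 6, true), (7, 9, true), (7, 78, true), (6, 82, true), (5, 83, true), (4, 84, true), (3, 85, true), (2, 89, true), (5, 51, true), (4, 52, true), (6, 42, true), (5, 43, true), (7, 34, true), (6, 35, true), (6, 27, true), (8, 37, true), (7, 38, true), (6, 41, true), (5, 44, true), (7, 16, true), (6, 17, true), (5, 20, true), (6, 4, true),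 (5, 5, true), (6, 66, true), (5, 67, true), (4, 75, true), (3, 77, true), (3, 65, true), (7, 55, true), (6, 58, true), (5, 62, true), (4, 63, true), (3, 64, true), (8, 15, true), (7, 18, true), (9, 10, true), (8, 13, true), (10, 6, true), (9, 9, true), (9, 3, true), (10, 1, true), (11, 0, true), (11, 55, true), (10, 56, true), (9, 57, true), (8, 59, true), (7, 60, true), (6, 62, true), (5, 63, true), (4, 64, true), (3, 65, true), (10, 36, true), (9, 37, true), (8, 38, true), (7, 40, true), (6, 41, true), (5, 43, true), (4, 44, true), (9, 28, true), (8, 29, true), (7, 30, true), (6, 32, true), (5, 33, true), (4, 35, true), (8, 21, true), (7, 22, true), (6, 23, true), (5, 25, true), (4, 26, true), (9, 3, true), (8, 4, true), (7, 5, true), (8, 0, true), (7, 46, true), (6, 49, true), (5, 50, true), (4, 51, true), (3, 54, true), (6, 22, true), (5, 25, true), (4, 26, true), (3, 27, true), (5, 16, true), (4, 19, true), (3, 20, true), (5, 28, true), (4, 29, true), (3, 32, true), (6, 3, true), (5, 4, true), (7, 0, true), (6, 29, true), (5, 30,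 true), (4, 32, true), (3, 35, true), (5, 16, true), (4, 17, true), (3, 19, true), (6, 46, true), (5, 47, true), (4, 49, true), (3, 50, true), (7, 37, true), (6, 38, true), (5, 40, true), (4, 41, true), (8, 29, true), (7, 30, true), (6, 32, true), (5, 33, true), (9, 22, true), (8, 23, true), (7, 25, true), (6, 26, true), (10, 11, true), (9, 12, true), (8, 14, true), (9, 7, true), (8, 8, true), (10, 4, true), (9, 5, true), (9, 2, true), (9, 36, true), (8, 39, true), (7, 41, true), (6, 42, true), (5, 43, true), (4, 44, true), (8, 28, true), (7, 31, true), (6, 33, true), (5, 34, true), (4, 35, true), (7, 0, true), (6, 18, true), (5, 20, true), (7, 120, true), (6, 121, true), (5, 123, true), (4, 126, true), (3, 129, true), (2, 132, true), (1, 134, true), (0, 135, true), (1, 78, true), (0, 84, true), (2, 105, true), (1, 111, true), (0, 117, true), (6, 23, true), (5, 25, true), (4, 26, true), (3, 27, true), (6, 28, true), (5, 30, true), (4, 32, true), (3, 33, true), (7, 21, true), (6, 23, true), (5, 25, true), (4, 26, true), (8, 1, true),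 (9, 0, true), (8, 22, true), (7, 23, true), (6, 25, true), (5, 26, true), (4, 27, true), (7, 46, true), (6, 47, true), (5, 49, true), (4, 50, true), (3, 52, true), (2, 53, true), (8, 37, true), (7, 38, true), (6, 40, true), (5, 41, true), (4, 43, true), (3, 44, true), (7, 29, true), (6, 30, true), (5, 32, true), (4, 33, true), (3, 35, true), (6, 16, true), (5, 17, true), (4, 19, true), (3, 20, true), (5, 7, true), (4, 8, true), (6, 4, true), (5, 5, true), (5, 2, true), (5, 45, true), (4, 48, true), (3, 49, true), (2, 54, true), (4, 28, true), (3, 31, true), (2, 32, true), (5, 21, true), (4, 24, true), (3, 25, true), (6, 0, true), (6, 105, true), (5, 108, true), (4, 109, true), (3, 111, true), (2, 112, true), (1, 117, true), (0, 119, true), (5, 78, true), (4, 80, true), (3, 82, true), (2, 83, true), (1, 86, true), (0, 88, true), (1, 65, true), (6, 45, true), (5, 48, true), (4, 51, true), (3, 52, true), (2, 53, true), (1, 54, true), (5, 36, true), (4, 39, true), (3, 42, true), (2, 43, true), (1, 44, true), (4, 28, true), (3, 31, true),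 (2, 34, true), (1, 35, true), (3, 21, true), (2, 24, true), (1, 27, true), (2, 15, true), (1, 18, true), (3, 3, true), (4, 1, true), (5, 36, true), (4, 37, true), (3, 38, true), (2, 39, true), (1, 41, true), (6, 15, true), (5, 16, true), (4, 17, true), (3, 18, true), (2, 20, true), (5, 3, true), (4, 4, true), (3, 5, true), (4, 55, true), (3, 56, true), (2, 58, true), (1, 63, true), (5, 15, true), (4, 16, true), (3, 18, true), (6, 10, true), (5, 11, true), (4, 13, true), (7, 6, true), (6, 7, true), (5, 9, true), (6, 3, true), (5, 4, true), (7, 1, true), (6, 2, true), (6, 0, true), (6, 36, true), (5, 38, true), (4, 40, true), (3, 41, true), (2, 44, true), (5, 21, true), (4, 23, true), (3, 25, true), (2, 26, true), (6, 15, true), (5, 17, true), (4, 19, true), (3, 20, true), (5, 10, true), (4, 12, true), (3, 14, true), (4, 3, true), (3, 5, true), (3, 28, true), (2, 34, true), (4, 21, true), (3, 27, true), (3, 36, true), (2, 43, true), (4, 15, true), (5, 3, true), (6, 15, true), (5, 17, true), (4, 20, true), (5, 1, true), (6, 0, true), (5,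 79, true), (4, 80, true), (3, 85, true), (2, 86, true), (1, 88, true), (0, 90, true), (0, 65, true), (6, 28, true), (5, 31, true), (4, 34, true), (3, 35, true), (5, 55, true), (4, 58, true), (3, 61, true), (2, 63, true), (1, 64, true), (0, 65, true), (4, 15, true), (3, 18, true), (5, 10, true), (4, 13, true), (6, 6, true), (5, 9, true), (5, 3, true), (6, 1, true), (7, 0, true), (6, 16, true), (5, 17, true), (4, 19, true), (3, 20, true), (5, 11, true), (4, 12, true), (3, 14, true), (4, 7, true), (3, 8, true), (6, 55, true), (5, 56, true), (4, 57, true), (3, 58, true), (2, 61, true), (1, 63, true), (0, 64, true), (7, 28, true), (6, 29, true), (5, 30, true), (4, 31, true), (3, 34, true), (8, 0, true), (7, 137, true), (6, 138, true), (5, 139, true), (4, 142, true), (3, 143, true), (2, 144, true), (1, 145, true), (0, 146, true), (6, 45, true), (5, 46, true), (4, 49, true), (3, 50, true), (2, 54, true), (5, 21, true), (4, 22, true), (3, 25, true), (2, 26, true), (6, 15, true), (5, 16, true), (4, 19, true), (3, 20, true), (5, 0, true), (4,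 29, true), (3, 32, true), (2, 34, true), (5, 4, true), (7, 28, true), (6, 29, true), (5, 30, true), (4, 32, true), (3, 34, true), (2, 35, true), (6, 21, true), (5, 22, true), (4, 23, true), (3, 25, true), (2, 27, true), (5, 45, true), (4, 46, true), (3, 47, true), (2, 49, true), (6, 36, true), (5, 37, true), (4, 38, true), (3, 40, true), (7, 28, true), (6, 29, true), (5, 30, true), (4, 32, true), (8, 21, true), (7, 22, true), (6, 23, true), (5, 25, true), (9, 10, true), (8, 11, true), (7, 12, true), (6, 14, true), (8, 6, true), (7, 7, true), (6, 8, true), (9, 3, true), (8, 4, true), (7, 5, true), (8, 1, true), (7, 2, true), (7, 0, true), (6, 39, true), (5, 42, true), (4, 43, true), (3, 44, true), (5, 31, true), (4, 34, true), (3, 35, true), (5, 15, true), (4, 18, true), (6, 1, true), (7, 105, true), (6, 106, true), (5, 108, true), (4, 110, true), (3, 111, true), (2, 114, true), (1, 115, true), (8, 22, true), (7, 23, true), (6, 24, true), (5, 25, true), (9, 46, true), (8, 47, true), (7, 48, true), (6, 49, true), (5, 51, true), (4, 53,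 true), (3, 54, true), (8, 37, true), (7, 38, true), (6, 39, true), (5, 40, true), (4, 42, true), (3, 44, true), (7, 29, true), (6, 30, true), (5, 31, true), (4, 32, true), (3, 34, true), (8, 16, true), (7, 17, true), (6, 18, true), (5, 19, true), (9, 4, true), (8, 5, true), (8, 2, true), (8, 15, true), (7, 18, true), (6, 19, true), (5, 20, true), (7, 1, true), (8, 45, true), (7, 46, true), (6, 48, true), (5, 49, true), (4, 51, true), (3, 52, true), (9, 36, true), (8, 37, true), (7, 39, true), (6, 40, true), (5, 42, true), (4, 43, true), (10, 28, true), (9, 29, true), (8, 31, true), (7, 32, true), (6, 34, true), (5, 35, true), (9, 15, true), (8, 16, true), (7, 18, true), (6, 19, true), (10, 6, true), (9, 7, true), (8, 9, true), (9, 3, true), (8, 4, true), (10, 1, true), (9, 2, true), (9, 0, true), (9, 91, true), (8, 93, true), (7, 95, true), (6, 96, true), (5, 97, true), (4, 99, true), (3, 100, true), (2, 101, true), (3, 65, true), (9, 29, true), (8, 30, true), (7, 31, true), (6, 32, true), (5, 33, true), (4, 34, true), (3, 35, true),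 (8, 16, true), (7, 17, true), (6, 18, true), (5, 19, true), (4, 20, true), (7, 11, true), (6, 12, true), (5, 13, true), (4, 14, true), (6, 7, true), (5, 8, true), (4, 9, true), (5, 22, true), (4, 23, true), (3, 27, true), (4, 46, true), (3, 47, true), (5, 22, true), (4, 23, true), (6, 11, true), (5, 12, true), (7, 2, true), (7, 45, true), (6, 47, true), (5, 49, true), (4, 51, true), (3, 54, true), (6, 36, true), (5, 38, true), (4, 40, true), (3, 42, true), (7, 28, true), (6, 30, true), (5, 32, true), (4, 34, true), (8, 21, true), (7, 23, true), (6, 25, true), (5, 27, true), (7, 10, true), (6, 12, true), (5, 14, true), (6, 3, true), (5, 5, true), (5, 1, true), (6, 0, true), (5, 7, true), (7, 78, true), (6, 79, true), (5, 81, true), (4, 85, true), (3, 86, true), (10, 28, true), (9, 31, true), (8, 34, true), (7, 35, true), (9, 45, true), (8, 48, true), (7, 51, true), (6, 53, true), (5, 54, true), (8, 28, true), (7, 31, true), (6, 34, true), (9, 21, true), (8, 24, true), (7, 27, true), (8, 0, true), (7, 18, true), (8, 13, true), (9, 9,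 true), (9, 0, true), (8, 70, true), (7, 71, true), (6, 73, true), (5, 74, true), (4, 76, true), (8, 28, true), (7, 31, true), (6, 35, true), (7, 45, true), (6, 48, true), (8, 10, true), (7, 13, true), (9, 1, true), (10, 45, true), (9, 46, true), (8, 48, true), (7, 49, true), (6, 54, true), (9, 36, true), (8, 37, true), (7, 39, true), (6, 40, true), (10, 28, true), (9, 29, true), (8, 31, true), (7, 32, true), (11, 10, true), (10, 11, true), (9, 13, true), (8, 14, true), (10, 3, true), (9, 4, true), (11, 1, true), (10, 2, true), (10, 45, true), (9, 47, true), (8, 48, true), (7, 52, true), (6, 53, true), (11, 10, true), (10, 12, true), (9, 13, true), (12, 1, true), (13, 0, true)]),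
    ([21, 12, 3, 2, 12, 3, 2], [(0, 202, true), (10, 202, true), (9, 139, true), (8, 140, true), (7, 143, true), (6, 144, true), (5, 145, true), (4, 146, true), (3, 148, true), (2, 150, true), (1, 151, true), (0, 152, true), (1, 120, true), (0, 126, true), (2, 105, true), (1, 111, true), (3, 91, true), (2, 97, true), (4, 66, true), (3, 72, true), (5, 55, true), (4, 61, true), (6, 36, true), (5, 42, true), (7, 21, true), (6, 27, true), (6, 3, true), (7, 0, true), (6, 93, true), (5, 99, true), (4, 101, true), (3, 102, true), (2, 104, true), (7, 66, true), (6, 68, true), (5, 70, true), (4, 71, true), (3, 74, true), (2, 76, true), (6, 45, true), (5, 48, true), (4, 52, true), (7, 10, true), (6, 13, true), (8, 1, true), (9, 45, true), (8, 46, true), (7, 48, true), (6, 49, true), (5, 52, true), (4, 54, true), (8, 36, true), (7, 37, true), (6, 39, true), (5, 40, true), (4, 43, true), (9, 28, true), (8, 29, true), (7, 31, true), (6, 32, true), (5, 35, true), (8, 10, true), (7, 11, true), (6, 13, true), (5, 14, true), (7, 3, true), (6, 4, true),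 (8, 1, true), (7, 2, true), (7, 15, true), (6, 17, true), (5, 18, true), (8, 10, true), (7, 12, true), (6, 13, true), (9, 6, true), (8, 8, true), (7, 9, true), (8, 0, true), (8, 36, true), (7, 38, true), (6, 40, true), (5, 41, true), (4, 44, true), (7, 21, true), (6, 23, true), (5, 25, true), (4, 26, true), (8, 15, true), (7, 17, true), (6, 19, true), (5, 20, true), (7, 10, true), (6, 12, true), (5, 14, true), (6, 3, true), (5, 5, true), (5, 55, true), (4, 61, true), (3, 65, true), (4, 28, true), (3, 34, true), (5, 15, true), (6, 10, true), (7, 6, true), (8, 6, true), (7, 9, true), (7, 78, true), (6, 82, true), (5, 83, true), (4, 84, true), (3, 85, true), (2, 89, true), (5, 51, true), (4, 52, true), (6, 42, true), (5, 43, true), (7, 34, true), (6, 35, true), (6, 27, true), (8, 37, true), (7, 38, true), (6, 41, true), (5, 44, true), (7, 16, true), (6, 17, true), (5, 20, true), (6, 4, true), (5, 5, true), (6, 66, true), (5, 67, true), (4, 75, true), (3, 77, true), (3, 65, true), (7, 55, true), (6, 58, true), (5, 62, true), (4, 63, true),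 (3, 64, true), (8, 15, true), (7, 18, true), (9, 10, true), (8, 13, true), (10, 6, true), (9, 9, true), (9, 3, true), (10, 1, true), (11, 0, true), (11, 55, true), (10, 56, true), (9, 57, true), (8, 59, true), (7, 60, true), (6, 62, true), (5, 63, true), (4, 64, true), (3, 65, true), (10, 36, true), (9, 37, true), (8, 38, true), (7, 40, true), (6, 41, true), (5, 43, true), (4, 44, true), (9, 28, true), (8, 29, true), (7, 30, true), (6, 32, true), (5, 33, true), (4, 35, true), (8, 21, true), (7, 22, true), (6, 23, true), (5, 25, true), (4, 26, true), (9, 3, true), (8, 4, true), (7, 5, true), (8, 0, true), (7, 56, true), (6, 59, true), (5, 60, true), (4, 61, true), (3, 64, true), (8, 46, true), (7, 49, true), (6, 50, true), (5, 51, true), (4, 54, true), (7, 16, true), (6, 19, true), (5, 20, true), (6, 11, true), (5, 14, true), (5, 2, true), (5, 45, true), (4, 51, true), (6, 21, true), (5, 27, true), (5, 15, true), (6, 0, true), (5, 33, true), (8, 28, true), (7, 30, true), (6, 33, true), (5, 35, true), (7, 21, true), (6, 23, true), (5,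 26, true), (8, 10, true), (7, 12, true), (9, 0, true), (8, 47, true), (7, 49, true), (6, 50, true), (5, 51, true), (4, 54, true), (7, 38, true), (6, 40, true), (5, 41, true), (4, 42, true), (8, 30, true), (7, 32, true), (6, 33, true), (5, 34, true), (9, 23, true), (8, 25, true), (7, 26, true), (6, 27, true), (8, 12, true), (7, 14, true), (7, 8, true), (8, 5, true), (9, 120, true), (8, 121, true), (7, 123, true), (6, 125, true), (5, 127, true), (4, 128, true), (3, 130, true), (2, 132, true), (1, 134, true), (0, 135, true), (1, 78, true), (0, 84, true), (2, 105, true), (1, 111, true), (0, 117, true), (6, 23, true), (5, 25, true), (4, 26, true), (3, 27, true), (6, 55, true), (5, 57, true), (4, 59, true), (3, 60, true), (2, 63, true), (7, 36, true), (6, 38, true), (5, 40, true), (4, 41, true), (3, 44, true), (6, 15, true), (5, 17, true), (4, 19, true), (3, 20, true), (5, 10, true), (4, 12, true), (3, 14, true), (4, 3, true), (3, 5, true), (3, 0, true), (6, 28, true), (5, 32, true), (4, 34, true), (7, 21, true), (6, 25, true), (5, 27, true),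 (6, 15, true), (5, 19, true), (7, 0, true), (6, 49, true), (5, 50, true), (4, 52, true), (3, 53, true), (7, 40, true), (6, 41, true), (5, 43, true), (4, 44, true), (6, 32, true), (5, 33, true), (4, 35, true), (5, 19, true), (4, 20, true), (8, 45, true), (7, 46, true), (6, 47, true), (5, 48, true), (4, 49, true), (3, 54, true), (7, 28, true), (6, 29, true), (5, 30, true), (4, 31, true), (3, 32, true), (8, 21, true), (7, 22, true), (6, 23, true), (5, 24, true), (4, 25, true), (9, 0, true), (9, 105, true), (8, 106, true), (7, 107, true), (6, 108, true), (5, 109, true), (4, 111, true), (3, 112, true), (2, 115, true), (1, 117, true), (0, 119, true), (5, 78, true), (4, 80, true), (3, 82, true), (2, 83, true), (1, 86, true), (0, 88, true), (1, 65, true), (6, 45, true), (5, 48, true), (4, 51, true), (3, 52, true), (2, 53, true), (1, 54, true), (5, 36, true), (4, 39, true), (3, 42, true), (2, 43, true), (1, 44, true), (4, 28, true), (3, 31, true), (2, 34, true), (1, 35, true), (3, 21, true), (2, 24, true), (1, 27, true), (2, 15, true), (1, 18,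 true), (3, 3, true), (4, 1, true), (5, 36, true), (4, 37, true), (3, 38, true), (2, 39, true), (1, 41, true), (6, 15, true), (5, 16, true), (4, 17, true), (3, 18, true), (2, 20, true), (5, 3, true), (4, 4, true), (3, 5, true), (4, 55, true), (3, 56, true), (2, 58, true), (1, 63, true), (5, 15, true), (4, 16, true), (3, 18, true), (6, 10, true), (5, 11, true), (4, 13, true), (7, 6, true), (6, 7, true), (5, 9, true), (6, 3, true), (5, 4, true), (7, 1, true), (6, 2, true), (6, 0, true), (6, 36, true), (5, 38, true), (4, 40, true), (3, 41, true), (2, 44, true), (5, 21, true), (4, 23, true), (3, 25, true), (2, 26, true), (6, 15, true), (5, 17, true), (4, 19, true), (3, 20, true), (5, 10, true), (4, 12, true), (3, 14, true), (4, 3, true), (3, 5, true), (3, 55, true), (2, 61, true), (1, 65, true), (2, 28, true), (1, 34, true), (3, 21, true), (2, 27, true), (2, 36, true), (1, 43, true), (3, 15, true), (4, 3, true), (5, 15, true), (4, 17, true), (3, 20, true), (4, 1, true), (5, 55, true), (4, 56, true), (3, 57, true), (2, 62, true), (1, 63,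 true), (6, 36, true), (5, 37, true), (4, 38, true), (3, 43, true), (2, 44, true), (5, 10, true), (4, 11, true), (3, 12, true), (6, 6, true), (5, 7, true), (4, 8, true), (7, 1, true), (6, 2, true), (6, 0, true), (5, 47, true), (4, 48, true), (3, 49, true), (2, 52, true), (6, 38, true), (5, 39, true), (4, 40, true), (3, 43, true), (7, 30, true), (6, 31, true), (5, 32, true), (4, 35, true), (6, 17, true), (5, 18, true), (4, 19, true), (7, 8, true), (6, 9, true), (6, 5, true), (7, 0, true), (6, 79, true), (5, 82, true), (4, 83, true), (3, 86, true), (2, 87, true), (1, 88, true), (0, 90, true), (0, 65, true), (3, 55, true), (2, 58, true), (1, 61, true), (0, 62, true), (4, 45, true), (3, 48, true), (2, 51, true), (1, 52, true), (5, 36, true), (4, 39, true), (3, 42, true), (2, 43, true), (6, 28, true), (5, 31, true), (4, 34, true), (3, 35, true), (5, 21, true), (4, 24, true), (3, 27, true), (4, 6, true), (3, 9, true), (3, 0, true), (2, 53, true), (1, 54, true), (1, 44, true), (5, 37, true), (4, 38, true), (3, 41, true), (2, 42, true), (1,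 43, true), (6, 16, true), (5, 17, true), (4, 20, true), (5, 4, true), (4, 5, true), (4, 16, true), (5, 11, true), (6, 7, true), (8, 55, true), (7, 56, true), (6, 58, true), (5, 59, true), (4, 60, true), (3, 61, true), (2, 62, true), (1, 63, true), (0, 65, true), (7, 45, true), (6, 46, true), (5, 48, true), (4, 49, true), (3, 50, true), (2, 51, true), (1, 52, true), (0, 53, true), (8, 36, true), (7, 37, true), (6, 39, true), (5, 40, true), (4, 41, true), (3, 42, true), (2, 43, true), (1, 44, true), (7, 28, true), (6, 29, true), (5, 31, true), (4, 32, true), (3, 33, true), (2, 34, true), (1, 35, true), (6, 10, true), (5, 11, true), (4, 13, true), (3, 14, true), (5, 6, true), (4, 7, true), (3, 9, true)], [(3, 80, true), (2, 81, true), (1, 90, true), (5, 55, true), (4, 61, true), (3, 62, true), (2, 64, true), (1, 65, true), (4, 15, true), (5, 10, true), (6, 6, true), (7, 3, true), (8, 1, true), (9, 0, true), (8, 7, true), (7, 8, true), (6, 9, true), (7, 4, true), (6, 5, true), (5, 11, false), (4, 16, false), (3, 22, false), (2, 29, false),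 (0, 199, true), (7, 197, true), (8, 196, true), (9, 195, true), (17, 194, true), (6, 28, true), (5, 35, true), (5, 21, true), (6, 120, true), (5, 126, true), (4, 130, true), (3, 132, true), (2, 134, true), (1, 135, true), (2, 78, true), (1, 84, true), (3, 105, true), (2, 111, true), (1, 117, true), (7, 23, true), (6, 25, true), (5, 26, true), (4, 27, true), (7, 55, true), (6, 57, true), (5, 59, true), (4, 60, true), (3, 63, true), (8, 36, true), (7, 38, true), (6, 40, true), (5, 41, true), (4, 44, true), (7, 15, true), (6, 17, true), (5, 19, true), (4, 20, true), (6, 10, true), (5, 12, true), (4, 14, true), (5, 3, true), (4, 5, true), (4, 0, true), (5, 91, true), (4, 97, true), (3, 101, true), (2, 103, true), (4, 62, true), (7, 66, true), (6, 72, true), (5, 73, true), (4, 76, true), (8, 55, true), (7, 61, true), (6, 62, true), (5, 65, true), (7, 28, true), (6, 34, true), (5, 35, true), (6, 15, true), (7, 10, true), (8, 0, true), (7, 140, true), (6, 141, true), (5, 142, true), (4, 147, true), (3, 148, true), (2, 149, true), (1, 150,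 true), (0, 152, true), (1, 105, true), (0, 111, true), (2, 91, true), (1, 97, true), (3, 66, true), (2, 72, true), (4, 55, true), (3, 61, true), (5, 36, true), (4, 42, true), (6, 21, true), (5, 27, true), (5, 3, true), (6, 0, true), (5, 107, true), (4, 113, true), (3, 115, true), (2, 116, true), (1, 118, true), (0, 119, true), (5, 91, true), (4, 93, true), (3, 95, true), (2, 96, true), (1, 99, true), (0, 101, true), (5, 48, true), (4, 49, true), (3, 50, true), (2, 52, true), (6, 24, true), (5, 25, true), (4, 26, true), (7, 13, true), (6, 14, true), (8, 45, true), (7, 46, true), (6, 48, true), (5, 50, true), (4, 51, true), (3, 52, true), (2, 54, true), (7, 36, true), (6, 37, true), (5, 39, true), (4, 41, true), (3, 42, true), (2, 43, true), (8, 28, true), (7, 29, true), (6, 31, true), (5, 33, true), (4, 34, true), (3, 35, true), (7, 21, true), (6, 22, true), (5, 24, true), (4, 26, true), (3, 27, true), (6, 10, true), (5, 11, true), (4, 13, true), (7, 3, true), (6, 4, true), (8, 1, true), (7, 2, true), (7, 0, true), (6, 8, true), (5,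 9, true), (6, 66, true), (5, 68, true), (4, 70, true), (3, 71, true), (2, 74, true), (1, 76, true), (5, 45, true), (4, 48, true), (3, 52, true), (6, 10, true), (5, 13, true), (7, 1, true), (8, 45, true), (7, 46, true), (6, 48, true), (5, 49, true), (4, 52, true), (3, 54, true), (7, 36, true), (6, 37, true), (5, 39, true), (4, 40, true), (3, 43, true), (8, 28, true), (7, 29, true), (6, 31, true), (5, 32, true), (4, 35, true), (7, 10, true), (6, 11, true), (5, 13, true), (4, 14, true), (6, 3, true), (5, 4, true), (7, 1, true), (6, 2, true), (6, 15, true), (5, 17, true), (4, 18, true), (7, 10, true), (6, 12, true), (5, 13, true), (8, 6, true), (7, 8, true), (6, 9, true), (7, 0, true), (7, 28, true), (6, 30, true), (5, 32, true), (4, 33, true), (8, 55, true), (7, 57, true), (6, 59, true), (5, 60, true), (4, 62, true), (3, 63, true), (2, 65, true), (7, 55, true), (6, 57, true), (5, 59, true), (4, 60, true), (3, 62, true), (2, 63, true), (8, 45, true), (7, 47, true), (6, 49, true), (5, 50, true), (4, 52, true), (3, 53, true), (9, 28, true),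 (8, 30, true), (7, 32, true), (6, 33, true), (5, 35, true), (8, 15, true), (7, 17, true), (6, 19, true), (5, 20, true), (7, 6, true), (6, 8, true), (8, 3, true), (7, 5, true), (7, 55, true), (6, 58, true), (5, 59, true), (4, 63, true), (3, 64, true), (2, 65, true), (6, 36, true), (5, 39, true), (4, 40, true), (3, 44, true), (5, 10, true), (4, 13, true), (3, 14, true), (4, 6, true), (3, 9, true), (3, 1, true), (4, 0, true), (3, 79, true), (2, 87, true), (1, 89, true), (6, 15, true), (5, 18, true), (7, 10, true), (6, 13, true), (8, 6, true), (7, 9, true), (7, 0, true), (6, 70, true), (5, 71, true), (4, 72, true), (3, 73, true), (2, 77, true), (4, 51, true), (3, 52, true), (7, 46, true), (6, 49, true), (5, 51, true), (4, 52, true), (3, 54, true), (6, 37, true), (5, 40, true), (4, 42, true), (3, 43, true), (7, 29, true), (6, 32, true), (5, 34, true), (4, 35, true), (6, 11, true), (5, 14, true), (5, 4, true), (6, 2, true), (5, 57, true), (4, 61, true), (3, 63, true), (2, 65, true), (4, 47, true), (3, 51, true), (2, 53, true), (5, 30, true),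 (4, 34, true), (6, 17, true), (9, 91, true), (8, 92, true), (7, 93, true), (6, 96, true), (5, 97, true), (4, 98, true), (3, 99, true), (2, 100, true), (1, 103, true), (0, 104, true), (5, 78, true), (4, 80, true), (3, 82, true), (2, 83, true), (1, 86, true), (0, 88, true), (1, 65, true), (6, 45, true), (5, 48, true), (4, 51, true), (3, 52, true), (2, 53, true), (1, 54, true), (5, 36, true), (4, 39, true), (3, 42, true), (2, 43, true), (1, 44, true), (4, 28, true), (3, 31, true), (2, 34, true), (1, 35, true), (3, 21, true), (2, 24, true), (1, 27, true), (2, 15, true), (1, 18, true), (3, 3, true), (4, 1, true), (5, 36, true), (4, 37, true), (3, 38, true), (2, 39, true), (1, 41, true), (6, 15, true), (5, 16, true), (4, 17, true), (3, 18, true), (2, 20, true), (5, 3, true), (4, 4, true), (3, 5, true), (4, 55, true), (3, 56, true), (2, 58, true), (1, 63, true), (5, 15, true), (4, 16, true), (3, 18, true), (6, 10, true), (5, 11, true), (4, 13, true), (7, 6, true), (6, 7, true), (5, 9, true), (6, 3, true), (5, 4, true), (7, 1, true), (6, 2,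 true), (6, 0, true), (6, 28, true), (5, 30, true), (4, 32, true), (3, 33, true), (7, 55, true), (6, 57, true), (5, 59, true), (4, 60, true), (3, 62, true), (2, 63, true), (1, 65, true), (6, 28, true), (5, 30, true), (4, 32, true), (3, 33, true), (2, 35, true), (5, 21, true), (4, 23, true), (3, 25, true), (2, 26, true), (6, 15, true), (5, 17, true), (4, 19, true), (3, 20, true), (5, 10, true), (4, 12, true), (3, 14, true), (4, 6, true), (3, 8, true), (5, 3, true), (4, 5, true), (4, 1, true), (5, 28, true), (4, 29, true), (3, 31, true), (2, 34, true), (6, 15, true), (5, 16, true), (4, 18, true), (7, 10, true), (6, 11, true), (5, 13, true), (8, 6, true), (7, 7, true), (6, 9, true), (7, 28, true), (6, 29, true), (5, 32, true), (4, 33, true), (3, 34, true), (2, 35, true), (6, 21, true), (5, 22, true), (4, 25, true), (3, 26, true), (2, 27, true), (5, 45, true), (4, 46, true), (3, 49, true), (2, 50, true), (1, 53, true), (6, 21, true), (5, 22, true), (4, 25, true), (3, 26, true), (7, 10, true), (6, 11, true), (5, 14, true), (6, 1, true), (5,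 2, true), (5, 0, true), (5, 58, true), (4, 60, true), (3, 61, true), (2, 63, true), (1, 64, true), (6, 48, true), (5, 50, true), (4, 51, true), (3, 53, true), (2, 54, true), (5, 39, true), (4, 41, true), (3, 42, true), (2, 44, true), (4, 24, true), (3, 26, true), (2, 27, true), (3, 9, true), (3, 78, true), (2, 83, true), (1, 88, true), (0, 90, true), (0, 65, true), (7, 66, true), (6, 67, true), (5, 68, true), (4, 71, true), (3, 72, true), (2, 73, true), (1, 74, true), (0, 75, true), (6, 28, true), (5, 31, true), (4, 35, true), (5, 6, true), (4, 9, true), (4, 0, true), (5, 51, true), (4, 52, true), (3, 53, true), (2, 54, true), (6, 16, true), (5, 19, true), (7, 11, true), (6, 14, true), (6, 7, true), (8, 55, true), (7, 56, true), (6, 58, true), (5, 60, true), (4, 61, true), (3, 62, true), (2, 63, true), (1, 65, true), (7, 15, true), (6, 16, true), (5, 18, true), (4, 20, true), (6, 10, true), (5, 11, true), (4, 13, true), (7, 6, true), (6, 7, true), (5, 9, true), (6, 3, true), (5, 4, true), (7, 1, true), (6, 2, true), (6, 0, true), (6,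 55, true), (5, 57, true), (4, 59, true), (3, 61, true), (2, 62, true), (1, 63, true), (7, 36, true), (6, 38, true), (5, 40, true), (4, 42, true), (3, 43, true), (2, 44, true), (6, 28, true), (5, 30, true), (4, 32, true), (3, 34, true), (2, 35, true), (5, 21, true), (4, 23, true), (3, 25, true), (2, 27, true), (4, 3, true), (3, 5, true), (3, 0, true), (2, 109, true), (1, 115, true), (0, 116, true), (2, 62, true), (3, 43, true), (6, 93, true), (5, 96, true), (4, 98, true), (3, 99, true), (2, 101, true), (1, 102, true), (7, 57, true), (6, 59, true), (5, 60, true), (4, 61, true), (3, 63, true), (8, 30, true), (7, 32, true), (6, 33, true), (5, 34, true), (9, 17, true), (8, 19, true), (7, 20, true), (8, 12, true), (7, 14, true), (7, 8, true), (8, 30, true), (7, 31, true), (6, 34, true), (5, 35, true), (7, 47, true), (6, 48, true), (5, 51, true), (4, 53, true), (8, 23, true), (7, 24, true), (6, 27, true), (7, 12, true), (6, 13, true), (10, 6, true), (9, 7, true), (8, 8, true), (7, 9, true), (9, 78, true), (8, 79, true), (7, 80, true), (6,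 82, true), (5, 86, true), (4, 87, true), (3, 88, true), (2, 89, true), (8, 55, true), (7, 58, true), (6, 61, true), (5, 62, true), (4, 65, true), (7, 45, true), (6, 48, true), (5, 51, true), (4, 52, true), (8, 36, true), (7, 39, true), (6, 42, true), (5, 43, true), (9, 28, true), (8, 31, true), (7, 34, true), (6, 35, true), (8, 21, true), (7, 24, true), (6, 27, true), (7, 6, true), (6, 9, true), (6, 0, true), (5, 44, true), (6, 57, true), (5, 60, true), (4, 64, true), (7, 17, true), (6, 20, true), (6, 12, true), (7, 8, true), (8, 5, true), (9, 15, true), (8, 16, true), (7, 18, true), (6, 19, true), (10, 10, true), (9, 11, true), (8, 13, true), (7, 14, true), (9, 6, true), (8, 7, true), (7, 9, true), (8, 0, true), (8, 55, true), (7, 56, true), (6, 60, true), (5, 64, true), (4, 65, true), (7, 45, true), (6, 46, true), (5, 50, true), (4, 54, true), (6, 15, true), (5, 16, true), (4, 20, true), (5, 1, true), (4, 2, true), (4, 0, true), (5, 26, true), (4, 27, true), (6, 105, true), (5, 109, true), (4, 110, true), (3, 116, true), (2, 117,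 true), (1, 118, true), (0, 119, true), (5, 91, true), (4, 93, true), (3, 95, true), (2, 96, true), (1, 99, true), (0, 101, true), (5, 48, true), (4, 49, true), (3, 50, true), (2, 52, true), (6, 24, true), (5, 25, true), (4, 26, true), (7, 13, true), (6, 14, true), (8, 45, true), (7, 46, true), (6, 48, true), (5, 50, true), (4, 51, true), (3, 52, true), (2, 54, true), (7, 36, true), (6, 37, true), (5, 39, true), (4, 41, true), (3, 42, true), (2, 43, true), (8, 28, true), (7, 29, true), (6, 31, true), (5, 33, true), (4, 34, true), (3, 35, true), (7, 21, true), (6, 22, true), (5, 24, true), (4, 26, true), (3, 27, true), (6, 10, true), (5, 11, true), (4, 13, true), (7, 3, true), (6, 4, true), (8, 1, true), (7, 2, true), (7, 0, true), (6, 8, true), (5, 9, true), (6, 78, true), (5, 80, true), (4, 82, true), (3, 83, true), (2, 86, true), (1, 88, true), (2, 65, true), (7, 45, true), (6, 48, true), (5, 51, true), (4, 52, true), (3, 53, true), (2, 54, true), (6, 36, true), (5, 39, true), (4, 42, true), (3, 43, true), (2, 44, true), (5, 28, true),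 (4, 31, true), (3, 34, true), (2, 35, true), (4, 21, true), (3, 24, true), (2, 27, true), (3, 15, true), (2, 18, true), (4, 3, true), (5, 1, true), (6, 36, true), (5, 37, true), (4, 38, true), (3, 39, true), (2, 41, true), (7, 15, true), (6, 16, true), (5, 17, true), (4, 18, true), (3, 20, true), (6, 3, true), (5, 4, true), (4, 5, true), (5, 55, true), (4, 56, true), (3, 58, true), (2, 63, true), (6, 15, true), (5, 16, true), (4, 18, true), (7, 10, true), (6, 11, true), (5, 13, true), (8, 6, true), (7, 7, true), (6, 9, true), (7, 3, true), (6, 4, true), (8, 1, true), (7, 2, true), (7, 0, true), (7, 36, true), (6, 38, true), (5, 40, true), (4, 41, true), (3, 44, true), (6, 21, true), (5, 23, true), (4, 25, true), (3, 26, true), (7, 15, true), (6, 17, true), (5, 19, true), (4, 20, true), (6, 10, true), (5, 12, true), (4, 14, true), (5, 3, true), (4, 5, true), (4, 66, true), (3, 72, true), (2, 76, true), (5, 28, true), (4, 34, true), (6, 45, true), (5, 51, true), (4, 52, true), (7, 36, true), (6, 42, true), (5, 43, true), (8, 28, true),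 (7, 34, true), (6, 35, true), (7, 15, true), (8, 3, true), (9, 1, true), (10, 0, true), (9, 37, true), (8, 38, true), (7, 41, true), (6, 42, true), (5, 44, true), (8, 16, true), (7, 17, true), (6, 20, true), (7, 4, true), (6, 5, true), (7, 91, true), (6, 92, true), (5, 97, true), (4, 100, true), (3, 101, true), (2, 102, true), (1, 103, true), (0, 104, true), (5, 78, true), (4, 80, true), (3, 82, true), (2, 83, true), (1, 86, true), (0, 88, true), (1, 65, true), (6, 45, true), (5, 48, true), (4, 51, true), (3, 52, true), (2, 53, true), (1, 54, true), (5, 36, true), (4, 39, true), (3, 42, true), (2, 43, true), (1, 44, true), (4, 28, true), (3, 31, true), (2, 34, true), (1, 35, true), (3, 21, true), (2, 24, true), (1, 27, true), (2, 15, true), (1, 18, true), (3, 3, true), (4, 1, true), (5, 36, true), (4, 37, true), (3, 38, true), (2, 39, true), (1, 41, true), (6, 15, true), (5, 16, true), (4, 17, true), (3, 18, true), (2, 20, true), (5, 3, true), (4, 4, true), (3, 5, true), (4, 55, true), (3, 56, true), (2, 58, true), (1, 63, true), (5,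 15, true), (4, 16, true), (3, 18, true), (6, 10, true), (5, 11, true), (4, 13, true), (7, 6, true), (6, 7, true), (5, 9, true), (6, 3, true), (5, 4, true), (7, 1, true), (6, 2, true), (6, 0, true), (6, 28, true), (5, 30, true), (4, 32, true), (3, 33, true), (7, 66, true), (6, 68, true), (5, 70, true), (4, 71, true), (3, 73, true), (2, 74, true), (1, 76, true), (5, 28, true), (4, 31, true), (3, 35, true), (4, 45, true), (3, 48, true), (5, 10, true), (4, 13, true), (6, 1, true), (7, 45, true), (6, 46, true), (5, 48, true), (4, 49, true), (3, 54, true), (6, 36, true), (5, 37, true), (4, 39, true), (3, 40, true), (7, 28, true), (6, 29, true), (5, 31, true), (4, 32, true), (8, 10, true), (7, 11, true), (6, 13, true), (5, 14, true), (7, 3, true), (6, 4, true), (8, 1, true), (7, 2, true), (7, 15, true), (6, 17, true), (5, 18, true), (8, 10, true), (7, 12, true), (6, 13, true), (9, 6, true), (8, 8, true), (7, 9, true), (8, 0, true), (8, 36, true), (7, 38, true), (6, 40, true), (5, 41, true), (4, 43, true), (3, 44, true), (7, 21, true), (6,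 23, true), (5, 25, true), (4, 26, true), (8, 15, true), (7, 17, true), (6, 19, true), (5, 20, true), (7, 10, true), (6, 12, true), (5, 14, true), (6, 3, true), (5, 5, true), (5, 55, true), (4, 61, true), (3, 62, true), (2, 65, true), (4, 55, true), (3, 61, true), (2, 62, true), (5, 28, true), (4, 34, true), (3, 35, true), (4, 21, true), (3, 27, true), (3, 15, true), (4, 10, true), (5, 6, true), (6, 3, true), (7, 1, true), (8, 21, true), (7, 22, true), (6, 23, true), (5, 24, true), (4, 25, true), (3, 26, true), (9, 55, true), (8, 56, true), (7, 57, true), (6, 58, true), (5, 59, true), (4, 60, true), (3, 61, true), (2, 65, true), (8, 45, true), (7, 46, true), (6, 47, true), (5, 48, true), (4, 49, true), (3, 50, true), (2, 51, true), (9, 36, true), (8, 37, true), (7, 38, true), (6, 39, true), (5, 40, true), (4, 41, true), (3, 42, true), (10, 21, true), (9, 22, true), (8, 23, true), (7, 24, true), (6, 25, true), (5, 26, true), (4, 27, true), (9, 6, true), (8, 7, true), (7, 8, true), (6, 9, true), (8, 0, true), (7, 79, true), (6, 80, true),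 (5, 82, true), (4, 83, true), (3, 86, true), (2, 87, true), (1, 89, true), (0, 90, true), (0, 76, true), (5, 55, true), (4, 58, true), (3, 61, true), (2, 62, true), (1, 65, true), (4, 45, true), (3, 48, true), (2, 51, true), (1, 52, true), (5, 36, true), (4, 39, true), (3, 42, true), (2, 43, true), (6, 28, true), (5, 31, true), (4, 34, true), (3, 35, true), (5, 21, true), (4, 24, true), (3, 27, true), (4, 6, true), (3, 9, true), (3, 0, true), (2, 53, true), (1, 54, true), (1, 44, true), (5, 37, true), (4, 38, true), (3, 41, true), (2, 42, true), (1, 43, true), (6, 16, true), (5, 17, true), (4, 20, true), (5, 4, true), (4, 5, true), (4, 56, true), (3, 61, true), (2, 62, true), (1, 63, true), (5, 16, true), (6, 11, true), (7, 7, true), (8, 4, true), (9, 2, true), (9, 15, true), (8, 17, true), (7, 18, true), (6, 19, true), (5, 20, true), (8, 10, true), (7, 12, true), (6, 13, true), (5, 14, true), (7, 6, true), (6, 8, true), (5, 9, true), (6, 0, true), (5, 68, true), (4, 72, true), (3, 73, true), (2, 74, true), (1, 76, true), (0, 77, true),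 (0, 65, true), (2, 28, true), (1, 31, true), (0, 35, true), (1, 21, true), (0, 24, true), (2, 15, true), (1, 18, true), (3, 10, true), (2, 13, true), (4, 6, true), (3, 9, true), (3, 0, true), (2, 49, true), (1, 50, true), (0, 51, true), (3, 14, true)]),
    ([21, 4, 12, 3, 2], [(0, 194, true), (9, 202, true), (8, 136, true), (7, 137, true), (6, 140, true), (5, 145, true), (4, 147, true), (3, 148, true), (2, 149, true), (1, 150, true), (0, 152, true), (1, 105, true), (0, 111, true), (2, 91, true), (1, 97, true), (3, 66, true), (2, 72, true), (4, 55, true), (3, 61, true), (5, 36, true), (4, 42, true), (6, 21, true), (5, 27, true), (5, 3, true), (6, 0, true), (5, 107, true), (4, 113, true), (3, 115, true), (2, 116, true), (1, 118, true), (0, 119, true), (5, 91, true), (4, 93, true), (3, 95, true), (2, 96, true), (1, 99, true), (0, 101, true), (5, 48, true), (4, 49, true), (3, 50, true), (2, 52, true), (6, 24, true), (5, 25, true), (4, 26, true), (7, 13, true), (6, 14, true), (8, 45, true), (7, 46, true), (6, 48, true), (5, 50, true), (4,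 51, true), (3, 52, true), (2, 54, true), (7, 36, true), (6, 37, true), (5, 39, true), (4, 41, true), (3, 42, true), (2, 43, true), (8, 28, true), (7, 29, true), (6, 31, true), (5, 33, true), (4, 34, true), (3, 35, true), (7, 21, true), (6, 22, true), (5, 24, true), (4, 26, true), (3, 27, true), (6, 10, true), (5, 11, true), (4, 13, true), (7, 3, true), (6, 4, true), (8, 1, true), (7, 2, true), (7, 0, true), (6, 8, true), (5, 9, true), (6, 66, true), (5, 68, true), (4, 70, true), (3, 71, true), (2, 74, true), (1, 76, true), (5, 45, true), (4, 48, true), (3, 52, true), (6, 10, true), (5, 13, true), (7, 1, true), (8, 45, true), (7, 46, true), (6, 48, true), (5, 49, true), (4, 52, true), (3, 54, true), (7, 36, true), (6, 37, true), (5, 39, true), (4, 40, true), (3, 43, true), (8, 28, true), (7, 29, true), (6, 31, true), (5, 32, true), (4, 35, true), (7, 10, true), (6, 11, true), (5, 13, true), (4, 14, true), (6, 3, true), (5, 4, true), (7, 1, true), (6, 2, true), (6, 15, true), (5, 17, true), (4, 18, true), (7, 10, true), (6, 12, true),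 (5, 13, true), (8, 6, true), (7, 8, true), (6, 9, true), (7, 0, true), (7, 28, true), (6, 30, true), (5, 32, true), (4, 33, true), (8, 55, true), (7, 57, true), (6, 59, true), (5, 60, true), (4, 62, true), (3, 63, true), (2, 65, true), (7, 55, true), (6, 57, true), (5, 59, true), (4, 60, true), (3, 62, true), (2, 63, true), (8, 45, true), (7, 47, true), (6, 49, true), (5, 50, true), (4, 52, true), (3, 53, true), (9, 28, true), (8, 30, true), (7, 32, true), (6, 33, true), (5, 35, true), (8, 15, true), (7, 17, true), (6, 19, true), (5, 20, true), (7, 6, true), (6, 8, true), (8, 3, true), (7, 5, true), (7, 55, true), (6, 58, true), (5, 59, true), (4, 63, true), (3, 64, true), (2, 65, true), (6, 36, true), (5, 39, true), (4, 40, true), (3, 44, true), (5, 10, true), (4, 13, true), (3, 14, true), (4, 6, true), (3, 9, true), (3, 1, true), (4, 0, true), (3, 79, true), (2, 87, true), (1, 89, true), (6, 15, true), (5, 18, true), (7, 10, true), (6, 13, true), (8, 6, true), (7, 9, true), (7, 0, true), (6, 70, true), (5, 71, true), (4, 72, true),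 (3, 73, true), (2, 77, true), (4, 51, true), (3, 52, true), (7, 46, true), (6, 49, true), (5, 51, true), (4, 52, true), (3, 54, true), (6, 37, true), (5, 40, true), (4, 42, true), (3, 43, true), (7, 29, true), (6, 32, true), (5, 34, true), (4, 35, true), (6, 11, true), (5, 14, true), (5, 4, true), (6, 2, true), (5, 57, true), (4, 61, true), (3, 63, true), (2, 65, true), (4, 47, true), (3, 51, true), (2, 53, true), (5, 30, true), (4, 34, true), (6, 17, true), (9, 91, true), (8, 92, true), (7, 93, true), (6, 96, true), (5, 97, true), (4, 98, true), (3, 99, true), (2, 100, true), (1, 103, true), (0, 104, true), (5, 78, true), (4, 80, true), (3, 82, true), (2, 83, true), (1, 86, true), (0, 88, true), (1, 65, true), (6, 45, true), (5, 48, true), (4, 51, true), (3, 52, true), (2, 53, true), (1, 54, true), (5, 36, true), (4, 39, true), (3, 42, true), (2, 43, true), (1, 44, true), (4, 28, true), (3, 31, true), (2, 34, true), (1, 35, true), (3, 21, true), (2, 24, true), (1, 27, true), (2, 15, true), (1, 18, true), (3, 3, true), (4, 1, true),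 (5, 36, true), (4, 37, true), (3, 38, true), (2, 39, true), (1, 41, true), (6, 15, true), (5, 16, true), (4, 17, true), (3, 18, true), (2, 20, true), (5, 3, true), (4, 4, true), (3, 5, true), (4, 55, true), (3, 56, true), (2, 58, true), (1, 63, true), (5, 15, true), (4, 16, true), (3, 18, true), (6, 10, true), (5, 11, true), (4, 13, true), (7, 6, true), (6, 7, true), (5, 9, true), (6, 3, true), (5, 4, true), (7, 1, true), (6, 2, true), (6, 0, true), (6, 28, true), (5, 30, true), (4, 32, true), (3, 33, true), (7, 55, true), (6, 57, true), (5, 59, true), (4, 60, true), (3, 62, true), (2, 63, true), (1, 65, true), (6, 28, true), (5, 30, true), (4, 32, true), (3, 33, true), (2, 35, true), (5, 21, true), (4, 23, true), (3, 25, true), (2, 26, true), (6, 15, true), (5, 17, true), (4, 19, true), (3, 20, true), (5, 10, true), (4, 12, true), (3, 14, true), (4, 6, true), (3, 8, true), (5, 3, true), (4, 5, true), (4, 1, true), (5, 28, true), (4, 29, true), (3, 31, true), (2, 34, true), (6, 15, true), (5, 16, true), (4, 18, true), (7, 10, true),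 (6, 11, true), (5, 13, true), (8, 6, true), (7, 7, true), (6, 9, true), (7, 28, true), (6, 29, true), (5, 32, true), (4, 33, true), (3, 34, true), (2, 35, true), (6, 21, true), (5, 22, true), (4, 25, true), (3, 26, true), (2, 27, true), (5, 45, true), (4, 46, true), (3, 49, true), (2, 50, true), (1, 53, true), (6, 21, true), (5, 22, true), (4, 25, true), (3, 26, true), (7, 10, true), (6, 11, true), (5, 14, true), (6, 1, true), (5, 2, true), (5, 0, true), (5, 58, true), (4, 60, true), (3, 61, true), (2, 63, true), (1, 64, true), (6, 48, true), (5, 50, true), (4, 51, true), (3, 53, true), (2, 54, true), (5, 39, true), (4, 41, true), (3, 42, true), (2, 44, true), (4, 24, true), (3, 26, true), (2, 27, true), (3, 9, true), (3, 78, true), (2, 83, true), (1, 88, true), (0, 90, true), (0, 65, true), (7, 66, true), (6, 67, true), (5, 68, true), (4, 71, true), (3, 72, true), (2, 73, true), (1, 74, true), (0, 75, true), (6, 28, true), (5, 31, true), (4, 35, true), (5, 6, true), (4, 9, true), (4, 0, true), (5, 51, true), (4, 52, true), (3, 53,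 true), (2, 54, true), (6, 16, true), (5, 19, true), (7, 11, true), (6, 14, true), (6, 7, true), (8, 55, true), (7, 56, true), (6, 58, true), (5, 60, true), (4, 61, true), (3, 62, true), (2, 63, true), (1, 65, true), (7, 15, true), (6, 16, true), (5, 18, true), (4, 20, true), (6, 10, true), (5, 11, true), (4, 13, true), (7, 6, true), (6, 7, true), (5, 9, true), (6, 3, true), (5, 4, true), (7, 1, true), (6, 2, true), (6, 0, true), (6, 55, true), (5, 57, true), (4, 59, true), (3, 61, true), (2, 62, true), (1, 63, true), (7, 36, true), (6, 38, true), (5, 40, true), (4, 42, true), (3, 43, true), (2, 44, true), (6, 28, true), (5, 30, true), (4, 32, true), (3, 34, true), (2, 35, true), (5, 21, true), (4, 23, true), (3, 25, true), (2, 27, true), (4, 3, true), (3, 5, true), (3, 0, true), (2, 109, true), (1, 115, true), (0, 116, true), (2, 62, true), (3, 43, true), (6, 93, true), (5, 96, true), (4, 98, true), (3, 99, true), (2, 101, true), (1, 102, true), (7, 57, true), (6, 59, true), (5, 60, true), (4, 61, true), (3, 63, true), (8, 30, true),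 (7, 32, true), (6, 33, true), (5, 34, true), (9, 17, true), (8, 19, true), (7, 20, true), (8, 12, true), (7, 14, true), (7, 8, true), (8, 30, true), (7, 31, true), (6, 34, true), (5, 35, true), (7, 47, true), (6, 48, true), (5, 51, true), (4, 53, true), (8, 23, true), (7, 24, true), (6, 27, true), (7, 12, true), (6, 13, true), (10, 6, true), (9, 7, true), (8, 8, true), (7, 9, true), (9, 78, true), (8, 79, true), (7, 80, true), (6, 82, true), (5, 86, true), (4, 87, true), (3, 88, true), (2, 89, true), (8, 55, true), (7, 58, true), (6, 61, true), (5, 62, true), (4, 65, true), (7, 45, true), (6, 48, true), (5, 51, true), (4, 52, true), (8, 36, true), (7, 39, true), (6, 42, true), (5, 43, true), (9, 28, true), (8, 31, true), (7, 34, true), (6, 35, true), (8, 21, true), (7, 24, true), (6, 27, true), (7, 6, true), (6, 9, true), (6, 0, true), (5, 44, true), (6, 57, true), (5, 60, true), (4, 64, true), (7, 17, true), (6, 20, true), (6, 12, true), (7, 8, true), (8, 5, true), (9, 15, true), (8, 16, true), (7, 18, true), (6, 19, true), (10, 10,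 true), (9, 11, true), (8, 13, true), (7, 14, true), (9, 6, true), (8, 7, true), (7, 9, true), (8, 0, true), (8, 55, true), (7, 56, true), (6, 60, true), (5, 64, true), (4, 65, true), (7, 45, true), (6, 46, true), (5, 50, true), (4, 54, true), (6, 15, true), (5, 16, true), (4, 20, true), (5, 1, true), (4, 2, true), (4, 0, true), (7, 21, true), (6, 26, true), (5, 27, true), (6, 10, true), (7, 0, true), (6, 19, true), (5, 20, true), (7, 120, true), (6, 121, true), (5, 124, true), (4, 129, true), (3, 131, true), (2, 132, true), (1, 133, true), (0, 134, true), (3, 105, true), (2, 116, true), (1, 117, true), (7, 68, true), (6, 70, true), (5, 71, true), (4, 72, true), (3, 74, true), (6, 21, true), (5, 24, true), (7, 45, true), (6, 48, true), (5, 51, true), (4, 52, true), (8, 10, true), (7, 13, true), (9, 1, true), (10, 45, true), (9, 46, true), (8, 48, true), (7, 49, true), (6, 51, true), (5, 52, true), (4, 54, true), (9, 36, true), (8, 37, true), (7, 39, true), (6, 40, true), (5, 42, true), (4, 43, true), (10, 28, true), (9, 29, true), (8,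 31, true), (7, 32, true), (6, 34, true), (5, 35, true), (9, 10, true), (8, 11, true), (7, 13, true), (6, 14, true), (8, 3, true), (7, 4, true), (9, 1, true), (8, 2, true), (8, 15, true), (7, 17, true), (6, 18, true), (9, 10, true), (8, 12, true), (7, 13, true), (10, 6, true), (9, 8, true), (8, 9, true), (9, 0, true), (8, 30, true), (7, 32, true), (6, 33, true), (5, 34, true), (10, 91, true), (9, 93, true), (8, 95, true), (7, 96, true), (6, 97, true), (5, 98, true), (4, 99, true), (3, 102, true), (2, 103, true), (4, 73, true), (5, 43, true), (10, 30, true), (9, 32, true), (8, 33, true), (7, 34, true), (6, 35, true), (9, 17, true), (8, 19, true), (7, 20, true), (8, 12, true), (7, 14, true), (7, 8, true), (8, 30, true), (7, 31, true), (6, 34, true), (9, 23, true), (8, 24, true), (7, 27, true), (8, 47, true), (7, 48, true), (6, 52, true), (5, 53, true), (9, 23, true), (8, 24, true), (10, 12, true), (9, 13, true), (13, 45, true), (12, 46, true), (11, 47, true), (10, 48, true), (9, 49, true), (8, 51, true), (7, 52, true), (6, 53, true), (5,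 54, true), (12, 36, true), (11, 37, true), (10, 38, true), (9, 39, true), (8, 40, true), (7, 42, true), (6, 43, true), (5, 44, true), (11, 28, true), (10, 29, true), (9, 30, true), (8, 31, true), (7, 32, true), (6, 34, true), (5, 35, true), (10, 21, true), (9, 22, true), (8, 23, true), (7, 24, true), (6, 25, true), (5, 27, true), (9, 10, true), (8, 11, true), (7, 12, true), (6, 13, true), (5, 14, true), (8, 3, true), (7, 4, true), (6, 5, true), (7, 1, true), (6, 2, true), (6, 0, true), (5, 9, true), (5, 0, true), (8, 10, true), (7, 11, true), (9, 45, true), (8, 46, true), (7, 49, true), (6, 51, true), (5, 52, true), (10, 28, true), (9, 29, true), (8, 32, true), (7, 34, true), (6, 35, true), (9, 21, true), (8, 22, true), (7, 25, true), (6, 27, true), (8, 0, true), (8, 105, true), (7, 106, true), (6, 109, true), (5, 114, true), (4, 116, true), (3, 117, true), (2, 118, true), (1, 119, true), (6, 91, true), (5, 93, true), (4, 95, true), (3, 96, true), (2, 99, true), (1, 101, true), (6, 48, true), (5, 49, true), (4, 50, true), (3, 52, true),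 (7, 24, true), (6, 25, true), (5, 26, true), (8, 13, true), (7, 14, true), (9, 45, true), (8, 46, true), (7, 48, true), (6, 50, true), (5, 51, true), (4, 52, true), (3, 54, true), (8, 36, true), (7, 37, true), (6, 39, true), (5, 41, true), (4, 42, true), (3, 43, true), (9, 28, true), (8, 29, true), (7, 31, true), (6, 33, true), (5, 34, true), (4, 35, true), (8, 21, true), (7, 22, true), (6, 24, true), (5, 26, true), (4, 27, true), (7, 10, true), (6, 11, true), (5, 13, true), (8, 3, true), (7, 4, true), (9, 1, true), (8, 2, true), (8, 0, true), (7, 8, true), (6, 9, true), (7, 78, true), (6, 80, true), (5, 82, true), (4, 83, true), (3, 86, true), (2, 88, true), (3, 65, true), (8, 45, true), (7, 48, true), (6, 51, true), (5, 52, true), (4, 53, true), (3, 54, true), (7, 36, true), (6, 39, true), (5, 42, true), (4, 43, true), (3, 44, true), (6, 28, true), (5, 31, true), (4, 34, true), (3, 35, true), (5, 21, true), (4, 24, true), (3, 27, true), (4, 15, true), (3, 18, true), (5, 3, true), (6, 1, true), (7, 36, true), (6, 37, true), (5, 38,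 true), (4, 39, true), (3, 41, true), (8, 15, true), (7, 16, true), (6, 17, true), (5, 18, true), (4, 20, true), (7, 3, true), (6, 4, true), (5, 5, true), (6, 55, true), (5, 56, true), (4, 58, true), (3, 63, true), (7, 15, true), (6, 16, true), (5, 18, true), (8, 10, true), (7, 11, true), (6, 13, true), (9, 6, true), (8, 7, true), (7, 9, true), (8, 3, true), (7, 4, true), (9, 1, true), (8, 2, true), (8, 0, true), (8, 36, true), (7, 38, true), (6, 40, true), (5, 41, true), (4, 44, true), (7, 21, true), (6, 23, true), (5, 25, true), (4, 26, true), (8, 15, true), (7, 17, true), (6, 19, true), (5, 20, true), (7, 10, true), (6, 12, true), (5, 14, true), (6, 3, true), (5, 5, true), (5, 66, true), (4, 72, true), (3, 76, true), (6, 28, true), (5, 34, true), (7, 45, true), (6, 51, true), (5, 52, true), (8, 36, true), (7, 42, true), (6, 43, true), (9, 10, true), (10, 6, true), (11, 3, true), (12, 1, true), (13, 36, true), (12, 37, true), (11, 38, true), (10, 39, true), (9, 40, true), (8, 42, true), (7, 43, true), (6, 44, true), (12, 15, true),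 (11, 16, true), (10, 17, true), (9, 18, true), (8, 19, true), (13, 3, true), (12, 4, true), (11, 5, true), (12, 45, true), (11, 46, true), (10, 48, true), (9, 49, true), (8, 50, true), (7, 51, true), (6, 52, true), (5, 54, true), (11, 36, true), (10, 37, true), (9, 39, true), (8, 40, true), (7, 41, true), (6, 42, true), (5, 43, true), (12, 28, true), (11, 29, true), (10, 31, true), (9, 32, true), (8, 33, true), (7, 34, true), (6, 35, true), (11, 15, true), (10, 16, true), (9, 18, true), (8, 19, true), (7, 20, true), (10, 6, true), (9, 7, true), (8, 9, true), (9, 3, true), (8, 4, true), (10, 1, true), (9, 2, true), (9, 0, true), (9, 78, true), (8, 80, true), (7, 82, true), (6, 84, true), (5, 86, true), (4, 88, true), (3, 89, true), (2, 90, true), (2, 76, true), (3, 65, true), (9, 21, true), (8, 24, true), (7, 27, true), (8, 36, true), (7, 39, true), (6, 43, true), (5, 44, true), (7, 15, true), (6, 18, true), (8, 3, true), (9, 55, true), (8, 57, true), (7, 58, true), (6, 60, true), (5, 62, true), (4, 64, true), (3, 65, true), (8, 15,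 true), (7, 17, true), (6, 18, true), (5, 20, true), (7, 10, true), (6, 12, true), (5, 13, true), (8, 6, true), (7, 8, true), (6, 9, true), (7, 3, true), (6, 5, true), (6, 1, true), (7, 0, true), (7, 55, true), (6, 56, true), (5, 59, true), (4, 62, true), (3, 64, true), (8, 45, true), (7, 46, true), (6, 49, true), (5, 52, true), (4, 54, true), (7, 36, true), (6, 37, true), (5, 40, true), (4, 43, true), (8, 28, true), (7, 29, true), (6, 32, true), (5, 35, true), (7, 10, true), (6, 11, true), (5, 14, true), (6, 6, true), (5, 7, true)], [(1, 82, true), (4, 8, true), (5, 5, true), (3, 18, false), (4, 5, false), (2, 39, false), (3, 38, false), (0, 202, true), (10, 198, true), (18, 195, true), (9, 139, true), (8, 140, true), (7, 143, true), (6, 144, true), (5, 145, true), (4, 146, true), (3, 148, true), (2, 150, true), (1, 151, true), (0, 152, true), (1, 120, true), (0, 126, true), (2, 105, true), (1, 111, true), (3, 91, true), (2, 97, true), (4, 66, true), (3, 72, true), (5, 55, true), (4, 61, true), (6, 36, true), (5, 42, true), (7, 21,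 true), (6, 27, true), (6, 3, true), (7, 0, true), (6, 93, true), (5, 99, true), (4, 101, true), (3, 102, true), (2, 104, true), (7, 66, true), (6, 68, true), (5, 70, true), (4, 71, true), (3, 74, true), (2, 76, true), (6, 45, true), (5, 48, true), (4, 52, true), (7, 10, true), (6, 13, true), (8, 1, true), (9, 45, true), (8, 46, true), (7, 48, true), (6, 49, true), (5, 52, true), (4, 54, true), (8, 36, true), (7, 37, true), (6, 39, true), (5, 40, true), (4, 43, true), (9, 28, true), (8, 29, true), (7, 31, true), (6, 32, true), (5, 35, true), (8, 10, true), (7, 11, true), (6, 13, true), (5, 14, true), (7, 3, true), (6, 4, true), (8, 1, true), (7, 2, true), (7, 15, true), (6, 17, true), (5, 18, true), (8, 10, true), (7, 12, true), (6, 13, true), (9, 6, true), (8, 8, true), (7, 9, true), (8, 0, true), (8, 36, true), (7, 38, true), (6, 40, true), (5, 41, true), (4, 44, true), (7, 21, true), (6, 23, true), (5, 25, true), (4, 26, true), (8, 15, true), (7, 17, true), (6, 19, true), (5, 20, true), (7, 10, true), (6, 12, true), (5, 14, true),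 (6, 3, true), (5, 5, true), (5, 55, true), (4, 61, true), (3, 65, true), (4, 28, true), (3, 34, true), (5, 15, true), (6, 10, true), (7, 6, true), (8, 6, true), (7, 9, true), (7, 78, true), (6, 82, true), (5, 83, true), (4, 84, true), (3, 85, true), (2, 89, true), (5, 51, true), (4, 52, true), (6, 42, true), (5, 43, true), (7, 34, true), (6, 35, true), (6, 27, true), (8, 37, true), (7, 38, true), (6, 41, true), (5, 44, true), (7, 16, true), (6, 17, true), (5, 20, true), (6, 4, true), (5, 5, true), (6, 66, true), (5, 67, true), (4, 75, true), (3, 77, true), (3, 65, true), (7, 55, true), (6, 58, true), (5, 62, true), (4, 63, true), (3, 64, true), (8, 15, true), (7, 18, true), (9, 10, true), (8, 13, true), (10, 6, true), (9, 9, true), (9, 3, true), (10, 1, true), (11, 0, true), (11, 55, true), (10, 56, true), (9, 57, true), (8, 59, true), (7, 60, true), (6, 62, true), (5, 63, true), (4, 64, true), (3, 65, true), (10, 36, true), (9, 37, true), (8, 38, true), (7, 40, true), (6, 41, true), (5, 43, true), (4, 44, true), (9, 28, true), (8,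 29, true), (7, 30, true), (6, 32, true), (5, 33, true), (4, 35, true), (8, 21, true), (7, 22, true), (6, 23, true), (5, 25, true), (4, 26, true), (9, 3, true), (8, 4, true), (7, 5, true), (8, 0, true), (7, 56, true), (6, 59, true), (5, 60, true), (4, 61, true), (3, 64, true), (8, 46, true), (7, 49, true), (6, 50, true), (5, 51, true), (4, 54, true), (7, 16, true), (6, 19, true), (5, 20, true), (6, 11, true), (5, 14, true), (5, 2, true), (5, 45, true), (4, 51, true), (6, 21, true), (5, 27, true), (5, 15, true), (6, 0, true), (5, 33, true), (8, 28, true), (7, 30, true), (6, 33, true), (5, 35, true), (7, 21, true), (6, 23, true), (5, 26, true), (8, 10, true), (7, 12, true), (9, 0, true), (8, 47, true), (7, 49, true), (6, 50, true), (5, 51, true), (4, 54, true), (7, 38, true), (6, 40, true), (5, 41, true), (4, 42, true), (8, 30, true), (7, 32, true), (6, 33, true), (5, 34, true), (9, 23, true), (8, 25, true), (7, 26, true), (6, 27, true), (8, 12, true), (7, 14, true), (7, 8, true), (8, 5, true), (9, 120, true), (8, 121, true), (7, 123,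 true), (6, 125, true), (5, 127, true), (4, 128, true), (3, 130, true), (2, 132, true), (1, 134, true), (0, 135, true), (1, 78, true), (0, 84, true), (2, 105, true), (1, 111, true), (0, 117, true), (6, 23, true), (5, 25, true), (4, 26, true), (3, 27, true), (6, 55, true), (5, 57, true), (4, 59, true), (3, 60, true), (2, 63, true), (7, 36, true), (6, 38, true), (5, 40, true), (4, 41, true), (3, 44, true), (6, 15, true), (5, 17, true), (4, 19, true), (3, 20, true), (5, 10, true), (4, 12, true), (3, 14, true), (4, 3, true), (3, 5, true), (3, 0, true), (6, 28, true), (5, 32, true), (4, 34, true), (7, 21, true), (6, 25, true), (5, 27, true), (6, 15, true), (5, 19, true), (7, 0, true), (6, 49, true), (5, 50, true), (4, 52, true), (3, 53, true), (7, 40, true), (6, 41, true), (5, 43, true), (4, 44, true), (6, 32, true), (5, 33, true), (4, 35, true), (5, 19, true), (4, 20, true), (8, 45, true), (7, 46, true), (6, 47, true), (5, 48, true), (4, 49, true), (3, 54, true), (7, 28, true), (6, 29, true), (5, 30, true), (4, 31, true), (3, 32, true),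 (8, 21, true), (7, 22, true), (6, 23, true), (5, 24, true), (4, 25, true), (9, 0, true), (9, 105, true), (8, 106, true), (7, 107, true), (6, 108, true), (5, 109, true), (4, 111, true), (3, 112, true), (2, 115, true), (1, 117, true), (0, 119, true), (5, 78, true), (4, 80, true), (3, 82, true), (2, 83, true), (1, 86, true), (0, 88, true), (1, 65, true), (6, 45, true), (5, 48, true), (4, 51, true), (3, 52, true), (2, 53, true), (1, 54, true), (5, 36, true), (4, 39, true), (3, 42, true), (2, 43, true), (1, 44, true), (4, 28, true), (3, 31, true), (2, 34, true), (1, 35, true), (3, 21, true), (2, 24, true), (1, 27, true), (2, 15, true), (1, 18, true), (3, 3, true), (4, 1, true), (5, 36, true), (4, 37, true), (3, 38, true), (2, 39, true), (1, 41, true), (6, 15, true), (5, 16, true), (4, 17, true), (3, 18, true), (2, 20, true), (5, 3, true), (4, 4, true), (3, 5, true), (4, 55, true), (3, 56, true), (2, 58, true), (1, 63, true), (5, 15, true), (4, 16, true), (3, 18, true), (6, 10, true), (5, 11, true), (4, 13, true), (7, 6, true), (6, 7, true),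 (5, 9, true), (6, 3, true), (5, 4, true), (7, 1, true), (6, 2, true), (6, 0, true), (6, 36, true), (5, 38, true), (4, 40, true), (3, 41, true), (2, 44, true), (5, 21, true), (4, 23, true), (3, 25, true), (2, 26, true), (6, 15, true), (5, 17, true), (4, 19, true), (3, 20, true), (5, 10, true), (4, 12, true), (3, 14, true), (4, 3, true), (3, 5, true), (3, 55, true), (2, 61, true), (1, 65, true), (2, 28, true), (1, 34, true), (3, 21, true), (2, 27, true), (2, 36, true), (1, 43, true), (3, 15, true), (4, 3, true), (5, 15, true), (4, 17, true), (3, 20, true), (4, 1, true), (5, 55, true), (4, 56, true), (3, 57, true), (2, 62, true), (1, 63, true), (6, 36, true), (5, 37, true), (4, 38, true), (3, 43, true), (2, 44, true), (5, 10, true), (4, 11, true), (3, 12, true), (6, 6, true), (5, 7, true), (4, 8, true), (7, 1, true), (6, 2, true), (6, 0, true), (5, 47, true), (4, 48, true), (3, 49, true), (2, 52, true), (6, 38, true), (5, 39, true), (4, 40, true), (3, 43, true), (7, 30, true), (6, 31, true), (5, 32, true), (4, 35, true), (6, 17, true),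 (5, 18, true), (4, 19, true), (7, 8, true), (6, 9, true), (6, 5, true), (7, 0, true), (6, 79, true), (5, 82, true), (4, 83, true), (3, 86, true), (2, 87, true), (1, 88, true), (0, 90, true), (0, 65, true), (3, 55, true), (2, 58, true), (1, 61, true), (0, 62, true), (4, 45, true), (3, 48, true), (2, 51, true), (1, 52, true), (5, 36, true), (4, 39, true), (3, 42, true), (2, 43, true), (6, 28, true), (5, 31, true), (4, 34, true), (3, 35, true), (5, 21, true), (4, 24, true), (3, 27, true), (4, 6, true), (3, 9, true), (3, 0, true), (2, 53, true), (1, 54, true), (1, 44, true), (5, 37, true), (4, 38, true), (3, 41, true), (2, 42, true), (1, 43, true), (6, 16, true), (5, 17, true), (4, 20, true), (5, 4, true), (4, 5, true), (4, 16, true), (5, 11, true), (6, 7, true), (8, 55, true), (7, 56, true), (6, 58, true), (5, 59, true), (4, 60, true), (3, 61, true), (2, 62, true), (1, 63, true), (0, 65, true), (7, 45, true), (6, 46, true), (5, 48, true), (4, 49, true), (3, 50, true), (2, 51, true), (1, 52, true), (0, 53, true), (8, 21, true), (7, 22,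 true), (6, 24, true), (5, 25, true), (4, 26, true), (3, 27, true), (7, 1, true), (6, 2, true), (6, 120, true), (5, 123, true), (4, 124, true), (3, 125, true), (2, 127, true), (1, 128, true), (0, 129, true), (4, 36, true), (3, 37, true), (2, 42, true), (1, 43, true), (5, 21, true), (4, 22, true), (3, 27, true), (4, 10, true), (3, 11, true), (5, 0, true), (4, 29, true), (3, 32, true), (2, 35, true), (3, 22, true), (2, 25, true), (4, 16, true), (3, 19, true), (6, 10, true), (5, 11, true), (4, 14, true), (5, 45, true), (4, 46, true), (3, 50, true), (2, 51, true), (1, 53, true), (6, 36, true), (5, 37, true), (4, 41, true), (3, 42, true), (2, 44, true), (5, 28, true), (4, 29, true), (3, 33, true), (2, 34, true), (6, 15, true), (5, 16, true), (4, 20, true), (5, 6, true), (4, 7, true), (6, 3, true), (5, 4, true), (7, 1, true), (6, 2, true), (6, 0, true), (6, 91, true), (5, 93, true), (4, 94, true), (3, 97, true), (2, 98, true), (1, 100, true), (9, 29, true), (8, 30, true), (7, 31, true), (6, 32, true), (5, 33, true), (4, 34, true), (3, 35,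 true), (8, 22, true), (7, 23, true), (6, 24, true), (5, 25, true), (4, 26, true), (3, 27, true), (7, 4, true), (6, 5, true), (6, 7, true), (5, 9, true), (6, 66, true), (5, 67, true), (4, 70, true), (3, 71, true), (2, 76, true), (6, 46, true), (5, 49, true), (4, 54, true), (5, 37, true), (4, 40, true), (6, 29, true), (5, 32, true), (7, 11, true), (6, 14, true), (6, 4, true), (7, 2, true), (6, 57, true), (5, 62, true), (4, 63, true), (3, 65, true), (5, 17, true), (6, 12, true), (7, 8, true), (8, 5, true), (9, 0, true), (8, 56, true), (7, 58, true), (6, 59, true), (5, 60, true), (4, 62, true), (3, 63, true), (9, 29, true), (8, 31, true), (7, 32, true), (6, 33, true), (5, 35, true), (8, 16, true), (7, 18, true), (6, 19, true), (5, 20, true), (7, 11, true), (6, 13, true), (5, 14, true)]),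
    ([21, 13, 11, 13, 11], [(0, 203, true), (11, 203, true), (10, 136, true), (9, 138, true), (8, 140, true), (7, 143, true), (6, 144, true), (5, 145, true), (4, 147, true), (3, 148, true), (2, 149, true), (1, 150, true), (0, 152, true), (1, 105, true), (0, 111, true), (2, 91, true), (1, 97, true), (3, 66, true), (2, 72, true), (4, 55, true), (3, 61, true), (5, 36, true), (4, 42, true), (6, 21, true), (5, 27, true), (5, 3, true), (6, 0, true), (5, 107, true), (4, 113, true), (3, 115, true), (2, 116, true), (1, 118, true), (0, 119, true), (5, 91, true), (4, 93, true), (3, 95, true), (2, 96, true), (1, 99, true), (0, 101, true), (5, 48, true), (4, 49, true), (3, 50, true), (2, 52, true), (6, 24, true), (5, 25, true), (4, 26, true), (7, 13, true), (6, 14, true), (8, 45, true), (7, 46, true), (6, 48, true), (5, 50, true), (4, 51, true), (3, 52, true), (2, 54, true), (7, 36, true), (6, 37, true), (5, 39, true), (4, 41, true), (3, 42, true), (2, 43, true), (8, 28, true), (7, 29, true), (6, 31, true), (5, 33, true), (4, 34, true), (3, 35,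 true), (7, 21, true), (6, 22, true), (5, 24, true), (4, 26, true), (3, 27, true), (6, 10, true), (5, 11, true), (4, 13, true), (7, 3, true), (6, 4, true), (8, 1, true), (7, 2, true), (7, 0, true), (6, 8, true), (5, 9, true), (6, 66, true), (5, 68, true), (4, 70, true), (3, 71, true), (2, 74, true), (1, 76, true), (5, 45, true), (4, 48, true), (3, 52, true), (6, 10, true), (5, 13, true), (7, 1, true), (8, 45, true), (7, 46, true), (6, 48, true), (5, 49, true), (4, 52, true), (3, 54, true), (7, 36, true), (6, 37, true), (5, 39, true), (4, 40, true), (3, 43, true), (8, 28, true), (7, 29, true), (6, 31, true), (5, 32, true), (4, 35, true), (7, 10, true), (6, 11, true), (5, 13, true), (4, 14, true), (6, 3, true), (5, 4, true), (7, 1, true), (6, 2, true), (6, 15, true), (5, 17, true), (4, 18, true), (7, 10, true), (6, 12, true), (5, 13, true), (8, 6, true), (7, 8, true), (6, 9, true), (7, 0, true), (7, 28, true), (6, 30, true), (5, 32, true), (4, 33, true), (8, 55, true), (7, 57, true), (6, 59, true), (5, 60, true), (4, 62, true), (3, 63,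 true), (2, 65, true), (7, 55, true), (6, 57, true), (5, 59, true), (4, 60, true), (3, 62, true), (2, 63, true), (8, 45, true), (7, 47, true), (6, 49, true), (5, 50, true), (4, 52, true), (3, 53, true), (9, 28, true), (8, 30, true), (7, 32, true), (6, 33, true), (5, 35, true), (8, 15, true), (7, 17, true), (6, 19, true), (5, 20, true), (7, 6, true), (6, 8, true), (8, 3, true), (7, 5, true), (7, 55, true), (6, 58, true), (5, 59, true), (4, 63, true), (3, 64, true), (2, 65, true), (6, 36, true), (5, 39, true), (4, 40, true), (3, 44, true), (5, 10, true), (4, 13, true), (3, 14, true), (4, 6, true), (3, 9, true), (3, 1, true), (4, 0, true), (3, 79, true), (2, 87, true), (1, 89, true), (6, 15, true), (5, 18, true), (7, 10, true), (6, 13, true), (8, 6, true), (7, 9, true), (7, 0, true), (6, 70, true), (5, 71, true), (4, 72, true), (3, 73, true), (2, 77, true), (4, 51, true), (3, 52, true), (7, 46, true), (6, 49, true), (5, 51, true), (4, 52, true), (3, 54, true), (6, 37, true), (5, 40, true), (4, 42, true), (3, 43, true), (7, 29, true), (6,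 32, true), (5, 34, true), (4, 35, true), (6, 11, true), (5, 14, true), (5, 4, true), (6, 2, true), (5, 57, true), (4, 61, true), (3, 63, true), (2, 65, true), (4, 47, true), (3, 51, true), (2, 53, true), (5, 30, true), (4, 34, true), (6, 17, true), (9, 91, true), (8, 92, true), (7, 93, true), (6, 96, true), (5, 97, true), (4, 98, true), (3, 99, true), (2, 100, true), (1, 103, true), (0, 104, true), (5, 78, true), (4, 80, true), (3, 82, true), (2, 83, true), (1, 86, true), (0, 88, true), (1, 65, true), (6, 45, true), (5, 48, true), (4, 51, true), (3, 52, true), (2, 53, true), (1, 54, true), (5, 36, true), (4, 39, true), (3, 42, true), (2, 43, true), (1, 44, true), (4, 28, true), (3, 31, true), (2, 34, true), (1, 35, true), (3, 21, true), (2, 24, true), (1, 27, true), (2, 15, true), (1, 18, true), (3, 3, true), (4, 1, true), (5, 36, true), (4, 37, true), (3, 38, true), (2, 39, true), (1, 41, true), (6, 15, true), (5, 16, true), (4, 17, true), (3, 18, true), (2, 20, true), (5, 3, true), (4, 4, true), (3, 5, true), (4, 55, true), (3, 56,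 true), (2, 58, true), (1, 63, true), (5, 15, true), (4, 16, true), (3, 18, true), (6, 10, true), (5, 11, true), (4, 13, true), (7, 6, true), (6, 7, true), (5, 9, true), (6, 3, true), (5, 4, true), (7, 1, true), (6, 2, true), (6, 0, true), (6, 28, true), (5, 30, true), (4, 32, true), (3, 33, true), (7, 55, true), (6, 57, true), (5, 59, true), (4, 60, true), (3, 62, true), (2, 63, true), (1, 65, true), (6, 28, true), (5, 30, true), (4, 32, true), (3, 33, true), (2, 35, true), (5, 21, true), (4, 23, true), (3, 25, true), (2, 26, true), (6, 15, true), (5, 17, true), (4, 19, true), (3, 20, true), (5, 10, true), (4, 12, true), (3, 14, true), (4, 6, true), (3, 8, true), (5, 3, true), (4, 5, true), (4, 1, true), (5, 28, true), (4, 29, true), (3, 31, true), (2, 34, true), (6, 15, true), (5, 16, true), (4, 18, true), (7, 10, true), (6, 11, true), (5, 13, true), (8, 6, true), (7, 7, true), (6, 9, true), (7, 28, true), (6, 29, true), (5, 32, true), (4, 33, true), (3, 34, true), (2, 35, true), (6, 21, true), (5, 22, true), (4, 25, true), (3, 26,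 true), (2, 27, true), (5, 45, true), (4, 46, true), (3, 49, true), (2, 50, true), (1, 53, true), (6, 21, true), (5, 22, true), (4, 25, true), (3, 26, true), (7, 10, true), (6, 11, true), (5, 14, true), (6, 1, true), (5, 2, true), (5, 0, true), (5, 58, true), (4, 60, true), (3, 61, true), (2, 63, true), (1, 64, true), (6, 48, true), (5, 50, true), (4, 51, true), (3, 53, true), (2, 54, true), (5, 39, true), (4, 41, true), (3, 42, true), (2, 44, true), (4, 24, true), (3, 26, true), (2, 27, true), (3, 9, true), (3, 78, true), (2, 83, true), (1, 88, true), (0, 90, true), (0, 65, true), (7, 66, true), (6, 67, true), (5, 68, true), (4, 71, true), (3, 72, true), (2, 73, true), (1, 74, true), (0, 75, true), (6, 28, true), (5, 31, true), (4, 35, true), (5, 6, true), (4, 9, true), (4, 0, true), (5, 51, true), (4, 52, true), (3, 53, true), (2, 54, true), (6, 16, true), (5, 19, true), (7, 11, true), (6, 14, true), (6, 7, true), (8, 55, true), (7, 56, true), (6, 58, true), (5, 60, true), (4, 61, true), (3, 62, true), (2, 63, true), (1, 65, true),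 (7, 15, true), (6, 16, true), (5, 18, true), (4, 20, true), (6, 10, true), (5, 11, true), (4, 13, true), (7, 6, true), (6, 7, true), (5, 9, true), (6, 3, true), (5, 4, true), (7, 1, true), (6, 2, true), (6, 0, true), (6, 55, true), (5, 57, true), (4, 59, true), (3, 61, true), (2, 62, true), (1, 63, true), (7, 36, true), (6, 38, true), (5, 40, true), (4, 42, true), (3, 43, true), (2, 44, true), (6, 28, true), (5, 30, true), (4, 32, true), (3, 34, true), (2, 35, true), (5, 21, true), (4, 23, true), (3, 25, true), (2, 27, true), (4, 3, true), (3, 5, true), (3, 0, true), (2, 109, true), (1, 115, true), (0, 116, true), (2, 62, true), (3, 43, true), (6, 93, true), (5, 96, true), (4, 98, true), (3, 99, true), (2, 101, true), (1, 102, true), (7, 57, true), (6, 59, true), (5, 60, true), (4, 61, true), (3, 63, true), (8, 30, true), (7, 32, true), (6, 33, true), (5, 34, true), (9, 17, true), (8, 19, true), (7, 20, true), (8, 12, true), (7, 14, true), (7, 8, true), (8, 30, true), (7, 31, true), (6, 34, true), (5, 35, true), (7, 47, true), (6, 48,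 true), (5, 51, true), (4, 53, true), (8, 23, true), (7, 24, true), (6, 27, true), (7, 12, true), (6, 13, true), (10, 6, true), (9, 7, true), (8, 8, true), (7, 9, true), (9, 78, true), (8, 79, true), (7, 80, true), (6, 82, true), (5, 86, true), (4, 87, true), (3, 88, true), (2, 89, true), (8, 55, true), (7, 58, true), (6, 61, true), (5, 62, true), (4, 65, true), (7, 45, true), (6, 48, true), (5, 51, true), (4, 52, true), (8, 36, true), (7, 39, true), (6, 42, true), (5, 43, true), (9, 28, true), (8, 31, true), (7, 34, true), (6, 35, true), (8, 21, true), (7, 24, true), (6, 27, true), (7, 6, true), (6, 9, true), (6, 0, true), (5, 44, true), (6, 57, true), (5, 60, true), (4, 64, true), (7, 17, true), (6, 20, true), (6, 12, true), (7, 8, true), (8, 5, true), (9, 15, true), (8, 16, true), (7, 18, true), (6, 19, true), (10, 10, true), (9, 11, true), (8, 13, true), (7, 14, true), (9, 6, true), (8, 7, true), (7, 9, true), (8, 0, true), (8, 55, true), (7, 56, true), (6, 60, true), (5, 64, true), (4, 65, true), (7, 45, true), (6, 46, true), (5,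 50, true), (4, 54, true), (6, 15, true), (5, 16, true), (4, 20, true), (5, 1, true), (4, 2, true), (4, 0, true), (7, 28, true), (6, 33, true), (5, 34, true), (8, 3, true), (9, 0, true), (8, 30, true), (7, 33, true), (6, 34, true), (5, 35, true), (7, 23, true), (6, 26, true), (5, 27, true), (6, 12, true), (8, 36, true), (7, 38, true), (6, 40, true), (5, 41, true), (9, 28, true), (8, 30, true), (7, 32, true), (6, 33, true), (10, 0, true), (10, 105, true), (9, 107, true), (8, 109, true), (7, 110, true), (6, 112, true), (5, 113, true), (4, 114, true), (3, 116, true), (2, 117, true), (1, 118, true), (0, 119, true), (5, 91, true), (4, 93, true), (3, 95, true), (2, 96, true), (1, 99, true), (0, 101, true), (5, 48, true), (4, 49, true), (3, 50, true), (2, 52, true), (6, 24, true), (5, 25, true), (4, 26, true), (7, 13, true), (6, 14, true), (8, 45, true), (7, 46, true), (6, 48, true), (5, 50, true), (4, 51, true), (3, 52, true), (2, 54, true), (7, 36, true), (6, 37, true), (5, 39, true), (4, 41, true), (3, 42, true), (2, 43, true), (8, 28, true),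 (7, 29, true), (6, 31, true), (5, 33, true), (4, 34, true), (3, 35, true), (7, 21, true), (6, 22, true), (5, 24, true), (4, 26, true), (3, 27, true), (6, 10, true), (5, 11, true), (4, 13, true), (7, 3, true), (6, 4, true), (8, 1, true), (7, 2, true), (7, 0, true), (6, 8, true), (5, 9, true), (6, 78, true), (5, 80, true), (4, 82, true), (3, 83, true), (2, 86, true), (1, 88, true), (2, 65, true), (7, 45, true), (6, 48, true), (5, 51, true), (4, 52, true), (3, 53, true), (2, 54, true), (6, 36, true), (5, 39, true), (4, 42, true), (3, 43, true), (2, 44, true), (5, 28, true), (4, 31, true), (3, 34, true), (2, 35, true), (4, 21, true), (3, 24, true), (2, 27, true), (3, 15, true), (2, 18, true), (4, 3, true), (5, 1, true), (6, 36, true), (5, 37, true), (4, 38, true), (3, 39, true), (2, 41, true), (7, 15, true), (6, 16, true), (5, 17, true), (4, 18, true), (3, 20, true), (6, 3, true), (5, 4, true), (4, 5, true), (5, 55, true), (4, 56, true), (3, 58, true), (2, 63, true), (6, 15, true), (5, 16, true), (4, 18, true), (7, 10, true), (6, 11, true),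 (5, 13, true), (8, 6, true), (7, 7, true), (6, 9, true), (7, 3, true), (6, 4, true), (8, 1, true), (7, 2, true), (7, 0, true), (7, 36, true), (6, 38, true), (5, 40, true), (4, 41, true), (3, 44, true), (6, 21, true), (5, 23, true), (4, 25, true), (3, 26, true), (7, 15, true), (6, 17, true), (5, 19, true), (4, 20, true), (6, 10, true), (5, 12, true), (4, 14, true), (5, 3, true), (4, 5, true), (4, 66, true), (3, 72, true), (2, 76, true), (5, 28, true), (4, 34, true), (6, 45, true), (5, 51, true), (4, 52, true), (7, 36, true), (6, 42, true), (5, 43, true), (8, 10, true), (9, 6, true), (10, 3, true), (11, 1, true), (12, 55, true), (11, 56, true), (10, 57, true), (9, 58, true), (8, 59, true), (7, 61, true), (6, 62, true), (5, 63, true), (4, 64, true), (3, 65, true), (11, 45, true), (10, 46, true), (9, 47, true), (8, 48, true), (7, 49, true), (6, 51, true), (5, 52, true), (4, 53, true), (3, 54, true), (10, 28, true), (9, 29, true), (8, 30, true), (7, 31, true), (6, 32, true), (5, 34, true), (4, 35, true), (9, 15, true), (8, 16, true), (7,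 17, true), (6, 18, true), (5, 19, true), (10, 6, true), (9, 7, true), (8, 8, true), (7, 9, true), (9, 3, true), (8, 4, true), (7, 5, true), (8, 28, true), (7, 29, true), (6, 32, true), (5, 33, true), (4, 34, true), (9, 45, true), (8, 46, true), (7, 49, true), (6, 50, true), (5, 51, true), (4, 52, true), (3, 53, true), (10, 36, true), (9, 37, true), (8, 40, true), (7, 41, true), (6, 42, true), (5, 43, true), (4, 44, true), (9, 28, true), (8, 29, true), (7, 32, true), (6, 33, true), (5, 34, true), (4, 35, true), (8, 15, true), (7, 16, true), (6, 19, true), (5, 20, true), (7, 3, true), (6, 4, true), (8, 1, true), (7, 2, true), (7, 0, true), (6, 38, true), (5, 40, true), (4, 42, true), (7, 17, true), (6, 19, true), (8, 5, true), (7, 59, true), (6, 60, true), (5, 61, true), (4, 63, true), (3, 64, true), (8, 40, true), (7, 41, true), (6, 42, true), (5, 44, true), (7, 14, true), (9, 0, true), (8, 92, true), (7, 94, true), (6, 96, true), (5, 97, true), (4, 100, true), (3, 101, true), (2, 102, true), (1, 103, true), (0, 104, true), (5, 78, true),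 (4, 80, true), (3, 82, true), (2, 83, true), (1, 86, true), (0, 88, true), (1, 65, true), (6, 45, true), (5, 48, true), (4, 51, true), (3, 52, true), (2, 53, true), (1, 54, true), (5, 36, true), (4, 39, true), (3, 42, true), (2, 43, true), (1, 44, true), (4, 28, true), (3, 31, true), (2, 34, true), (1, 35, true), (3, 21, true), (2, 24, true), (1, 27, true), (2, 15, true), (1, 18, true), (3, 3, true), (4, 1, true), (5, 36, true), (4, 37, true), (3, 38, true), (2, 39, true), (1, 41, true), (6, 15, true), (5, 16, true), (4, 17, true), (3, 18, true), (2, 20, true), (5, 3, true), (4, 4, true), (3, 5, true), (4, 55, true), (3, 56, true), (2, 58, true), (1, 63, true), (5, 15, true), (4, 16, true), (3, 18, true), (6, 10, true), (5, 11, true), (4, 13, true), (7, 6, true), (6, 7, true), (5, 9, true), (6, 3, true), (5, 4, true), (7, 1, true), (6, 2, true), (6, 0, true), (6, 28, true), (5, 30, true), (4, 32, true), (3, 33, true), (7, 66, true), (6, 68, true), (5, 70, true), (4, 71, true), (3, 73, true), (2, 74, true), (1, 76, true), (5, 28, true),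 (4, 31, true), (3, 35, true), (4, 45, true), (3, 48, true), (5, 10, true), (4, 13, true), (6, 1, true), (7, 45, true), (6, 46, true), (5, 48, true), (4, 49, true), (3, 54, true), (6, 36, true), (5, 37, true), (4, 39, true), (3, 40, true), (7, 28, true), (6, 29, true), (5, 31, true), (4, 32, true), (8, 10, true), (7, 11, true), (6, 13, true), (5, 14, true), (7, 3, true), (6, 4, true), (8, 1, true), (7, 2, true), (7, 15, true), (6, 17, true), (5, 18, true), (8, 10, true), (7, 12, true), (6, 13, true), (9, 6, true), (8, 8, true), (7, 9, true), (8, 0, true), (8, 36, true), (7, 38, true), (6, 40, true), (5, 41, true), (4, 43, true), (3, 44, true), (7, 21, true), (6, 23, true), (5, 25, true), (4, 26, true), (8, 15, true), (7, 17, true), (6, 19, true), (5, 20, true), (7, 10, true), (6, 12, true), (5, 14, true), (6, 3, true), (5, 5, true), (5, 55, true), (4, 61, true), (3, 62, true), (2, 65, true), (4, 55, true), (3, 61, true), (2, 62, true), (5, 28, true), (4, 34, true), (3, 35, true), (4, 21, true), (3, 27, true), (3, 15, true), (4, 10, true),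 (5, 6, true), (6, 3, true), (7, 1, true), (8, 21, true), (7, 22, true), (6, 23, true), (5, 24, true), (4, 25, true), (3, 26, true), (9, 45, true), (8, 46, true), (7, 47, true), (6, 48, true), (5, 49, true), (4, 50, true), (3, 51, true), (10, 21, true), (9, 22, true), (8, 23, true), (7, 24, true), (6, 25, true), (5, 26, true), (4, 27, true), (9, 10, true), (8, 11, true), (7, 12, true), (6, 13, true), (5, 14, true), (8, 1, true), (7, 2, true), (7, 0, true), (6, 5, true), (5, 58, true), (4, 60, true), (3, 64, true), (2, 65, true), (4, 48, true), (3, 50, true), (2, 54, true), (3, 39, true), (2, 41, true), (4, 24, true), (3, 26, true), (5, 9, true), (4, 83, true), (3, 84, true), (2, 86, true), (1, 89, true), (0, 90, true), (0, 76, true), (1, 65, true), (6, 21, true), (5, 24, true), (4, 27, true), (5, 45, true), (4, 48, true), (3, 52, true), (2, 53, true), (1, 54, true), (4, 36, true), (3, 39, true), (2, 43, true), (1, 44, true), (3, 28, true), (2, 31, true), (1, 35, true), (2, 21, true), (1, 24, true), (3, 15, true), (2, 18, true), (4, 3,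 true), (5, 1, true), (6, 66, true), (5, 67, true), (4, 68, true), (3, 69, true), (2, 71, true), (1, 72, true), (0, 77, true), (1, 51, true), (4, 37, true), (3, 40, true), (2, 42, true), (5, 29, true), (4, 32, true), (3, 34, true), (7, 15, true), (6, 16, true), (5, 19, true), (8, 10, true), (7, 11, true), (6, 14, true), (7, 6, true), (6, 7, true), (8, 0, true), (7, 56, true), (6, 58, true), (5, 60, true), (4, 61, true), (3, 62, true), (2, 63, true), (1, 64, true), (0, 65, true), (6, 16, true), (5, 18, true), (4, 20, true), (5, 11, true), (4, 13, true), (6, 7, true), (5, 9, true), (5, 4, true), (6, 2, true), (6, 0, true), (5, 47, true), (4, 49, true), (3, 51, true), (2, 52, true), (1, 53, true), (0, 54, true), (4, 38, true), (3, 40, true), (2, 42, true), (1, 43, true), (0, 44, true), (3, 30, true), (2, 32, true), (1, 34, true), (0, 35, true), (2, 12, true), (1, 14, true), (1, 5, true)], [(2, 102, true), (1, 104, true), (6, 66, true), (5, 68, true), (4, 70, true), (3, 71, true), (2, 74, true), (1, 76, true), (5, 45, true), (4, 48, true),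 (3, 52, true), (6, 10, true), (5, 13, true), (7, 1, true), (8, 45, true), (7, 46, true), (6, 48, true), (5, 49, true), (4, 52, true), (3, 54, true), (7, 36, true), (6, 37, true), (5, 39, true), (4, 40, true), (3, 43, true), (8, 28, true), (7, 29, true), (6, 31, true), (5, 32, true), (4, 35, true), (7, 10, true), (6, 11, true), (5, 13, true), (4, 14, true), (6, 3, true), (5, 4, true), (7, 1, true), (6, 2, true), (6, 15, true), (5, 17, true), (4, 18, true), (7, 10, true), (6, 12, true), (5, 13, true), (8, 6, true), (7, 8, true), (6, 9, true), (7, 0, true), (7, 36, true), (6, 38, true), (5, 40, true), (4, 41, true), (3, 44, true), (6, 21, true), (5, 23, true), (4, 25, true), (3, 26, true), (7, 15, true), (6, 17, true), (5, 19, true), (4, 20, true), (6, 10, true), (5, 12, true), (4, 14, true), (5, 3, true), (4, 5, true), (4, 66, true), (3, 72, true), (2, 76, true), (1, 77, true), (1, 65, true), (0, 196, true), (1, 193, true)]),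
    ([21, 11, 3, 1, 15], [(0, 201, true), (12, 205, true), (11, 120, true), (10, 121, true), (9, 122, true), (8, 123, true), (7, 125, true), (6, 127, true), (5, 128, true), (4, 129, true), (3, 132, true), (2, 134, true), (1, 135, true), (2, 78, true), (1, 84, true), (3, 105, true), (2, 111, true), (1, 117, true), (7, 23, true), (6, 25, true), (5, 26, true), (4, 27, true), (7, 28, true), (6, 30, true), (5, 32, true), (4, 33, true), (8, 21, true), (7, 23, true), (6, 25, true), (5, 26, true), (9, 1, true), (10, 0, true), (9, 37, true), (8, 38, true), (7, 40, true), (6, 41, true), (5, 42, true), (4, 43, true), (3, 44, true), (8, 22, true), (7, 23, true), (6, 25, true), (5, 26, true), (4, 27, true), (7, 11, true), (6, 12, true), (5, 14, true), (7, 28, true), (6, 29, true), (5, 30, true), (4, 33, true), (3, 35, true), (6, 21, true), (5, 22, true), (4, 23, true), (3, 26, true), (7, 15, true), (6, 16, true), (5, 17, true), (4, 20, true), (6, 0, true), (5, 46, true), (4, 47, true), (3, 51, true), (6, 37, true), (5, 38, true), (4, 42, true),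 (7, 29, true), (6, 30, true), (5, 34, true), (8, 16, true), (7, 17, true), (9, 7, true), (8, 8, true), (10, 4, true), (9, 5, true), (9, 2, true), (9, 10, true), (8, 13, true), (10, 3, true), (11, 45, true), (10, 47, true), (9, 48, true), (8, 49, true), (7, 50, true), (6, 51, true), (5, 52, true), (4, 53, true), (3, 54, true), (10, 28, true), (9, 30, true), (8, 31, true), (7, 32, true), (6, 33, true), (5, 34, true), (4, 35, true), (9, 21, true), (8, 23, true), (7, 24, true), (6, 25, true), (5, 26, true), (4, 27, true), (8, 0, true), (8, 105, true), (7, 107, true), (6, 108, true), (5, 109, true), (4, 110, true), (3, 113, true), (2, 117, true), (1, 119, true), (6, 78, true), (5, 80, true), (4, 82, true), (3, 83, true), (2, 86, true), (1, 88, true), (2, 65, true), (7, 45, true), (6, 48, true), (5, 51, true), (4, 52, true), (3, 53, true), (2, 54, true), (6, 36, true), (5, 39, true), (4, 42, true), (3, 43, true), (2, 44, true), (5, 28, true), (4, 31, true), (3, 34, true), (2, 35, true), (4, 21, true), (3, 24, true), (2, 27, true), (3, 15,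 true), (2, 18, true), (4, 3, true), (5, 1, true), (6, 36, true), (5, 37, true), (4, 38, true), (3, 39, true), (2, 41, true), (7, 15, true), (6, 16, true), (5, 17, true), (4, 18, true), (3, 20, true), (6, 3, true), (5, 4, true), (4, 5, true), (5, 55, true), (4, 56, true), (3, 58, true), (2, 63, true), (6, 15, true), (5, 16, true), (4, 18, true), (7, 10, true), (6, 11, true), (5, 13, true), (8, 6, true), (7, 7, true), (6, 9, true), (7, 3, true), (6, 4, true), (8, 1, true), (7, 2, true), (7, 0, true), (7, 36, true), (6, 38, true), (5, 40, true), (4, 41, true), (3, 44, true), (6, 21, true), (5, 23, true), (4, 25, true), (3, 26, true), (7, 15, true), (6, 17, true), (5, 19, true), (4, 20, true), (6, 10, true), (5, 12, true), (4, 14, true), (5, 3, true), (4, 5, true), (4, 55, true), (3, 61, true), (2, 65, true), (3, 45, true), (2, 51, true), (4, 28, true), (3, 34, true), (5, 15, true), (6, 6, true), (7, 3, true), (8, 45, true), (7, 47, true), (6, 48, true), (5, 50, true), (4, 51, true), (3, 52, true), (2, 54, true), (7, 36, true), (6, 38,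 true), (5, 39, true), (4, 41, true), (3, 42, true), (2, 43, true), (8, 28, true), (7, 30, true), (6, 31, true), (5, 33, true), (4, 34, true), (3, 35, true), (7, 15, true), (6, 17, true), (5, 18, true), (4, 20, true), (6, 3, true), (5, 5, true), (5, 1, true), (6, 0, true), (5, 37, true), (4, 39, true), (3, 42, true), (2, 44, true), (4, 16, true), (3, 18, true), (5, 4, true), (6, 16, true), (5, 17, true), (4, 18, true), (3, 20, true), (5, 2, true), (4, 57, true), (3, 58, true), (2, 61, true), (5, 38, true), (4, 39, true), (3, 42, true), (6, 12, true), (5, 13, true), (7, 8, true), (6, 9, true), (8, 0, true), (7, 79, true), (6, 80, true), (5, 82, true), (4, 84, true), (3, 86, true), (2, 88, true), (1, 90, true), (1, 65, true), (7, 21, true), (6, 24, true), (5, 27, true), (6, 36, true), (5, 39, true), (4, 43, true), (3, 44, true), (5, 15, true), (4, 18, true), (6, 3, true), (7, 55, true), (6, 57, true), (5, 58, true), (4, 60, true), (3, 62, true), (2, 64, true), (1, 65, true), (6, 15, true), (5, 17, true), (4, 18, true), (3, 20, true), (5,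 10, true), (4, 12, true), (3, 13, true), (6, 6, true), (5, 8, true), (4, 9, true), (5, 3, true), (4, 5, true), (4, 1, true), (5, 0, true), (4, 16, true), (3, 19, true), (5, 11, true), (4, 14, true), (4, 7, true), (6, 55, true), (5, 56, true), (4, 58, true), (3, 60, true), (2, 62, true), (1, 64, true), (7, 36, true), (6, 37, true), (5, 39, true), (4, 41, true), (3, 43, true), (8, 28, true), (7, 29, true), (6, 31, true), (5, 33, true), (4, 35, true), (7, 3, true), (6, 4, true)], [(3, 121, true), (2, 123, true), (1, 131, true), (3, 45, true), (4, 36, true), (5, 28, true), (6, 15, true), (7, 6, true), (8, 3, true), (9, 1, true), (10, 0, true), (9, 46, true), (8, 47, true), (7, 48, true), (6, 50, true), (5, 52, true), (4, 53, true), (3, 54, true), (8, 29, true), (7, 30, true), (6, 31, true), (5, 33, true), (4, 35, true), (7, 22, true), (6, 23, true), (5, 24, true), (4, 26, true), (5, 18, false), (6, 17, false), (7, 16, false), (4, 24, false), (5, 23, false), (6, 22, false), (5, 4, false), (3, 39, false), (4, 37, false), (3, 65, false), (4,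 58, false), (5, 56, false), (3, 77, false), (0, 205, true), (7, 203, true), (18, 201, true), (30, 200, true), (34, 198, true), (42, 196, true), (43, 195, true), (51, 193, true), (6, 138, true), (5, 143, true), (4, 144, true), (3, 146, true), (2, 148, true), (1, 150, true), (0, 151, true), (9, 91, true), (8, 93, true), (7, 97, true), (6, 99, true), (5, 101, true), (4, 102, true), (3, 104, true), (8, 66, true), (7, 68, true), (6, 70, true), (5, 71, true), (4, 74, true), (3, 76, true), (7, 45, true), (6, 48, true), (5, 52, true), (8, 10, true), (7, 13, true), (9, 1, true), (10, 45, true), (9, 46, true), (8, 48, true), (7, 49, true), (6, 52, true), (5, 54, true), (9, 36, true), (8, 37, true), (7, 39, true), (6, 40, true), (5, 43, true), (10, 28, true), (9, 29, true), (8, 31, true), (7, 32, true), (6, 35, true), (9, 10, true), (8, 11, true), (7, 13, true), (6, 14, true), (8, 3, true), (7, 4, true), (9, 1, true), (8, 2, true), (8, 15, true), (7, 17, true), (6, 18, true), (9, 10, true), (8, 12, true), (7, 13, true), (10, 6, true), (9, 8, true),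 (8, 9, true), (9, 0, true), (9, 36, true), (8, 38, true), (7, 40, true), (6, 41, true), (5, 44, true), (8, 21, true), (7, 23, true), (6, 25, true), (5, 26, true), (9, 15, true), (8, 17, true), (7, 19, true), (6, 20, true), (8, 10, true), (7, 12, true), (6, 14, true), (7, 3, true), (6, 5, true), (6, 55, true), (5, 61, true), (4, 65, true), (5, 28, true), (4, 34, true), (6, 15, true), (7, 10, true), (8, 6, true), (9, 21, true), (8, 24, true), (7, 25, true), (6, 26, true), (5, 27, true), (8, 6, true), (7, 9, true), (7, 0, true), (6, 82, true), (5, 83, true), (4, 85, true), (3, 89, true), (5, 52, true), (6, 43, true), (7, 35, true), (10, 37, true), (9, 38, true), (8, 41, true), (7, 42, true), (6, 44, true), (9, 16, true), (8, 17, true), (7, 20, true), (8, 4, true), (7, 5, true), (7, 67, true), (6, 72, true), (5, 75, true), (4, 77, true), (4, 65, true), (8, 21, true), (7, 24, true), (9, 55, true), (8, 58, true), (7, 61, true), (6, 62, true), (5, 63, true), (4, 64, true), (10, 15, true), (9, 18, true), (11, 10, true), (10, 13, true), (12,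 6, true), (11, 9, true), (11, 3, true), (12, 1, true), (13, 0, true), (12, 56, true), (11, 57, true), (10, 59, true), (9, 60, true), (8, 61, true), (7, 62, true), (6, 63, true), (5, 64, true), (4, 65, true), (11, 37, true), (10, 38, true), (9, 40, true), (8, 41, true), (7, 42, true), (6, 43, true), (5, 44, true), (10, 29, true), (9, 30, true), (8, 32, true), (7, 33, true), (6, 34, true), (5, 35, true), (9, 22, true), (8, 23, true), (7, 25, true), (6, 26, true), (5, 27, true), (8, 4, true), (7, 5, true), (8, 55, true), (7, 56, true), (6, 59, true), (5, 60, true), (4, 64, true), (9, 45, true), (8, 46, true), (7, 49, true), (6, 50, true), (5, 54, true), (8, 15, true), (7, 16, true), (6, 19, true), (5, 20, true), (7, 10, true), (6, 11, true), (5, 14, true), (6, 1, true), (5, 2, true), (5, 0, true), (7, 28, true), (6, 30, true), (5, 35, true), (6, 36, true), (5, 38, true), (7, 28, true), (6, 30, true), (8, 0, true), (7, 107, true), (6, 112, true), (5, 113, true), (4, 115, true), (3, 117, true), (2, 119, true), (7, 78, true), (6, 80, true),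 (5, 82, true), (4, 83, true), (3, 86, true), (2, 88, true), (3, 65, true), (8, 45, true), (7, 48, true), (6, 51, true), (5, 52, true), (4, 53, true), (3, 54, true), (7, 36, true), (6, 39, true), (5, 42, true), (4, 43, true), (3, 44, true), (6, 28, true), (5, 31, true), (4, 34, true), (3, 35, true), (5, 21, true), (4, 24, true), (3, 27, true), (4, 15, true), (3, 18, true), (5, 3, true), (6, 1, true), (7, 36, true), (6, 37, true), (5, 38, true), (4, 39, true), (3, 41, true), (8, 15, true), (7, 16, true), (6, 17, true), (5, 18, true), (4, 20, true), (7, 3, true), (6, 4, true), (5, 5, true), (6, 55, true), (5, 56, true), (4, 58, true), (3, 63, true), (7, 15, true), (6, 16, true), (5, 18, true), (8, 10, true), (7, 11, true), (6, 13, true), (9, 6, true), (8, 7, true), (7, 9, true), (8, 3, true), (7, 4, true), (9, 1, true), (8, 2, true), (8, 0, true), (8, 36, true), (7, 38, true), (6, 40, true), (5, 41, true), (4, 44, true), (7, 21, true), (6, 23, true), (5, 25, true), (4, 26, true), (8, 15, true), (7, 17, true), (6, 19, true), (5, 20, true),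 (7, 10, true), (6, 12, true), (5, 14, true), (6, 3, true), (5, 5, true), (5, 55, true), (4, 61, true), (3, 65, true), (4, 55, true), (3, 61, true), (5, 45, true), (4, 51, true), (6, 28, true), (5, 34, true), (7, 15, true), (8, 6, true), (9, 3, true), (10, 28, true), (9, 30, true), (8, 31, true), (7, 33, true), (6, 34, true), (5, 35, true), (9, 55, true), (8, 57, true), (7, 58, true), (6, 60, true), (5, 61, true), (4, 64, true), (3, 65, true), (8, 36, true), (7, 38, true), (6, 39, true), (5, 41, true), (4, 42, true), (9, 10, true), (8, 12, true), (7, 13, true), (10, 6, true), (9, 8, true), (8, 9, true), (9, 1, true), (10, 0, true), (9, 92, true), (8, 93, true), (7, 95, true), (6, 96, true), (5, 97, true), (4, 99, true), (3, 100, true), (2, 103, true), (4, 62, true), (5, 35, true), (10, 29, true), (9, 30, true), (8, 31, true), (7, 32, true), (6, 33, true), (5, 34, true), (11, 16, true), (10, 17, true), (9, 18, true), (8, 19, true), (7, 20, true), (10, 11, true), (9, 12, true), (8, 13, true), (7, 14, true), (9, 7, true), (8, 8, true),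 (7, 9, true), (8, 22, true), (7, 23, true), (6, 27, true), (7, 46, true), (6, 47, true), (5, 52, true), (8, 22, true), (7, 23, true), (9, 11, true), (8, 12, true), (10, 2, true), (10, 45, true), (9, 47, true), (8, 49, true), (7, 51, true), (6, 52, true), (5, 54, true), (9, 36, true), (8, 38, true), (7, 40, true), (6, 42, true), (5, 43, true), (10, 28, true), (9, 30, true), (8, 32, true), (7, 34, true), (6, 35, true), (9, 21, true), (8, 23, true), (7, 25, true), (6, 27, true), (8, 10, true), (7, 12, true), (6, 14, true), (7, 3, true), (6, 5, true), (6, 1, true), (7, 0, true), (6, 7, true), (7, 56, true), (6, 58, true), (5, 63, true), (4, 65, true), (6, 46, true), (5, 48, true), (4, 53, true), (7, 37, true), (6, 39, true), (5, 44, true), (6, 22, true), (5, 24, true), (7, 7, true), (6, 9, true), (6, 79, true), (5, 84, true), (4, 87, true), (3, 90, true), (7, 21, true), (6, 24, true), (5, 27, true), (6, 15, true), (5, 18, true), (7, 10, true), (6, 13, true), (8, 6, true), (7, 9, true), (7, 0, true), (6, 70, true), (5, 71, true), (4, 73,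 true), (3, 76, true), (5, 52, true), (8, 46, true), (7, 49, true), (6, 52, true), (5, 54, true), (7, 37, true), (6, 40, true), (5, 43, true), (8, 29, true), (7, 32, true), (6, 35, true), (7, 11, true), (6, 14, true), (6, 4, true), (7, 2, true), (6, 47, true), (5, 53, true), (7, 38, true), (6, 44, true), (6, 30, true), (7, 12, true), (8, 5, true), (8, 136, true), (7, 140, true), (6, 143, true), (5, 145, true), (4, 146, true), (3, 147, true), (2, 149, true), (1, 151, true), (0, 152, true), (1, 120, true), (0, 126, true), (2, 105, true), (1, 111, true), (3, 78, true), (2, 84, true), (4, 66, true), (3, 72, true), (5, 55, true), (4, 61, true), (6, 45, true), (5, 51, true), (7, 28, true), (6, 34, true), (8, 15, true), (9, 1, true), (10, 0, true), (9, 106, true), (8, 110, true), (7, 111, true), (6, 112, true), (5, 114, true), (4, 115, true), (3, 116, true), (2, 117, true), (1, 119, true), (6, 78, true), (5, 80, true), (4, 82, true), (3, 83, true), (2, 86, true), (1, 88, true), (2, 65, true), (7, 45, true), (6, 48, true), (5, 51, true), (4,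 52, true), (3, 53, true), (2, 54, true), (6, 36, true), (5, 39, true), (4, 42, true), (3, 43, true), (2, 44, true), (5, 28, true), (4, 31, true), (3, 34, true), (2, 35, true), (4, 21, true), (3, 24, true), (2, 27, true), (3, 15, true), (2, 18, true), (4, 3, true), (5, 1, true), (6, 36, true), (5, 37, true), (4, 38, true), (3, 39, true), (2, 41, true), (7, 15, true), (6, 16, true), (5, 17, true), (4, 18, true), (3, 20, true), (6, 3, true), (5, 4, true), (4, 5, true), (5, 55, true), (4, 56, true), (3, 58, true), (2, 63, true), (6, 15, true), (5, 16, true), (4, 18, true), (7, 10, true), (6, 11, true), (5, 13, true), (8, 6, true), (7, 7, true), (6, 9, true), (7, 3, true), (6, 4, true), (8, 1, true), (7, 2, true), (7, 0, true), (7, 36, true), (6, 38, true), (5, 40, true), (4, 41, true), (3, 44, true), (6, 21, true), (5, 23, true), (4, 25, true), (3, 26, true), (7, 15, true), (6, 17, true), (5, 19, true), (4, 20, true), (6, 10, true), (5, 12, true), (4, 14, true), (5, 3, true), (4, 5, true), (4, 66, true), (3, 72, true), (2, 76, true), (5,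 28, true), (4, 34, true), (6, 55, true), (5, 61, true), (4, 62, true), (3, 65, true), (5, 45, true), (4, 51, true), (3, 52, true), (6, 36, true), (5, 42, true), (4, 43, true), (7, 10, true), (8, 6, true), (9, 3, true), (10, 1, true), (11, 28, true), (10, 29, true), (9, 30, true), (8, 31, true), (7, 32, true), (6, 34, true), (5, 35, true), (10, 21, true), (9, 22, true), (8, 23, true), (7, 24, true), (6, 25, true), (5, 27, true), (9, 45, true), (8, 46, true), (7, 47, true), (6, 48, true), (5, 49, true), (4, 53, true), (3, 54, true), (8, 36, true), (7, 37, true), (6, 38, true), (5, 39, true), (4, 40, true), (3, 44, true), (7, 28, true), (6, 29, true), (5, 30, true), (4, 31, true), (3, 32, true), (8, 15, true), (7, 16, true), (6, 17, true), (5, 18, true), (4, 19, true), (9, 3, true), (8, 4, true), (7, 5, true), (8, 1, true), (7, 2, true), (7, 0, true), (6, 48, true), (5, 49, true), (4, 50, true), (3, 52, true), (7, 39, true), (6, 40, true), (5, 41, true), (4, 43, true), (8, 31, true), (7, 32, true), (6, 33, true), (5, 35, true), (7, 18,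 true), (6, 19, true), (5, 20, true), (6, 9, true), (8, 91, true), (7, 92, true), (6, 93, true), (5, 95, true), (4, 99, true), (3, 100, true), (2, 102, true), (1, 103, true), (3, 73, true), (4, 43, true), (9, 57, true), (8, 59, true), (7, 60, true), (6, 61, true), (5, 62, true), (4, 63, true), (10, 30, true), (9, 32, true), (8, 33, true), (7, 34, true), (6, 35, true), (9, 23, true), (8, 25, true), (7, 26, true), (6, 27, true), (8, 17, true), (7, 19, true), (6, 20, true), (7, 12, true), (6, 14, true), (6, 8, true), (7, 5, true), (7, 29, true), (6, 31, true), (8, 16, true), (7, 18, true), (9, 11, true), (8, 13, true), (10, 7, true), (9, 9, true), (9, 46, true), (8, 49, true), (7, 50, true), (6, 52, true), (5, 53, true), (10, 37, true), (9, 40, true), (8, 41, true), (7, 43, true), (6, 44, true), (9, 29, true), (8, 32, true), (7, 33, true), (6, 35, true), (8, 22, true), (7, 25, true), (6, 26, true), (9, 11, true), (8, 14, true), (8, 4, true), (9, 2, true), (9, 6, true), (8, 8, true), (10, 55, true), (9, 57, true), (8, 58, true), (7, 60,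 true), (6, 61, true), (5, 64, true), (4, 65, true), (9, 45, true), (8, 47, true), (7, 48, true), (6, 50, true), (5, 51, true), (4, 54, true), (8, 36, true), (7, 38, true), (6, 39, true), (5, 41, true), (4, 42, true), (9, 21, true), (8, 23, true), (7, 24, true), (6, 26, true), (5, 27, true), (8, 6, true), (7, 8, true), (6, 9, true), (7, 0, true), (6, 80, true), (5, 83, true), (4, 86, true), (3, 89, true), (2, 90, true), (2, 76, true), (3, 65, true), (8, 45, true), (7, 48, true), (6, 51, true), (5, 52, true), (4, 53, true), (3, 54, true), (7, 36, true), (6, 39, true), (5, 42, true), (4, 43, true), (3, 44, true), (6, 28, true), (5, 31, true), (4, 34, true), (3, 35, true), (5, 21, true), (4, 24, true), (3, 27, true), (4, 15, true), (3, 18, true), (5, 3, true), (6, 1, true), (7, 55, true), (6, 56, true), (5, 57, true), (4, 58, true), (3, 60, true), (8, 15, true), (7, 16, true), (6, 17, true), (5, 18, true), (4, 20, true), (7, 10, true), (6, 11, true), (5, 12, true), (4, 13, true), (8, 6, true), (7, 7, true), (6, 8, true), (5, 9, true), (7,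 3, true), (6, 4, true), (5, 5, true), (6, 1, true), (5, 2, true), (5, 0, true), (4, 59, true), (3, 65, true), (3, 49, true), (4, 19, true), (7, 55, true), (6, 56, true), (5, 59, true), (4, 60, true), (3, 64, true), (8, 45, true), (7, 46, true), (6, 49, true), (5, 50, true), (4, 54, true), (7, 15, true), (6, 16, true), (5, 19, true), (4, 20, true), (6, 10, true), (5, 11, true), (4, 14, true), (5, 1, true), (4, 2, true), (4, 0, true), (7, 28, true), (6, 33, true), (5, 34, true), (8, 21, true), (7, 26, true), (6, 27, true), (7, 10, true), (8, 0, true), (8, 120, true), (7, 124, true), (6, 125, true), (5, 127, true), (4, 129, true), (3, 130, true), (2, 131, true), (1, 133, true), (0, 135, true), (1, 66, true), (0, 72, true), (2, 0, true), (1, 97, true), (0, 102, true), (6, 23, true), (5, 25, true), (4, 26, true), (3, 27, true), (6, 55, true), (5, 57, true), (4, 59, true), (3, 60, true), (2, 63, true), (7, 36, true), (6, 38, true), (5, 40, true), (4, 41, true), (3, 44, true), (6, 15, true), (5, 17, true), (4, 19, true), (3, 20, true), (5,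 10, true), (4, 12, true), (3, 14, true), (4, 3, true), (3, 5, true), (3, 0, true), (6, 28, true), (5, 29, true), (4, 34, true), (3, 35, true), (5, 21, true), (4, 22, true), (3, 27, true), (4, 15, true), (3, 16, true), (5, 0, true), (4, 11, true), (6, 105, true), (5, 106, true), (4, 109, true), (3, 110, true), (2, 115, true), (1, 116, true), (0, 118, true), (3, 62, true), (4, 52, true), (5, 43, true), (6, 35, true), (9, 36, true), (8, 37, true), (7, 38, true), (6, 41, true), (5, 44, true), (8, 15, true), (7, 16, true), (6, 17, true), (5, 20, true), (7, 3, true), (6, 4, true), (5, 5, true), (6, 45, true), (5, 46, true), (4, 54, true), (5, 36, true), (4, 37, true), (6, 28, true), (5, 29, true), (7, 15, true), (6, 16, true), (8, 6, true), (7, 7, true), (9, 3, true), (8, 4, true), (10, 1, true), (9, 2, true), (9, 0, true), (9, 78, true), (8, 80, true), (7, 81, true), (6, 83, true), (5, 85, true), (4, 86, true), (3, 88, true), (2, 89, true), (4, 65, true), (9, 28, true), (8, 31, true), (7, 34, true), (6, 35, true), (8, 45, true), (7, 48,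 true), (6, 51, true), (5, 53, true), (4, 54, true), (7, 36, true), (6, 39, true), (5, 42, true), (4, 44, true), (6, 28, true), (5, 31, true), (4, 34, true), (7, 21, true), (6, 24, true), (5, 27, true), (6, 15, true), (5, 18, true), (7, 3, true), (8, 1, true), (9, 45, true), (8, 46, true), (7, 47, true), (6, 48, true), (5, 50, true), (4, 52, true), (10, 28, true), (9, 29, true), (8, 30, true), (7, 31, true), (6, 33, true), (5, 35, true), (9, 21, true), (8, 22, true), (7, 23, true), (6, 24, true), (5, 26, true), (10, 0, true), (9, 56, true), (8, 57, true), (7, 58, true), (6, 60, true), (5, 61, true), (4, 64, true), (10, 16, true), (9, 17, true), (8, 18, true), (7, 20, true), (9, 11, true), (8, 12, true), (7, 13, true), (10, 7, true), (9, 8, true), (8, 9, true), (9, 4, true), (8, 5, true), (8, 2, true), (8, 0, true), (7, 49, true), (6, 51, true), (5, 54, true), (6, 40, true), (5, 42, true), (7, 32, true), (6, 34, true), (8, 19, true), (13, 45, true), (12, 46, true), (11, 47, true), (10, 48, true), (9, 49, true), (8, 50, true), (7, 51,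 true), (6, 52, true), (5, 53, true), (14, 28, true), (13, 29, true), (12, 30, true), (11, 31, true), (10, 32, true), (9, 33, true), (8, 34, true), (7, 35, true), (13, 21, true), (12, 22, true), (11, 23, true), (10, 24, true), (9, 25, true), (8, 26, true), (7, 27, true), (12, 15, true), (11, 16, true), (10, 17, true), (9, 18, true), (8, 19, true), (7, 20, true), (11, 136, true), (10, 137, true), (9, 138, true), (8, 139, true), (7, 140, true), (6, 144, true), (5, 145, true), (4, 146, true), (3, 147, true), (2, 148, true), (1, 149, true), (0, 150, true), (8, 105, true), (7, 107, true), (6, 111, true), (5, 113, true), (4, 115, true), (3, 116, true), (2, 118, true), (1, 119, true), (6, 91, true), (5, 93, true), (4, 95, true), (3, 96, true), (2, 99, true), (1, 101, true), (6, 48, true), (5, 49, true), (4, 50, true), (3, 52, true), (7, 24, true), (6, 25, true), (5, 26, true), (8, 13, true), (7, 14, true), (9, 45, true), (8, 46, true), (7, 48, true), (6, 50, true), (5, 51, true), (4, 52, true), (3, 54, true), (8, 36, true), (7, 37, true), (6,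 39, true), (5, 41, true), (4, 42, true), (3, 43, true), (9, 28, true), (8, 29, true), (7, 31, true), (6, 33, true), (5, 34, true), (4, 35, true), (8, 21, true), (7, 22, true), (6, 24, true), (5, 26, true), (4, 27, true), (7, 10, true), (6, 11, true), (5, 13, true), (8, 3, true), (7, 4, true), (9, 1, true), (8, 2, true), (8, 0, true), (7, 8, true), (6, 9, true), (7, 66, true), (6, 68, true), (5, 70, true), (4, 71, true), (3, 74, true), (2, 76, true), (6, 45, true), (5, 48, true), (4, 52, true), (7, 10, true), (6, 13, true), (8, 1, true), (9, 45, true), (8, 46, true), (7, 48, true), (6, 49, true), (5, 52, true), (4, 54, true), (8, 36, true), (7, 37, true), (6, 39, true), (5, 40, true), (4, 43, true), (9, 28, true), (8, 29, true), (7, 31, true), (6, 32, true), (5, 35, true), (8, 10, true), (7, 11, true), (6, 13, true), (5, 14, true), (7, 3, true), (6, 4, true), (8, 1, true), (7, 2, true), (7, 15, true), (6, 17, true), (5, 18, true), (8, 10, true), (7, 12, true), (6, 13, true), (9, 6, true), (8, 8, true), (7, 9, true), (8, 0, true), (8,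 28, true), (7, 30, true), (6, 32, true), (5, 33, true), (9, 55, true), (8, 57, true), (7, 59, true), (6, 60, true), (5, 62, true), (4, 63, true), (3, 65, true), (8, 55, true), (7, 57, true), (6, 59, true), (5, 60, true), (4, 62, true), (3, 63, true), (9, 45, true), (8, 47, true), (7, 49, true), (6, 50, true), (5, 52, true), (4, 53, true), (10, 28, true), (9, 30, true), (8, 32, true), (7, 33, true), (6, 35, true), (9, 15, true), (8, 17, true), (7, 19, true), (6, 20, true), (8, 6, true), (7, 8, true), (9, 3, true), (8, 5, true), (8, 21, true), (7, 24, true), (6, 25, true), (9, 55, true), (8, 58, true), (7, 59, true), (6, 61, true), (5, 63, true), (4, 64, true), (3, 65, true), (8, 36, true), (7, 39, true), (6, 40, true), (5, 42, true), (4, 44, true), (7, 10, true), (6, 13, true), (5, 14, true), (6, 6, true), (5, 9, true), (5, 1, true), (6, 0, true), (6, 78, true), (5, 79, true), (4, 84, true), (3, 87, true), (2, 89, true), (7, 21, true), (6, 24, true), (5, 27, true), (6, 15, true), (5, 18, true), (7, 10, true), (6, 13, true), (8, 6, true),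 (7, 9, true), (7, 0, true), (7, 66, true), (6, 70, true), (5, 71, true), (4, 73, true), (3, 77, true), (4, 52, true), (7, 46, true), (6, 49, true), (5, 52, true), (4, 54, true), (6, 37, true), (5, 40, true), (4, 43, true), (7, 29, true), (6, 32, true), (5, 35, true), (6, 11, true), (5, 14, true), (5, 4, true), (6, 2, true), (6, 55, true), (5, 57, true), (4, 63, true), (3, 65, true), (5, 45, true), (4, 47, true), (3, 53, true), (6, 28, true), (5, 30, true), (7, 15, true), (6, 17, true), (8, 1, true), (9, 0, true), (8, 92, true), (7, 93, true), (6, 96, true), (5, 98, true), (4, 99, true), (3, 100, true), (2, 103, true), (1, 104, true), (6, 78, true), (5, 80, true), (4, 82, true), (3, 83, true), (2, 86, true), (1, 88, true), (2, 65, true), (7, 45, true), (6, 48, true), (5, 51, true), (4, 52, true), (3, 53, true), (2, 54, true), (6, 36, true), (5, 39, true), (4, 42, true), (3, 43, true), (2, 44, true), (5, 28, true), (4, 31, true), (3, 34, true), (2, 35, true), (4, 21, true), (3, 24, true), (2, 27, true), (3, 15, true), (2, 18, true), (4,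 3, true), (5, 1, true), (6, 36, true), (5, 37, true), (4, 38, true), (3, 39, true), (2, 41, true), (7, 15, true), (6, 16, true), (5, 17, true), (4, 18, true), (3, 20, true), (6, 3, true), (5, 4, true), (4, 5, true), (5, 55, true), (4, 56, true), (3, 58, true), (2, 63, true), (6, 15, true), (5, 16, true), (4, 18, true), (7, 10, true), (6, 11, true), (5, 13, true), (8, 6, true), (7, 7, true), (6, 9, true), (7, 3, true), (6, 4, true), (8, 1, true), (7, 2, true), (7, 0, true), (7, 28, true), (6, 30, true), (5, 32, true), (4, 33, true), (8, 55, true), (7, 57, true), (6, 59, true), (5, 60, true), (4, 62, true), (3, 63, true), (2, 65, true), (7, 28, true), (6, 30, true), (5, 32, true), (4, 33, true), (3, 35, true), (6, 21, true), (5, 23, true), (4, 25, true), (3, 26, true), (7, 15, true), (6, 17, true), (5, 19, true), (4, 20, true), (6, 10, true), (5, 12, true), (4, 14, true), (5, 6, true), (4, 8, true), (6, 3, true), (5, 5, true), (5, 1, true), (6, 28, true), (5, 29, true), (4, 31, true), (3, 34, true), (7, 15, true), (6, 16, true), (5, 18,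 true), (8, 10, true), (7, 11, true), (6, 13, true), (9, 6, true), (8, 7, true), (7, 9, true), (8, 28, true), (7, 29, true), (6, 32, true), (5, 33, true), (4, 34, true), (3, 35, true), (7, 45, true), (6, 46, true), (5, 49, true), (4, 50, true), (3, 51, true), (2, 53, true), (8, 21, true), (7, 22, true), (6, 25, true), (5, 26, true), (4, 27, true), (7, 10, true), (6, 11, true), (5, 14, true), (6, 1, true), (5, 2, true), (5, 0, true), (5, 58, true), (4, 60, true), (3, 63, true), (2, 64, true), (6, 48, true), (5, 50, true), (4, 53, true), (3, 54, true), (5, 39, true), (4, 41, true), (3, 44, true), (4, 24, true), (3, 26, true), (5, 9, true), (4, 83, true), (3, 84, true), (2, 88, true), (1, 90, true), (1, 65, true), (1, 51, true), (2, 42, true), (3, 34, true), (4, 27, true), (6, 67, true), (5, 68, true), (4, 71, true), (3, 73, true), (2, 74, true), (1, 75, true), (7, 28, true), (6, 31, true), (5, 35, true), (6, 6, true), (5, 9, true), (5, 0, true), (5, 52, true), (4, 53, true), (3, 54, true), (6, 16, true), (5, 19, true), (7, 11, true), (6,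 14, true), (6, 7, true), (8, 55, true), (7, 56, true), (6, 58, true), (5, 60, true), (4, 62, true), (3, 63, true), (2, 65, true), (7, 15, true), (6, 16, true), (5, 18, true), (4, 20, true), (6, 10, true), (5, 11, true), (4, 13, true), (7, 6, true), (6, 7, true), (5, 9, true), (6, 3, true), (5, 4, true), (7, 1, true), (6, 2, true), (6, 0, true), (5, 57, true), (4, 59, true), (3, 62, true), (2, 63, true), (6, 38, true), (5, 40, true), (4, 43, true), (3, 44, true), (5, 30, true), (4, 32, true), (3, 35, true), (4, 23, true), (3, 25, true), (5, 5, true), (5, 105, true), (4, 109, true), (3, 111, true), (2, 115, true), (1, 116, true), (3, 62, true), (5, 42, true), (4, 43, true), (9, 91, true), (8, 93, true), (7, 96, true), (6, 97, true), (5, 98, true), (4, 99, true), (3, 101, true), (2, 102, true), (8, 57, true), (7, 59, true), (6, 60, true), (5, 61, true), (4, 63, true), (9, 30, true), (8, 32, true), (7, 33, true), (6, 34, true), (10, 17, true), (9, 19, true), (8, 20, true), (9, 12, true), (8, 14, true), (8, 8, true), (9, 30, true), (8, 31,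 true), (7, 34, true), (6, 35, true), (8, 23, true), (7, 24, true), (6, 27, true), (7, 47, true), (6, 48, true), (5, 53, true), (8, 23, true), (7, 24, true), (9, 12, true), (8, 13, true), (12, 6, true), (11, 7, true), (10, 8, true), (9, 9, true), (11, 0, true), (10, 79, true), (9, 80, true), (8, 82, true), (7, 84, true), (6, 86, true), (5, 87, true), (4, 88, true), (3, 89, true), (9, 55, true), (8, 58, true), (7, 61, true), (6, 62, true), (5, 65, true), (8, 45, true), (7, 48, true), (6, 51, true), (5, 52, true), (9, 36, true), (8, 39, true), (7, 42, true), (6, 43, true), (10, 28, true), (9, 31, true), (8, 34, true), (7, 35, true), (9, 21, true), (8, 24, true), (7, 27, true), (8, 6, true), (7, 9, true), (7, 0, true), (7, 42, true), (6, 44, true), (8, 57, true), (7, 60, true), (6, 61, true), (5, 64, true), (9, 17, true), (8, 20, true), (8, 12, true), (9, 8, true), (10, 5, true), (11, 15, true), (10, 16, true), (9, 18, true), (8, 19, true), (12, 10, true), (11, 11, true), (10, 13, true), (9, 14, true), (11, 6, true), (10, 7, true), (9,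 9, true), (10, 0, true), (9, 56, true), (8, 60, true), (7, 61, true), (6, 64, true), (5, 65, true), (8, 46, true), (7, 50, true), (6, 51, true), (5, 54, true), (7, 16, true), (6, 20, true), (6, 2, true), (6, 55, true), (5, 61, true), (7, 45, true), (6, 51, true), (8, 15, true), (9, 10, true), (10, 1, true), (11, 0, true), (10, 46, true), (9, 49, true), (8, 50, true), (7, 51, true), (6, 54, true), (9, 22, true), (8, 25, true), (7, 26, true), (6, 27, true), (8, 16, true), (7, 19, true), (6, 20, true), (8, 28, true), (7, 29, true), (6, 32, true), (9, 3, true), (8, 4, true), (10, 0, true), (9, 22, true), (8, 23, true), (7, 25, true), (10, 11, true), (9, 12, true), (8, 14, true), (10, 45, true), (9, 46, true), (8, 47, true), (7, 51, true), (6, 52, true), (11, 36, true), (10, 37, true), (9, 38, true), (8, 42, true), (7, 43, true), (12, 28, true), (11, 29, true), (10, 30, true), (9, 34, true), (8, 35, true), (11, 21, true), (10, 22, true), (9, 23, true), (8, 27, true), (10, 10, true), (9, 11, true), (8, 12, true), (11, 6, true), (10, 7, true),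 (9, 8, true), (12, 3, true), (11, 4, true), (10, 5, true), (11, 1, true), (10, 2, true), (10, 0, true), (9, 39, true), (8, 40, true), (7, 44, true), (8, 31, true), (7, 32, true), (10, 15, true), (9, 18, true), (8, 19, true), (11, 1, true), (12, 0, true), (11, 121, true), (10, 123, true), (9, 124, true), (8, 125, true), (7, 127, true), (6, 129, true), (5, 130, true), (4, 131, true), (3, 132, true), (2, 133, true), (1, 134, true), (4, 105, true), (3, 116, true), (2, 117, true), (8, 68, true), (7, 70, true), (6, 71, true), (5, 72, true), (4, 74, true), (7, 21, true), (6, 24, true), (8, 45, true), (7, 48, true), (6, 51, true), (5, 52, true), (9, 10, true), (8, 13, true), (10, 1, true), (11, 45, true), (10, 46, true), (9, 48, true), (8, 49, true), (7, 51, true), (6, 52, true), (5, 54, true), (10, 36, true), (9, 37, true), (8, 39, true), (7, 40, true), (6, 42, true), (5, 43, true), (11, 28, true), (10, 29, true), (9, 31, true), (8, 32, true), (7, 34, true), (6, 35, true), (10, 10, true), (9, 11, true), (8, 13, true), (7, 14, true), (9, 3,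 true), (8, 4, true), (10, 1, true), (9, 2, true), (9, 15, true), (8, 17, true), (7, 18, true), (10, 10, true), (9, 12, true), (8, 13, true), (11, 6, true), (10, 8, true), (9, 9, true), (10, 0, true), (9, 30, true), (8, 32, true), (7, 33, true), (6, 34, true), (11, 91, true), (10, 93, true), (9, 95, true), (8, 96, true), (7, 97, true), (6, 98, true), (5, 99, true), (4, 102, true), (3, 103, true), (5, 73, true), (6, 43, true), (11, 30, true), (10, 32, true), (9, 33, true), (8, 34, true), (7, 35, true), (10, 17, true), (9, 19, true), (8, 20, true), (9, 12, true), (8, 14, true), (8, 8, true), (9, 30, true), (8, 31, true), (7, 34, true), (10, 23, true), (9, 24, true), (8, 27, true), (9, 47, true), (8, 48, true), (7, 52, true), (6, 53, true), (10, 23, true), (9, 24, true), (11, 12, true), (10, 13, true), (14, 45, true), (13, 46, true), (12, 47, true), (11, 48, true), (10, 49, true), (9, 51, true), (8, 52, true), (7, 53, true), (6, 54, true), (13, 36, true), (12, 37, true), (11, 38, true), (10, 39, true), (9, 40, true), (8, 42, true), (7,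 43, true), (6, 44, true), (12, 28, true), (11, 29, true), (10, 30, true), (9, 31, true), (8, 32, true), (7, 34, true), (6, 35, true), (11, 21, true), (10, 22, true), (9, 23, true), (8, 24, true), (7, 25, true), (6, 27, true), (10, 10, true), (9, 11, true), (8, 12, true), (7, 13, true), (6, 14, true), (9, 3, true), (8, 4, true), (7, 5, true), (8, 1, true), (7, 2, true), (7, 0, true), (6, 9, true), (6, 0, true), (11, 28, true), (10, 30, true), (9, 32, true), (8, 33, true), (12, 21, true), (11, 23, true), (10, 25, true), (9, 26, true), (13, 1, true), (14, 0, true), (13, 29, true), (12, 30, true), (11, 32, true), (10, 33, true), (9, 34, true), (8, 35, true), (12, 22, true), (11, 23, true), (10, 25, true), (9, 26, true), (8, 27, true), (11, 16, true), (10, 17, true), (9, 19, true), (8, 20, true), (11, 10, true), (10, 11, true), (9, 12, true), (8, 14, true), (10, 45, true), (9, 46, true), (8, 47, true), (7, 53, true), (11, 36, true), (10, 37, true), (9, 38, true), (8, 44, true), (10, 28, true), (9, 29, true), (8, 30, true), (11, 15, true),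 (10, 16, true), (9, 17, true), (12, 6, true), (11, 7, true), (10, 8, true), (13, 3, true), (12, 4, true), (11, 5, true), (12, 1, true), (11, 2, true), (11, 0, true), (10, 48, true), (9, 50, true), (8, 52, true), (7, 54, true), (9, 31, true), (8, 33, true), (7, 35, true), (8, 24, true), (7, 26, true), (10, 105, true), (9, 108, true), (8, 110, true), (7, 111, true), (6, 115, true), (5, 116, true), (4, 117, true), (3, 118, true), (2, 119, true), (7, 91, true), (6, 93, true), (5, 95, true), (4, 96, true), (3, 99, true), (2, 101, true), (7, 48, true), (6, 49, true), (5, 50, true), (4, 52, true), (8, 24, true), (7, 25, true), (6, 26, true), (9, 13, true), (8, 14, true), (10, 45, true), (9, 46, true), (8, 48, true), (7, 50, true), (6, 51, true), (5, 52, true), (4, 54, true), (9, 36, true), (8, 37, true), (7, 39, true), (6, 41, true), (5, 42, true), (4, 43, true), (10, 28, true), (9, 29, true), (8, 31, true), (7, 33, true), (6, 34, true), (5, 35, true), (9, 21, true), (8, 22, true), (7, 24, true), (6, 26, true), (5, 27, true), (8, 10, true),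 (7, 11, true), (6, 13, true), (9, 3, true), (8, 4, true), (10, 1, true), (9, 2, true), (9, 0, true), (8, 8, true), (7, 9, true), (8, 78, true), (7, 80, true), (6, 82, true), (5, 83, true), (4, 86, true), (3, 88, true), (4, 65, true), (9, 45, true), (8, 48, true), (7, 51, true), (6, 52, true), (5, 53, true), (4, 54, true), (8, 36, true), (7, 39, true), (6, 42, true), (5, 43, true), (4, 44, true), (7, 28, true), (6, 31, true), (5, 34, true), (4, 35, true), (6, 21, true), (5, 24, true), (4, 27, true), (5, 15, true), (4, 18, true), (6, 3, true), (7, 1, true), (8, 36, true), (7, 37, true), (6, 38, true), (5, 39, true), (4, 41, true), (9, 15, true), (8, 16, true), (7, 17, true), (6, 18, true), (5, 20, true), (8, 3, true), (7, 4, true), (6, 5, true), (7, 55, true), (6, 56, true), (5, 58, true), (4, 63, true), (8, 15, true), (7, 16, true), (6, 18, true), (9, 10, true), (8, 11, true), (7, 13, true), (10, 6, true), (9, 7, true), (8, 9, true), (9, 3, true), (8, 4, true), (10, 1, true), (9, 2, true), (9, 0, true), (9, 36, true), (8, 38, true),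 (7, 40, true), (6, 41, true), (5, 44, true), (8, 21, true), (7, 23, true), (6, 25, true), (5, 26, true), (9, 15, true), (8, 17, true), (7, 19, true), (6, 20, true), (8, 10, true), (7, 12, true), (6, 14, true), (7, 3, true), (6, 5, true), (6, 66, true), (5, 72, true), (4, 76, true), (7, 28, true), (6, 34, true), (8, 55, true), (7, 61, true), (6, 62, true), (5, 65, true), (7, 21, true), (6, 27, true), (6, 45, true), (5, 52, true), (7, 36, true), (6, 43, true), (8, 28, true), (7, 35, true), (7, 15, true), (8, 3, true), (9, 1, true), (10, 0, true), (9, 16, true), (8, 17, true), (7, 20, true), (8, 2, true), (8, 78, true), (7, 80, true), (6, 86, true), (5, 87, true), (4, 89, true), (3, 90, true), (3, 76, true), (8, 55, true), (7, 58, true), (6, 61, true), (5, 62, true), (4, 65, true), (7, 45, true), (6, 48, true), (5, 51, true), (4, 52, true), (8, 36, true), (7, 39, true), (6, 42, true), (5, 43, true), (9, 28, true), (8, 31, true), (7, 34, true), (6, 35, true), (8, 21, true), (7, 24, true), (6, 27, true), (7, 6, true), (6, 9, true), (6, 0,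 true), (5, 63, true), (4, 64, true), (12, 0, true), (11, 56, true), (10, 57, true), (9, 58, true), (8, 59, true), (7, 60, true), (6, 63, true), (5, 64, true), (4, 65, true), (10, 46, true), (9, 47, true), (8, 48, true), (7, 49, true), (6, 50, true), (5, 53, true), (4, 54, true), (9, 22, true), (8, 23, true), (7, 24, true), (6, 25, true), (5, 26, true), (10, 2, true), (9, 23, true), (8, 24, true), (7, 25, true), (6, 26, true), (5, 27, true), (8, 122, true), (7, 123, true), (6, 124, true), (5, 125, true), (4, 128, true), (3, 131, true), (2, 133, true), (1, 135, true), (2, 66, true), (1, 72, true), (3, 0, true), (2, 97, true), (1, 102, true), (7, 23, true), (6, 25, true), (5, 26, true), (4, 27, true), (7, 36, true), (6, 38, true), (5, 40, true), (4, 41, true), (3, 44, true), (6, 21, true), (5, 23, true), (4, 25, true), (3, 26, true), (7, 10, true), (6, 12, true), (5, 14, true), (6, 0, true), (5, 23, true), (4, 26, true), (3, 27, true), (4, 17, true), (3, 20, true), (4, 10, true), (3, 12, true), (5, 45, true), (4, 47, true), (3, 49, true),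 (6, 36, true), (5, 38, true), (4, 40, true), (7, 28, true), (6, 30, true), (5, 32, true), (8, 15, true), (7, 17, true), (6, 19, true), (9, 6, true), (8, 8, true), (10, 3, true), (9, 5, true), (9, 1, true), (10, 0, true), (9, 11, true), (8, 13, true), (7, 14, true), (8, 4, true), (9, 92, true), (8, 93, true), (7, 94, true), (6, 96, true), (5, 98, true), (4, 99, true), (3, 100, true), (2, 102, true), (1, 104, true), (6, 66, true), (5, 68, true), (4, 70, true), (3, 71, true), (2, 74, true), (1, 76, true), (5, 45, true), (4, 48, true), (3, 52, true), (6, 10, true), (5, 13, true), (7, 1, true), (8, 45, true), (7, 46, true), (6, 48, true), (5, 49, true), (4, 52, true), (3, 54, true), (7, 36, true), (6, 37, true), (5, 39, true), (4, 40, true), (3, 43, true), (8, 28, true), (7, 29, true), (6, 31, true), (5, 32, true), (4, 35, true), (7, 10, true), (6, 11, true), (5, 13, true), (4, 14, true), (6, 3, true), (5, 4, true), (7, 1, true), (6, 2, true), (6, 15, true), (5, 17, true), (4, 18, true), (7, 10, true), (6, 12, true), (5, 13, true), (8, 6,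 true), (7, 8, true), (6, 9, true), (7, 0, true), (7, 36, true), (6, 38, true), (5, 40, true), (4, 41, true), (3, 44, true), (6, 21, true), (5, 23, true), (4, 25, true), (3, 26, true), (7, 15, true), (6, 17, true), (5, 19, true), (4, 20, true), (6, 10, true), (5, 12, true), (4, 14, true), (5, 3, true), (4, 5, true), (4, 55, true), (3, 61, true), (2, 65, true), (3, 28, true), (2, 34, true), (4, 21, true), (3, 27, true), (3, 15, true), (4, 10, true), (5, 6, true), (6, 3, true), (7, 1, true), (8, 28, true), (7, 29, true), (6, 30, true), (5, 31, true), (4, 32, true), (3, 33, true), (2, 35, true), (7, 15, true), (6, 16, true), (5, 17, true), (4, 18, true), (3, 19, true), (2, 20, true), (6, 10, true), (5, 11, true), (4, 12, true), (3, 13, true), (2, 14, true), (5, 6, true), (4, 7, true), (3, 8, true), (2, 9, true), (4, 28, true), (3, 29, true), (2, 30, true), (5, 45, true), (4, 46, true), (3, 47, true), (2, 52, true), (6, 21, true), (5, 22, true), (4, 23, true), (7, 10, true), (6, 11, true), (5, 12, true), (8, 1, true), (7, 2, true), (7, 0,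 true), (6, 5, true), (6, 58, true), (5, 59, true), (4, 61, true), (3, 62, true), (2, 64, true), (7, 48, true), (6, 49, true), (5, 51, true), (4, 52, true), (3, 54, true), (6, 39, true), (5, 40, true), (4, 42, true), (3, 43, true), (7, 24, true), (6, 25, true), (5, 27, true), (6, 9, true), (5, 70, true), (4, 73, true), (3, 74, true), (2, 76, true), (1, 77, true), (1, 65, true), (3, 28, true), (2, 31, true), (1, 35, true), (2, 45, true), (1, 48, true), (3, 36, true), (2, 39, true), (4, 28, true), (3, 31, true), (5, 10, true), (4, 13, true), (6, 3, true), (7, 1, true), (8, 55, true), (7, 56, true), (6, 57, true), (5, 58, true), (4, 59, true), (3, 62, true), (2, 63, true), (1, 64, true), (9, 28, true), (8, 29, true), (7, 30, true), (6, 31, true), (5, 32, true), (4, 35, true), (8, 15, true), (7, 16, true), (6, 17, true), (5, 18, true), (4, 19, true), (9, 10, true), (8, 11, true), (7, 12, true), (6, 13, true), (5, 14, true), (8, 0, true)]),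
    ([21, 12, 3, 2, 15], [(0, 202, true), (10, 205, true), (9, 123, true), (8, 124, true), (7, 127, true), (6, 128, true), (5, 129, true), (4, 130, true), (3, 132, true), (2, 134, true), (1, 135, true), (2, 78, true), (1, 84, true), (3, 105, true), (2, 111, true), (1, 117, true), (7, 23, true), (6, 25, true), (5, 26, true), (4, 27, true), (7, 55, true), (6, 57, true), (5, 59, true), (4, 60, true), (3, 63, true), (8, 36, true), (7, 38, true), (6, 40, true), (5, 41, true), (4, 44, true), (7, 15, true), (6, 17, true), (5, 19, true), (4, 20, true), (6, 10, true), (5, 12, true), (4, 14, true), (5, 3, true), (4, 5, true), (4, 0, true), (7, 36, true), (6, 37, true), (5, 42, true), (4, 43, true), (8, 21, true), (7, 22, true), (6, 27, true), (7, 10, true), (6, 11, true), (8, 0, true), (7, 29, true), (6, 32, true), (5, 35, true), (6, 11, true), (5, 14, true), (5, 46, true), (4, 53, true), (6, 37, true), (5, 44, true), (5, 29, true), (6, 16, true), (7, 7, true), (8, 4, true), (9, 2, true), (9, 105, true), (8, 107, true), (7, 108, true), (6, 110,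 true), (5, 112, true), (4, 114, true), (3, 115, true), (2, 117, true), (1, 119, true), (6, 78, true), (5, 80, true), (4, 82, true), (3, 83, true), (2, 86, true), (1, 88, true), (2, 65, true), (7, 45, true), (6, 48, true), (5, 51, true), (4, 52, true), (3, 53, true), (2, 54, true), (6, 36, true), (5, 39, true), (4, 42, true), (3, 43, true), (2, 44, true), (5, 28, true), (4, 31, true), (3, 34, true), (2, 35, true), (4, 21, true), (3, 24, true), (2, 27, true), (3, 15, true), (2, 18, true), (4, 3, true), (5, 1, true), (6, 36, true), (5, 37, true), (4, 38, true), (3, 39, true), (2, 41, true), (7, 15, true), (6, 16, true), (5, 17, true), (4, 18, true), (3, 20, true), (6, 3, true), (5, 4, true), (4, 5, true), (5, 55, true), (4, 56, true), (3, 58, true), (2, 63, true), (6, 15, true), (5, 16, true), (4, 18, true), (7, 10, true), (6, 11, true), (5, 13, true), (8, 6, true), (7, 7, true), (6, 9, true), (7, 3, true), (6, 4, true), (8, 1, true), (7, 2, true), (7, 0, true), (7, 36, true), (6, 38, true), (5, 40, true), (4, 41, true), (3, 44, true),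 (6, 21, true), (5, 23, true), (4, 25, true), (3, 26, true), (7, 15, true), (6, 17, true), (5, 19, true), (4, 20, true), (6, 10, true), (5, 12, true), (4, 14, true), (5, 3, true), (4, 5, true), (4, 55, true), (3, 61, true), (2, 65, true), (3, 45, true), (2, 51, true), (4, 36, true), (3, 42, true), (5, 10, true), (6, 6, true), (7, 3, true), (8, 1, true), (9, 28, true), (8, 29, true), (7, 30, true), (6, 31, true), (5, 32, true), (4, 34, true), (10, 45, true), (9, 46, true), (8, 47, true), (7, 48, true), (6, 49, true), (5, 51, true), (4, 52, true), (3, 53, true), (2, 54, true), (9, 36, true), (8, 37, true), (7, 38, true), (6, 39, true), (5, 40, true), (4, 42, true), (3, 43, true), (2, 44, true), (8, 28, true), (7, 29, true), (6, 30, true), (5, 31, true), (4, 32, true), (3, 34, true), (2, 35, true), (7, 15, true), (6, 16, true), (5, 17, true), (4, 18, true), (3, 19, true), (8, 3, true), (7, 4, true), (6, 5, true), (7, 1, true), (6, 2, true), (6, 0, true), (5, 18, true), (4, 19, true), (3, 20, true), (5, 56, true), (4, 58, true), (3, 59,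 true), (2, 61, true), (6, 37, true), (5, 39, true), (4, 40, true), (3, 42, true), (7, 11, true), (6, 13, true), (5, 14, true), (6, 7, true), (5, 9, true), (5, 2, true), (5, 0, true), (4, 84, true), (3, 86, true), (2, 88, true), (1, 90, true), (1, 65, true), (7, 21, true), (6, 24, true), (5, 27, true), (6, 55, true), (5, 58, true), (4, 62, true), (3, 63, true), (2, 64, true), (1, 65, true), (5, 36, true), (4, 39, true), (3, 43, true), (2, 44, true), (4, 28, true), (3, 31, true), (2, 35, true), (3, 3, true)], [(3, 122, true), (2, 123, true), (1, 132, true), (10, 10, true), (9, 11, true), (8, 12, true), (7, 13, true), (11, 3, true), (10, 4, true), (9, 5, true), (7, 13, false), (8, 11, false), (6, 18, false), (7, 16, false), (5, 31, false), (6, 29, false), (6, 5, false), (7, 4, false), (4, 39, false), (5, 38, false), (6, 37, false), (3, 48, false), (4, 47, false), (3, 65, false), (4, 58, false), (5, 57, false), (3, 90, false), (0, 205, true), (7, 204, true), (17, 202, true), (27, 200, true), (31, 199, true), (38, 198, true), (46, 197, true),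 (47, 195, true), (55, 194, true), (64, 193, true), (6, 138, true), (5, 143, true), (4, 144, true), (3, 146, true), (2, 148, true), (1, 150, true), (0, 151, true), (9, 91, true), (8, 93, true), (7, 97, true), (6, 99, true), (5, 101, true), (4, 102, true), (3, 104, true), (8, 66, true), (7, 68, true), (6, 70, true), (5, 71, true), (4, 74, true), (3, 76, true), (7, 45, true), (6, 48, true), (5, 52, true), (8, 10, true), (7, 13, true), (9, 1, true), (10, 45, true), (9, 46, true), (8, 48, true), (7, 49, true), (6, 52, true), (5, 54, true), (9, 36, true), (8, 37, true), (7, 39, true), (6, 40, true), (5, 43, true), (10, 28, true), (9, 29, true), (8, 31, true), (7, 32, true), (6, 35, true), (9, 10, true), (8, 11, true), (7, 13, true), (6, 14, true), (8, 3, true), (7, 4, true), (9, 1, true), (8, 2, true), (8, 15, true), (7, 17, true), (6, 18, true), (9, 10, true), (8, 12, true), (7, 13, true), (10, 6, true), (9, 8, true), (8, 9, true), (9, 0, true), (9, 36, true), (8, 38, true), (7, 40, true), (6, 41, true), (5, 44, true), (8, 21, true), (7,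 23, true), (6, 25, true), (5, 26, true), (9, 15, true), (8, 17, true), (7, 19, true), (6, 20, true), (8, 10, true), (7, 12, true), (6, 14, true), (7, 3, true), (6, 5, true), (6, 55, true), (5, 61, true), (4, 65, true), (5, 28, true), (4, 34, true), (6, 15, true), (7, 10, true), (8, 6, true), (9, 21, true), (8, 24, true), (7, 25, true), (6, 26, true), (5, 27, true), (8, 6, true), (7, 9, true), (7, 0, true), (6, 82, true), (5, 83, true), (4, 85, true), (3, 89, true), (5, 52, true), (6, 43, true), (7, 35, true), (10, 37, true), (9, 38, true), (8, 41, true), (7, 42, true), (6, 44, true), (9, 16, true), (8, 17, true), (7, 20, true), (8, 4, true), (7, 5, true), (7, 67, true), (6, 72, true), (5, 75, true), (4, 77, true), (4, 65, true), (8, 21, true), (7, 24, true), (9, 55, true), (8, 58, true), (7, 61, true), (6, 62, true), (5, 63, true), (4, 64, true), (10, 15, true), (9, 18, true), (11, 10, true), (10, 13, true), (12, 6, true), (11, 9, true), (11, 3, true), (12, 1, true), (13, 0, true), (12, 56, true), (11, 57, true), (10, 59, true), (9,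 60, true), (8, 61, true), (7, 62, true), (6, 63, true), (5, 64, true), (4, 65, true), (11, 37, true), (10, 38, true), (9, 40, true), (8, 41, true), (7, 42, true), (6, 43, true), (5, 44, true), (10, 29, true), (9, 30, true), (8, 32, true), (7, 33, true), (6, 34, true), (5, 35, true), (9, 22, true), (8, 23, true), (7, 25, true), (6, 26, true), (5, 27, true), (8, 4, true), (7, 5, true), (8, 55, true), (7, 56, true), (6, 59, true), (5, 60, true), (4, 64, true), (9, 45, true), (8, 46, true), (7, 49, true), (6, 50, true), (5, 54, true), (8, 15, true), (7, 16, true), (6, 19, true), (5, 20, true), (7, 10, true), (6, 11, true), (5, 14, true), (6, 1, true), (5, 2, true), (5, 0, true), (7, 28, true), (6, 30, true), (5, 35, true), (6, 36, true), (5, 38, true), (7, 28, true), (6, 30, true), (8, 0, true), (7, 122, true), (6, 127, true), (5, 128, true), (4, 130, true), (3, 132, true), (2, 134, true), (1, 135, true), (2, 78, true), (1, 84, true), (3, 105, true), (2, 111, true), (1, 117, true), (7, 23, true), (6, 25, true), (5, 26, true), (4, 27, true),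 (7, 55, true), (6, 57, true), (5, 59, true), (4, 60, true), (3, 63, true), (8, 36, true), (7, 38, true), (6, 40, true), (5, 41, true), (4, 44, true), (7, 15, true), (6, 17, true), (5, 19, true), (4, 20, true), (6, 10, true), (5, 12, true), (4, 14, true), (5, 3, true), (4, 5, true), (4, 0, true), (7, 28, true), (6, 32, true), (5, 34, true), (8, 10, true), (7, 14, true), (7, 3, true), (8, 105, true), (7, 107, true), (6, 111, true), (5, 112, true), (4, 113, true), (3, 115, true), (2, 117, true), (1, 119, true), (6, 78, true), (5, 80, true), (4, 82, true), (3, 83, true), (2, 86, true), (1, 88, true), (2, 65, true), (7, 45, true), (6, 48, true), (5, 51, true), (4, 52, true), (3, 53, true), (2, 54, true), (6, 36, true), (5, 39, true), (4, 42, true), (3, 43, true), (2, 44, true), (5, 28, true), (4, 31, true), (3, 34, true), (2, 35, true), (4, 21, true), (3, 24, true), (2, 27, true), (3, 15, true), (2, 18, true), (4, 3, true), (5, 1, true), (6, 36, true), (5, 37, true), (4, 38, true), (3, 39, true), (2, 41, true), (7, 15, true), (6, 16, true),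 (5, 17, true), (4, 18, true), (3, 20, true), (6, 3, true), (5, 4, true), (4, 5, true), (5, 55, true), (4, 56, true), (3, 58, true), (2, 63, true), (6, 15, true), (5, 16, true), (4, 18, true), (7, 10, true), (6, 11, true), (5, 13, true), (8, 6, true), (7, 7, true), (6, 9, true), (7, 3, true), (6, 4, true), (8, 1, true), (7, 2, true), (7, 0, true), (7, 36, true), (6, 38, true), (5, 40, true), (4, 41, true), (3, 44, true), (6, 21, true), (5, 23, true), (4, 25, true), (3, 26, true), (7, 15, true), (6, 17, true), (5, 19, true), (4, 20, true), (6, 10, true), (5, 12, true), (4, 14, true), (5, 3, true), (4, 5, true), (4, 55, true), (3, 61, true), (2, 65, true), (3, 55, true), (2, 61, true), (4, 45, true), (3, 51, true), (5, 28, true), (4, 34, true), (6, 15, true), (7, 6, true), (8, 3, true), (9, 28, true), (8, 30, true), (7, 31, true), (6, 33, true), (5, 34, true), (4, 35, true), (8, 21, true), (7, 23, true), (6, 24, true), (5, 26, true), (4, 27, true), (7, 55, true), (6, 57, true), (5, 58, true), (4, 60, true), (3, 64, true), (2, 65, true),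 (6, 36, true), (5, 38, true), (4, 39, true), (3, 41, true), (7, 10, true), (6, 12, true), (5, 13, true), (8, 6, true), (7, 8, true), (6, 9, true), (7, 1, true), (8, 0, true), (8, 78, true), (7, 79, true), (6, 80, true), (5, 82, true), (4, 83, true), (3, 86, true), (2, 87, true), (1, 90, true), (5, 55, true), (4, 58, true), (3, 61, true), (2, 62, true), (1, 65, true), (4, 45, true), (3, 48, true), (2, 51, true), (1, 52, true), (5, 36, true), (4, 39, true), (3, 42, true), (2, 43, true), (6, 28, true), (5, 31, true), (4, 34, true), (3, 35, true), (5, 21, true), (4, 24, true), (3, 27, true), (4, 6, true), (3, 9, true), (3, 0, true), (2, 53, true), (1, 54, true), (1, 44, true), (5, 37, true), (4, 38, true), (3, 41, true), (2, 42, true), (1, 43, true), (6, 16, true), (5, 17, true), (4, 20, true), (5, 4, true), (4, 5, true), (4, 56, true), (3, 61, true), (2, 62, true), (1, 63, true), (5, 16, true), (6, 11, true), (7, 7, true), (8, 4, true), (9, 2, true), (9, 15, true), (8, 17, true), (7, 18, true), (6, 19, true), (5, 20, true), (8, 10, true),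 (7, 12, true), (6, 13, true), (5, 14, true), (7, 6, true), (6, 8, true), (5, 9, true), (6, 0, true), (6, 55, true), (5, 57, true), (4, 61, true), (3, 62, true), (2, 63, true), (1, 65, true), (5, 28, true), (4, 30, true), (3, 34, true), (2, 35, true), (4, 15, true), (3, 17, true), (5, 10, true), (4, 12, true), (6, 1, true), (7, 0, true), (6, 137, true), (5, 138, true), (4, 140, true), (3, 141, true), (2, 142, true), (1, 144, true), (0, 152, true), (1, 28, true), (0, 34, true), (2, 3, true), (3, 0, true), (2, 23, true), (1, 27, true), (1, 17, true), (2, 23, true), (1, 26, true), (3, 12, true), (5, 36, true), (4, 38, true), (3, 40, true), (2, 41, true), (1, 42, true), (0, 43, true), (6, 28, true), (5, 30, true), (4, 32, true), (3, 33, true), (2, 34, true), (1, 35, true), (5, 0, true), (4, 17, true), (3, 19, true), (2, 20, true), (4, 121, true), (3, 122, true), (2, 124, true), (1, 126, true), (0, 128, true), (4, 21, true), (3, 25, true), (2, 27, true), (3, 10, true), (2, 14, true), (2, 10, true), (3, 3, true), (4, 45, true), (3, 47, true),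 (2, 49, true), (1, 53, true), (5, 28, true), (4, 30, true), (3, 32, true), (6, 21, true), (5, 23, true), (4, 25, true), (7, 0, true), (6, 107, true), (5, 109, true), (4, 111, true), (3, 112, true), (2, 113, true), (1, 114, true), (7, 56, true), (6, 57, true), (5, 58, true), (4, 59, true), (3, 63, true), (2, 64, true), (8, 46, true), (7, 47, true), (6, 48, true), (5, 49, true), (4, 53, true), (3, 54, true), (7, 29, true), (6, 30, true), (5, 31, true), (4, 32, true), (8, 16, true), (7, 17, true), (6, 18, true), (5, 19, true), (9, 7, true), (8, 8, true), (7, 9, true), (8, 4, true), (7, 5, true), (7, 29, true), (6, 32, true), (5, 33, true), (4, 35, true), (6, 22, true), (5, 25, true), (4, 26, true), (7, 37, true), (6, 40, true), (5, 41, true), (4, 42, true), (3, 44, true), (6, 16, true), (5, 19, true), (4, 20, true), (5, 4, true), (6, 56, true), (5, 57, true), (4, 59, true), (3, 61, true), (2, 65, true), (5, 37, true), (4, 38, true), (3, 40, true), (2, 42, true), (6, 11, true), (5, 12, true), (4, 14, true), (5, 7, true), (4, 8, true), (6,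 2, true), (6, 78, true), (5, 80, true), (4, 81, true), (3, 84, true), (2, 86, true), (9, 21, true), (8, 24, true), (7, 27, true), (8, 45, true), (7, 48, true), (6, 52, true), (5, 53, true), (4, 54, true), (7, 28, true), (6, 31, true), (5, 35, true), (6, 21, true), (5, 24, true), (7, 0, true), (6, 58, true), (5, 61, true), (4, 63, true), (3, 65, true), (5, 18, true), (6, 13, true), (7, 9, true), (9, 0, true), (8, 56, true), (7, 57, true), (6, 59, true), (5, 60, true), (4, 61, true), (3, 63, true), (9, 46, true), (8, 47, true), (7, 49, true), (6, 50, true), (5, 51, true), (4, 53, true), (10, 37, true), (9, 38, true), (8, 40, true), (7, 41, true), (6, 42, true), (5, 44, true), (9, 29, true), (8, 30, true), (7, 32, true), (6, 33, true), (5, 34, true), (10, 11, true), (9, 12, true), (8, 14, true), (9, 7, true), (8, 8, true), (10, 46, true), (9, 47, true), (8, 48, true), (7, 50, true), (6, 51, true), (5, 52, true), (4, 54, true), (9, 29, true), (8, 30, true), (7, 31, true), (6, 33, true), (5, 34, true), (4, 35, true), (8, 22, true), (7, 23,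 true), (6, 24, true), (5, 26, true), (4, 27, true), (7, 16, true), (6, 17, true), (5, 18, true), (4, 20, true), (6, 137, true), (5, 138, true), (4, 139, true), (3, 146, true), (2, 148, true), (1, 150, true), (0, 151, true), (9, 91, true), (8, 93, true), (7, 97, true), (6, 99, true), (5, 101, true), (4, 102, true), (3, 104, true), (8, 66, true), (7, 68, true), (6, 70, true), (5, 71, true), (4, 74, true), (3, 76, true), (7, 45, true), (6, 48, true), (5, 52, true), (8, 10, true), (7, 13, true), (9, 1, true), (10, 45, true), (9, 46, true), (8, 48, true), (7, 49, true), (6, 52, true), (5, 54, true), (9, 36, true), (8, 37, true), (7, 39, true), (6, 40, true), (5, 43, true), (10, 28, true), (9, 29, true), (8, 31, true), (7, 32, true), (6, 35, true), (9, 10, true), (8, 11, true), (7, 13, true), (6, 14, true), (8, 3, true), (7, 4, true), (9, 1, true), (8, 2, true), (8, 15, true), (7, 17, true), (6, 18, true), (9, 10, true), (8, 12, true), (7, 13, true), (10, 6, true), (9, 8, true), (8, 9, true), (9, 0, true), (9, 36, true), (8, 38, true), (7,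 40, true), (6, 41, true), (5, 44, true), (8, 21, true), (7, 23, true), (6, 25, true), (5, 26, true), (9, 15, true), (8, 17, true), (7, 19, true), (6, 20, true), (8, 10, true), (7, 12, true), (6, 14, true), (7, 3, true), (6, 5, true), (6, 55, true), (5, 61, true), (4, 65, true), (5, 28, true), (4, 34, true), (6, 15, true), (7, 10, true), (8, 6, true), (9, 21, true), (8, 24, true), (7, 25, true), (6, 26, true), (5, 27, true), (8, 6, true), (7, 9, true), (7, 0, true), (6, 82, true), (5, 83, true), (4, 85, true), (3, 89, true), (5, 52, true), (6, 43, true), (7, 35, true), (10, 37, true), (9, 38, true), (8, 41, true), (7, 42, true), (6, 44, true), (9, 16, true), (8, 17, true), (7, 20, true), (8, 4, true), (7, 5, true), (7, 67, true), (6, 72, true), (5, 75, true), (4, 77, true), (4, 65, true), (8, 21, true), (7, 24, true), (9, 55, true), (8, 58, true), (7, 61, true), (6, 62, true), (5, 63, true), (4, 64, true), (10, 15, true), (9, 18, true), (11, 10, true), (10, 13, true), (12, 6, true), (11, 9, true), (11, 3, true), (12, 1, true), (13, 0,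 true), (12, 56, true), (11, 57, true), (10, 59, true), (9, 60, true), (8, 61, true), (7, 62, true), (6, 63, true), (5, 64, true), (4, 65, true), (11, 37, true), (10, 38, true), (9, 40, true), (8, 41, true), (7, 42, true), (6, 43, true), (5, 44, true), (10, 29, true), (9, 30, true), (8, 32, true), (7, 33, true), (6, 34, true), (5, 35, true), (9, 22, true), (8, 23, true), (7, 25, true), (6, 26, true), (5, 27, true), (8, 4, true), (7, 5, true), (8, 55, true), (7, 56, true), (6, 59, true), (5, 60, true), (4, 64, true), (9, 45, true), (8, 46, true), (7, 49, true), (6, 50, true), (5, 54, true), (8, 15, true), (7, 16, true), (6, 19, true), (5, 20, true), (7, 10, true), (6, 11, true), (5, 14, true), (6, 1, true), (5, 2, true), (5, 0, true), (13, 36, true), (12, 37, true), (11, 38, true), (10, 39, true), (9, 40, true), (8, 42, true), (7, 43, true), (6, 44, true), (12, 28, true), (11, 29, true), (10, 30, true), (9, 31, true), (8, 32, true), (7, 34, true), (6, 35, true), (11, 0, true), (10, 16, true), (9, 17, true), (8, 18, true), (7, 19, true),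 (11, 2, true), (10, 122, true), (9, 123, true), (8, 124, true), (7, 125, true), (6, 126, true), (5, 129, true), (4, 130, true), (3, 132, true), (2, 134, true), (1, 135, true), (2, 78, true), (1, 84, true), (3, 105, true), (2, 111, true), (1, 117, true), (7, 23, true), (6, 25, true), (5, 26, true), (4, 27, true), (7, 55, true), (6, 57, true), (5, 59, true), (4, 60, true), (3, 63, true), (8, 36, true), (7, 38, true), (6, 40, true), (5, 41, true), (4, 44, true), (7, 15, true), (6, 17, true), (5, 19, true), (4, 20, true), (6, 10, true), (5, 12, true), (4, 14, true), (5, 3, true), (4, 5, true), (4, 0, true), (7, 21, true), (6, 22, true), (5, 27, true), (6, 21, true), (5, 22, true), (7, 15, true), (6, 16, true), (8, 0, true), (7, 11, true), (8, 46, true), (7, 49, true), (6, 50, true), (5, 51, true), (4, 52, true), (9, 37, true), (8, 40, true), (7, 41, true), (6, 42, true), (5, 43, true), (10, 29, true), (9, 32, true), (8, 33, true), (7, 34, true), (6, 35, true), (9, 16, true), (8, 19, true), (7, 20, true), (8, 7, true), (9, 4, true), (10,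 2, true), (10, 10, true), (9, 12, true), (8, 13, true), (7, 14, true), (9, 3, true), (8, 5, true), (8, 105, true), (7, 108, true), (6, 111, true), (5, 113, true), (4, 114, true), (3, 115, true), (2, 117, true), (1, 119, true), (6, 78, true), (5, 80, true), (4, 82, true), (3, 83, true), (2, 86, true), (1, 88, true), (2, 65, true), (7, 45, true), (6, 48, true), (5, 51, true), (4, 52, true), (3, 53, true), (2, 54, true), (6, 36, true), (5, 39, true), (4, 42, true), (3, 43, true), (2, 44, true), (5, 28, true), (4, 31, true), (3, 34, true), (2, 35, true), (4, 21, true), (3, 24, true), (2, 27, true), (3, 15, true), (2, 18, true), (4, 3, true), (5, 1, true), (6, 36, true), (5, 37, true), (4, 38, true), (3, 39, true), (2, 41, true), (7, 15, true), (6, 16, true), (5, 17, true), (4, 18, true), (3, 20, true), (6, 3, true), (5, 4, true), (4, 5, true), (5, 55, true), (4, 56, true), (3, 58, true), (2, 63, true), (6, 15, true), (5, 16, true), (4, 18, true), (7, 10, true), (6, 11, true), (5, 13, true), (8, 6, true), (7, 7, true), (6, 9, true), (7,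 3, true), (6, 4, true), (8, 1, true), (7, 2, true), (7, 0, true), (7, 36, true), (6, 38, true), (5, 40, true), (4, 41, true), (3, 44, true), (6, 21, true), (5, 23, true), (4, 25, true), (3, 26, true), (7, 15, true), (6, 17, true), (5, 19, true), (4, 20, true), (6, 10, true), (5, 12, true), (4, 14, true), (5, 3, true), (4, 5, true), (4, 55, true), (3, 61, true), (2, 65, true), (3, 45, true), (2, 51, true), (4, 36, true), (3, 42, true), (5, 10, true), (6, 6, true), (7, 3, true), (8, 1, true), (9, 55, true), (8, 56, true), (7, 57, true), (6, 58, true), (5, 59, true), (4, 61, true), (3, 63, true), (2, 64, true), (10, 45, true), (9, 46, true), (8, 47, true), (7, 48, true), (6, 49, true), (5, 51, true), (4, 53, true), (3, 54, true), (9, 28, true), (8, 29, true), (7, 30, true), (6, 31, true), (5, 32, true), (4, 34, true), (10, 15, true), (9, 16, true), (8, 17, true), (7, 18, true), (6, 19, true), (11, 6, true), (10, 7, true), (9, 8, true), (8, 9, true), (10, 3, true), (9, 4, true), (8, 5, true), (9, 21, true), (8, 22, true), (7, 25, true),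 (6, 26, true), (5, 27, true), (8, 15, true), (7, 16, true), (6, 19, true), (5, 20, true), (7, 1, true), (6, 2, true), (6, 0, true), (5, 82, true), (4, 85, true), (3, 86, true), (2, 88, true), (1, 90, true), (1, 65, true), (7, 28, true), (6, 31, true), (5, 34, true), (4, 35, true), (6, 36, true), (5, 39, true), (4, 42, true), (3, 44, true), (5, 15, true), (4, 18, true), (6, 3, true), (7, 55, true), (6, 57, true), (5, 58, true), (4, 60, true), (3, 61, true), (2, 64, true), (1, 65, true), (6, 28, true), (5, 30, true), (4, 31, true), (3, 33, true), (2, 34, true), (7, 0, true), (6, 138, true), (5, 139, true), (4, 141, true), (3, 142, true), (2, 143, true), (1, 145, true), (0, 152, true), (1, 45, true), (0, 51, true), (2, 21, true), (1, 27, true), (1, 15, true), (2, 0, true), (1, 33, true), (2, 26, true), (3, 20, true), (2, 51, true), (1, 52, true), (0, 54, true), (1, 42, true), (0, 43, true), (2, 34, true), (1, 35, true), (1, 27, true), (5, 36, true), (4, 37, true), (3, 38, true), (2, 39, true), (1, 40, true), (0, 44, true), (4, 28, true),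 (3, 29, true), (2, 30, true), (1, 31, true), (0, 32, true), (5, 0, true), (4, 121, true), (3, 122, true), (2, 123, true), (1, 124, true), (0, 127, true), (2, 49, true), (1, 52, true), (3, 40, true), (2, 43, true), (4, 32, true), (3, 35, true), (3, 19, true), (8, 10, true), (7, 11, true), (6, 12, true), (5, 13, true), (4, 14, true), (7, 3, true), (6, 4, true), (5, 5, true), (6, 45, true), (5, 46, true), (4, 48, true), (3, 50, true), (2, 53, true), (1, 54, true), (5, 28, true), (4, 29, true), (3, 31, true), (2, 33, true), (6, 21, true), (5, 22, true), (4, 24, true), (3, 26, true), (7, 0, true), (6, 106, true), (5, 108, true), (4, 110, true), (3, 111, true), (2, 112, true), (1, 113, true), (7, 30, true), (6, 31, true), (5, 33, true), (4, 35, true), (6, 23, true), (5, 24, true), (4, 26, true), (7, 47, true), (6, 48, true), (5, 50, true), (4, 51, true), (3, 54, true), (6, 38, true), (5, 39, true), (4, 41, true), (3, 42, true), (7, 30, true), (6, 31, true), (5, 33, true), (4, 34, true), (8, 17, true), (7, 18, true), (6, 20, true), (7, 5,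 true), (8, 15, true), (7, 16, true), (6, 18, true), (9, 1, true), (8, 2, true), (8, 45, true), (7, 48, true), (6, 50, true), (5, 51, true), (4, 52, true), (3, 53, true), (9, 36, true), (8, 39, true), (7, 41, true), (6, 42, true), (5, 43, true), (4, 44, true), (8, 28, true), (7, 31, true), (6, 33, true), (5, 34, true), (4, 35, true), (7, 15, true), (6, 18, true), (5, 20, true), (6, 6, true), (5, 9, true), (5, 3, true), (6, 1, true), (7, 0, true), (6, 79, true), (5, 80, true), (4, 84, true), (3, 87, true), (2, 88, true), (7, 21, true), (6, 24, true), (5, 27, true), (6, 55, true), (5, 58, true), (4, 62, true), (3, 65, true), (5, 15, true), (4, 18, true), (6, 10, true), (5, 13, true), (7, 6, true), (6, 9, true), (6, 3, true), (7, 1, true), (8, 0, true), (7, 16, true), (6, 17, true), (5, 19, true), (4, 20, true), (6, 11, true), (5, 12, true), (4, 14, true), (5, 7, true), (4, 8, true), (7, 55, true), (6, 56, true), (5, 57, true), (4, 58, true), (3, 62, true), (8, 45, true), (7, 46, true), (6, 47, true), (5, 48, true), (4, 52, true), (9, 21,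 true), (8, 22, true), (7, 23, true), (6, 24, true), (10, 1, true), (9, 2, true), (9, 28, true), (8, 30, true), (7, 31, true), (6, 34, true), (5, 35, true), (8, 120, true), (7, 122, true), (6, 123, true), (5, 126, true), (4, 129, true), (3, 130, true), (2, 132, true), (1, 134, true), (0, 135, true), (1, 78, true), (0, 84, true), (2, 105, true), (1, 111, true), (0, 117, true), (6, 23, true), (5, 25, true), (4, 26, true), (3, 27, true), (6, 55, true), (5, 57, true), (4, 59, true), (3, 60, true), (2, 63, true), (7, 36, true), (6, 38, true), (5, 40, true), (4, 41, true), (3, 44, true), (6, 15, true), (5, 17, true), (4, 19, true), (3, 20, true), (5, 10, true), (4, 12, true), (3, 14, true), (4, 3, true), (3, 5, true), (3, 0, true), (6, 21, true), (5, 22, true), (4, 27, true), (5, 45, true), (4, 46, true), (3, 52, true), (6, 36, true), (5, 37, true), (4, 43, true), (7, 28, true), (6, 29, true), (5, 35, true), (6, 15, true), (5, 16, true), (7, 6, true), (6, 7, true), (8, 3, true), (7, 4, true), (9, 1, true), (8, 2, true), (8, 0, true), (7, 12,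 true), (6, 13, true), (8, 5, true), (8, 91, true), (7, 94, true), (6, 95, true), (5, 96, true), (4, 99, true), (3, 100, true), (2, 101, true), (1, 103, true), (3, 62, true), (4, 62, true), (3, 65, true), (3, 35, true), (8, 29, true), (7, 30, true), (6, 31, true), (5, 32, true), (4, 33, true), (3, 34, true), (9, 16, true), (8, 17, true), (7, 18, true), (6, 19, true), (5, 20, true), (8, 11, true), (7, 12, true), (6, 13, true), (5, 14, true), (7, 7, true), (6, 8, true), (5, 9, true), (6, 46, true), (5, 47, true), (4, 51, true), (3, 52, true), (7, 22, true), (6, 23, true), (5, 27, true), (6, 11, true), (5, 12, true), (7, 2, true), (7, 45, true), (6, 47, true), (5, 49, true), (4, 52, true), (3, 54, true), (6, 36, true), (5, 38, true), (4, 40, true), (3, 43, true), (7, 28, true), (6, 30, true), (5, 32, true), (4, 35, true), (6, 21, true), (5, 23, true), (4, 25, true), (7, 10, true), (6, 12, true), (5, 14, true), (6, 3, true), (5, 5, true), (5, 1, true), (6, 0, true), (5, 4, true), (7, 66, true), (6, 67, true), (5, 68, true), (4, 72, true),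 (3, 74, true), (6, 21, true), (5, 24, true), (7, 15, true), (6, 18, true), (8, 10, true), (7, 13, true), (9, 6, true), (8, 9, true), (8, 0, true), (7, 59, true), (6, 60, true), (5, 61, true), (4, 62, true), (8, 19, true), (7, 20, true), (7, 14, true), (10, 0, true), (9, 56, true), (8, 57, true), (7, 58, true), (6, 61, true), (5, 62, true), (4, 65, true), (8, 29, true), (7, 30, true), (6, 31, true), (5, 34, true), (4, 35, true), (7, 16, true), (6, 17, true), (5, 18, true), (8, 11, true), (7, 12, true), (6, 13, true), (10, 136, true), (9, 137, true), (8, 138, true), (7, 139, true), (6, 140, true), (5, 141, true), (4, 142, true), (3, 147, true), (2, 148, true), (1, 149, true), (0, 150, true), (8, 105, true), (7, 107, true), (6, 111, true), (5, 113, true), (4, 115, true), (3, 116, true), (2, 118, true), (1, 119, true), (6, 91, true), (5, 93, true), (4, 95, true), (3, 96, true), (2, 99, true), (1, 101, true), (6, 48, true), (5, 49, true), (4, 50, true), (3, 52, true), (7, 24, true), (6, 25, true), (5, 26, true), (8, 13, true), (7, 14, true),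 (9, 45, true), (8, 46, true), (7, 48, true), (6, 50, true), (5, 51, true), (4, 52, true), (3, 54, true), (8, 36, true), (7, 37, true), (6, 39, true), (5, 41, true), (4, 42, true), (3, 43, true), (9, 28, true), (8, 29, true), (7, 31, true), (6, 33, true), (5, 34, true), (4, 35, true), (8, 21, true), (7, 22, true), (6, 24, true), (5, 26, true), (4, 27, true), (7, 10, true), (6, 11, true), (5, 13, true), (8, 3, true), (7, 4, true), (9, 1, true), (8, 2, true), (8, 0, true), (7, 8, true), (6, 9, true), (7, 66, true), (6, 68, true), (5, 70, true), (4, 71, true), (3, 74, true), (2, 76, true), (6, 45, true), (5, 48, true), (4, 52, true), (7, 10, true), (6, 13, true), (8, 1, true), (9, 45, true), (8, 46, true), (7, 48, true), (6, 49, true), (5, 52, true), (4, 54, true), (8, 36, true), (7, 37, true), (6, 39, true), (5, 40, true), (4, 43, true), (9, 28, true), (8, 29, true), (7, 31, true), (6, 32, true), (5, 35, true), (8, 10, true), (7, 11, true), (6, 13, true), (5, 14, true), (7, 3, true), (6, 4, true), (8, 1, true), (7, 2, true), (7, 15, true),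 (6, 17, true), (5, 18, true), (8, 10, true), (7, 12, true), (6, 13, true), (9, 6, true), (8, 8, true), (7, 9, true), (8, 0, true), (8, 28, true), (7, 30, true), (6, 32, true), (5, 33, true), (9, 55, true), (8, 57, true), (7, 59, true), (6, 60, true), (5, 62, true), (4, 63, true), (3, 65, true), (8, 55, true), (7, 57, true), (6, 59, true), (5, 60, true), (4, 62, true), (3, 63, true), (9, 45, true), (8, 47, true), (7, 49, true), (6, 50, true), (5, 52, true), (4, 53, true), (10, 28, true), (9, 30, true), (8, 32, true), (7, 33, true), (6, 35, true), (9, 15, true), (8, 17, true), (7, 19, true), (6, 20, true), (8, 6, true), (7, 8, true), (9, 3, true), (8, 5, true), (8, 21, true), (7, 24, true), (6, 25, true), (9, 55, true), (8, 58, true), (7, 59, true), (6, 61, true), (5, 63, true), (4, 64, true), (3, 65, true), (8, 36, true), (7, 39, true), (6, 40, true), (5, 42, true), (4, 44, true), (7, 10, true), (6, 13, true), (5, 14, true), (6, 6, true), (5, 9, true), (5, 1, true), (6, 0, true), (6, 78, true), (5, 79, true), (4, 84, true), (3, 87, true),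 (2, 89, true), (7, 21, true), (6, 24, true), (5, 27, true), (6, 15, true), (5, 18, true), (7, 10, true), (6, 13, true), (8, 6, true), (7, 9, true), (7, 0, true), (7, 66, true), (6, 70, true), (5, 71, true), (4, 73, true), (3, 77, true), (4, 52, true), (7, 46, true), (6, 49, true), (5, 52, true), (4, 54, true), (6, 37, true), (5, 40, true), (4, 43, true), (7, 29, true), (6, 32, true), (5, 35, true), (6, 11, true), (5, 14, true), (5, 4, true), (6, 2, true), (6, 55, true), (5, 57, true), (4, 63, true), (3, 65, true), (5, 45, true), (4, 47, true), (3, 53, true), (6, 28, true), (5, 30, true), (7, 15, true), (6, 17, true), (8, 1, true), (9, 0, true), (8, 92, true), (7, 93, true), (6, 96, true), (5, 98, true), (4, 99, true), (3, 100, true), (2, 103, true), (1, 104, true), (6, 78, true), (5, 80, true), (4, 82, true), (3, 83, true), (2, 86, true), (1, 88, true), (2, 65, true), (7, 45, true), (6, 48, true), (5, 51, true), (4, 52, true), (3, 53, true), (2, 54, true), (6, 36, true), (5, 39, true), (4, 42, true), (3, 43, true), (2, 44, true), (5,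 28, true), (4, 31, true), (3, 34, true), (2, 35, true), (4, 21, true), (3, 24, true), (2, 27, true), (3, 15, true), (2, 18, true), (4, 3, true), (5, 1, true), (6, 36, true), (5, 37, true), (4, 38, true), (3, 39, true), (2, 41, true), (7, 15, true), (6, 16, true), (5, 17, true), (4, 18, true), (3, 20, true), (6, 3, true), (5, 4, true), (4, 5, true), (5, 55, true), (4, 56, true), (3, 58, true), (2, 63, true), (6, 15, true), (5, 16, true), (4, 18, true), (7, 10, true), (6, 11, true), (5, 13, true), (8, 6, true), (7, 7, true), (6, 9, true), (7, 3, true), (6, 4, true), (8, 1, true), (7, 2, true), (7, 0, true), (7, 28, true), (6, 30, true), (5, 32, true), (4, 33, true), (8, 55, true), (7, 57, true), (6, 59, true), (5, 60, true), (4, 62, true), (3, 63, true), (2, 65, true), (7, 28, true), (6, 30, true), (5, 32, true), (4, 33, true), (3, 35, true), (6, 21, true), (5, 23, true), (4, 25, true), (3, 26, true), (7, 15, true), (6, 17, true), (5, 19, true), (4, 20, true), (6, 10, true), (5, 12, true), (4, 14, true), (5, 6, true), (4, 8, true), (6,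 3, true), (5, 5, true), (5, 1, true), (6, 28, true), (5, 29, true), (4, 31, true), (3, 34, true), (7, 15, true), (6, 16, true), (5, 18, true), (8, 10, true), (7, 11, true), (6, 13, true), (9, 6, true), (8, 7, true), (7, 9, true), (8, 28, true), (7, 29, true), (6, 32, true), (5, 33, true), (4, 34, true), (3, 35, true), (7, 45, true), (6, 46, true), (5, 49, true), (4, 50, true), (3, 51, true), (2, 53, true), (8, 21, true), (7, 22, true), (6, 25, true), (5, 26, true), (4, 27, true), (7, 10, true), (6, 11, true), (5, 14, true), (6, 1, true), (5, 2, true), (5, 0, true), (5, 58, true), (4, 60, true), (3, 63, true), (2, 64, true), (6, 48, true), (5, 50, true), (4, 53, true), (3, 54, true), (5, 39, true), (4, 41, true), (3, 44, true), (4, 24, true), (3, 26, true), (5, 9, true), (4, 83, true), (3, 84, true), (2, 88, true), (1, 90, true), (1, 65, true), (1, 51, true), (2, 42, true), (3, 34, true), (4, 27, true), (6, 67, true), (5, 68, true), (4, 71, true), (3, 73, true), (2, 74, true), (1, 75, true), (7, 28, true), (6, 31, true), (5, 35, true),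 (6, 6, true), (5, 9, true), (5, 0, true), (5, 52, true), (4, 53, true), (3, 54, true), (6, 16, true), (5, 19, true), (7, 11, true), (6, 14, true), (6, 7, true), (8, 55, true), (7, 56, true), (6, 58, true), (5, 60, true), (4, 62, true), (3, 63, true), (2, 65, true), (7, 15, true), (6, 16, true), (5, 18, true), (4, 20, true), (6, 10, true), (5, 11, true), (4, 13, true), (7, 6, true), (6, 7, true), (5, 9, true), (6, 3, true), (5, 4, true), (7, 1, true), (6, 2, true), (6, 0, true), (5, 57, true), (4, 59, true), (3, 62, true), (2, 63, true), (6, 38, true), (5, 40, true), (4, 43, true), (3, 44, true), (5, 30, true), (4, 32, true), (3, 35, true), (4, 23, true), (3, 25, true), (5, 5, true), (5, 105, true), (4, 109, true), (3, 111, true), (2, 115, true), (1, 116, true), (3, 62, true), (5, 42, true), (4, 43, true), (9, 91, true), (8, 93, true), (7, 96, true), (6, 97, true), (5, 98, true), (4, 99, true), (3, 101, true), (2, 102, true), (8, 57, true), (7, 59, true), (6, 60, true), (5, 61, true), (4, 63, true), (9, 30, true), (8, 32, true), (7,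 33, true), (6, 34, true), (10, 17, true), (9, 19, true), (8, 20, true), (9, 12, true), (8, 14, true), (8, 8, true), (9, 30, true), (8, 31, true), (7, 34, true), (6, 35, true), (8, 23, true), (7, 24, true), (6, 27, true), (7, 47, true), (6, 48, true), (5, 53, true), (8, 23, true), (7, 24, true), (9, 12, true), (8, 13, true), (12, 6, true), (11, 7, true), (10, 8, true), (9, 9, true), (11, 0, true), (10, 79, true), (9, 80, true), (8, 82, true), (7, 84, true), (6, 86, true), (5, 87, true), (4, 88, true), (3, 89, true), (9, 55, true), (8, 58, true), (7, 61, true), (6, 62, true), (5, 65, true), (8, 45, true), (7, 48, true), (6, 51, true), (5, 52, true), (9, 36, true), (8, 39, true), (7, 42, true), (6, 43, true), (10, 28, true), (9, 31, true), (8, 34, true), (7, 35, true), (9, 21, true), (8, 24, true), (7, 27, true), (8, 6, true), (7, 9, true), (7, 0, true), (7, 42, true), (6, 44, true), (8, 57, true), (7, 60, true), (6, 61, true), (5, 64, true), (9, 17, true), (8, 20, true), (8, 12, true), (9, 8, true), (10, 5, true), (11, 15, true), (10,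 16, true), (9, 18, true), (8, 19, true), (12, 10, true), (11, 11, true), (10, 13, true), (9, 14, true), (11, 6, true), (10, 7, true), (9, 9, true), (10, 0, true), (9, 56, true), (8, 60, true), (7, 61, true), (6, 64, true), (5, 65, true), (8, 46, true), (7, 50, true), (6, 51, true), (5, 54, true), (7, 16, true), (6, 20, true), (6, 2, true), (6, 21, true), (5, 27, true), (5, 15, true), (6, 21, true), (5, 26, true), (7, 10, true), (8, 0, true), (7, 49, true), (6, 50, true), (5, 51, true), (8, 40, true), (7, 41, true), (6, 42, true), (9, 32, true), (8, 33, true), (7, 34, true), (10, 25, true), (9, 26, true), (8, 27, true), (9, 14, true), (12, 36, true), (11, 37, true), (10, 38, true), (9, 39, true), (8, 41, true), (7, 43, true), (6, 44, true), (11, 28, true), (10, 29, true), (9, 30, true), (8, 31, true), (7, 33, true), (6, 35, true), (10, 0, true), (9, 16, true), (8, 17, true), (7, 18, true), (6, 20, true), (8, 2, true), (8, 105, true), (7, 107, true), (6, 108, true), (5, 114, true), (4, 116, true), (3, 117, true), (2, 118, true), (1, 119,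 true), (6, 91, true), (5, 93, true), (4, 95, true), (3, 96, true), (2, 99, true), (1, 101, true), (6, 48, true), (5, 49, true), (4, 50, true), (3, 52, true), (7, 24, true), (6, 25, true), (5, 26, true), (8, 13, true), (7, 14, true), (9, 45, true), (8, 46, true), (7, 48, true), (6, 50, true), (5, 51, true), (4, 52, true), (3, 54, true), (8, 36, true), (7, 37, true), (6, 39, true), (5, 41, true), (4, 42, true), (3, 43, true), (9, 28, true), (8, 29, true), (7, 31, true), (6, 33, true), (5, 34, true), (4, 35, true), (8, 21, true), (7, 22, true), (6, 24, true), (5, 26, true), (4, 27, true), (7, 10, true), (6, 11, true), (5, 13, true), (8, 3, true), (7, 4, true), (9, 1, true), (8, 2, true), (8, 0, true), (7, 8, true), (6, 9, true), (7, 78, true), (6, 80, true), (5, 82, true), (4, 83, true), (3, 86, true), (2, 88, true), (3, 65, true), (8, 45, true), (7, 48, true), (6, 51, true), (5, 52, true), (4, 53, true), (3, 54, true), (7, 36, true), (6, 39, true), (5, 42, true), (4, 43, true), (3, 44, true), (6, 28, true), (5, 31, true), (4, 34, true),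 (3, 35, true), (5, 21, true), (4, 24, true), (3, 27, true), (4, 15, true), (3, 18, true), (5, 3, true), (6, 1, true), (7, 36, true), (6, 37, true), (5, 38, true), (4, 39, true), (3, 41, true), (8, 15, true), (7, 16, true), (6, 17, true), (5, 18, true), (4, 20, true), (7, 3, true), (6, 4, true), (5, 5, true), (6, 55, true), (5, 56, true), (4, 58, true), (3, 63, true), (7, 15, true), (6, 16, true), (5, 18, true), (8, 10, true), (7, 11, true), (6, 13, true), (9, 6, true), (8, 7, true), (7, 9, true), (8, 3, true), (7, 4, true), (9, 1, true), (8, 2, true), (8, 0, true), (8, 36, true), (7, 38, true), (6, 40, true), (5, 41, true), (4, 44, true), (7, 21, true), (6, 23, true), (5, 25, true), (4, 26, true), (8, 15, true), (7, 17, true), (6, 19, true), (5, 20, true), (7, 10, true), (6, 12, true), (5, 14, true), (6, 3, true), (5, 5, true), (5, 66, true), (4, 72, true), (3, 76, true), (6, 28, true), (5, 34, true), (7, 45, true), (6, 51, true), (5, 52, true), (8, 36, true), (7, 42, true), (6, 43, true), (9, 10, true), (10, 6, true), (11, 3, true),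 (12, 1, true), (13, 15, true), (12, 16, true), (11, 17, true), (10, 18, true), (9, 19, true), (14, 1, true), (13, 2, true), (13, 55, true), (12, 57, true), (11, 58, true), (10, 59, true), (9, 60, true), (8, 61, true), (7, 62, true), (6, 63, true), (5, 64, true), (4, 65, true), (12, 36, true), (11, 38, true), (10, 39, true), (9, 40, true), (8, 41, true), (7, 42, true), (6, 43, true), (5, 44, true), (11, 10, true), (10, 12, true), (9, 13, true), (8, 14, true), (10, 6, true), (9, 8, true), (8, 9, true), (9, 1, true), (10, 0, true), (10, 91, true), (9, 92, true), (8, 93, true), (7, 96, true), (6, 97, true), (5, 98, true), (4, 100, true), (3, 102, true), (2, 103, true), (1, 104, true), (6, 78, true), (5, 80, true), (4, 82, true), (3, 83, true), (2, 86, true), (1, 88, true), (2, 65, true), (7, 45, true), (6, 48, true), (5, 51, true), (4, 52, true), (3, 53, true), (2, 54, true), (6, 36, true), (5, 39, true), (4, 42, true), (3, 43, true), (2, 44, true), (5, 28, true), (4, 31, true), (3, 34, true), (2, 35, true), (4, 21, true), (3, 24, true),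 (2, 27, true), (3, 15, true), (2, 18, true), (4, 3, true), (5, 1, true), (6, 36, true), (5, 37, true), (4, 38, true), (3, 39, true), (2, 41, true), (7, 15, true), (6, 16, true), (5, 17, true), (4, 18, true), (3, 20, true), (6, 3, true), (5, 4, true), (4, 5, true), (5, 55, true), (4, 56, true), (3, 58, true), (2, 63, true), (6, 15, true), (5, 16, true), (4, 18, true), (7, 10, true), (6, 11, true), (5, 13, true), (8, 6, true), (7, 7, true), (6, 9, true), (7, 3, true), (6, 4, true), (8, 1, true), (7, 2, true), (7, 0, true), (7, 28, true), (6, 30, true), (5, 32, true), (4, 33, true), (8, 66, true), (7, 68, true), (6, 70, true), (5, 71, true), (4, 73, true), (3, 74, true), (2, 76, true), (6, 28, true), (5, 31, true), (4, 35, true), (5, 45, true), (4, 48, true), (6, 10, true), (5, 13, true), (7, 1, true), (8, 45, true), (7, 46, true), (6, 48, true), (5, 49, true), (4, 54, true), (7, 36, true), (6, 37, true), (5, 39, true), (4, 40, true), (8, 28, true), (7, 29, true), (6, 31, true), (5, 32, true), (9, 10, true), (8, 11, true), (7, 13, true),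 (6, 14, true), (8, 3, true), (7, 4, true), (9, 1, true), (8, 2, true), (8, 15, true), (7, 17, true), (6, 18, true), (9, 10, true), (8, 12, true), (7, 13, true), (10, 6, true), (9, 8, true), (8, 9, true), (9, 0, true), (9, 36, true), (8, 38, true), (7, 40, true), (6, 41, true), (5, 43, true), (4, 44, true), (8, 21, true), (7, 23, true), (6, 25, true), (5, 26, true), (9, 15, true), (8, 17, true), (7, 19, true), (6, 20, true), (8, 10, true), (7, 12, true), (6, 14, true), (7, 3, true), (6, 5, true), (6, 55, true), (5, 61, true), (4, 62, true), (3, 65, true), (5, 28, true), (4, 34, true), (3, 35, true), (4, 21, true), (3, 27, true), (3, 15, true), (4, 10, true), (5, 6, true), (6, 3, true), (7, 1, true), (8, 28, true), (7, 29, true), (6, 30, true), (5, 31, true), (4, 32, true), (3, 33, true), (9, 21, true), (8, 22, true), (7, 23, true), (6, 24, true), (5, 25, true), (4, 26, true), (10, 45, true), (9, 46, true), (8, 47, true), (7, 48, true), (6, 49, true), (5, 50, true), (4, 51, true), (3, 52, true), (11, 21, true), (10, 22, true), (9, 23,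 true), (8, 24, true), (7, 25, true), (6, 26, true), (5, 27, true), (10, 10, true), (9, 11, true), (8, 12, true), (7, 13, true), (6, 14, true), (9, 1, true), (8, 2, true), (8, 0, true), (7, 8, true), (6, 9, true), (6, 57, true), (5, 60, true), (4, 62, true), (3, 64, true), (7, 47, true), (6, 50, true), (5, 52, true), (4, 54, true), (6, 38, true), (5, 41, true), (4, 43, true), (7, 23, true), (6, 26, true), (8, 8, true), (10, 78, true), (9, 80, true), (8, 81, true), (7, 83, true), (6, 84, true), (5, 85, true), (4, 86, true), (3, 88, true), (2, 89, true), (1, 90, true), (1, 76, true), (2, 65, true), (8, 28, true), (7, 31, true), (6, 34, true), (5, 35, true), (7, 21, true), (6, 24, true), (5, 27, true), (6, 45, true), (5, 48, true), (4, 53, true), (3, 54, true), (5, 36, true), (4, 39, true), (3, 44, true), (4, 28, true), (3, 31, true), (5, 21, true), (4, 24, true), (6, 15, true), (5, 18, true), (7, 3, true), (8, 1, true), (9, 45, true), (8, 46, true), (7, 47, true), (6, 48, true), (5, 50, true), (4, 51, true), (3, 52, true), (10, 28, true),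 (9, 29, true), (8, 30, true), (7, 31, true), (6, 33, true), (5, 34, true), (4, 35, true), (9, 21, true), (8, 22, true), (7, 23, true), (6, 24, true), (5, 26, true), (4, 27, true), (8, 0, true), (7, 56, true), (6, 57, true), (5, 58, true), (4, 60, true), (3, 64, true), (2, 65, true), (6, 16, true), (5, 17, true), (4, 18, true), (3, 20, true), (5, 11, true), (4, 12, true), (3, 13, true), (6, 7, true), (5, 8, true), (4, 9, true), (5, 4, true), (4, 5, true), (4, 2, true), (4, 0, true), (3, 70, true), (2, 75, true), (1, 77, true), (1, 65, true), (5, 45, true), (4, 48, true), (3, 52, true), (2, 53, true), (1, 54, true), (4, 36, true), (3, 39, true), (2, 43, true), (1, 44, true), (3, 28, true), (2, 31, true), (1, 35, true), (2, 10, true), (1, 13, true), (3, 3, true), (4, 1, true), (5, 45, true), (4, 46, true), (3, 47, true), (2, 48, true), (1, 49, true), (6, 10, true), (5, 11, true), (4, 12, true), (3, 13, true), (2, 14, true), (5, 1, true), (4, 2, true), (4, 0, true)]),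
    ([21, 11, 3, 1, 16], [(0, 201, true), (12, 206, true), (11, 136, true), (10, 137, true), (9, 138, true), (8, 139, true), (7, 141, true), (6, 143, true), (5, 144, true), (4, 145, true), (3, 148, true), (2, 150, true), (1, 151, true), (0, 152, true), (1, 120, true), (0, 126, true), (2, 105, true), (1, 111, true), (3, 91, true), (2, 97, true), (4, 66, true), (3, 72, true), (5, 55, true), (4, 61, true), (6, 36, true), (5, 42, true), (7, 21, true), (6, 27, true), (6, 3, true), (7, 0, true), (6, 93, true), (5, 99, true), (4, 101, true), (3, 102, true), (2, 104, true), (7, 66, true), (6, 68, true), (5, 70, true), (4, 71, true), (3, 74, true), (2, 76, true), (6, 45, true), (5, 48, true), (4, 52, true), (7, 10, true), (6, 13, true), (8, 1, true), (9, 45, true), (8, 46, true), (7, 48, true), (6, 49, true), (5, 52, true), (4, 54, true), (8, 36, true), (7, 37, true), (6, 39, true), (5, 40, true), (4, 43, true), (9, 28, true), (8, 29, true), (7, 31, true), (6, 32, true), (5, 35, true), (8, 10, true), (7, 11, true), (6, 13, true), (5, 14, true),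 (7, 3, true), (6, 4, true), (8, 1, true), (7, 2, true), (7, 15, true), (6, 17, true), (5, 18, true), (8, 10, true), (7, 12, true), (6, 13, true), (9, 6, true), (8, 8, true), (7, 9, true), (8, 0, true), (8, 36, true), (7, 38, true), (6, 40, true), (5, 41, true), (4, 44, true), (7, 21, true), (6, 23, true), (5, 25, true), (4, 26, true), (8, 15, true), (7, 17, true), (6, 19, true), (5, 20, true), (7, 10, true), (6, 12, true), (5, 14, true), (6, 3, true), (5, 5, true), (5, 55, true), (4, 61, true), (3, 65, true), (4, 28, true), (3, 34, true), (5, 15, true), (6, 10, true), (7, 6, true), (8, 6, true), (7, 9, true), (7, 78, true), (6, 82, true), (5, 83, true), (4, 84, true), (3, 85, true), (2, 89, true), (5, 51, true), (4, 52, true), (6, 42, true), (5, 43, true), (7, 34, true), (6, 35, true), (6, 27, true), (8, 37, true), (7, 38, true), (6, 41, true), (5, 44, true), (7, 16, true), (6, 17, true), (5, 20, true), (6, 4, true), (5, 5, true), (6, 66, true), (5, 67, true), (4, 75, true), (3, 77, true), (3, 65, true), (7, 55, true), (6, 58, true),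 (5, 62, true), (4, 63, true), (3, 64, true), (8, 15, true), (7, 18, true), (9, 10, true), (8, 13, true), (10, 6, true), (9, 9, true), (9, 3, true), (10, 1, true), (11, 0, true), (11, 55, true), (10, 56, true), (9, 57, true), (8, 59, true), (7, 60, true), (6, 62, true), (5, 63, true), (4, 64, true), (3, 65, true), (10, 36, true), (9, 37, true), (8, 38, true), (7, 40, true), (6, 41, true), (5, 43, true), (4, 44, true), (9, 28, true), (8, 29, true), (7, 30, true), (6, 32, true), (5, 33, true), (4, 35, true), (8, 21, true), (7, 22, true), (6, 23, true), (5, 25, true), (4, 26, true), (9, 3, true), (8, 4, true), (7, 5, true), (8, 0, true), (7, 46, true), (6, 49, true), (5, 50, true), (4, 51, true), (3, 54, true), (6, 22, true), (5, 25, true), (4, 26, true), (3, 27, true), (5, 16, true), (4, 19, true), (3, 20, true), (5, 28, true), (4, 29, true), (3, 32, true), (6, 3, true), (5, 4, true), (7, 0, true), (6, 29, true), (5, 30, true), (4, 32, true), (3, 35, true), (5, 16, true), (4, 17, true), (3, 19, true), (6, 46, true), (5, 47, true), (4,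 49, true), (3, 50, true), (7, 37, true), (6, 38, true), (5, 40, true), (4, 41, true), (8, 29, true), (7, 30, true), (6, 32, true), (5, 33, true), (9, 22, true), (8, 23, true), (7, 25, true), (6, 26, true), (10, 11, true), (9, 12, true), (8, 14, true), (9, 7, true), (8, 8, true), (10, 4, true), (9, 5, true), (9, 2, true), (9, 36, true), (8, 39, true), (7, 41, true), (6, 42, true), (5, 43, true), (4, 44, true), (8, 28, true), (7, 31, true), (6, 33, true), (5, 34, true), (4, 35, true), (7, 0, true), (6, 18, true), (5, 20, true), (7, 91, true), (6, 92, true), (5, 94, true), (4, 97, true), (3, 100, true), (2, 103, true), (4, 62, true), (5, 35, true), (10, 22, true), (9, 23, true), (8, 24, true), (7, 25, true), (6, 26, true), (5, 27, true), (9, 4, true), (8, 5, true), (8, 56, true), (7, 58, true), (6, 59, true), (5, 60, true), (4, 65, true), (7, 46, true), (6, 48, true), (5, 49, true), (4, 50, true), (8, 37, true), (7, 39, true), (6, 40, true), (5, 41, true), (9, 22, true), (8, 24, true), (7, 25, true), (6, 26, true), (10, 7, true), (9, 9,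 true), (10, 66, true), (9, 67, true), (8, 70, true), (7, 71, true), (6, 72, true), (5, 74, true), (4, 75, true), (10, 28, true), (9, 31, true), (8, 35, true), (9, 6, true), (8, 9, true), (8, 0, true), (8, 51, true), (7, 53, true), (6, 54, true), (9, 46, true), (8, 49, true), (7, 51, true), (6, 53, true), (10, 37, true), (9, 40, true), (8, 42, true), (7, 44, true), (9, 29, true), (8, 32, true), (7, 34, true), (10, 11, true), (9, 14, true), (9, 4, true), (10, 2, true), (9, 57, true), (8, 61, true), (7, 62, true), (6, 64, true), (5, 65, true), (8, 17, true), (9, 12, true), (10, 8, true), (11, 5, true), (12, 0, true), (11, 56, true), (10, 58, true), (9, 59, true), (8, 60, true), (7, 61, true), (6, 62, true), (5, 64, true), (12, 46, true), (11, 48, true), (10, 49, true), (9, 50, true), (8, 51, true), (7, 52, true), (6, 54, true), (11, 29, true), (10, 31, true), (9, 32, true), (8, 33, true), (7, 34, true), (6, 35, true), (10, 22, true), (9, 24, true), (8, 25, true), (7, 26, true), (6, 27, true), (9, 16, true), (8, 18, true), (7, 19, true),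 (6, 20, true), (8, 11, true), (7, 13, true), (6, 14, true), (7, 2, true)], [(3, 137, true), (2, 139, true), (1, 147, true), (9, 45, true), (8, 46, true), (7, 50, true), (6, 54, true), (8, 36, true), (7, 37, true), (6, 41, true), (9, 28, true), (8, 29, true), (7, 33, true), (10, 21, true), (9, 22, true), (8, 26, true), (11, 10, true), (10, 11, true), (12, 6, true), (11, 7, true), (13, 3, true), (12, 4, true), (14, 1, true), (13, 2, true), (13, 0, true), (12, 17, true), (11, 18, true), (10, 19, true), (9, 20, true), (9, 13, false), (10, 12, false), (11, 11, false), (8, 24, false), (9, 23, false), (10, 22, false), (9, 4, false), (6, 43, false), (7, 39, false), (8, 37, false), (5, 77, false), (6, 73, false), (5, 73, false), (3, 103, false), (0, 206, true), (10, 204, true), (20, 203, true), (31, 201, true), (43, 198, true), (51, 196, true), (52, 194, true), (9, 137, true), (8, 140, true), (7, 141, true), (6, 142, true), (5, 143, true), (4, 145, true), (3, 146, true), (2, 147, true), (1, 149, true), (0, 152, true), (1, 105, true), (0, 111,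 true), (2, 78, true), (1, 84, true), (3, 66, true), (2, 72, true), (4, 55, true), (3, 61, true), (5, 45, true), (4, 51, true), (6, 28, true), (5, 34, true), (7, 15, true), (8, 1, true), (9, 0, true), (8, 106, true), (7, 110, true), (6, 111, true), (5, 112, true), (4, 114, true), (3, 115, true), (2, 116, true), (1, 117, true), (0, 119, true), (5, 78, true), (4, 80, true), (3, 82, true), (2, 83, true), (1, 86, true), (0, 88, true), (1, 65, true), (6, 45, true), (5, 48, true), (4, 51, true), (3, 52, true), (2, 53, true), (1, 54, true), (5, 36, true), (4, 39, true), (3, 42, true), (2, 43, true), (1, 44, true), (4, 28, true), (3, 31, true), (2, 34, true), (1, 35, true), (3, 21, true), (2, 24, true), (1, 27, true), (2, 15, true), (1, 18, true), (3, 3, true), (4, 1, true), (5, 36, true), (4, 37, true), (3, 38, true), (2, 39, true), (1, 41, true), (6, 15, true), (5, 16, true), (4, 17, true), (3, 18, true), (2, 20, true), (5, 3, true), (4, 4, true), (3, 5, true), (4, 55, true), (3, 56, true), (2, 58, true), (1, 63, true), (5, 15, true), (4,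 16, true), (3, 18, true), (6, 10, true), (5, 11, true), (4, 13, true), (7, 6, true), (6, 7, true), (5, 9, true), (6, 3, true), (5, 4, true), (7, 1, true), (6, 2, true), (6, 0, true), (6, 36, true), (5, 38, true), (4, 40, true), (3, 41, true), (2, 44, true), (5, 21, true), (4, 23, true), (3, 25, true), (2, 26, true), (6, 15, true), (5, 17, true), (4, 19, true), (3, 20, true), (5, 10, true), (4, 12, true), (3, 14, true), (4, 3, true), (3, 5, true), (3, 66, true), (2, 72, true), (1, 76, true), (4, 28, true), (3, 34, true), (5, 55, true), (4, 61, true), (3, 62, true), (2, 65, true), (4, 45, true), (3, 51, true), (2, 52, true), (5, 36, true), (4, 42, true), (3, 43, true), (6, 10, true), (7, 6, true), (8, 3, true), (9, 1, true), (10, 28, true), (9, 29, true), (8, 30, true), (7, 31, true), (6, 32, true), (5, 34, true), (4, 35, true), (9, 21, true), (8, 22, true), (7, 23, true), (6, 24, true), (5, 25, true), (4, 27, true), (8, 45, true), (7, 46, true), (6, 47, true), (5, 48, true), (4, 49, true), (3, 53, true), (2, 54, true), (7, 36, true),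 (6, 37, true), (5, 38, true), (4, 39, true), (3, 40, true), (2, 44, true), (6, 28, true), (5, 29, true), (4, 30, true), (3, 31, true), (2, 32, true), (7, 15, true), (6, 16, true), (5, 17, true), (4, 18, true), (3, 19, true), (8, 3, true), (7, 4, true), (6, 5, true), (7, 1, true), (6, 2, true), (6, 0, true), (5, 48, true), (4, 49, true), (3, 50, true), (2, 52, true), (6, 39, true), (5, 40, true), (4, 41, true), (3, 43, true), (7, 31, true), (6, 32, true), (5, 33, true), (4, 35, true), (6, 18, true), (5, 19, true), (4, 20, true), (5, 9, true), (7, 91, true), (6, 92, true), (5, 93, true), (4, 95, true), (3, 99, true), (2, 100, true), (1, 102, true), (0, 103, true), (2, 73, true), (3, 43, true), (8, 57, true), (7, 59, true), (6, 60, true), (5, 61, true), (4, 62, true), (3, 63, true), (9, 30, true), (8, 32, true), (7, 33, true), (6, 34, true), (5, 35, true), (8, 23, true), (7, 25, true), (6, 26, true), (5, 27, true), (7, 17, true), (6, 19, true), (5, 20, true), (6, 12, true), (5, 14, true), (5, 8, true), (6, 5, true), (6, 29, true), (5,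 31, true), (7, 16, true), (6, 18, true), (8, 11, true), (7, 13, true), (9, 7, true), (8, 9, true), (8, 46, true), (7, 49, true), (6, 50, true), (5, 52, true), (4, 53, true), (9, 37, true), (8, 40, true), (7, 41, true), (6, 43, true), (5, 44, true), (8, 29, true), (7, 32, true), (6, 33, true), (5, 35, true), (7, 22, true), (6, 25, true), (5, 26, true), (8, 11, true), (7, 14, true), (7, 4, true), (8, 2, true), (8, 6, true), (7, 8, true), (9, 55, true), (8, 57, true), (7, 58, true), (6, 60, true), (5, 61, true), (4, 64, true), (3, 65, true), (8, 45, true), (7, 47, true), (6, 48, true), (5, 50, true), (4, 51, true), (3, 54, true), (7, 36, true), (6, 38, true), (5, 39, true), (4, 41, true), (3, 42, true), (8, 21, true), (7, 23, true), (6, 24, true), (5, 26, true), (4, 27, true), (7, 6, true), (6, 8, true), (5, 9, true), (6, 0, true), (5, 80, true), (4, 83, true), (3, 86, true), (2, 89, true), (1, 90, true), (1, 76, true), (2, 65, true), (7, 45, true), (6, 48, true), (5, 51, true), (4, 52, true), (3, 53, true), (2, 54, true), (6, 36, true),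 (5, 39, true), (4, 42, true), (3, 43, true), (2, 44, true), (5, 28, true), (4, 31, true), (3, 34, true), (2, 35, true), (4, 21, true), (3, 24, true), (2, 27, true), (3, 15, true), (2, 18, true), (4, 3, true), (5, 1, true), (6, 55, true), (5, 56, true), (4, 57, true), (3, 58, true), (2, 60, true), (7, 15, true), (6, 16, true), (5, 17, true), (4, 18, true), (3, 20, true), (6, 10, true), (5, 11, true), (4, 12, true), (3, 13, true), (7, 6, true), (6, 7, true), (5, 8, true), (4, 9, true), (6, 3, true), (5, 4, true), (4, 5, true), (5, 1, true), (4, 2, true), (4, 0, true), (3, 59, true), (2, 65, true), (2, 49, true), (3, 19, true), (6, 55, true), (5, 56, true), (4, 59, true), (3, 60, true), (2, 64, true), (7, 45, true), (6, 46, true), (5, 49, true), (4, 50, true), (3, 54, true), (6, 15, true), (5, 16, true), (4, 19, true), (3, 20, true), (5, 10, true), (4, 11, true), (3, 14, true), (4, 1, true), (3, 2, true), (3, 0, true), (6, 28, true), (5, 33, true), (4, 34, true), (7, 21, true), (6, 26, true), (5, 27, true), (6, 15, true), (5, 20, true),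 (5, 21, true), (6, 10, true), (7, 0, true), (6, 19, true), (8, 121, true), (7, 124, true), (6, 125, true), (5, 126, true), (4, 127, true), (3, 129, true), (2, 130, true), (1, 131, true), (0, 133, true), (2, 91, true), (1, 102, true), (8, 0, true), (7, 57, true), (6, 59, true), (5, 60, true), (4, 61, true), (3, 63, true), (8, 38, true), (7, 40, true), (6, 41, true), (5, 42, true), (4, 44, true), (7, 17, true), (6, 19, true), (5, 20, true), (6, 12, true), (5, 14, true), (5, 5, true), (5, 28, true), (4, 34, true), (6, 21, true), (5, 27, true), (5, 1, true), (6, 0, true), (5, 29, true), (4, 35, true), (4, 22, true), (5, 22, true), (4, 27, true), (4, 16, true), (6, 10, true), (5, 11, true), (7, 45, true), (6, 46, true), (5, 49, true), (4, 50, true), (8, 28, true), (7, 29, true), (6, 32, true), (5, 33, true), (9, 21, true), (8, 22, true), (7, 25, true), (6, 26, true), (10, 0, true), (9, 106, true), (8, 109, true), (7, 110, true), (6, 111, true), (5, 112, true), (4, 114, true), (3, 115, true), (2, 116, true), (1, 118, true), (4, 62, true),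 (5, 52, true), (6, 43, true), (11, 29, true), (10, 30, true), (9, 31, true), (8, 32, true), (7, 35, true), (10, 22, true), (9, 23, true), (8, 24, true), (7, 25, true), (11, 46, true), (10, 47, true), (9, 48, true), (8, 49, true), (7, 51, true), (6, 53, true), (5, 54, true), (10, 37, true), (9, 38, true), (8, 39, true), (7, 40, true), (6, 42, true), (5, 44, true), (9, 29, true), (8, 30, true), (7, 31, true), (6, 32, true), (5, 34, true), (10, 16, true), (9, 17, true), (8, 18, true), (7, 19, true), (11, 4, true), (10, 5, true), (10, 2, true), (10, 36, true), (9, 39, true), (8, 40, true), (7, 41, true), (6, 42, true), (5, 43, true), (11, 15, true), (10, 18, true), (9, 19, true), (8, 20, true), (10, 3, true), (11, 45, true), (10, 47, true), (9, 48, true), (8, 49, true), (7, 51, true), (6, 52, true), (5, 53, true), (12, 36, true), (11, 38, true), (10, 39, true), (9, 40, true), (8, 42, true), (7, 43, true), (6, 44, true), (11, 28, true), (10, 30, true), (9, 31, true), (8, 32, true), (7, 34, true), (6, 35, true), (10, 15, true), (9, 17, true),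 (8, 18, true), (7, 19, true), (11, 6, true), (10, 8, true), (9, 9, true), (10, 3, true), (9, 5, true), (9, 1, true), (10, 0, true), (9, 79, true), (8, 82, true), (7, 83, true), (6, 84, true), (5, 87, true), (4, 88, true), (3, 89, true), (9, 21, true), (8, 24, true), (7, 27, true), (8, 45, true), (7, 48, true), (6, 52, true), (9, 36, true), (8, 39, true), (7, 43, true), (10, 28, true), (9, 31, true), (8, 35, true), (9, 21, true), (8, 24, true), (10, 15, true), (9, 18, true), (11, 3, true), (12, 1, true), (13, 36, true), (12, 37, true), (11, 38, true), (10, 39, true), (9, 41, true), (8, 42, true), (7, 44, true), (12, 15, true), (11, 16, true), (10, 17, true), (9, 18, true), (8, 20, true), (11, 3, true), (10, 4, true), (9, 5, true), (10, 15, true), (9, 16, true), (8, 18, true), (11, 10, true), (10, 11, true), (9, 13, true), (12, 6, true), (11, 7, true), (10, 9, true), (11, 0, true), (10, 56, true), (9, 59, true), (8, 60, true), (7, 61, true), (6, 64, true), (5, 65, true), (9, 29, true), (8, 32, true), (7, 33, true), (6, 34, true), (10,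 16, true), (9, 19, true), (8, 20, true), (9, 11, true), (8, 14, true), (8, 2, true), (8, 136, true), (7, 142, true), (6, 143, true), (5, 145, true), (4, 147, true), (3, 148, true), (2, 149, true), (1, 150, true), (0, 151, true), (9, 105, true), (8, 107, true), (7, 111, true), (6, 113, true), (5, 115, true), (4, 116, true), (3, 118, true), (2, 119, true), (7, 91, true), (6, 93, true), (5, 95, true), (4, 96, true), (3, 99, true), (2, 101, true), (7, 48, true), (6, 49, true), (5, 50, true), (4, 52, true), (8, 24, true), (7, 25, true), (6, 26, true), (9, 13, true), (8, 14, true), (10, 45, true), (9, 46, true), (8, 48, true), (7, 50, true), (6, 51, true), (5, 52, true), (4, 54, true), (9, 36, true), (8, 37, true), (7, 39, true), (6, 41, true), (5, 42, true), (4, 43, true), (10, 28, true), (9, 29, true), (8, 31, true), (7, 33, true), (6, 34, true), (5, 35, true), (9, 21, true), (8, 22, true), (7, 24, true), (6, 26, true), (5, 27, true), (8, 10, true), (7, 11, true), (6, 13, true), (9, 3, true), (8, 4, true), (10, 1, true), (9, 2, true), (9,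 0, true), (8, 8, true), (7, 9, true), (8, 66, true), (7, 68, true), (6, 70, true), (5, 71, true), (4, 74, true), (3, 76, true), (7, 45, true), (6, 48, true), (5, 52, true), (8, 10, true), (7, 13, true), (9, 1, true), (10, 45, true), (9, 46, true), (8, 48, true), (7, 49, true), (6, 52, true), (5, 54, true), (9, 36, true), (8, 37, true), (7, 39, true), (6, 40, true), (5, 43, true), (10, 28, true), (9, 29, true), (8, 31, true), (7, 32, true), (6, 35, true), (9, 10, true), (8, 11, true), (7, 13, true), (6, 14, true), (8, 3, true), (7, 4, true), (9, 1, true), (8, 2, true), (8, 15, true), (7, 17, true), (6, 18, true), (9, 10, true), (8, 12, true), (7, 13, true), (10, 6, true), (9, 8, true), (8, 9, true), (9, 0, true), (9, 28, true), (8, 30, true), (7, 32, true), (6, 33, true), (10, 55, true), (9, 57, true), (8, 59, true), (7, 60, true), (6, 62, true), (5, 63, true), (4, 65, true), (9, 55, true), (8, 57, true), (7, 59, true), (6, 60, true), (5, 62, true), (4, 63, true), (10, 45, true), (9, 47, true), (8, 49, true), (7, 50, true), (6, 52, true),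 (5, 53, true), (11, 28, true), (10, 30, true), (9, 32, true), (8, 33, true), (7, 35, true), (10, 15, true), (9, 17, true), (8, 19, true), (7, 20, true), (9, 6, true), (8, 8, true), (10, 3, true), (9, 5, true), (9, 21, true), (8, 24, true), (7, 25, true), (10, 55, true), (9, 58, true), (8, 59, true), (7, 61, true), (6, 63, true), (5, 64, true), (4, 65, true), (9, 36, true), (8, 39, true), (7, 40, true), (6, 42, true), (5, 44, true), (8, 10, true), (7, 13, true), (6, 14, true), (7, 6, true), (6, 9, true), (6, 1, true), (7, 0, true), (7, 78, true), (6, 79, true), (5, 84, true), (4, 87, true), (3, 89, true), (8, 21, true), (7, 24, true), (6, 27, true), (7, 15, true), (6, 18, true), (8, 10, true), (7, 13, true), (9, 6, true), (8, 9, true), (8, 0, true), (8, 66, true), (7, 70, true), (6, 71, true), (5, 73, true), (4, 77, true), (5, 52, true), (8, 46, true), (7, 49, true), (6, 52, true), (5, 54, true), (7, 37, true), (6, 40, true), (5, 43, true), (8, 29, true), (7, 32, true), (6, 35, true), (7, 11, true), (6, 14, true), (6, 4, true), (7, 2,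 true), (7, 55, true), (6, 57, true), (5, 63, true), (4, 65, true), (6, 45, true), (5, 47, true), (4, 53, true), (7, 28, true), (6, 30, true), (8, 15, true), (7, 17, true), (9, 1, true), (10, 0, true), (9, 92, true), (8, 93, true), (7, 96, true), (6, 98, true), (5, 99, true), (4, 100, true), (3, 103, true), (2, 104, true), (7, 78, true), (6, 80, true), (5, 82, true), (4, 83, true), (3, 86, true), (2, 88, true), (3, 65, true), (8, 45, true), (7, 48, true), (6, 51, true), (5, 52, true), (4, 53, true), (3, 54, true), (7, 36, true), (6, 39, true), (5, 42, true), (4, 43, true), (3, 44, true), (6, 28, true), (5, 31, true), (4, 34, true), (3, 35, true), (5, 21, true), (4, 24, true), (3, 27, true), (4, 15, true), (3, 18, true), (5, 3, true), (6, 1, true), (7, 36, true), (6, 37, true), (5, 38, true), (4, 39, true), (3, 41, true), (8, 15, true), (7, 16, true), (6, 17, true), (5, 18, true), (4, 20, true), (7, 3, true), (6, 4, true), (5, 5, true), (6, 55, true), (5, 56, true), (4, 58, true), (3, 63, true), (7, 15, true), (6, 16, true), (5, 18, true),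 (8, 10, true), (7, 11, true), (6, 13, true), (9, 6, true), (8, 7, true), (7, 9, true), (8, 3, true), (7, 4, true), (9, 1, true), (8, 2, true), (8, 0, true), (8, 28, true), (7, 30, true), (6, 32, true), (5, 33, true), (9, 55, true), (8, 57, true), (7, 59, true), (6, 60, true), (5, 62, true), (4, 63, true), (3, 65, true), (8, 28, true), (7, 30, true), (6, 32, true), (5, 33, true), (4, 35, true), (7, 21, true), (6, 23, true), (5, 25, true), (4, 26, true), (8, 15, true), (7, 17, true), (6, 19, true), (5, 20, true), (7, 10, true), (6, 12, true), (5, 14, true), (6, 6, true), (5, 8, true), (7, 3, true), (6, 5, true), (6, 1, true), (7, 28, true), (6, 29, true), (5, 31, true), (4, 34, true), (8, 15, true), (7, 16, true), (6, 18, true), (9, 10, true), (8, 11, true), (7, 13, true), (10, 6, true), (9, 7, true), (8, 9, true), (9, 28, true), (8, 29, true), (7, 32, true), (6, 33, true), (5, 34, true), (4, 35, true), (8, 45, true), (7, 46, true), (6, 49, true), (5, 50, true), (4, 51, true), (3, 53, true), (9, 21, true), (8, 22, true), (7, 25, true),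 (6, 26, true), (5, 27, true), (8, 10, true), (7, 11, true), (6, 14, true), (7, 1, true), (6, 2, true), (6, 0, true), (6, 58, true), (5, 60, true), (4, 63, true), (3, 64, true), (7, 48, true), (6, 50, true), (5, 53, true), (4, 54, true), (6, 39, true), (5, 41, true), (4, 44, true), (5, 24, true), (4, 26, true), (6, 9, true), (5, 83, true), (4, 84, true), (3, 88, true), (2, 90, true), (2, 65, true), (2, 51, true), (3, 42, true), (4, 34, true), (5, 27, true), (7, 67, true), (6, 68, true), (5, 71, true), (4, 73, true), (3, 74, true), (2, 75, true), (8, 28, true), (7, 31, true), (6, 35, true), (7, 6, true), (6, 9, true), (6, 0, true), (6, 52, true), (5, 53, true), (4, 54, true), (7, 16, true), (6, 19, true), (8, 11, true), (7, 14, true), (7, 7, true), (9, 55, true), (8, 56, true), (7, 58, true), (6, 60, true), (5, 62, true), (4, 63, true), (3, 65, true), (8, 15, true), (7, 16, true), (6, 18, true), (5, 20, true), (7, 10, true), (6, 11, true), (5, 13, true), (8, 6, true), (7, 7, true), (6, 9, true), (7, 3, true), (6, 4, true), (8, 1, true),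 (7, 2, true), (7, 0, true), (6, 57, true), (5, 59, true), (4, 62, true), (3, 63, true), (7, 38, true), (6, 40, true), (5, 43, true), (4, 44, true), (6, 30, true), (5, 32, true), (4, 35, true), (5, 23, true), (4, 25, true), (6, 5, true), (6, 105, true), (5, 109, true), (4, 111, true), (3, 115, true), (2, 116, true), (4, 62, true), (6, 42, true), (5, 43, true), (10, 91, true), (9, 93, true), (8, 96, true), (7, 97, true), (6, 98, true), (5, 99, true), (4, 101, true), (3, 102, true), (9, 57, true), (8, 59, true), (7, 60, true), (6, 61, true), (5, 63, true), (10, 30, true), (9, 32, true), (8, 33, true), (7, 34, true), (11, 17, true), (10, 19, true), (9, 20, true), (10, 12, true), (9, 14, true), (9, 8, true), (10, 30, true), (9, 31, true), (8, 34, true), (7, 35, true), (9, 23, true), (8, 24, true), (7, 27, true), (8, 47, true), (7, 48, true), (6, 53, true), (9, 23, true), (8, 24, true), (10, 12, true), (9, 13, true), (13, 6, true), (12, 7, true), (11, 8, true), (10, 9, true), (12, 0, true), (11, 79, true), (10, 80, true), (9, 82, true), (8,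 84, true), (7, 86, true), (6, 87, true), (5, 88, true), (4, 89, true), (10, 55, true), (9, 58, true), (8, 61, true), (7, 62, true), (6, 65, true), (9, 45, true), (8, 48, true), (7, 51, true), (6, 52, true), (10, 36, true), (9, 39, true), (8, 42, true), (7, 43, true), (11, 28, true), (10, 31, true), (9, 34, true), (8, 35, true), (10, 21, true), (9, 24, true), (8, 27, true), (9, 6, true), (8, 9, true), (8, 0, true), (8, 42, true), (7, 44, true), (9, 57, true), (8, 60, true), (7, 61, true), (6, 64, true), (10, 17, true), (9, 20, true), (9, 12, true), (10, 8, true), (11, 5, true), (12, 15, true), (11, 16, true), (10, 18, true), (9, 19, true), (13, 10, true), (12, 11, true), (11, 13, true), (10, 14, true), (12, 6, true), (11, 7, true), (10, 9, true), (11, 0, true), (10, 56, true), (9, 60, true), (8, 61, true), (7, 64, true), (6, 65, true), (9, 46, true), (8, 50, true), (7, 51, true), (6, 54, true), (8, 16, true), (7, 20, true), (7, 2, true), (7, 45, true), (6, 51, true), (8, 21, true), (7, 27, true), (7, 15, true), (8, 0, true), (7, 33,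 true), (8, 26, true), (10, 105, true), (9, 110, true), (8, 111, true), (7, 112, true), (6, 114, true), (5, 116, true), (4, 117, true), (3, 118, true), (2, 119, true), (7, 91, true), (6, 93, true), (5, 95, true), (4, 96, true), (3, 99, true), (2, 101, true), (7, 48, true), (6, 49, true), (5, 50, true), (4, 52, true), (8, 24, true), (7, 25, true), (6, 26, true), (9, 13, true), (8, 14, true), (10, 45, true), (9, 46, true), (8, 48, true), (7, 50, true), (6, 51, true), (5, 52, true), (4, 54, true), (9, 36, true), (8, 37, true), (7, 39, true), (6, 41, true), (5, 42, true), (4, 43, true), (10, 28, true), (9, 29, true), (8, 31, true), (7, 33, true), (6, 34, true), (5, 35, true), (9, 21, true), (8, 22, true), (7, 24, true), (6, 26, true), (5, 27, true), (8, 10, true), (7, 11, true), (6, 13, true), (9, 3, true), (8, 4, true), (10, 1, true), (9, 2, true), (9, 0, true), (8, 8, true), (7, 9, true), (8, 78, true), (7, 80, true), (6, 82, true), (5, 83, true), (4, 86, true), (3, 88, true), (4, 65, true), (9, 45, true), (8, 48, true), (7, 51, true),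 (6, 52, true), (5, 53, true), (4, 54, true), (8, 36, true), (7, 39, true), (6, 42, true), (5, 43, true), (4, 44, true), (7, 28, true), (6, 31, true), (5, 34, true), (4, 35, true), (6, 21, true), (5, 24, true), (4, 27, true), (5, 15, true), (4, 18, true), (6, 3, true), (7, 1, true), (8, 36, true), (7, 37, true), (6, 38, true), (5, 39, true), (4, 41, true), (9, 15, true), (8, 16, true), (7, 17, true), (6, 18, true), (5, 20, true), (8, 3, true), (7, 4, true), (6, 5, true), (7, 55, true), (6, 56, true), (5, 58, true), (4, 63, true), (8, 15, true), (7, 16, true), (6, 18, true), (9, 10, true), (8, 11, true), (7, 13, true), (10, 6, true), (9, 7, true), (8, 9, true), (9, 3, true), (8, 4, true), (10, 1, true), (9, 2, true), (9, 0, true), (9, 36, true), (8, 38, true), (7, 40, true), (6, 41, true), (5, 44, true), (8, 21, true), (7, 23, true), (6, 25, true), (5, 26, true), (9, 15, true), (8, 17, true), (7, 19, true), (6, 20, true), (8, 10, true), (7, 12, true), (6, 14, true), (7, 3, true), (6, 5, true), (6, 66, true), (5, 72, true), (4, 76, true),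 (7, 28, true), (6, 34, true), (8, 45, true), (7, 51, true), (6, 52, true), (9, 36, true), (8, 42, true), (7, 43, true), (10, 10, true), (11, 6, true), (12, 3, true), (13, 1, true), (14, 28, true), (13, 29, true), (12, 30, true), (11, 31, true), (10, 32, true), (9, 34, true), (8, 35, true), (13, 21, true), (12, 22, true), (11, 23, true), (10, 24, true), (9, 25, true), (8, 27, true), (12, 45, true), (11, 46, true), (10, 47, true), (9, 48, true), (8, 49, true), (7, 53, true), (6, 54, true), (11, 36, true), (10, 37, true), (9, 38, true), (8, 39, true), (7, 40, true), (6, 44, true), (10, 28, true), (9, 29, true), (8, 30, true), (7, 31, true), (6, 32, true), (11, 15, true), (10, 16, true), (9, 17, true), (8, 18, true), (7, 19, true), (12, 3, true), (11, 4, true), (10, 5, true), (11, 1, true), (10, 2, true), (10, 0, true), (10, 91, true), (9, 94, true), (8, 95, true), (7, 96, true), (6, 98, true), (5, 101, true), (4, 102, true), (3, 103, true), (2, 104, true), (7, 78, true), (6, 80, true), (5, 82, true), (4, 83, true), (3, 86, true), (2, 88,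 true), (3, 65, true), (8, 45, true), (7, 48, true), (6, 51, true), (5, 52, true), (4, 53, true), (3, 54, true), (7, 36, true), (6, 39, true), (5, 42, true), (4, 43, true), (3, 44, true), (6, 28, true), (5, 31, true), (4, 34, true), (3, 35, true), (5, 21, true), (4, 24, true), (3, 27, true), (4, 15, true), (3, 18, true), (5, 3, true), (6, 1, true), (7, 36, true), (6, 37, true), (5, 38, true), (4, 39, true), (3, 41, true), (8, 15, true), (7, 16, true), (6, 17, true), (5, 18, true), (4, 20, true), (7, 3, true), (6, 4, true), (5, 5, true), (6, 55, true), (5, 56, true), (4, 58, true), (3, 63, true), (7, 15, true), (6, 16, true), (5, 18, true), (8, 10, true), (7, 11, true), (6, 13, true), (9, 6, true), (8, 7, true), (7, 9, true), (8, 3, true), (7, 4, true), (9, 1, true), (8, 2, true), (8, 0, true), (8, 28, true), (7, 30, true), (6, 32, true), (5, 33, true), (9, 66, true), (8, 68, true), (7, 70, true), (6, 71, true), (5, 73, true), (4, 74, true), (3, 76, true), (7, 28, true), (6, 31, true), (5, 35, true), (6, 45, true), (5, 48, true), (7,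 10, true), (6, 13, true), (8, 1, true), (9, 45, true), (8, 46, true), (7, 48, true), (6, 49, true), (5, 54, true), (8, 36, true), (7, 37, true), (6, 39, true), (5, 40, true), (9, 28, true), (8, 29, true), (7, 31, true), (6, 32, true), (10, 10, true), (9, 11, true), (8, 13, true), (7, 14, true), (9, 3, true), (8, 4, true), (10, 1, true), (9, 2, true), (9, 15, true), (8, 17, true), (7, 18, true), (10, 10, true), (9, 12, true), (8, 13, true), (11, 6, true), (10, 8, true), (9, 9, true), (10, 0, true), (10, 36, true), (9, 38, true), (8, 40, true), (7, 41, true), (6, 43, true), (5, 44, true), (9, 21, true), (8, 23, true), (7, 25, true), (6, 26, true), (10, 15, true), (9, 17, true), (8, 19, true), (7, 20, true), (9, 10, true), (8, 12, true), (7, 14, true), (8, 3, true), (7, 5, true), (7, 55, true), (6, 61, true), (5, 62, true), (4, 65, true), (6, 28, true), (5, 34, true), (4, 35, true), (5, 45, true), (4, 51, true), (6, 21, true), (5, 27, true), (5, 10, true), (6, 1, true), (7, 0, true), (6, 46, true), (5, 49, true), (4, 54, true), (5, 37,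 true), (4, 40, true), (6, 29, true), (5, 32, true), (7, 22, true), (6, 25, true), (8, 11, true), (7, 14, true), (7, 4, true), (8, 2, true), (8, 3, true), (7, 5, true), (7, 0, true), (6, 84, true), (5, 85, true), (4, 86, true), (3, 89, true), (2, 90, true), (2, 76, true), (3, 65, true), (8, 28, true), (7, 31, true), (6, 34, true), (5, 35, true), (7, 21, true), (6, 24, true), (5, 27, true), (6, 66, true), (5, 69, true), (4, 74, true), (3, 75, true), (2, 77, true), (2, 65, true), (6, 28, true), (5, 31, true), (4, 35, true), (5, 6, true), (4, 9, true), (4, 0, true), (3, 44, true), (4, 0, true), (3, 52, true), (2, 54, true), (2, 43, true), (3, 35, true), (5, 136, true), (4, 138, true), (3, 140, true), (2, 144, true), (1, 151, true), (0, 152, true), (1, 120, true), (0, 126, true), (2, 28, true), (1, 34, true), (3, 3, true), (4, 0, true), (3, 23, true), (2, 27, true), (2, 12, true), (4, 36, true), (3, 38, true), (2, 40, true), (1, 43, true), (5, 28, true), (4, 30, true), (3, 32, true), (2, 35, true), (4, 0, true), (4, 120, true), (3, 122,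 true), (2, 124, true), (1, 128, true), (0, 135, true), (1, 36, true), (0, 42, true), (2, 21, true), (1, 27, true), (1, 10, true), (2, 0, true), (1, 14, true), (3, 105, true), (2, 107, true), (1, 109, true), (0, 113, true), (6, 38, true), (5, 39, true), (4, 41, true), (3, 43, true), (7, 17, true), (6, 18, true), (5, 20, true), (6, 5, true), (5, 58, true), (4, 62, true), (3, 63, true), (2, 64, true), (1, 65, true), (4, 39, true), (3, 43, true), (2, 44, true), (3, 13, true), (4, 9, true), (5, 0, true), (4, 79, true), (3, 82, true), (2, 85, true), (1, 87, true), (5, 28, true), (4, 31, true), (3, 34, true), (2, 35, true), (4, 36, true), (3, 39, true), (2, 42, true), (5, 15, true), (4, 18, true), (6, 3, true), (7, 15, true), (6, 17, true), (5, 18, true), (4, 20, true), (6, 10, true), (5, 12, true), (4, 13, true), (7, 6, true), (6, 8, true), (5, 9, true), (6, 0, true), (5, 47, true), (4, 49, true), (3, 51, true), (2, 53, true), (6, 38, true), (5, 40, true), (4, 42, true), (3, 44, true), (5, 30, true), (4, 32, true), (3, 34, true), (6, 17,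 true), (5, 19, true), (7, 8, true), (8, 5, true), (9, 136, true), (8, 137, true), (7, 139, true), (6, 140, true), (5, 141, true), (4, 142, true), (3, 143, true), (2, 145, true), (1, 148, true), (0, 150, true), (8, 91, true), (7, 93, true), (6, 97, true), (5, 99, true), (4, 101, true), (3, 102, true), (2, 104, true), (7, 66, true), (6, 68, true), (5, 70, true), (4, 71, true), (3, 74, true), (2, 76, true), (6, 45, true), (5, 48, true), (4, 52, true), (7, 10, true), (6, 13, true), (8, 1, true), (9, 45, true), (8, 46, true), (7, 48, true), (6, 49, true), (5, 52, true), (4, 54, true), (8, 36, true), (7, 37, true), (6, 39, true), (5, 40, true), (4, 43, true), (9, 28, true), (8, 29, true), (7, 31, true), (6, 32, true), (5, 35, true), (8, 10, true), (7, 11, true), (6, 13, true), (5, 14, true), (7, 3, true), (6, 4, true), (8, 1, true), (7, 2, true), (7, 15, true), (6, 17, true), (5, 18, true), (8, 10, true), (7, 12, true), (6, 13, true), (9, 6, true), (8, 8, true), (7, 9, true), (8, 0, true), (8, 36, true), (7, 38, true), (6, 40, true), (5,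 41, true), (4, 44, true), (7, 21, true), (6, 23, true), (5, 25, true), (4, 26, true), (8, 15, true), (7, 17, true), (6, 19, true), (5, 20, true), (7, 10, true), (6, 12, true), (5, 14, true), (6, 3, true), (5, 5, true), (5, 55, true), (4, 61, true), (3, 65, true), (4, 28, true), (3, 34, true), (5, 15, true), (6, 10, true), (7, 6, true), (8, 21, true), (7, 24, true), (6, 25, true), (5, 26, true), (4, 27, true), (7, 6, true), (6, 9, true), (6, 0, true), (5, 82, true), (4, 83, true), (3, 85, true), (2, 89, true), (4, 52, true), (5, 43, true), (6, 35, true), (9, 37, true), (8, 38, true), (7, 41, true), (6, 42, true), (5, 44, true), (8, 16, true), (7, 17, true), (6, 20, true), (7, 4, true), (6, 5, true), (6, 67, true), (5, 72, true), (4, 75, true), (3, 77, true), (3, 65, true), (7, 21, true), (6, 24, true), (8, 55, true), (7, 58, true), (6, 61, true), (5, 62, true), (4, 63, true), (3, 64, true), (9, 15, true), (8, 18, true), (10, 10, true), (9, 13, true), (11, 6, true), (10, 9, true), (10, 3, true), (11, 1, true), (12, 0, true), (11, 56,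 true), (10, 57, true), (9, 59, true), (8, 60, true), (7, 61, true), (6, 62, true), (5, 63, true), (4, 64, true), (3, 65, true), (10, 37, true), (9, 38, true), (8, 40, true), (7, 41, true), (6, 42, true), (5, 43, true), (4, 44, true), (9, 29, true), (8, 30, true), (7, 32, true), (6, 33, true), (5, 34, true), (4, 35, true), (8, 22, true), (7, 23, true), (6, 25, true), (5, 26, true), (4, 27, true), (7, 4, true), (6, 5, true), (7, 45, true), (6, 46, true), (5, 49, true), (4, 50, true), (3, 54, true), (6, 21, true), (5, 22, true), (4, 25, true), (3, 26, true), (7, 15, true), (6, 16, true), (5, 19, true), (4, 20, true), (6, 0, true), (5, 29, true), (4, 32, true), (3, 34, true), (6, 22, true), (5, 25, true), (4, 27, true), (5, 16, true), (4, 19, true), (6, 22, true), (5, 25, true), (4, 26, true), (7, 11, true), (6, 14, true), (7, 45, true), (6, 46, true), (5, 50, true), (4, 51, true), (3, 52, true), (8, 36, true), (7, 37, true), (6, 41, true), (5, 42, true), (4, 43, true), (9, 28, true), (8, 29, true), (7, 33, true), (6, 34, true), (5, 35,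 true), (8, 21, true), (7, 22, true), (6, 26, true), (5, 27, true), (7, 10, true), (6, 11, true), (8, 6, true), (7, 7, true), (9, 3, true), (8, 4, true), (10, 1, true), (9, 2, true), (9, 0, true), (8, 17, true), (7, 18, true), (6, 19, true), (5, 20, true), (9, 120, true), (8, 121, true), (7, 122, true), (6, 123, true), (5, 124, true), (4, 128, true), (3, 129, true), (2, 132, true), (1, 134, true), (2, 117, true), (8, 30, true), (7, 32, true), (6, 33, true), (5, 34, true), (9, 23, true), (8, 25, true), (7, 26, true), (6, 27, true), (10, 36, true), (9, 37, true), (8, 38, true), (7, 40, true), (6, 41, true), (5, 43, true), (4, 44, true), (9, 21, true), (8, 22, true), (7, 23, true), (6, 25, true), (5, 26, true), (10, 10, true), (9, 11, true), (8, 12, true), (7, 14, true), (9, 0, true), (8, 11, true), (7, 12, true), (9, 46, true), (8, 47, true), (7, 49, true), (6, 50, true), (5, 51, true), (4, 52, true), (10, 37, true), (9, 38, true), (8, 40, true), (7, 41, true), (6, 42, true), (5, 43, true), (11, 29, true), (10, 30, true), (9, 32, true),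 (8, 33, true), (7, 34, true), (6, 35, true), (10, 16, true), (9, 17, true), (8, 19, true), (7, 20, true), (9, 7, true), (8, 8, true), (10, 4, true), (9, 5, true), (9, 2, true), (9, 10, true), (8, 13, true), (7, 14, true), (8, 3, true), (9, 45, true), (8, 47, true), (7, 48, true), (6, 51, true), (5, 53, true), (4, 54, true), (8, 28, true), (7, 30, true), (6, 31, true), (5, 34, true), (9, 21, true), (8, 23, true), (7, 24, true), (6, 27, true), (8, 0, true), (8, 105, true), (7, 107, true), (6, 108, true), (5, 112, true), (4, 113, true), (3, 117, true), (2, 119, true), (7, 78, true), (6, 80, true), (5, 82, true), (4, 83, true), (3, 86, true), (2, 88, true), (3, 65, true), (8, 45, true), (7, 48, true), (6, 51, true), (5, 52, true), (4, 53, true), (3, 54, true), (7, 36, true), (6, 39, true), (5, 42, true), (4, 43, true), (3, 44, true), (6, 28, true), (5, 31, true), (4, 34, true), (3, 35, true), (5, 21, true), (4, 24, true), (3, 27, true), (4, 15, true), (3, 18, true), (5, 3, true), (6, 1, true), (7, 36, true), (6, 37, true), (5, 38, true),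 (4, 39, true), (3, 41, true), (8, 15, true), (7, 16, true), (6, 17, true), (5, 18, true), (4, 20, true), (7, 3, true), (6, 4, true), (5, 5, true), (6, 55, true), (5, 56, true), (4, 58, true), (3, 63, true), (7, 15, true), (6, 16, true), (5, 18, true), (8, 10, true), (7, 11, true), (6, 13, true), (9, 6, true), (8, 7, true), (7, 9, true), (8, 3, true), (7, 4, true), (9, 1, true), (8, 2, true), (8, 0, true), (8, 36, true), (7, 38, true), (6, 40, true), (5, 41, true), (4, 44, true), (7, 21, true), (6, 23, true), (5, 25, true), (4, 26, true), (8, 15, true), (7, 17, true), (6, 19, true), (5, 20, true), (7, 10, true), (6, 12, true), (5, 14, true), (6, 3, true), (5, 5, true), (5, 55, true), (4, 61, true), (3, 65, true), (4, 45, true), (3, 51, true), (5, 28, true), (4, 34, true), (6, 15, true), (7, 6, true), (8, 3, true), (9, 28, true), (8, 30, true), (7, 31, true), (6, 33, true), (5, 34, true), (4, 35, true), (8, 15, true), (7, 17, true), (6, 18, true), (5, 20, true), (7, 1, true), (8, 55, true), (7, 56, true), (6, 57, true), (5, 58, true),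 (4, 61, true), (3, 64, true), (9, 36, true), (8, 37, true), (7, 38, true), (6, 39, true), (5, 42, true), (10, 10, true), (9, 11, true), (8, 12, true), (7, 13, true), (11, 6, true), (10, 7, true), (9, 8, true), (8, 9, true), (10, 1, true), (9, 2, true), (9, 0, true), (9, 78, true), (8, 80, true), (7, 82, true), (6, 84, true), (5, 86, true), (4, 87, true), (3, 88, true), (2, 90, true), (2, 65, true), (5, 55, true), (4, 58, true), (3, 61, true), (2, 62, true), (6, 45, true), (5, 48, true), (4, 51, true), (3, 52, true), (7, 36, true), (6, 39, true), (5, 42, true), (4, 43, true), (8, 28, true), (7, 31, true), (6, 34, true), (5, 35, true), (7, 21, true), (6, 24, true), (5, 27, true), (6, 6, true), (5, 9, true), (5, 0, true), (5, 42, true), (4, 44, true), (6, 57, true), (5, 60, true), (4, 61, true), (3, 64, true), (2, 65, true), (5, 17, true), (4, 20, true), (4, 12, true), (5, 8, true), (6, 5, true), (7, 0, true), (6, 56, true), (5, 58, true), (4, 59, true), (3, 61, true), (2, 64, true), (7, 46, true), (6, 48, true), (5, 49, true), (4, 51,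 true), (3, 54, true), (6, 22, true), (5, 24, true), (4, 25, true), (3, 27, true), (5, 2, true), (4, 24, true), (3, 25, true), (5, 139, true), (4, 140, true), (3, 142, true), (2, 146, true), (1, 151, true), (0, 152, true), (1, 120, true), (0, 126, true), (2, 55, true), (1, 61, true), (3, 45, true), (2, 51, true), (4, 15, true), (5, 10, true), (6, 1, true), (7, 0, true), (6, 22, true), (5, 25, true), (4, 26, true), (3, 27, true), (5, 22, true), (4, 25, true), (3, 26, true), (6, 11, true), (5, 14, true), (6, 45, true), (5, 46, true), (4, 50, true), (3, 51, true), (2, 54, true), (5, 36, true), (4, 37, true), (3, 41, true), (2, 42, true), (6, 28, true), (5, 29, true), (4, 33, true), (3, 34, true), (7, 21, true), (6, 22, true), (5, 26, true), (4, 27, true), (6, 10, true), (5, 11, true), (7, 6, true), (6, 7, true), (8, 3, true), (7, 4, true), (9, 1, true), (8, 2, true), (8, 0, true), (7, 107, true), (6, 108, true), (5, 109, true), (4, 110, true), (3, 112, true), (2, 113, true), (1, 115, true), (2, 65, true), (6, 30, true), (5, 31, true), (4,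 33, true), (3, 35, true), (5, 47, true), (4, 48, true), (3, 50, true), (2, 54, true), (4, 38, true), (3, 39, true), (2, 41, true), (5, 30, true), (4, 31, true), (3, 33, true), (6, 17, true), (5, 18, true), (4, 20, true), (5, 5, true), (6, 36, true), (5, 37, true), (4, 39, true), (3, 43, true), (2, 44, true), (5, 15, true), (4, 16, true), (3, 18, true), (6, 3, true), (5, 4, true), (7, 15, true), (6, 16, true), (5, 17, true), (4, 18, true), (3, 20, true), (6, 1, true), (5, 2, true), (5, 55, true), (4, 57, true), (3, 58, true), (2, 62, true), (6, 36, true), (5, 38, true), (4, 39, true), (3, 43, true), (7, 10, true), (6, 12, true), (5, 13, true), (8, 6, true), (7, 8, true), (6, 9, true), (7, 1, true), (8, 0, true), (7, 92, true), (6, 93, true), (5, 95, true), (4, 98, true), (3, 99, true), (2, 101, true), (7, 31, true), (6, 32, true), (5, 33, true), (4, 35, true), (6, 48, true), (5, 49, true), (4, 50, true), (7, 39, true), (6, 40, true), (5, 41, true), (8, 31, true), (7, 32, true), (6, 33, true), (9, 24, true), (8, 25, true), (7, 26, true),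 (10, 13, true), (9, 14, true), (12, 6, true), (11, 7, true), (10, 8, true), (9, 9, true), (11, 55, true), (10, 56, true), (9, 57, true), (8, 60, true), (7, 61, true), (6, 62, true), (5, 63, true), (4, 64, true), (3, 65, true), (10, 45, true), (9, 46, true), (8, 47, true), (7, 50, true), (6, 51, true), (5, 52, true), (4, 53, true), (3, 54, true), (9, 36, true), (8, 37, true), (7, 38, true), (6, 41, true), (5, 42, true), (4, 43, true), (3, 44, true), (8, 21, true), (7, 22, true), (6, 23, true), (5, 26, true), (4, 27, true), (7, 6, true), (6, 7, true), (5, 8, true), (8, 78, true), (7, 79, true), (6, 80, true), (5, 81, true), (4, 83, true), (3, 85, true), (4, 52, true), (5, 43, true), (6, 35, true), (9, 46, true), (8, 47, true), (7, 50, true), (6, 51, true), (5, 53, true), (4, 54, true), (8, 29, true), (7, 30, true), (6, 33, true), (5, 34, true), (9, 22, true), (8, 23, true), (7, 26, true), (6, 27, true), (9, 55, true), (8, 56, true), (7, 57, true), (6, 60, true), (5, 62, true), (4, 63, true), (10, 15, true), (9, 16, true), (8, 17, true),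 (7, 20, true), (9, 10, true), (8, 11, true), (7, 12, true), (10, 6, true), (9, 7, true), (8, 8, true), (11, 3, true), (10, 4, true), (9, 5, true), (10, 1, true), (9, 2, true), (9, 0, true), (8, 18, true), (7, 19, true), (9, 13, true), (8, 14, true), (8, 9, true), (8, 0, true), (7, 71, true), (6, 73, true), (5, 74, true), (4, 76, true), (8, 28, true), (7, 31, true), (6, 35, true), (7, 45, true), (6, 48, true), (8, 10, true), (7, 13, true), (9, 1, true), (10, 45, true), (9, 46, true), (8, 48, true), (7, 49, true), (6, 54, true), (9, 10, true), (8, 11, true), (7, 13, true), (6, 14, true), (8, 1, true), (7, 2, true), (7, 0, true)]),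
    ([21, 4, 17], [(0, 194, true), (9, 207, true), (8, 153, true), (7, 154, true), (6, 157, true), (5, 162, true), (4, 164, true), (3, 165, true), (2, 166, true), (1, 167, true), (0, 169, true), (9, 91, true), (8, 92, true), (7, 96, true), (6, 100, true), (5, 101, true), (4, 103, true), (3, 104, true), (8, 78, true), (7, 80, true), (6, 82, true), (5, 83, true), (4, 86, true), (3, 88, true), (4, 65, true), (9, 45, true), (8, 48, true), (7, 51, true), (6, 52, true), (5, 53, true), (4, 54, true), (8, 36, true), (7, 39, true), (6, 42, true), (5, 43, true), (4, 44, true), (7, 28, true), (6, 31, true), (5, 34, true), (4, 35, true), (6, 21, true), (5, 24, true), (4, 27, true), (5, 15, true), (4, 18, true), (6, 3, true), (7, 1, true), (8, 36, true), (7, 37, true), (6, 38, true), (5, 39, true), (4, 41, true), (9, 15, true), (8, 16, true), (7, 17, true), (6, 18, true), (5, 20, true), (8, 3, true), (7, 4, true), (6, 5, true), (7, 55, true), (6, 56, true), (5, 58, true), (4, 63, true), (8, 15, true), (7, 16, true), (6, 18, true), (9, 10, true),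 (8, 11, true), (7, 13, true), (10, 6, true), (9, 7, true), (8, 9, true), (9, 3, true), (8, 4, true), (10, 1, true), (9, 2, true), (9, 0, true), (9, 28, true), (8, 30, true), (7, 32, true), (6, 33, true), (10, 55, true), (9, 57, true), (8, 59, true), (7, 60, true), (6, 62, true), (5, 63, true), (4, 65, true), (9, 55, true), (8, 57, true), (7, 59, true), (6, 60, true), (5, 62, true), (4, 63, true), (10, 28, true), (9, 30, true), (8, 32, true), (7, 33, true), (6, 35, true), (9, 21, true), (8, 23, true), (7, 25, true), (6, 26, true), (10, 15, true), (9, 17, true), (8, 19, true), (7, 20, true), (9, 10, true), (8, 12, true), (7, 14, true), (8, 6, true), (7, 8, true), (9, 3, true), (8, 5, true), (8, 1, true), (9, 45, true), (8, 46, true), (7, 48, true), (6, 51, true), (5, 53, true), (10, 21, true), (9, 22, true), (8, 24, true), (7, 27, true), (9, 10, true), (8, 11, true), (7, 13, true), (10, 1, true), (9, 2, true), (9, 0, true), (8, 58, true), (7, 59, true), (6, 63, true), (5, 64, true), (4, 65, true), (7, 48, true), (6, 49, true), (5, 53,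 true), (4, 54, true), (6, 39, true), (5, 40, true), (4, 44, true), (5, 24, true), (4, 25, true), (6, 9, true), (6, 78, true), (5, 82, true), (4, 84, true), (3, 90, true), (4, 42, true), (8, 66, true), (7, 68, true), (6, 71, true), (5, 72, true), (4, 74, true), (3, 76, true), (7, 21, true), (6, 24, true), (8, 45, true), (7, 48, true), (6, 51, true), (5, 52, true), (9, 10, true), (8, 13, true), (10, 1, true), (11, 15, true), (10, 16, true), (9, 18, true), (8, 19, true), (12, 10, true), (11, 11, true), (10, 13, true), (9, 14, true), (11, 6, true), (10, 7, true), (9, 9, true), (10, 0, true), (10, 55, true), (9, 56, true), (8, 60, true), (7, 61, true), (6, 62, true), (5, 64, true), (4, 65, true), (9, 36, true), (8, 37, true), (7, 41, true), (6, 42, true), (5, 43, true), (10, 28, true), (9, 29, true), (8, 33, true), (7, 34, true), (6, 35, true), (9, 21, true), (8, 22, true), (7, 26, true), (6, 27, true), (8, 3, true), (7, 4, true), (9, 66, true), (8, 67, true), (7, 68, true), (6, 71, true), (5, 74, true), (4, 75, true), (3, 77, true), (3,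 65, true), (7, 28, true), (6, 31, true), (5, 35, true), (6, 6, true), (5, 9, true), (5, 0, true), (4, 53, true), (3, 54, true), (5, 16, true), (4, 19, true), (6, 11, true), (5, 14, true), (5, 7, true), (7, 55, true), (6, 56, true), (5, 58, true), (4, 60, true), (3, 63, true), (8, 15, true), (7, 16, true), (6, 18, true), (5, 20, true), (7, 10, true), (6, 11, true), (5, 13, true), (8, 6, true), (7, 7, true), (6, 9, true), (7, 3, true), (6, 4, true), (8, 1, true), (7, 2, true), (7, 0, true), (7, 78, true), (6, 80, true), (5, 82, true), (4, 86, true), (3, 88, true), (4, 65, true), (9, 36, true), (8, 39, true), (7, 42, true), (6, 43, true), (5, 44, true), (8, 15, true), (7, 18, true), (9, 3, true), (10, 55, true), (9, 57, true), (8, 58, true), (7, 60, true), (6, 61, true), (5, 62, true), (4, 64, true), (11, 15, true), (10, 17, true), (9, 18, true), (8, 20, true), (10, 10, true), (9, 12, true), (8, 13, true), (11, 6, true), (10, 8, true), (9, 9, true), (10, 3, true), (9, 5, true), (9, 1, true), (10, 0, true), (10, 36, true), (9, 37, true),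 (8, 40, true), (7, 42, true), (6, 43, true), (11, 15, true), (10, 16, true), (9, 19, true), (12, 3, true), (11, 4, true), (13, 0, true), (12, 92, true), (11, 93, true), (10, 95, true), (9, 96, true), (8, 97, true), (7, 98, true), (6, 99, true), (5, 100, true), (4, 101, true), (3, 103, true), (5, 62, true), (6, 62, true), (5, 65, true), (5, 35, true), (10, 29, true), (9, 30, true), (8, 31, true), (7, 32, true), (6, 33, true), (5, 34, true), (11, 16, true), (10, 17, true), (9, 18, true), (8, 19, true), (7, 20, true), (10, 11, true), (9, 12, true), (8, 13, true), (7, 14, true), (9, 7, true), (8, 8, true), (7, 9, true), (8, 29, true), (7, 30, true), (6, 34, true), (5, 35, true), (7, 22, true), (6, 23, true), (5, 27, true), (6, 46, true), (5, 47, true), (7, 22, true), (6, 23, true), (8, 11, true), (7, 12, true), (9, 2, true), (9, 45, true), (8, 47, true), (7, 49, true), (6, 51, true), (5, 54, true), (8, 36, true), (7, 38, true), (6, 40, true), (5, 42, true), (9, 28, true), (8, 30, true), (7, 32, true), (6, 34, true), (10, 21, true), (9,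 23, true), (8, 25, true), (7, 27, true), (9, 10, true), (8, 12, true), (7, 14, true), (8, 3, true), (7, 5, true), (7, 1, true), (8, 0, true), (7, 7, true), (8, 56, true), (7, 58, true), (6, 62, true), (5, 63, true), (9, 46, true), (8, 48, true), (7, 52, true), (6, 53, true), (10, 37, true), (9, 39, true), (8, 43, true), (7, 44, true), (9, 22, true), (8, 24, true), (10, 7, true), (9, 9, true), (9, 79, true), (8, 84, true), (7, 85, true), (6, 87, true), (5, 88, true), (4, 90, true), (4, 65, true), (7, 28, true), (6, 31, true), (5, 34, true), (4, 35, true), (6, 21, true), (5, 24, true), (4, 27, true), (5, 15, true), (4, 18, true), (6, 10, true), (5, 13, true), (7, 6, true), (6, 9, true), (6, 0, true), (5, 59, true), (4, 60, true), (6, 40, true), (5, 41, true), (7, 19, true), (6, 20, true)], [(1, 157, true), (0, 207, true), (8, 195, true), (7, 120, true), (6, 122, true), (5, 125, true), (4, 128, true), (3, 130, true), (2, 132, true), (1, 133, true), (3, 105, true), (2, 116, true), (5, 55, true), (4, 62, true), (6, 36, true), (5, 43, true),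 (7, 15, true), (8, 10, true), (9, 3, true), (10, 0, true), (9, 38, true), (8, 40, true), (7, 41, true), (6, 43, true), (5, 44, true), (8, 23, true), (7, 25, true), (6, 26, true), (9, 12, true), (8, 14, true), (9, 21, true), (8, 23, true), (7, 26, true), (6, 27, true), (8, 15, true), (7, 17, true), (6, 20, true), (7, 0, true), (6, 12, true), (7, 5, true), (7, 91, true), (6, 95, true), (5, 98, true), (4, 101, true), (3, 102, true), (9, 57, true), (8, 59, true), (7, 60, true), (6, 61, true), (5, 63, true), (10, 30, true), (9, 32, true), (8, 33, true), (7, 34, true), (11, 47, true), (10, 49, true), (9, 50, true), (8, 51, true), (7, 52, true), (6, 53, true), (12, 38, true), (11, 40, true), (10, 41, true), (9, 42, true), (8, 43, true), (7, 44, true), (11, 30, true), (10, 32, true), (9, 33, true), (8, 34, true), (7, 35, true), (10, 23, true), (9, 25, true), (8, 26, true), (7, 27, true), (9, 12, true), (8, 14, true), (8, 5, true), (9, 0, true), (8, 67, true), (7, 71, true), (6, 75, true), (5, 76, true), (4, 77, true), (4, 65, true), (9, 45,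 true), (8, 48, true), (7, 52, true), (6, 53, true), (5, 54, true), (8, 10, true), (7, 13, true), (9, 1, true), (10, 55, true), (9, 56, true), (8, 58, true), (7, 59, true), (6, 62, true), (5, 63, true), (4, 65, true), (9, 15, true), (8, 16, true), (7, 18, true), (6, 19, true), (10, 10, true), (9, 11, true), (8, 13, true), (7, 14, true), (9, 6, true), (8, 7, true), (7, 9, true), (8, 3, true), (7, 4, true), (9, 1, true), (8, 2, true), (8, 0, true), (7, 57, true), (6, 60, true), (5, 62, true), (4, 63, true), (8, 30, true), (7, 33, true), (6, 35, true), (7, 17, true), (6, 20, true), (6, 12, true)]),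
    ([21, 10, 17], [(0, 200, true), (4, 207, true), (3, 158, true), (2, 159, true), (1, 160, true), (0, 162, true), (3, 27, true), (3, 95, true), (2, 98, true), (1, 99, true), (5, 31, true), (4, 32, true), (3, 33, true), (2, 35, true), (4, 48, true), (3, 49, true), (2, 50, true), (5, 39, true), (4, 40, true), (3, 41, true), (6, 31, true), (5, 32, true), (4, 33, true), (7, 24, true), (6, 25, true), (5, 26, true), (8, 13, true), (7, 14, true), (10, 78, true), (9, 79, true), (8, 80, true), (7, 81, true), (6, 83, true), (5, 84, true), (4, 85, true), (3, 86, true), (2, 87, true), (6, 55, true), (5, 58, true), (4, 61, true), (3, 62, true), (7, 45, true), (6, 48, true), (5, 51, true), (4, 52, true), (8, 36, true), (7, 39, true), (6, 42, true), (5, 43, true), (9, 28, true), (8, 31, true), (7, 34, true), (6, 35, true), (8, 21, true), (7, 24, true), (6, 27, true), (7, 6, true), (6, 9, true), (6, 0, true), (7, 51, true), (6, 52, true), (5, 53, true), (4, 54, true), (6, 42, true), (5, 43, true), (4, 44, true), (5, 34, true), (4, 35, true), (4,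 27, true), (6, 46, true), (5, 47, true), (4, 50, true), (7, 29, true), (6, 30, true), (5, 33, true), (8, 22, true), (7, 23, true), (6, 26, true), (10, 55, true), (9, 56, true), (8, 57, true), (7, 60, true), (6, 61, true), (5, 62, true), (4, 64, true), (3, 65, true), (9, 15, true), (8, 16, true), (7, 17, true), (6, 20, true), (8, 10, true), (7, 11, true), (6, 12, true), (9, 6, true), (8, 7, true), (7, 8, true), (10, 3, true), (9, 4, true), (8, 5, true), (9, 1, true), (8, 2, true), (8, 0, true), (7, 18, true), (6, 19, true), (8, 13, true), (7, 14, true), (7, 9, true), (7, 0, true), (6, 60, true), (5, 61, true), (4, 62, true), (3, 64, true), (7, 41, true), (6, 42, true), (5, 43, true), (8, 20, true)], [(1, 163, true), (0, 207, true), (8, 200, true), (7, 45, true), (6, 47, true), (5, 50, true), (4, 53, true), (8, 28, true), (7, 30, true), (6, 33, true), (9, 21, true), (8, 23, true), (7, 26, true), (10, 15, true), (9, 17, true), (8, 20, true)]),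
    ([21, 11, 3, 1, 17], [(0, 201, true), (12, 207, true), (11, 153, true), (10, 154, true), (9, 155, true), (8, 156, true), (7, 158, true), (6, 160, true), (5, 161, true), (4, 162, true), (3, 165, true), (2, 167, true), (1, 168, true), (0, 169, true), (1, 151, true), (10, 66, true), (9, 67, true), (8, 71, true), (7, 75, true), (6, 76, true), (7, 65, true), (11, 45, true), (10, 48, true), (9, 52, true), (8, 53, true), (7, 54, true), (10, 10, true), (9, 13, true), (11, 1, true), (12, 55, true), (11, 56, true), (10, 58, true), (9, 59, true), (8, 62, true), (7, 63, true), (13, 15, true), (12, 16, true), (11, 18, true), (10, 19, true), (14, 10, true), (13, 11, true), (12, 13, true), (11, 14, true), (13, 6, true), (12, 7, true), (11, 9, true), (12, 3, true), (11, 4, true), (13, 1, true), (12, 2, true), (12, 0, true), (12, 36, true), (11, 38, true), (10, 41, true), (9, 43, true), (8, 44, true), (11, 45, true), (10, 47, true), (9, 50, true), (8, 52, true), (12, 28, true), (11, 30, true), (10, 33, true), (9, 35, true), (11, 21, true), (10,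 23, true), (9, 26, true), (12, 10, true), (11, 12, true), (13, 6, true), (12, 8, true), (14, 1, true), (15, 3, true), (14, 4, true), (13, 5, true), (14, 0, true), (13, 92, true), (12, 94, true), (11, 95, true), (10, 96, true), (9, 97, true), (8, 100, true), (7, 101, true), (6, 102, true), (5, 103, true), (4, 104, true), (9, 78, true), (8, 80, true), (7, 82, true), (6, 83, true), (5, 86, true), (4, 88, true), (5, 65, true), (10, 45, true), (9, 48, true), (8, 51, true), (7, 52, true), (6, 53, true), (5, 54, true), (9, 36, true), (8, 39, true), (7, 42, true), (6, 43, true), (5, 44, true), (8, 28, true), (7, 31, true), (6, 34, true), (5, 35, true), (7, 21, true), (6, 24, true), (5, 27, true), (6, 15, true), (5, 18, true), (7, 3, true), (8, 1, true), (9, 36, true), (8, 37, true), (7, 38, true), (6, 39, true), (5, 41, true), (10, 15, true), (9, 16, true), (8, 17, true), (7, 18, true), (6, 20, true), (9, 3, true), (8, 4, true), (7, 5, true), (8, 55, true), (7, 56, true), (6, 58, true), (5, 63, true), (9, 15, true), (8, 16, true), (7, 18, true),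 (10, 10, true), (9, 11, true), (8, 13, true), (11, 6, true), (10, 7, true), (9, 9, true), (10, 3, true), (9, 4, true), (11, 1, true), (10, 2, true), (10, 0, true), (10, 28, true), (9, 30, true), (8, 32, true), (7, 33, true), (11, 66, true), (10, 68, true), (9, 70, true), (8, 71, true), (7, 73, true), (6, 74, true), (5, 76, true), (9, 28, true), (8, 31, true), (7, 35, true), (8, 45, true), (7, 48, true), (9, 10, true), (8, 13, true), (10, 1, true), (11, 45, true), (10, 46, true), (9, 48, true), (8, 49, true), (7, 54, true), (10, 36, true), (9, 37, true), (8, 39, true), (7, 40, true), (11, 28, true), (10, 29, true), (9, 31, true), (8, 32, true), (12, 10, true), (11, 11, true), (10, 13, true), (9, 14, true), (11, 3, true), (10, 4, true), (12, 1, true), (11, 2, true), (11, 15, true), (10, 17, true), (9, 18, true), (12, 10, true), (11, 12, true), (10, 13, true), (13, 6, true), (12, 8, true), (11, 9, true), (12, 0, true), (12, 36, true), (11, 38, true), (10, 40, true), (9, 41, true), (8, 43, true), (7, 44, true), (11, 21, true), (10, 23,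 true), (9, 25, true), (8, 26, true), (12, 15, true), (11, 17, true), (10, 19, true), (9, 20, true), (11, 10, true), (10, 12, true), (9, 14, true), (10, 3, true), (9, 5, true), (9, 55, true), (8, 61, true), (7, 62, true), (6, 65, true), (8, 55, true), (7, 61, true), (6, 62, true), (9, 28, true), (8, 34, true), (7, 35, true), (8, 21, true), (7, 27, true), (7, 15, true), (8, 10, true), (9, 6, true), (10, 3, true), (11, 1, true), (12, 21, true), (11, 22, true), (10, 23, true), (9, 24, true), (8, 25, true), (7, 26, true), (13, 45, true), (12, 46, true), (11, 47, true), (10, 48, true), (9, 49, true), (8, 50, true), (7, 51, true), (14, 21, true), (13, 22, true), (12, 23, true), (11, 24, true), (10, 25, true), (9, 26, true), (8, 27, true), (13, 10, true), (12, 11, true), (11, 12, true), (10, 13, true), (9, 14, true), (12, 1, true), (11, 2, true), (11, 0, true), (10, 47, true), (9, 48, true), (8, 50, true), (7, 54, true), (9, 38, true), (8, 39, true), (7, 41, true), (10, 30, true), (9, 31, true), (8, 33, true), (11, 23, true), (10, 24, true),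 (9, 26, true), (12, 12, true), (11, 13, true), (13, 5, true), (14, 3, true), (13, 4, true), (15, 55, true), (14, 56, true), (13, 57, true), (12, 58, true), (11, 59, true), (10, 60, true), (9, 61, true), (8, 62, true), (7, 63, true), (6, 65, true), (14, 45, true), (13, 46, true), (12, 47, true), (11, 48, true), (10, 49, true), (9, 50, true), (8, 51, true), (7, 52, true), (6, 53, true), (15, 36, true), (14, 37, true), (13, 38, true), (12, 39, true), (11, 40, true), (10, 41, true), (9, 42, true), (8, 43, true), (7, 44, true), (14, 21, true), (13, 22, true), (12, 23, true), (11, 24, true), (10, 25, true), (9, 26, true), (8, 27, true), (13, 6, true), (12, 7, true), (11, 8, true), (10, 9, true), (12, 78, true), (11, 79, true), (10, 80, true), (9, 82, true), (8, 83, true), (7, 85, true), (6, 87, true), (5, 89, true), (4, 90, true), (4, 76, true), (9, 28, true), (8, 31, true), (7, 34, true), (6, 35, true), (8, 45, true), (7, 48, true), (6, 51, true), (9, 36, true), (8, 39, true), (7, 42, true), (10, 28, true), (9, 31, true), (8, 34, true),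 (11, 21, true), (10, 24, true), (9, 27, true), (10, 15, true), (9, 18, true), (11, 3, true), (12, 1, true), (13, 36, true), (12, 37, true), (11, 38, true), (10, 39, true), (9, 41, true), (8, 43, true), (7, 44, true), (12, 15, true), (11, 16, true), (10, 17, true), (9, 18, true), (8, 20, true), (11, 3, true), (10, 4, true), (9, 5, true), (10, 55, true), (9, 56, true), (8, 58, true), (7, 62, true), (6, 64, true), (5, 65, true), (9, 15, true), (8, 16, true), (7, 18, true), (10, 10, true), (9, 11, true), (8, 13, true), (11, 6, true), (10, 7, true), (9, 9, true), (10, 3, true), (9, 4, true), (11, 1, true), (10, 2, true), (10, 0, true), (9, 17, true), (8, 19, true), (7, 20, true), (8, 12, true), (7, 14, true), (7, 8, true), (9, 0, true), (8, 57, true), (7, 58, true), (6, 62, true), (5, 64, true), (9, 38, true), (8, 39, true), (7, 43, true), (10, 17, true), (9, 18, true), (11, 5, true)], [(3, 154, true), (2, 156, true), (1, 164, true), (0, 207, true), (8, 202, true), (7, 136, true), (6, 138, true), (5, 141, true), (4, 144, true), (3, 146,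 true), (2, 148, true), (1, 149, true), (10, 91, true), (9, 92, true), (8, 96, true), (7, 98, true), (6, 100, true), (5, 101, true), (4, 102, true), (3, 103, true), (5, 73, true), (6, 43, true), (11, 57, true), (10, 59, true), (9, 60, true), (8, 61, true), (7, 62, true), (6, 63, true), (12, 57, true), (11, 59, true), (10, 60, true), (9, 61, true), (8, 62, true), (7, 63, true), (6, 65, true), (11, 30, true), (10, 32, true), (9, 33, true), (8, 34, true), (7, 35, true), (10, 23, true), (9, 25, true), (8, 26, true), (7, 27, true), (9, 17, true), (8, 19, true), (7, 20, true), (8, 12, true), (7, 14, true), (7, 8, true), (8, 5, true), (8, 29, true), (7, 31, true), (9, 46, true), (8, 48, true), (7, 52, true), (6, 53, true), (10, 22, true), (9, 24, true), (11, 11, true), (10, 13, true), (12, 2, true), (12, 55, true), (11, 58, true), (10, 59, true), (9, 61, true), (8, 62, true), (7, 63, true), (6, 64, true), (13, 45, true), (12, 48, true), (11, 49, true), (10, 51, true), (9, 52, true), (8, 53, true), (7, 54, true), (12, 36, true), (11, 39, true),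 (10, 40, true), (9, 42, true), (8, 43, true), (7, 44, true), (11, 21, true), (10, 24, true), (9, 25, true), (8, 27, true), (10, 6, true), (9, 9, true), (9, 0, true), (8, 82, true), (7, 85, true), (6, 88, true), (5, 89, true), (4, 90, true), (4, 76, true), (5, 65, true), (5, 43, true), (8, 68, true), (7, 71, true), (6, 73, true), (5, 74, true), (4, 77, true), (7, 28, true), (6, 31, true), (5, 35, true), (6, 45, true), (5, 48, true), (7, 10, true), (6, 13, true), (8, 1, true), (9, 15, true), (8, 16, true), (7, 18, true), (6, 19, true), (10, 10, true), (9, 11, true), (8, 13, true), (7, 14, true), (9, 6, true), (8, 7, true), (7, 9, true), (8, 0, true), (7, 56, true), (6, 60, true), (5, 64, true), (4, 65, true), (6, 37, true), (5, 41, true), (7, 29, true), (6, 33, true), (8, 22, true), (7, 26, true), (9, 4, true), (11, 55, true), (10, 56, true), (9, 57, true), (8, 60, true), (7, 61, true), (6, 62, true), (5, 63, true), (4, 64, true), (12, 45, true), (11, 46, true), (10, 47, true), (9, 50, true), (8, 51, true), (7, 52, true), (6, 53, true),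 (5, 54, true), (11, 15, true), (10, 16, true), (9, 17, true), (8, 20, true), (10, 10, true), (9, 11, true), (8, 12, true), (11, 1, true), (10, 2, true), (10, 0, true), (9, 30, true), (8, 32, true), (7, 34, true), (6, 35, true), (8, 5, true), (8, 15, true), (7, 19, true), (9, 36, true), (8, 40, true), (7, 41, true), (6, 42, true), (5, 44, true), (8, 28, true), (7, 32, true), (6, 33, true), (5, 34, true), (9, 0, true), (9, 120, true), (8, 124, true), (7, 125, true), (6, 126, true), (5, 127, true), (4, 130, true), (3, 133, true), (2, 134, true), (5, 55, true), (6, 36, true), (7, 15, true), (8, 10, true), (9, 3, true), (10, 0, true), (9, 30, true), (8, 32, true), (7, 33, true), (10, 23, true), (9, 25, true), (8, 26, true), (11, 23, true), (10, 25, true), (9, 26, true), (8, 27, true), (10, 17, true), (9, 19, true), (8, 20, true), (10, 10, true), (9, 12, true), (8, 14, true), (9, 0, true), (8, 107, true), (7, 112, true), (6, 113, true), (5, 115, true), (4, 116, true), (3, 117, true), (9, 68, true), (8, 70, true), (7, 71, true), (6, 72, true),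 (5, 74, true), (8, 21, true), (7, 24, true), (9, 45, true), (8, 48, true), (7, 51, true), (6, 52, true), (10, 10, true), (9, 13, true), (11, 1, true), (12, 45, true), (11, 46, true), (10, 48, true), (9, 49, true), (8, 51, true), (7, 52, true), (6, 54, true), (11, 36, true), (10, 37, true), (9, 39, true), (8, 40, true), (7, 42, true), (6, 43, true), (12, 28, true), (11, 29, true), (10, 31, true), (9, 32, true), (8, 34, true), (7, 35, true), (11, 10, true), (10, 11, true), (9, 13, true), (8, 14, true), (10, 3, true), (9, 4, true), (11, 1, true), (10, 2, true), (10, 15, true), (9, 17, true), (8, 18, true), (11, 10, true), (10, 12, true), (9, 13, true), (12, 6, true), (11, 8, true), (10, 9, true), (11, 0, true), (10, 30, true), (9, 32, true), (8, 33, true), (7, 34, true), (11, 57, true), (10, 59, true), (9, 60, true), (8, 61, true), (7, 62, true), (6, 63, true), (12, 57, true), (11, 59, true), (10, 60, true), (9, 61, true), (8, 62, true), (7, 63, true), (6, 65, true), (11, 47, true), (10, 49, true), (9, 50, true), (8, 51, true), (7, 52,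 true), (6, 53, true), (12, 30, true), (11, 32, true), (10, 33, true), (9, 34, true), (8, 35, true), (11, 17, true), (10, 19, true), (9, 20, true), (10, 8, true), (11, 5, true), (10, 31, true), (9, 32, true), (8, 34, true), (11, 58, true), (10, 59, true), (9, 61, true), (8, 62, true), (7, 63, true), (6, 64, true), (12, 39, true), (11, 40, true), (10, 42, true), (9, 43, true), (8, 44, true), (11, 13, true), (10, 14, true), (10, 9, true), (11, 78, true), (10, 79, true), (9, 84, true), (8, 85, true), (7, 87, true), (6, 88, true), (5, 89, true), (4, 90, true), (4, 76, true), (5, 65, true), (8, 28, true), (7, 31, true), (6, 34, true), (5, 35, true), (7, 21, true), (6, 24, true), (5, 27, true), (6, 15, true), (5, 18, true), (7, 10, true), (6, 13, true), (8, 6, true), (7, 9, true), (7, 0, true), (7, 55, true), (6, 59, true), (5, 60, true), (8, 45, true), (7, 49, true), (6, 50, true), (9, 36, true), (8, 40, true), (7, 41, true), (10, 28, true), (9, 32, true), (8, 33, true), (11, 10, true), (10, 14, true), (10, 6, true)]),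
    ([21, 15, 17], [(0, 205, true), (7, 207, true), (6, 155, true), (5, 160, true), (4, 161, true), (3, 163, true), (2, 165, true), (1, 167, true), (0, 168, true), (9, 66, true), (8, 67, true), (7, 71, true), (6, 75, true), (5, 76, true), (6, 65, true), (10, 45, true), (9, 48, true), (8, 52, true), (7, 53, true), (6, 54, true), (9, 10, true), (8, 13, true), (10, 1, true), (11, 55, true), (10, 56, true), (9, 58, true), (8, 59, true), (7, 62, true), (6, 63, true), (12, 15, true), (11, 16, true), (10, 18, true), (9, 19, true), (13, 10, true), (12, 11, true), (11, 13, true), (10, 14, true), (12, 6, true), (11, 7, true), (10, 9, true), (11, 3, true), (10, 4, true), (12, 1, true), (11, 2, true), (11, 0, true), (11, 55, true), (10, 57, true), (9, 60, true), (8, 62, true), (7, 63, true), (6, 65, true), (10, 45, true), (9, 47, true), (8, 50, true), (7, 52, true), (6, 53, true), (11, 28, true), (10, 30, true), (9, 33, true), (8, 35, true), (10, 21, true), (9, 23, true), (8, 26, true), (11, 1, true), (12, 91, true), (11, 92, true), (10, 93, true),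 (9, 96, true), (8, 97, true), (7, 99, true), (6, 100, true), (5, 102, true), (4, 103, true), (3, 104, true), (8, 78, true), (7, 80, true), (6, 82, true), (5, 83, true), (4, 86, true), (3, 88, true), (4, 65, true), (9, 45, true), (8, 48, true), (7, 51, true), (6, 52, true), (5, 53, true), (4, 54, true), (8, 36, true), (7, 39, true), (6, 42, true), (5, 43, true), (4, 44, true), (7, 28, true), (6, 31, true), (5, 34, true), (4, 35, true), (6, 21, true), (5, 24, true), (4, 27, true), (5, 15, true), (4, 18, true), (6, 3, true), (7, 1, true), (8, 36, true), (7, 37, true), (6, 38, true), (5, 39, true), (4, 41, true), (9, 15, true), (8, 16, true), (7, 17, true), (6, 18, true), (5, 20, true), (8, 3, true), (7, 4, true), (6, 5, true), (7, 55, true), (6, 56, true), (5, 58, true), (4, 63, true), (8, 15, true), (7, 16, true), (6, 18, true), (9, 10, true), (8, 11, true), (7, 13, true), (10, 6, true), (9, 7, true), (8, 9, true), (9, 3, true), (8, 4, true), (10, 1, true), (9, 2, true), (9, 0, true), (9, 28, true), (8, 30, true), (7, 32, true), (6, 33,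 true), (10, 66, true), (9, 68, true), (8, 70, true), (7, 71, true), (6, 73, true), (5, 74, true), (4, 76, true), (8, 28, true), (7, 31, true), (6, 35, true), (7, 45, true), (6, 48, true), (8, 10, true), (7, 13, true), (9, 1, true), (10, 45, true), (9, 46, true), (8, 48, true), (7, 49, true), (6, 54, true), (9, 36, true), (8, 37, true), (7, 39, true), (6, 40, true), (10, 28, true), (9, 29, true), (8, 31, true), (7, 32, true), (11, 10, true), (10, 11, true), (9, 13, true), (8, 14, true), (10, 3, true), (9, 4, true), (11, 1, true), (10, 2, true), (10, 15, true), (9, 17, true), (8, 18, true), (11, 10, true), (10, 12, true), (9, 13, true), (12, 6, true), (11, 8, true), (10, 9, true), (11, 0, true), (11, 36, true), (10, 38, true), (9, 40, true), (8, 41, true), (7, 43, true), (6, 44, true), (10, 21, true), (9, 23, true), (8, 25, true), (7, 26, true), (11, 15, true), (10, 17, true), (9, 19, true), (8, 20, true), (10, 10, true), (9, 12, true), (8, 14, true), (9, 3, true), (8, 5, true), (8, 55, true), (7, 61, true), (6, 62, true), (5, 65, true),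 (7, 28, true), (6, 34, true), (5, 35, true), (6, 21, true), (5, 27, true), (5, 15, true), (6, 10, true), (7, 6, true), (8, 3, true), (9, 1, true), (10, 28, true), (9, 29, true), (8, 30, true), (7, 31, true), (6, 32, true), (5, 33, true), (11, 15, true), (10, 16, true), (9, 17, true), (8, 18, true), (7, 19, true), (6, 20, true), (10, 10, true), (9, 11, true), (8, 12, true), (7, 13, true), (6, 14, true), (9, 6, true), (8, 7, true), (7, 8, true), (6, 9, true), (8, 21, true), (7, 22, true), (6, 23, true), (9, 45, true), (8, 46, true), (7, 47, true), (6, 51, true), (5, 52, true), (10, 21, true), (9, 22, true), (8, 23, true), (7, 27, true), (9, 10, true), (8, 11, true), (7, 12, true), (10, 1, true), (9, 2, true), (9, 0, true), (8, 8, true), (9, 57, true), (8, 58, true), (7, 59, true), (6, 62, true), (5, 64, true), (10, 47, true), (9, 48, true), (8, 49, true), (7, 52, true), (6, 54, true), (9, 38, true), (8, 39, true), (7, 40, true), (6, 43, true), (10, 23, true), (9, 24, true), (8, 25, true), (11, 8, true), (10, 9, true), (11, 78, true),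 (10, 80, true), (9, 82, true), (8, 84, true), (7, 85, true), (6, 86, true), (5, 88, true), (4, 89, true), (3, 90, true), (3, 76, true), (4, 65, true), (10, 28, true), (9, 31, true), (8, 34, true), (7, 35, true), (9, 21, true), (8, 24, true), (7, 27, true), (8, 36, true), (7, 39, true), (6, 44, true), (7, 15, true), (6, 18, true), (8, 3, true), (9, 55, true), (8, 57, true), (7, 58, true), (6, 60, true), (5, 64, true), (4, 65, true), (8, 15, true), (7, 17, true), (6, 18, true), (5, 20, true), (7, 10, true), (6, 12, true), (5, 13, true), (8, 6, true), (7, 8, true), (6, 9, true), (7, 3, true), (6, 5, true), (6, 1, true), (7, 0, true), (7, 55, true), (6, 56, true), (5, 59, true), (4, 64, true), (8, 36, true), (7, 37, true), (6, 40, true), (9, 15, true), (8, 16, true), (7, 19, true), (10, 3, true), (9, 4, true), (11, 0, true)], [(1, 168, true), (0, 207, true), (8, 206, true), (7, 136, true), (6, 138, true), (5, 141, true), (4, 144, true), (3, 146, true), (2, 148, true), (1, 149, true), (10, 91, true), (9, 92, true), (8, 96, true), (7, 98,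 true), (6, 100, true), (5, 101, true), (4, 102, true), (3, 103, true), (5, 73, true), (6, 43, true), (11, 57, true), (10, 59, true), (9, 60, true), (8, 61, true), (7, 62, true), (6, 63, true), (12, 57, true), (11, 59, true), (10, 60, true), (9, 61, true), (8, 62, true), (7, 63, true), (6, 65, true), (11, 30, true), (10, 32, true), (9, 33, true), (8, 34, true), (7, 35, true), (10, 23, true), (9, 25, true), (8, 26, true), (7, 27, true), (9, 17, true), (8, 19, true), (7, 20, true), (8, 12, true), (7, 14, true), (7, 8, true), (8, 5, true), (8, 29, true), (7, 31, true), (9, 46, true), (8, 48, true), (7, 52, true), (6, 53, true), (10, 22, true), (9, 24, true), (11, 11, true), (10, 13, true), (12, 2, true), (12, 55, true), (11, 58, true), (10, 59, true), (9, 61, true), (8, 62, true), (7, 63, true), (6, 64, true), (13, 45, true), (12, 48, true), (11, 49, true), (10, 51, true), (9, 52, true), (8, 53, true), (7, 54, true), (12, 36, true), (11, 39, true), (10, 40, true), (9, 42, true), (8, 43, true), (7, 44, true), (11, 21, true), (10, 24, true),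 (9, 25, true), (8, 27, true), (10, 6, true), (9, 9, true), (9, 0, true), (8, 82, true), (7, 85, true), (6, 88, true), (5, 89, true), (4, 90, true), (4, 76, true), (5, 65, true), (5, 43, true), (8, 68, true), (7, 71, true), (6, 73, true), (5, 74, true), (4, 77, true), (7, 28, true), (6, 31, true), (5, 35, true), (6, 45, true), (5, 48, true), (7, 10, true), (6, 13, true), (8, 1, true), (9, 15, true), (8, 16, true), (7, 18, true), (6, 19, true), (10, 10, true), (9, 11, true), (8, 13, true), (7, 14, true), (9, 6, true), (8, 7, true), (7, 9, true), (8, 0, true), (7, 56, true), (6, 60, true), (5, 64, true), (4, 65, true), (6, 37, true), (5, 41, true), (7, 29, true), (6, 33, true), (8, 22, true), (7, 26, true), (9, 4, true), (11, 55, true), (10, 56, true), (9, 57, true), (8, 60, true), (7, 61, true), (6, 62, true), (5, 63, true), (4, 64, true), (12, 45, true), (11, 46, true), (10, 47, true), (9, 50, true), (8, 51, true), (7, 52, true), (6, 53, true), (5, 54, true), (11, 15, true), (10, 16, true), (9, 17, true), (8, 20, true), (10, 10, true),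 (9, 11, true), (8, 12, true), (11, 1, true), (10, 2, true), (10, 0, true), (9, 30, true), (8, 32, true), (7, 34, true), (6, 35, true), (8, 5, true), (8, 15, true), (7, 19, true), (9, 36, true), (8, 40, true), (7, 41, true), (6, 42, true), (5, 44, true), (8, 28, true), (7, 32, true), (6, 33, true), (5, 34, true), (9, 0, true), (9, 91, true), (8, 95, true), (7, 96, true), (6, 97, true), (5, 98, true), (4, 101, true), (3, 104, true), (8, 55, true), (7, 57, true), (6, 59, true), (5, 60, true), (4, 63, true), (3, 65, true), (7, 28, true), (6, 30, true), (5, 32, true), (4, 33, true), (8, 21, true), (7, 23, true), (6, 25, true), (5, 26, true), (9, 45, true), (8, 47, true), (7, 49, true), (6, 50, true), (5, 51, true), (4, 52, true), (3, 53, true), (10, 21, true), (9, 23, true), (8, 25, true), (7, 26, true), (6, 27, true), (9, 10, true), (8, 12, true), (7, 14, true), (8, 1, true), (9, 0, true), (8, 46, true), (7, 47, true), (6, 50, true), (5, 52, true), (4, 53, true), (3, 54, true), (7, 37, true), (6, 38, true), (5, 41, true), (4, 43, true),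 (3, 44, true), (6, 29, true), (5, 30, true), (4, 33, true), (3, 35, true), (5, 22, true), (4, 23, true), (3, 26, true), (6, 11, true), (5, 12, true), (7, 4, true), (6, 5, true), (6, 2, true), (6, 0, true), (5, 70, true), (4, 71, true), (3, 72, true), (4, 51, true), (7, 46, true), (6, 49, true), (5, 51, true), (4, 54, true), (6, 37, true), (5, 40, true), (4, 42, true), (7, 29, true), (6, 32, true), (5, 34, true), (8, 11, true), (7, 14, true), (7, 4, true), (8, 2, true), (7, 57, true), (6, 61, true), (5, 62, true), (4, 63, true), (8, 47, true), (7, 51, true), (6, 52, true), (5, 53, true), (9, 30, true), (8, 34, true), (7, 35, true), (8, 23, true), (7, 27, true), (7, 17, true), (8, 12, true)]),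
    ([22, 11, 8, 3, 2, 1, 11, 8, 3, 2, 1], [(0, 211, true), (10, 211, true), (9, 154, true), (8, 155, true), (7, 156, true), (6, 157, true), (5, 158, true), (4, 160, true), (3, 163, true), (2, 164, true), (1, 166, true), (0, 170, true), (0, 97, true), (1, 84, true), (2, 72, true), (3, 61, true), (4, 42, true), (5, 34, true), (6, 27, true), (6, 80, true), (5, 85, true), (4, 86, true), (3, 88, true), (2, 89, true), (1, 90, true), (1, 76, true), (2, 65, true), (8, 28, true), (7, 31, true), (6, 34, true), (5, 35, true), (7, 55, true), (6, 58, true), (5, 61, true), (4, 63, true), (3, 64, true), (2, 65, true), (6, 15, true), (5, 18, true), (7, 10, true), (6, 13, true), (8, 6, true), (7, 9, true), (7, 3, true), (8, 1, true), (9, 0, true), (8, 56, true), (7, 57, true), (6, 59, true), (5, 60, true), (4, 61, true), (3, 63, true), (2, 64, true), (9, 29, true), (8, 30, true), (7, 32, true), (6, 33, true), (5, 34, true), (10, 22, true), (9, 23, true), (8, 25, true), (7, 26, true), (6, 27, true), (9, 11, true), (8, 12, true), (7, 14, true), (8, 16,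 true), (7, 17, true), (6, 20, true), (7, 7, true), (6, 8, true), (8, 2, true), (7, 5, true), (6, 94, true), (5, 98, true), (4, 99, true), (3, 100, true), (2, 101, true), (1, 102, true), (0, 104, true), (5, 66, true), (4, 68, true), (3, 70, true), (2, 71, true), (1, 74, true), (0, 76, true), (4, 45, true), (3, 48, true), (2, 52, true), (5, 10, true), (4, 13, true), (6, 1, true), (7, 45, true), (6, 46, true), (5, 48, true), (4, 49, true), (3, 52, true), (2, 54, true), (6, 36, true), (5, 37, true), (4, 39, true), (3, 40, true), (2, 43, true), (7, 28, true), (6, 29, true), (5, 31, true), (4, 32, true), (3, 35, true), (6, 10, true), (5, 11, true), (4, 13, true), (3, 14, true), (5, 3, true), (4, 4, true), (6, 1, true), (5, 2, true), (5, 15, true), (4, 17, true), (3, 18, true), (6, 10, true), (5, 12, true), (4, 13, true), (7, 6, true), (6, 8, true), (5, 9, true), (6, 0, true), (6, 36, true), (5, 38, true), (4, 40, true), (3, 41, true), (2, 44, true), (5, 21, true), (4, 23, true), (3, 25, true), (2, 26, true), (6, 15, true), (5, 17, true),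 (4, 19, true), (3, 20, true), (5, 10, true), (4, 12, true), (3, 14, true), (4, 3, true), (3, 5, true), (3, 55, true), (2, 61, true), (1, 65, true), (2, 55, true), (1, 61, true), (3, 28, true), (2, 34, true), (4, 21, true), (3, 27, true), (3, 15, true), (4, 10, true), (5, 6, true), (6, 3, true), (7, 1, true), (8, 28, true), (7, 29, true), (6, 30, true), (5, 31, true), (4, 32, true), (3, 33, true), (2, 35, true), (7, 15, true), (6, 16, true), (5, 17, true), (4, 18, true), (3, 19, true), (2, 20, true), (6, 10, true), (5, 11, true), (4, 12, true), (3, 13, true), (2, 14, true), (5, 6, true), (4, 7, true), (3, 8, true), (2, 9, true), (4, 28, true), (3, 29, true), (2, 30, true), (5, 3, true), (4, 4, true), (3, 5, true), (4, 66, true), (3, 67, true), (2, 73, true), (1, 76, true), (0, 77, true), (0, 65, true), (0, 62, true), (7, 0, true), (6, 56, true), (5, 57, true), (4, 58, true), (3, 59, true), (2, 60, true), (1, 62, true), (0, 65, true), (5, 29, true), (4, 30, true), (3, 31, true), (2, 32, true), (1, 33, true), (0, 35, true), (4, 16, true),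 (3, 17, true), (2, 18, true), (1, 19, true), (0, 20, true), (3, 11, true), (2, 12, true), (1, 13, true), (0, 14, true), (2, 7, true), (1, 8, true), (0, 9, true), (1, 4, true), (0, 5, true), (0, 2, true)], [(5, 67, true), (4, 68, true), (3, 69, true), (2, 74, true), (1, 77, true), (4, 36, true), (3, 39, true), (2, 43, true), (5, 28, true), (4, 31, true), (3, 35, true), (4, 0, true), (3, 18, true), (4, 13, true), (5, 9, true), (5, 55, true), (4, 59, true), (3, 60, true), (2, 63, true), (1, 65, true), (4, 15, true), (3, 19, true), (2, 20, true), (3, 10, true), (2, 14, true), (2, 6, true), (3, 3, true), (4, 1, true), (5, 0, true), (4, 37, true), (3, 38, true), (2, 39, true), (1, 44, true), (3, 7, true), (2, 8, true), (1, 9, true), (2, 4, true), (1, 5, true), (1, 2, true)]),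
    ([22, 11, 8, 3, 2, 1, 15, 8, 2], [(0, 211, true), (10, 214, true), (9, 37, true), (8, 38, true), (7, 39, true), (6, 40, true), (5, 41, true), (4, 43, true), (10, 29, true), (9, 30, true), (8, 31, true), (7, 32, true), (6, 33, true), (5, 35, true), (9, 16, true), (8, 17, true), (7, 18, true), (6, 19, true), (5, 20, true), (8, 11, true), (7, 12, true), (6, 13, true), (5, 14, true), (7, 7, true), (6, 8, true), (5, 9, true)], [(5, 121, true), (4, 122, true), (3, 123, true), (2, 128, true), (1, 131, true), (3, 36, true), (4, 21, true), (5, 10, true), (6, 0, true), (5, 49, true), (4, 51, true), (3, 53, true), (6, 40, true), (5, 42, true), (4, 44, true), (5, 32, true), (4, 34, true), (6, 19, true), (11, 10, true), (10, 11, true), (9, 12, true), (8, 13, true), (7, 14, true), (10, 3, true), (9, 4, true), (8, 5, true), (9, 45, true), (8, 46, true), (7, 48, true), (6, 50, true), (5, 51, true), (4, 52, true), (3, 54, true), (8, 28, true), (7, 29, true), (6, 31, true), (5, 33, true), (4, 34, true), (3, 35, true), (7, 21, true), (6, 22, true),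 (5, 24, true), (4, 26, true), (3, 27, true), (6, 0, true), (5, 37, true), (4, 39, true), (3, 41, true), (6, 4, true), (4, 35, false), (5, 33, false), (6, 31, false), (7, 30, false), (8, 29, false), (6, 14, false), (3, 43, false), (4, 41, false), (5, 40, false), (6, 9, false), (2, 99, false), (3, 93, false), (0, 214, true), (5, 212, true), (12, 210, true), (4, 156, true), (3, 157, true), (2, 158, true), (1, 160, true), (0, 161, true), (4, 19, true), (6, 94, true), (5, 95, true), (4, 96, true), (3, 97, true), (2, 98, true), (1, 100, true), (9, 29, true), (8, 30, true), (7, 31, true), (6, 32, true), (5, 33, true), (4, 34, true), (3, 35, true), (8, 22, true), (7, 23, true), (6, 24, true), (5, 25, true), (4, 26, true), (3, 27, true), (7, 46, true), (6, 47, true), (5, 48, true), (4, 49, true), (3, 50, true), (8, 22, true), (7, 23, true), (6, 24, true), (5, 25, true), (4, 26, true), (9, 11, true), (8, 12, true), (7, 13, true), (6, 14, true), (8, 2, true), (8, 45, true), (7, 47, true), (6, 48, true), (5, 50, true), (4, 51, true), (3, 54, true),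 (7, 36, true), (6, 38, true), (5, 39, true), (4, 41, true), (3, 42, true), (8, 28, true), (7, 30, true), (6, 31, true), (5, 33, true), (4, 34, true), (9, 21, true), (8, 23, true), (7, 24, true), (6, 26, true), (5, 27, true), (8, 10, true), (7, 12, true), (6, 13, true), (9, 3, true), (8, 5, true), (8, 1, true), (9, 0, true), (8, 4, true), (9, 67, true), (8, 68, true), (7, 69, true), (6, 70, true), (5, 71, true), (4, 73, true), (3, 74, true), (2, 76, true), (6, 28, true), (5, 31, true), (4, 35, true), (5, 45, true), (4, 48, true), (6, 10, true), (5, 13, true), (7, 1, true), (8, 45, true), (7, 46, true), (6, 48, true), (5, 49, true), (4, 54, true), (7, 36, true), (6, 37, true), (5, 39, true), (4, 40, true), (8, 28, true), (7, 29, true), (6, 31, true), (5, 32, true), (9, 10, true), (8, 11, true), (7, 13, true), (6, 14, true), (8, 3, true), (7, 4, true), (9, 1, true), (8, 2, true), (8, 36, true), (7, 38, true), (6, 39, true), (5, 43, true), (4, 44, true), (7, 28, true), (6, 30, true), (5, 31, true), (4, 35, true), (6, 0, true), (5, 17, true),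 (4, 18, true), (6, 12, true), (5, 13, true), (7, 8, true), (6, 9, true), (7, 55, true), (6, 57, true), (5, 59, true), (4, 60, true), (3, 65, true), (6, 15, true), (5, 17, true), (4, 19, true), (3, 20, true), (5, 10, true), (4, 12, true), (3, 14, true), (4, 6, true), (3, 8, true), (5, 3, true), (4, 5, true), (4, 1, true), (5, 0, true), (4, 11, true), (3, 13, true), (5, 4, true), (6, 2, true), (6, 55, true), (5, 57, true), (4, 58, true), (3, 59, true), (7, 36, true), (6, 38, true), (5, 39, true), (4, 40, true), (8, 10, true), (7, 12, true), (6, 13, true), (5, 14, true), (7, 6, true), (6, 8, true), (5, 9, true), (6, 1, true), (7, 0, true)]),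
    ([22, 16, 13, 3, 1, 16, 13, 3, 1], [(0, 215, true), (11, 215, true), (10, 153, true), (9, 154, true), (8, 155, true), (7, 156, true), (6, 157, true), (5, 159, true), (4, 160, true), (3, 163, true), (2, 164, true), (1, 166, true), (0, 170, true), (0, 97, true), (1, 84, true), (2, 72, true), (3, 61, true), (4, 42, true), (5, 34, true), (6, 27, true), (6, 80, true), (5, 85, true), (4, 86, true), (3, 88, true), (2, 89, true), (1, 90, true), (1, 76, true), (2, 65, true), (8, 28, true), (7, 31, true), (6, 34, true), (5, 35, true), (7, 55, true), (6, 58, true), (5, 61, true), (4, 63, true), (3, 64, true), (2, 65, true), (6, 15, true), (5, 18, true), (7, 10, true), (6, 13, true), (8, 6, true), (7, 9, true), (7, 3, true), (8, 1, true), (9, 0, true), (8, 56, true), (7, 57, true), (6, 59, true), (5, 60, true), (4, 61, true), (3, 63, true), (2, 64, true), (9, 29, true), (8, 30, true), (7, 32, true), (6, 33, true), (5, 34, true), (10, 22, true), (9, 23, true), (8, 25, true), (7, 26, true), (6, 27, true), (9, 22, true), (8, 23, true), (7, 25,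 true), (6, 26, true), (10, 16, true), (9, 17, true), (8, 19, true), (7, 20, true), (9, 7, true), (8, 8, true), (10, 2, true), (9, 5, true), (9, 91, true), (8, 94, true), (7, 95, true), (6, 97, true), (5, 98, true), (4, 99, true), (3, 100, true), (2, 101, true), (1, 102, true), (0, 104, true), (5, 66, true), (4, 68, true), (3, 70, true), (2, 71, true), (1, 74, true), (0, 76, true), (4, 45, true), (3, 48, true), (2, 52, true), (5, 10, true), (4, 13, true), (6, 1, true), (7, 45, true), (6, 46, true), (5, 48, true), (4, 49, true), (3, 52, true), (2, 54, true), (6, 36, true), (5, 37, true), (4, 39, true), (3, 40, true), (2, 43, true), (7, 28, true), (6, 29, true), (5, 31, true), (4, 32, true), (3, 35, true), (6, 10, true), (5, 11, true), (4, 13, true), (3, 14, true), (5, 3, true), (4, 4, true), (6, 1, true), (5, 2, true), (5, 15, true), (4, 17, true), (3, 18, true), (6, 10, true), (5, 12, true), (4, 13, true), (7, 6, true), (6, 8, true), (5, 9, true), (6, 0, true), (6, 36, true), (5, 38, true), (4, 40, true), (3, 41, true), (2, 44, true),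 (5, 21, true), (4, 23, true), (3, 25, true), (2, 26, true), (6, 15, true), (5, 17, true), (4, 19, true), (3, 20, true), (5, 10, true), (4, 12, true), (3, 14, true), (4, 3, true), (3, 5, true), (3, 55, true), (2, 61, true), (1, 65, true), (2, 55, true), (1, 61, true), (3, 28, true), (2, 34, true), (4, 21, true), (3, 27, true), (3, 15, true), (4, 10, true), (5, 6, true), (6, 3, true), (7, 1, true), (8, 28, true), (7, 29, true), (6, 30, true), (5, 31, true), (4, 32, true), (3, 33, true), (2, 35, true), (7, 15, true), (6, 16, true), (5, 17, true), (4, 18, true), (3, 19, true), (2, 20, true), (6, 10, true), (5, 11, true), (4, 12, true), (3, 13, true), (2, 14, true), (5, 6, true), (4, 7, true), (3, 8, true), (2, 9, true), (4, 28, true), (3, 29, true), (2, 30, true), (5, 21, true), (4, 22, true), (3, 23, true), (6, 45, true), (5, 46, true), (4, 47, true), (3, 51, true), (2, 52, true), (7, 36, true), (6, 37, true), (5, 38, true), (4, 42, true), (3, 43, true), (8, 28, true), (7, 29, true), (6, 30, true), (5, 34, true), (4, 35, true), (7, 21,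 true), (6, 22, true), (5, 23, true), (4, 27, true), (6, 10, true), (5, 11, true), (4, 12, true), (7, 3, true), (6, 4, true), (5, 5, true), (6, 1, true), (5, 2, true), (5, 0, true), (6, 66, true), (5, 68, true), (4, 70, true), (3, 74, true), (2, 75, true), (1, 76, true), (0, 77, true), (0, 65, true), (5, 28, true), (4, 31, true), (3, 35, true), (4, 6, true), (3, 9, true), (3, 0, true), (2, 53, true), (1, 54, true), (1, 44, true), (4, 16, true), (3, 17, true), (2, 19, true), (5, 11, true), (4, 12, true), (3, 14, true), (4, 7, true), (3, 8, true), (6, 0, true), (5, 56, true), (4, 57, true), (3, 58, true), (2, 60, true), (1, 62, true), (0, 65, true), (4, 29, true), (3, 30, true), (2, 31, true), (1, 33, true), (0, 35, true), (3, 22, true), (2, 23, true), (1, 24, true), (0, 26, true), (4, 11, true), (3, 12, true), (2, 13, true), (5, 7, true), (4, 8, true), (3, 9, true), (4, 4, true), (3, 5, true), (3, 2, true)], [(4, 137, true), (3, 139, true), (2, 149, true), (1, 152, true), (2, 105, true), (1, 111, true), (3, 78, true), (2, 84, true), (4,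 66, true), (3, 72, true), (5, 55, true), (4, 61, true), (6, 45, true), (5, 51, true), (7, 28, true), (6, 34, true), (8, 15, true), (9, 1, true), (10, 0, true), (9, 46, true), (8, 50, true), (7, 51, true), (6, 52, true), (5, 54, true), (8, 37, true), (7, 41, true), (6, 42, true), (5, 43, true), (9, 29, true), (8, 33, true), (7, 34, true), (6, 35, true), (8, 22, true), (7, 26, true), (6, 27, true), (7, 11, true), (8, 7, true), (9, 4, true), (10, 2, true), (10, 15, true), (9, 17, true), (8, 18, true), (7, 19, true), (6, 20, true), (9, 1, true), (10, 91, true), (9, 92, true), (8, 93, true), (7, 94, true), (6, 95, true), (5, 99, true), (4, 101, true), (3, 102, true), (2, 103, true), (4, 73, true), (5, 43, true), (10, 57, true), (9, 59, true), (8, 60, true), (7, 61, true), (6, 62, true), (5, 63, true), (11, 30, true), (10, 32, true), (9, 33, true), (8, 34, true), (7, 35, true), (10, 17, true), (9, 19, true), (8, 20, true), (9, 12, true), (8, 14, true), (8, 8, true), (9, 47, true), (8, 48, true), (7, 51, true), (6, 53, true), (10, 38, true),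 (9, 39, true), (8, 42, true), (7, 44, true), (9, 30, true), (8, 31, true), (7, 34, true), (10, 23, true), (9, 24, true), (8, 27, true), (9, 12, true), (8, 13, true), (10, 5, true), (11, 3, true), (10, 4, true), (12, 6, true), (11, 7, true), (10, 8, true), (9, 9, true), (11, 55, true), (10, 56, true), (9, 57, true), (8, 59, true), (7, 62, true), (6, 64, true), (5, 65, true), (10, 45, true), (9, 46, true), (8, 47, true), (7, 49, true), (6, 52, true), (5, 54, true), (9, 36, true), (8, 37, true), (7, 38, true), (6, 40, true), (5, 43, true), (10, 21, true), (9, 22, true), (8, 23, true), (7, 25, true), (11, 6, true), (10, 7, true), (9, 8, true), (12, 0, true), (11, 7, true), (10, 8, true), (9, 9, true), (10, 2, true), (7, 25, false), (8, 23, false), (6, 32, false), (7, 30, false), (8, 2, false), (7, 4, false), (7, 9, false), (8, 7, false), (5, 40, false), (6, 39, false), (7, 37, false), (8, 0, false), (5, 35, false), (6, 32, false), (7, 31, false), (8, 29, false), (9, 28, false), (5, 44, false), (6, 43, false), (7, 40, false), (8, 39, false),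 (9, 37, false), (10, 36, false), (9, 1, false), (7, 13, false), (8, 10, false), (5, 54, false), (6, 53, false), (7, 52, false), (8, 48, false), (9, 45, false), (5, 65, false), (4, 76, false), (5, 75, false), (6, 71, false), (7, 69, false), (8, 2, false), (8, 5, false), (9, 4, false), (7, 8, false), (8, 7, false), (7, 14, false), (8, 12, false), (9, 11, false), (6, 44, false), (7, 41, false), (8, 40, false), (9, 38, false), (10, 37, false), (9, 9, false), (10, 8, false), (11, 7, false), (7, 27, false), (8, 26, false), (9, 25, false), (10, 24, false), (11, 23, false), (12, 22, false), (6, 42, false), (7, 41, false), (8, 40, false), (9, 39, false), (10, 38, false), (11, 37, false), (5, 51, false), (6, 50, false), (7, 49, false), (8, 48, false), (9, 47, false), (10, 46, false), (4, 61, false), (5, 60, false), (6, 59, false), (7, 58, false), (8, 57, false), (9, 56, false), (4, 35, false), (4, 65, false), (5, 62, false), (4, 62, false), (2, 103, false), (3, 101, false), (4, 100, false), (5, 92, false), (0, 213, true), (3, 212, true), (10,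 211, true), (20, 210, true), (26, 209, true), (2, 156, true), (1, 157, true), (0, 160, true), (4, 94, true), (3, 96, true), (2, 97, true), (1, 98, true), (3, 51, true), (2, 52, true), (4, 27, true), (6, 3, true), (5, 4, true), (7, 66, true), (6, 67, true), (5, 68, true), (4, 70, true), (3, 73, true), (2, 75, true), (8, 28, true), (7, 31, true), (6, 35, true), (7, 45, true), (6, 48, true), (5, 53, true), (4, 54, true), (6, 36, true), (5, 39, true), (4, 44, true), (5, 28, true), (4, 31, true), (6, 10, true), (5, 13, true), (7, 3, true), (8, 1, true), (9, 15, true), (8, 16, true), (7, 17, true), (6, 18, true), (5, 19, true), (10, 10, true), (9, 11, true), (8, 12, true), (7, 13, true), (6, 14, true), (9, 6, true), (8, 7, true), (7, 8, true), (6, 9, true), (8, 0, true), (7, 56, true), (6, 57, true), (5, 60, true), (4, 62, true), (3, 65, true), (6, 16, true), (5, 17, true), (4, 20, true), (5, 11, true), (4, 12, true), (6, 7, true), (5, 8, true), (7, 4, true), (6, 5, true), (6, 2, true), (6, 0, true), (5, 13, true), (4, 14, true), (7, 153,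 true), (6, 154, true), (5, 155, true), (4, 156, true), (3, 160, true), (2, 164, true), (1, 166, true), (0, 170, true), (0, 97, true), (1, 84, true), (2, 72, true), (3, 61, true), (4, 42, true), (5, 34, true), (6, 27, true), (6, 80, true), (5, 85, true), (4, 86, true), (3, 88, true), (2, 89, true), (1, 90, true), (1, 76, true), (2, 65, true), (8, 28, true), (7, 31, true), (6, 34, true), (5, 35, true), (7, 55, true), (6, 58, true), (5, 61, true), (4, 63, true), (3, 64, true), (2, 65, true), (6, 15, true), (5, 18, true), (7, 10, true), (6, 13, true), (8, 6, true), (7, 9, true), (7, 3, true), (8, 1, true), (9, 0, true), (8, 29, true), (7, 30, true), (6, 32, true), (5, 33, true), (4, 34, true), (9, 22, true), (8, 23, true), (7, 25, true), (6, 26, true), (5, 27, true), (8, 7, true), (7, 8, true), (9, 2, true), (8, 5, true), (8, 91, true), (7, 94, true), (6, 95, true), (5, 96, true), (4, 98, true), (3, 99, true), (2, 100, true), (1, 102, true), (0, 104, true), (5, 66, true), (4, 68, true), (3, 70, true), (2, 71, true), (1, 74, true), (0, 76,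 true), (4, 45, true), (3, 48, true), (2, 52, true), (5, 10, true), (4, 13, true), (6, 1, true), (7, 45, true), (6, 46, true), (5, 48, true), (4, 49, true), (3, 52, true), (2, 54, true), (6, 36, true), (5, 37, true), (4, 39, true), (3, 40, true), (2, 43, true), (7, 28, true), (6, 29, true), (5, 31, true), (4, 32, true), (3, 35, true), (6, 10, true), (5, 11, true), (4, 13, true), (3, 14, true), (5, 3, true), (4, 4, true), (6, 1, true), (5, 2, true), (5, 15, true), (4, 17, true), (3, 18, true), (6, 10, true), (5, 12, true), (4, 13, true), (7, 6, true), (6, 8, true), (5, 9, true), (6, 0, true), (6, 36, true), (5, 38, true), (4, 40, true), (3, 41, true), (2, 44, true), (5, 21, true), (4, 23, true), (3, 25, true), (2, 26, true), (6, 15, true), (5, 17, true), (4, 19, true), (3, 20, true), (5, 10, true), (4, 12, true), (3, 14, true), (4, 3, true), (3, 5, true), (3, 55, true), (2, 61, true), (1, 65, true), (2, 28, true), (1, 34, true), (3, 21, true), (2, 27, true), (2, 15, true), (3, 10, true), (4, 6, true), (5, 3, true), (6, 1, true), (7, 28,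 true), (6, 29, true), (5, 30, true), (4, 31, true), (3, 32, true), (2, 33, true), (1, 35, true), (6, 15, true), (5, 16, true), (4, 17, true), (3, 18, true), (2, 19, true), (1, 20, true), (5, 10, true), (4, 11, true), (3, 12, true), (2, 13, true), (1, 14, true), (4, 6, true), (3, 7, true), (2, 8, true), (1, 9, true), (3, 28, true), (2, 29, true), (1, 30, true), (4, 45, true), (3, 46, true), (2, 47, true), (1, 52, true), (5, 21, true), (4, 22, true), (3, 23, true), (6, 10, true), (5, 11, true), (4, 12, true), (7, 1, true), (6, 2, true), (6, 0, true), (5, 47, true), (4, 49, true), (3, 51, true), (2, 52, true), (1, 54, true), (4, 38, true), (3, 40, true), (2, 42, true), (1, 43, true), (5, 30, true), (4, 32, true), (3, 34, true), (2, 35, true), (4, 23, true), (3, 25, true), (2, 27, true), (3, 12, true), (2, 14, true), (2, 5, true), (3, 3, true), (2, 4, true), (4, 0, true), (3, 67, true), (2, 68, true), (1, 74, true), (0, 77, true), (3, 15, true), (2, 18, true), (4, 10, true), (3, 13, true), (5, 6, true), (4, 9, true), (4, 0, true), (3, 59,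 true), (2, 60, true), (1, 62, true), (0, 65, true), (2, 19, true), (1, 20, true), (1, 14, true), (4, 55, true), (3, 56, true), (2, 57, true), (1, 58, true), (0, 62, true), (5, 28, true), (4, 29, true), (3, 30, true), (2, 31, true), (1, 35, true), (4, 15, true), (3, 16, true), (2, 17, true), (1, 18, true), (5, 10, true), (4, 11, true), (3, 12, true), (2, 13, true), (6, 6, true), (5, 7, true), (4, 8, true), (3, 9, true), (5, 3, true), (4, 4, true), (3, 5, true), (4, 1, true), (3, 2, true), (3, 55, true), (2, 59, true), (1, 60, true), (0, 65, true), (2, 36, true), (1, 40, true), (0, 41, true), (3, 10, true), (2, 14, true), (2, 6, true), (3, 1, true), (4, 0, true), (3, 37, true), (2, 39, true), (1, 41, true), (0, 44, true), (2, 22, true), (1, 24, true), (0, 26, true), (3, 11, true), (2, 13, true), (4, 7, true), (3, 9, true), (3, 2, true)])]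
  gauge := [
    [(79, 1), (81, 1), (82, 1), (95, 1)], [(67, 1), (70, 1), (82, 1), (92, 1), (95, 1)],
    [(67, 1), (68, 1), (70, 1), (79, 1), (82, 1), (92, 1), (95, 1)],
    [(68, 1), (69, 1), (70, 1), (81, 1), (82, 1), (95, 1)], [(70, 1), (79, 1), (106, 1)],
    [(67, 1), (68, 1), (69, 1), (70, 1), (79, 1), (82, 1), (92, 1), (95, 1), (106, 1)],
    [(70, 1), (79, 1), (81, 1), (82, 1)], [(68, 1), (69, 1), (82, 1)],
    [(69, 1), (70, 1), (79, 1), (82, 1)], [], [(67, 1), (68, 1)], [(132, 1), (164, 1)], [(132, 1)],
    [(79, 1), (81, 1), (82, 1), (95, 1), (131, 1), (132, 1), (164, 1)], [], [(168, 1)], [], []]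
  picks := [
    [(1, 1), (5, 1), (8, 1), (10, 1), (13, 1), (17, 1), (19, 1), (21, 1), (22, 1), (23, 1), (39, 1), (48, 1), (57, 1), (61, 1), (64, 1), (65, 1), (74, 1)],
    [(0, 1), (3, 1), (5, 1), (8, 1), (9, 1), (10, 1), (14, 1), (15, 1), (19, 1), (20, 1), (26, 1), (27, 1), (32, 1), (34, 1), (35, 1), (36, 1), (37, 1), (39, 1), (41, 1), (42, 1), (44, 1), (46, 1), (47, 1), (48, 1), (50, 1), (57, 1), (63, 1), (88, 1), (90, 1), (92, 1), (110, 1), (113, 1)],
    [(0, 1), (1, 1), (3, 1), (8, 1), (9, 1), (10, 1), (12, 1), (13, 1), (14, 1), (17, 1), (18, 1), (20, 1), (21, 1), (22, 1), (23, 1), (24, 1), (26, 1), (27, 1), (29, 1), (34, 1), (37, 1), (38, 1), (39, 1), (40, 1), (41, 1), (43, 1), (44, 1), (45, 1), (46, 1), (49, 1), (63, 1), (65, 1), (74, 1), (77, 1), (90, 1), (91, 1), (92, 1), (110, 1), (112, 1), (150, 1)],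
    [(0, 1), (1, 1), (3, 1), (4, 1), (5, 1), (8, 1), (9, 1), (10, 1), (14, 1), (15, 1), (19, 1), (20, 1), (26, 1), (27, 1), (32, 1), (34, 1), (36, 1), (37, 1), (39, 1), (41, 1), (42, 1), (44, 1), (46, 1), (47, 1), (48, 1), (50, 1), (57, 1), (63, 1), (88, 1), (90, 1), (92, 1), (110, 1), (113, 1)],
    [(5, 1), (7, 1), (8, 1), (9, 1), (11, 1), (14, 1), (18, 1), (21, 1), (22, 1), (25, 1), (26, 1), (28, 1), (29, 1), (31, 1), (33, 1), (35, 1), (36, 1), (37, 1), (48, 1), (49, 1), (50, 1), (51, 1), (53, 1), (54, 1), (55, 1), (57, 1), (58, 1), (61, 1), (64, 1), (65, 1), (66, 1), (69, 1), (71, 1), (72, 1), (73, 1), (76, 1), (78, 1), (81, 1), (82, 1), (83, 1), (85, 1), (88, 1), (89, 1), (93, 1), (101, 1), (102, 1), (107, 1), (111, 1), (113, 1), (115, 1), (117, 1), (118, 1), (120, 1), (124, 1), (125, 1), (126, 1), (129, 1), (150, 1), (151, 1)],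
    [(0, 1), (1, 1), (3, 1), (5, 1), (8, 1), (9, 1), (10, 1), (12, 1), (13, 1), (14, 1), (17, 1), (18, 1), (20, 1), (21, 1), (22, 1), (23, 1), (24, 1), (26, 1), (27, 1), (29, 1), (33, 1), (34, 1), (37, 1), (38, 1), (39, 1), (40, 1), (41, 1), (43, 1), (44, 1), (45, 1), (46, 1), (49, 1), (63, 1), (65, 1), (74, 1), (77, 1), (90, 1), (91, 1), (92, 1), (110, 1), (112, 1), (150, 1)],
    [(0, 1), (1, 1), (3, 1), (5, 1), (8, 1), (9, 1), (14, 1), (15, 1), (19, 1), (20, 1), (26, 1), (27, 1), (32, 1), (34, 1), (35, 1), (36, 1), (37, 1), (41, 1), (42, 1), (44, 1), (46, 1), (47, 1), (48, 1), (50, 1), (63, 1), (88, 1), (90, 1), (92, 1), (110, 1), (113, 1)],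
    [(0, 1), (1, 1), (5, 1), (7, 1), (8, 1), (9, 1), (10, 1), (14, 1), (16, 1), (23, 1), (26, 1), (27, 1), (29, 1), (31, 1), (36, 1), (41, 1), (42, 1), (44, 1), (45, 1), (46, 1), (47, 1), (49, 1), (51, 1), (53, 1), (55, 1), (59, 1), (60, 1), (61, 1), (67, 1), (69, 1), (71, 1), (72, 1), (73, 1), (74, 1), (77, 1), (78, 1), (81, 1), (82, 1), (83, 1), (85, 1), (88, 1), (89, 1), (93, 1), (95, 1), (101, 1), (102, 1), (107, 1), (111, 1), (115, 1), (117, 1), (118, 1), (120, 1), (124, 1), (125, 1), (126, 1), (150, 1), (151, 1), (152, 1)],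
    [(0, 1), (1, 1), (5, 1), (7, 1), (8, 1), (9, 1), (10, 1), (14, 1), (16, 1), (23, 1), (26, 1), (27, 1), (29, 1), (31, 1), (36, 1), (41, 1), (42, 1), (44, 1), (45, 1), (46, 1), (47, 1), (49, 1), (51, 1), (53, 1), (55, 1), (59, 1), (60, 1), (61, 1), (67, 1), (69, 1), (71, 1), (72, 1), (73, 1), (74, 1), (77, 1), (78, 1), (81, 1), (82, 1), (83, 1), (85, 1), (88, 1), (89, 1), (93, 1), (95, 1), (101, 1), (102, 1), (107, 1), (111, 1), (115, 1), (117, 1), (118, 1), (120, 1), (124, 1), (125, 1), (126, 1), (129, 1), (150, 1), (151, 1), (152, 1)],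
    [(0, 1), (3, 1), (8, 1), (9, 1), (12, 1), (13, 1), (14, 1), (17, 1), (18, 1), (20, 1), (21, 1), (23, 1), (27, 1), (28, 1), (29, 1), (31, 1), (34, 1), (38, 1), (39, 1), (40, 1), (41, 1), (43, 1), (44, 1), (45, 1), (46, 1), (49, 1), (55, 1), (63, 1), (65, 1), (74, 1), (77, 1), (90, 1), (91, 1), (92, 1), (110, 1), (112, 1), (150, 1)],
    [(15, 1), (35, 1), (74, 1)],
    [(0, 1), (3, 1), (5, 1), (6, 1), (8, 1), (9, 1), (10, 1), (22, 1), (24, 1), (26, 1), (27, 1), (28, 1), (30, 1), (31, 1), (33, 1), (35, 1), (37, 1), (40, 1), (42, 1), (44, 1), (46, 1), (48, 1), (59, 1), (63, 1), (110, 1)],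
    [(4, 1), (5, 1), (6, 1), (8, 1), (12, 1), (13, 1), (14, 1), (16, 1), (17, 1), (20, 1), (23, 1), (26, 1), (30, 1), (31, 1), (32, 1), (33, 1), (35, 1), (36, 1), (37, 1), (38, 1), (42, 1), (43, 1), (46, 1), (49, 1), (57, 1), (64, 1), (74, 1), (77, 1), (90, 1), (91, 1), (92, 1), (110, 1), (113, 1)],
    [(0, 1), (1, 1), (2, 1), (3, 1), (4, 1), (5, 1), (6, 1), (11, 1), (13, 1), (15, 1), (19, 1), (23, 1), (24, 1), (25, 1), (27, 1), (29, 1), (31, 1), (32, 1), (33, 1), (34, 1), (36, 1), (39, 1), (40, 1), (41, 1), (47, 1), (50, 1), (57, 1), (59, 1), (74, 1), (77, 1), (91, 1), (92, 1), (113, 1)],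
    [(4, 1), (5, 1), (6, 1), (8, 1), (12, 1), (14, 1), (16, 1), (20, 1), (23, 1), (26, 1), (30, 1), (31, 1), (32, 1), (35, 1), (36, 1), (37, 1), (38, 1), (42, 1), (43, 1), (46, 1), (49, 1), (57, 1), (64, 1), (72, 1), (74, 1), (77, 1), (90, 1), (91, 1), (92, 1), (110, 1), (113, 1)],
    [(1, 1), (10, 1), (15, 1), (39, 1), (57, 1), (74, 1)],
    [(2, 1), (5, 1), (7, 1), (9, 1), (11, 1), (12, 1), (17, 1), (24, 1), (29, 1), (30, 1), (32, 1), (33, 1), (35, 1), (36, 1), (37, 1), (38, 1), (39, 1), (40, 1), (42, 1), (43, 1), (44, 1), (47, 1), (49, 1), (59, 1), (63, 1), (74, 1), (76, 1), (77, 1), (88, 1), (90, 1), (92, 1), (112, 1), (113, 1)],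
    [(1, 1), (2, 1), (6, 1), (9, 1), (10, 1), (12, 1), (13, 1), (14, 1), (17, 1), (20, 1), (23, 1), (24, 1), (27, 1), (28, 1), (32, 1), (35, 1), (36, 1), (38, 1), (39, 1), (43, 1), (44, 1), (48, 1), (49, 1), (50, 1), (57, 1), (58, 1), (60, 1), (65, 1), (88, 1)],
    [(1, 1), (2, 1), (5, 1), (6, 1), (7, 1), (8, 1), (9, 1), (14, 1), (15, 1), (16, 1), (18, 1), (19, 1), (20, 1), (22, 1), (24, 1), (25, 1), (26, 1), (28, 1), (32, 1), (33, 1), (35, 1), (36, 1), (37, 1), (38, 1), (39, 1), (40, 1), (42, 1), (43, 1), (44, 1), (47, 1), (49, 1), (50, 1), (57, 1), (58, 1), (60, 1), (64, 1), (65, 1), (74, 1), (76, 1), (77, 1), (90, 1), (92, 1), (112, 1)],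
    [(1, 1), (2, 1), (6, 1), (9, 1), (13, 1), (14, 1), (15, 1), (17, 1), (18, 1), (20, 1), (21, 1), (23, 1), (24, 1), (26, 1), (28, 1), (32, 1), (36, 1), (38, 1), (39, 1), (43, 1), (44, 1), (45, 1), (48, 1), (49, 1), (50, 1), (57, 1), (58, 1), (60, 1), (74, 1), (92, 1)],
    [(1, 1), (2, 1), (5, 1), (7, 1), (9, 1), (10, 1), (11, 1), (12, 1), (13, 1), (22, 1), (26, 1), (28, 1), (29, 1), (30, 1), (31, 1), (32, 1), (33, 1), (36, 1), (38, 1), (39, 1), (42, 1), (43, 1), (44, 1), (45, 1), (47, 1), (48, 1), (49, 1), (55, 1), (59, 1), (61, 1), (63, 1), (64, 1), (72, 1), (74, 1), (76, 1), (77, 1), (88, 1), (90, 1), (92, 1), (112, 1), (113, 1)],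
    [(15, 1), (35, 1), (39, 1), (44, 1)],
    [(0, 1), (3, 1), (4, 1), (8, 1), (9, 1), (10, 1), (11, 1), (12, 1), (13, 1), (14, 1), (20, 1), (21, 1), (22, 1), (25, 1), (27, 1), (29, 1), (31, 1), (39, 1), (46, 1), (47, 1), (58, 1), (60, 1), (63, 1), (65, 1), (88, 1), (90, 1), (110, 1), (113, 1)],
    [(0, 1), (1, 1), (2, 1), (3, 1), (6, 1), (10, 1), (17, 1), (18, 1), (23, 1), (24, 1), (27, 1), (28, 1), (34, 1), (35, 1), (37, 1), (38, 1), (41, 1), (42, 1), (43, 1), (45, 1), (46, 1), (47, 1), (49, 1), (58, 1), (60, 1), (63, 1), (65, 1), (88, 1), (90, 1), (110, 1), (113, 1)],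
    [(2, 1), (5, 1), (9, 1), (11, 1), (12, 1), (16, 1), (17, 1), (22, 1), (24, 1), (25, 1), (27, 1), (28, 1), (29, 1), (30, 1), (32, 1), (34, 1), (35, 1), (36, 1), (37, 1), (39, 1), (41, 1), (42, 1), (44, 1), (46, 1), (47, 1), (48, 1), (88, 1), (90, 1), (110, 1), (113, 1)],
    [(0, 1), (3, 1), (4, 1), (5, 1), (6, 1), (7, 1), (9, 1), (10, 1), (11, 1), (12, 1), (16, 1), (23, 1), (24, 1), (29, 1), (30, 1), (32, 1), (35, 1), (36, 1), (38, 1), (39, 1), (43, 1), (44, 1), (48, 1), (49, 1), (50, 1), (57, 1), (58, 1), (60, 1), (76, 1)],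
    [(1, 1), (4, 1), (7, 1), (15, 1), (18, 1), (23, 1), (24, 1), (25, 1), (39, 1), (44, 1), (45, 1), (50, 1), (57, 1), (63, 1), (65, 1), (76, 1)],
    [(0, 1), (1, 1), (3, 1), (4, 1), (6, 1), (7, 1), (8, 1), (9, 1), (11, 1), (12, 1), (15, 1), (16, 1), (17, 1), (19, 1), (21, 1), (22, 1), (24, 1), (25, 1), (29, 1), (30, 1), (32, 1), (35, 1), (36, 1), (38, 1), (39, 1), (43, 1), (49, 1), (50, 1), (58, 1), (60, 1), (64, 1), (65, 1), (76, 1)],
    [(1, 1), (4, 1), (10, 1), (44, 1)],
    [(0, 1), (2, 1), (3, 1), (4, 1), (7, 1), (9, 1), (10, 1), (11, 1), (14, 1), (15, 1), (18, 1), (19, 1), (20, 1), (25, 1), (27, 1), (31, 1), (32, 1), (33, 1), (34, 1), (35, 1), (36, 1), (39, 1), (41, 1), (44, 1), (45, 1), (50, 1), (57, 1), (58, 1), (59, 1), (60, 1), (63, 1), (76, 1), (88, 1), (91, 1), (92, 1), (112, 1), (113, 1)],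
    [(0, 1), (1, 1), (2, 1), (3, 1), (5, 1), (6, 1), (7, 1), (8, 1), (10, 1), (12, 1), (13, 1), (15, 1), (17, 1), (19, 1), (21, 1), (23, 1), (25, 1), (26, 1), (27, 1), (33, 1), (37, 1), (42, 1), (47, 1), (48, 1), (50, 1), (57, 1), (58, 1), (59, 1), (60, 1), (63, 1), (76, 1), (88, 1), (91, 1), (92, 1), (112, 1), (113, 1)],
    [(0, 1), (2, 1), (3, 1), (4, 1), (5, 1), (7, 1), (8, 1), (9, 1), (11, 1), (12, 1), (13, 1), (14, 1), (16, 1), (18, 1), (20, 1), (21, 1), (22, 1), (23, 1), (24, 1), (28, 1), (29, 1), (31, 1), (32, 1), (36, 1), (38, 1), (43, 1), (46, 1), (47, 1), (48, 1), (49, 1), (50, 1), (58, 1), (60, 1), (63, 1), (64, 1), (65, 1), (76, 1), (88, 1), (91, 1), (92, 1), (112, 1), (113, 1)],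
    [(2, 1), (6, 1), (7, 1), (8, 1), (9, 1), (11, 1), (12, 1), (13, 1), (14, 1), (16, 1), (17, 1), (20, 1), (21, 1), (22, 1), (23, 1), (24, 1), (25, 1), (28, 1), (31, 1), (33, 1), (34, 1), (35, 1), (38, 1), (41, 1), (43, 1), (44, 1), (47, 1), (48, 1), (49, 1), (65, 1), (74, 1), (76, 1), (77, 1)],
    [(2, 1), (7, 1), (8, 1), (12, 1), (13, 1), (15, 1), (18, 1), (19, 1), (21, 1), (23, 1), (29, 1), (32, 1), (34, 1), (35, 1), (36, 1), (37, 1), (41, 1), (42, 1), (46, 1), (47, 1), (48, 1), (57, 1), (59, 1), (64, 1), (74, 1), (76, 1), (77, 1)],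
    [(1, 1), (2, 1), (4, 1), (6, 1), (8, 1), (9, 1), (11, 1), (12, 1), (13, 1), (14, 1), (17, 1), (18, 1), (20, 1), (21, 1), (22, 1), (23, 1), (28, 1), (29, 1), (31, 1), (34, 1), (35, 1), (37, 1), (38, 1), (39, 1), (41, 1), (42, 1), (43, 1), (45, 1), (49, 1), (50, 1)],
    [(0, 1), (2, 1), (3, 1), (4, 1), (6, 1), (7, 1), (8, 1), (10, 1), (11, 1), (12, 1), (13, 1), (15, 1), (18, 1), (19, 1), (21, 1), (22, 1), (23, 1), (24, 1), (26, 1), (28, 1), (29, 1), (31, 1), (32, 1), (33, 1), (34, 1), (36, 1), (40, 1), (41, 1), (42, 1), (45, 1), (47, 1), (57, 1), (59, 1), (63, 1), (74, 1), (76, 1), (77, 1)],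
    [(0, 1), (3, 1), (4, 1), (5, 1), (8, 1), (9, 1), (14, 1), (15, 1), (19, 1), (20, 1), (26, 1), (27, 1), (32, 1), (34, 1), (35, 1), (36, 1), (37, 1), (41, 1), (42, 1), (46, 1), (47, 1), (48, 1), (50, 1), (63, 1), (88, 1), (90, 1), (92, 1), (110, 1), (113, 1)],
    [(0, 1), (2, 1), (3, 1), (4, 1), (5, 1), (8, 1), (10, 1), (12, 1), (15, 1), (16, 1), (17, 1), (18, 1), (19, 1), (20, 1), (21, 1), (22, 1), (25, 1), (26, 1), (32, 1), (35, 1), (38, 1), (39, 1), (40, 1), (42, 1), (43, 1), (44, 1), (45, 1), (46, 1), (47, 1), (48, 1), (50, 1), (51, 1), (53, 1), (54, 1), (55, 1), (57, 1), (60, 1), (61, 1), (63, 1), (64, 1), (65, 1), (66, 1), (69, 1), (71, 1), (72, 1), (73, 1), (78, 1), (81, 1), (82, 1), (83, 1), (85, 1), (89, 1), (90, 1), (91, 1), (92, 1), (93, 1), (101, 1), (102, 1), (107, 1), (111, 1), (112, 1), (113, 1), (115, 1), (117, 1), (118, 1), (120, 1), (124, 1), (125, 1), (126, 1), (129, 1), (150, 1), (151, 1)],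
    [(1, 1), (2, 1), (5, 1), (6, 1), (9, 1), (10, 1), (11, 1), (12, 1), (14, 1), (15, 1), (16, 1), (17, 1), (19, 1), (20, 1), (22, 1), (25, 1), (28, 1), (29, 1), (31, 1), (33, 1), (34, 1), (38, 1), (39, 1), (41, 1), (43, 1), (44, 1), (47, 1), (48, 1), (49, 1), (50, 1), (63, 1), (64, 1), (65, 1), (88, 1), (90, 1), (92, 1)],
    [(0, 1), (2, 1), (6, 1), (9, 1), (11, 1), (15, 1), (16, 1), (17, 1), (19, 1), (20, 1), (21, 1), (23, 1), (26, 1), (27, 1), (30, 1), (31, 1), (32, 1), (33, 1), (35, 1), (37, 1), (38, 1), (40, 1), (41, 1), (43, 1), (45, 1), (46, 1), (51, 1), (53, 1), (55, 1), (57, 1), (58, 1), (61, 1), (63, 1), (64, 1), (65, 1), (67, 1), (69, 1), (71, 1), (72, 1), (73, 1), (76, 1), (78, 1), (81, 1), (82, 1), (83, 1), (85, 1), (88, 1), (89, 1), (90, 1), (93, 1), (95, 1), (101, 1), (102, 1), (107, 1), (110, 1), (111, 1), (112, 1), (115, 1), (117, 1), (118, 1), (120, 1), (124, 1), (125, 1), (126, 1), (129, 1), (150, 1), (151, 1), (152, 1)],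
    [(1, 1), (2, 1), (4, 1), (5, 1), (7, 1), (9, 1), (10, 1), (11, 1), (15, 1), (16, 1), (17, 1), (21, 1), (26, 1), (28, 1), (29, 1), (30, 1), (32, 1), (34, 1), (35, 1), (36, 1), (37, 1), (39, 1), (41, 1), (42, 1), (44, 1), (46, 1), (47, 1), (48, 1), (50, 1), (57, 1), (63, 1), (65, 1), (74, 1), (76, 1), (90, 1), (91, 1), (110, 1), (113, 1)],
    [(0, 1), (1, 1), (2, 1), (3, 1), (5, 1), (7, 1), (9, 1), (13, 1), (14, 1), (15, 1), (16, 1), (17, 1), (20, 1), (21, 1), (23, 1), (25, 1), (26, 1), (28, 1), (34, 1), (35, 1), (37, 1), (38, 1), (40, 1), (41, 1), (42, 1), (43, 1), (44, 1), (46, 1), (47, 1), (49, 1), (63, 1), (64, 1), (76, 1), (77, 1), (88, 1), (92, 1)],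
    [(1, 1), (4, 1), (5, 1), (6, 1), (8, 1), (13, 1), (14, 1), (15, 1), (16, 1), (18, 1), (20, 1), (21, 1), (23, 1), (25, 1), (27, 1), (30, 1), (31, 1), (32, 1), (35, 1), (36, 1), (38, 1), (39, 1), (43, 1), (45, 1), (46, 1), (47, 1), (48, 1), (49, 1), (50, 1), (88, 1), (90, 1), (110, 1), (113, 1)],
    [(0, 1), (1, 1), (2, 1), (3, 1), (5, 1), (7, 1), (8, 1), (9, 1), (10, 1), (11, 1), (12, 1), (13, 1), (14, 1), (16, 1), (18, 1), (20, 1), (21, 1), (22, 1), (23, 1), (24, 1), (29, 1), (31, 1), (32, 1), (36, 1), (38, 1), (43, 1), (44, 1), (46, 1), (47, 1), (48, 1), (49, 1), (50, 1), (58, 1), (60, 1), (63, 1), (64, 1), (65, 1), (76, 1), (88, 1), (91, 1), (92, 1), (112, 1), (113, 1)],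
    [(1, 1), (4, 1), (5, 1), (6, 1), (9, 1), (12, 1), (14, 1), (16, 1), (18, 1), (19, 1), (20, 1), (22, 1), (29, 1), (31, 1), (32, 1), (33, 1), (34, 1), (35, 1), (36, 1), (37, 1), (41, 1), (44, 1), (46, 1), (47, 1), (48, 1), (55, 1), (58, 1), (59, 1), (60, 1), (61, 1), (65, 1), (74, 1), (92, 1), (150, 1)],
    [(0, 1), (3, 1), (4, 1), (5, 1), (8, 1), (9, 1), (10, 1), (14, 1), (19, 1), (20, 1), (26, 1), (27, 1), (32, 1), (34, 1), (36, 1), (37, 1), (41, 1), (42, 1), (44, 1), (46, 1), (47, 1), (48, 1), (50, 1), (63, 1), (88, 1), (90, 1), (92, 1), (110, 1), (113, 1)],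
    [(0, 1), (1, 1), (2, 1), (3, 1), (4, 1), (12, 1), (14, 1), (15, 1), (17, 1), (18, 1), (19, 1), (20, 1), (23, 1), (24, 1), (25, 1), (28, 1), (29, 1), (30, 1), (31, 1), (32, 1), (33, 1), (34, 1), (35, 1), (36, 1), (40, 1), (41, 1), (45, 1), (47, 1), (50, 1), (58, 1), (60, 1), (64, 1), (92, 1), (110, 1), (113, 1)],
    [(1, 1), (4, 1), (6, 1), (9, 1), (11, 1), (12, 1), (13, 1), (20, 1), (28, 1), (29, 1), (30, 1), (32, 1), (33, 1), (35, 1), (37, 1), (38, 1), (39, 1), (40, 1), (43, 1), (45, 1), (46, 1), (47, 1), (50, 1), (51, 1), (53, 1), (54, 1), (55, 1), (57, 1), (58, 1), (61, 1), (64, 1), (66, 1), (69, 1), (71, 1), (72, 1), (73, 1), (78, 1), (81, 1), (82, 1), (83, 1), (85, 1), (88, 1), (89, 1), (91, 1), (92, 1), (93, 1), (101, 1), (102, 1), (107, 1), (110, 1), (111, 1), (112, 1), (115, 1), (117, 1), (118, 1), (120, 1), (124, 1), (125, 1), (126, 1), (129, 1), (150, 1), (151, 1)],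
    [(3, 1), (4, 1), (5, 1), (6, 1), (7, 1), (8, 1), (12, 1), (13, 1), (14, 1), (15, 1), (17, 1), (18, 1), (19, 1), (24, 1), (26, 1), (29, 1), (30, 1), (33, 1), (34, 1), (36, 1), (38, 1), (42, 1), (43, 1), (45, 1), (46, 1), (48, 1), (50, 1), (51, 1), (53, 1), (55, 1), (57, 1), (59, 1), (60, 1), (61, 1), (63, 1), (67, 1), (69, 1), (71, 1), (72, 1), (73, 1), (78, 1), (81, 1), (82, 1), (83, 1), (85, 1), (89, 1), (91, 1), (93, 1), (95, 1), (101, 1), (102, 1), (107, 1), (111, 1), (113, 1), (115, 1), (117, 1), (118, 1), (120, 1), (124, 1), (125, 1), (126, 1), (150, 1), (151, 1), (152, 1)],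
    [(2, 1), (4, 1), (6, 1), (9, 1), (13, 1), (14, 1), (15, 1), (17, 1), (20, 1), (21, 1), (24, 1), (25, 1), (26, 1), (27, 1), (29, 1), (32, 1), (34, 1), (36, 1), (37, 1), (39, 1), (40, 1), (41, 1), (42, 1), (44, 1), (46, 1), (47, 1), (48, 1), (50, 1), (57, 1), (58, 1), (59, 1), (60, 1), (63, 1), (65, 1), (77, 1), (92, 1), (110, 1)],
    [(0, 1), (1, 1), (2, 1), (3, 1), (4, 1), (5, 1), (7, 1), (8, 1), (10, 1), (13, 1), (14, 1), (16, 1), (20, 1), (22, 1), (24, 1), (26, 1), (27, 1), (28, 1), (29, 1), (30, 1), (31, 1), (32, 1), (34, 1), (35, 1), (36, 1), (37, 1), (41, 1), (42, 1), (45, 1), (48, 1), (50, 1), (58, 1), (60, 1), (74, 1), (76, 1), (88, 1), (90, 1), (112, 1), (113, 1)],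
    [(1, 1), (4, 1), (5, 1), (6, 1), (8, 1), (13, 1), (14, 1), (15, 1), (16, 1), (18, 1), (20, 1), (21, 1), (23, 1), (24, 1), (25, 1), (27, 1), (30, 1), (31, 1), (32, 1), (35, 1), (36, 1), (38, 1), (39, 1), (43, 1), (45, 1), (46, 1), (47, 1), (48, 1), (49, 1), (88, 1), (90, 1), (110, 1), (113, 1)],
    [(0, 1), (2, 1), (3, 1), (4, 1), (6, 1), (7, 1), (10, 1), (16, 1), (17, 1), (22, 1), (24, 1), (26, 1), (34, 1), (35, 1), (37, 1), (38, 1), (39, 1), (41, 1), (42, 1), (43, 1), (45, 1), (46, 1), (49, 1), (50, 1), (58, 1), (60, 1), (63, 1), (64, 1), (65, 1), (76, 1), (88, 1), (91, 1), (92, 1), (112, 1), (113, 1)],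
    [(0, 1), (3, 1), (4, 1), (5, 1), (6, 1), (7, 1), (8, 1), (11, 1), (13, 1), (14, 1), (16, 1), (18, 1), (19, 1), (23, 1), (24, 1), (27, 1), (28, 1), (29, 1), (30, 1), (33, 1), (36, 1), (37, 1), (44, 1), (45, 1), (46, 1), (48, 1), (49, 1), (50, 1), (51, 1), (53, 1), (54, 1), (55, 1), (57, 1), (58, 1), (59, 1), (61, 1), (64, 1), (65, 1), (66, 1), (69, 1), (71, 1), (72, 1), (73, 1), (76, 1), (78, 1), (81, 1), (82, 1), (83, 1), (85, 1), (89, 1), (90, 1), (93, 1), (101, 1), (102, 1), (107, 1), (110, 1), (111, 1), (115, 1), (117, 1), (118, 1), (120, 1), (124, 1), (125, 1), (126, 1), (129, 1), (150, 1), (151, 1)],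
    [(0, 1), (1, 1), (2, 1), (3, 1), (4, 1), (5, 1), (6, 1), (7, 1), (8, 1), (10, 1), (11, 1), (13, 1), (16, 1), (17, 1), (22, 1), (23, 1), (26, 1), (27, 1), (28, 1), (33, 1), (34, 1), (35, 1), (38, 1), (39, 1), (41, 1), (43, 1), (45, 1), (47, 1), (48, 1), (49, 1), (55, 1), (59, 1), (61, 1), (64, 1), (74, 1), (76, 1), (88, 1), (90, 1), (92, 1), (110, 1), (113, 1), (150, 1)],
    [(1, 1)],
    [(0, 1), (1, 1), (2, 1), (3, 1), (5, 1), (6, 1), (7, 1), (8, 1), (12, 1), (14, 1), (16, 1), (17, 1), (18, 1), (21, 1), (24, 1), (25, 1), (26, 1), (28, 1), (30, 1), (31, 1), (33, 1), (34, 1), (36, 1), (38, 1), (42, 1), (43, 1), (44, 1), (47, 1), (48, 1), (51, 1), (53, 1), (54, 1), (55, 1), (57, 1), (60, 1), (61, 1), (66, 1), (69, 1), (71, 1), (72, 1), (73, 1), (78, 1), (81, 1), (82, 1), (83, 1), (85, 1), (88, 1), (89, 1), (91, 1), (93, 1), (101, 1), (102, 1), (107, 1), (111, 1), (112, 1), (113, 1), (115, 1), (117, 1), (118, 1), (120, 1), (124, 1), (125, 1), (126, 1), (150, 1), (151, 1)],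
    [(1, 1), (2, 1), (8, 1), (12, 1), (14, 1), (16, 1), (17, 1), (18, 1), (21, 1), (24, 1), (25, 1), (26, 1), (28, 1), (30, 1), (31, 1), (32, 1), (38, 1), (42, 1), (43, 1), (44, 1), (47, 1), (48, 1), (51, 1), (53, 1), (54, 1), (55, 1), (57, 1), (60, 1), (61, 1), (66, 1), (69, 1), (71, 1), (72, 1), (73, 1), (78, 1), (81, 1), (82, 1), (83, 1), (85, 1), (88, 1), (89, 1), (91, 1), (93, 1), (101, 1), (102, 1), (107, 1), (111, 1), (112, 1), (113, 1), (115, 1), (117, 1), (118, 1), (120, 1), (124, 1), (125, 1), (126, 1), (150, 1), (151, 1)],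
    [(0, 1), (3, 1), (4, 1), (5, 1), (9, 1), (11, 1), (13, 1), (17, 1), (20, 1), (23, 1), (26, 1), (29, 1), (30, 1), (33, 1), (35, 1), (36, 1), (37, 1), (39, 1), (40, 1), (44, 1), (46, 1), (47, 1), (48, 1), (49, 1), (51, 1), (53, 1), (54, 1), (55, 1), (57, 1), (60, 1), (61, 1), (66, 1), (69, 1), (71, 1), (72, 1), (73, 1), (78, 1), (81, 1), (82, 1), (83, 1), (85, 1), (88, 1), (89, 1), (91, 1), (93, 1), (101, 1), (102, 1), (107, 1), (111, 1), (112, 1), (113, 1), (115, 1), (117, 1), (118, 1), (120, 1), (124, 1), (125, 1), (126, 1), (150, 1), (151, 1)],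
    [(0, 1), (2, 1), (3, 1), (6, 1), (7, 1), (11, 1), (12, 1), (16, 1), (17, 1), (24, 1), (25, 1), (28, 1), (29, 1), (33, 1), (34, 1), (38, 1), (40, 1), (41, 1), (43, 1), (44, 1), (47, 1), (48, 1), (49, 1)],
    [(0, 1), (1, 1), (2, 1), (3, 1), (4, 1), (5, 1), (8, 1), (9, 1), (13, 1), (14, 1), (17, 1), (18, 1), (20, 1), (21, 1), (23, 1), (31, 1), (32, 1), (34, 1), (35, 1), (36, 1), (37, 1), (39, 1), (41, 1), (42, 1), (44, 1), (46, 1), (47, 1), (48, 1)],
    [(22, 1)], [(26, 1)],
    [(0, 1), (3, 1), (4, 1), (5, 1), (11, 1), (13, 1), (17, 1), (20, 1), (23, 1), (26, 1), (28, 1), (29, 1), (33, 1), (35, 1), (36, 1), (37, 1), (39, 1), (40, 1), (44, 1), (46, 1), (47, 1), (48, 1), (49, 1), (51, 1), (53, 1), (54, 1), (55, 1), (57, 1), (60, 1), (61, 1), (66, 1), (69, 1), (71, 1), (72, 1), (73, 1), (78, 1), (81, 1), (82, 1), (83, 1), (85, 1), (88, 1), (89, 1), (91, 1), (93, 1), (101, 1), (102, 1), (107, 1), (111, 1), (112, 1), (113, 1), (115, 1), (117, 1), (118, 1), (120, 1), (124, 1), (125, 1), (126, 1), (150, 1), (151, 1)],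
    [(0, 1), (3, 1), (4, 1), (5, 1), (6, 1), (9, 1), (11, 1), (13, 1), (14, 1), (15, 1), (17, 1), (18, 1), (19, 1), (23, 1), (28, 1), (29, 1), (31, 1), (32, 1), (34, 1), (35, 1), (37, 1), (39, 1), (40, 1), (44, 1), (46, 1), (47, 1), (48, 1), (49, 1), (51, 1), (53, 1), (54, 1), (55, 1), (57, 1), (60, 1), (61, 1), (66, 1), (69, 1), (71, 1), (72, 1), (73, 1), (78, 1), (81, 1), (82, 1), (83, 1), (85, 1), (88, 1), (89, 1), (91, 1), (93, 1), (101, 1), (102, 1), (107, 1), (111, 1), (112, 1), (113, 1), (115, 1), (117, 1), (118, 1), (120, 1), (124, 1), (125, 1), (126, 1), (150, 1), (151, 1)],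
    [(0, 1), (2, 1), (3, 1), (6, 1), (32, 1), (33, 1), (34, 1), (36, 1)],
    [(0, 1), (3, 1), (4, 1), (6, 1), (8, 1), (9, 1), (10, 1), (11, 1), (12, 1), (13, 1), (14, 1), (15, 1), (18, 1), (19, 1), (20, 1), (21, 1), (23, 1), (24, 1), (25, 1), (29, 1), (34, 1), (35, 1), (38, 1), (39, 1), (46, 1), (47, 1), (48, 1), (49, 1), (56, 1), (57, 1), (59, 1), (62, 1), (64, 1), (65, 1), (67, 1), (70, 1), (78, 1), (80, 1), (81, 1), (82, 1), (85, 1), (87, 1), (88, 1), (89, 1), (91, 1), (94, 1), (95, 1), (96, 1), (98, 1), (99, 1), (100, 1), (109, 1), (111, 1), (112, 1), (113, 1), (115, 1), (117, 1), (118, 1), (121, 1), (126, 1)],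
    [], [], [], [],
    [(5, 1), (6, 1), (8, 1), (9, 1), (11, 1), (13, 1), (15, 1), (16, 1), (17, 1), (19, 1), (20, 1), (22, 1), (24, 1), (26, 1), (28, 1), (30, 1), (31, 1), (34, 1), (35, 1), (36, 1), (38, 1), (39, 1), (44, 1), (46, 1), (47, 1), (50, 1), (51, 1), (53, 1), (54, 1), (55, 1), (56, 1), (57, 1), (58, 1), (62, 1), (64, 1), (65, 1), (66, 1), (67, 1), (69, 1), (70, 1), (71, 1), (73, 1), (77, 1), (80, 1), (83, 1), (87, 1), (91, 1), (92, 1), (93, 1), (94, 1), (95, 1), (96, 1), (98, 1), (99, 1), (100, 1), (101, 1), (102, 1), (107, 1), (109, 1), (110, 1), (112, 1), (113, 1), (120, 1), (121, 1), (124, 1), (125, 1), (151, 1)],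
    [(0, 1), (1, 1), (3, 1), (4, 1), (5, 1), (6, 1), (7, 1), (9, 1), (11, 1), (18, 1), (21, 1), (22, 1), (23, 1), (25, 1), (27, 1), (28, 1), (29, 1), (32, 1), (34, 1), (36, 1), (39, 1), (40, 1), (43, 1), (44, 1), (45, 1), (46, 1), (55, 1), (57, 1), (58, 1), (59, 1), (61, 1), (64, 1), (66, 1), (67, 1), (70, 1), (74, 1), (77, 1), (78, 1), (80, 1), (81, 1), (82, 1), (85, 1), (87, 1), (88, 1), (89, 1), (91, 1), (94, 1), (96, 1), (98, 1), (99, 1), (109, 1), (111, 1), (112, 1), (113, 1), (115, 1), (117, 1), (118, 1), (121, 1), (126, 1)],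
    [(0, 1), (4, 1), (5, 1), (7, 1), (9, 1), (10, 1), (13, 1), (16, 1), (17, 1), (19, 1), (20, 1), (22, 1), (26, 1), (27, 1), (28, 1), (29, 1), (30, 1), (33, 1), (35, 1), (36, 1), (38, 1), (39, 1), (40, 1), (41, 1), (42, 1), (44, 1), (46, 1), (47, 1), (49, 1), (52, 1), (53, 1), (54, 1), (55, 1), (56, 1), (57, 1), (58, 1), (59, 1), (61, 1), (62, 1), (63, 1), (65, 1), (66, 1), (67, 1), (68, 1), (72, 1), (73, 1), (74, 1), (75, 1), (76, 1), (77, 1), (78, 1), (79, 1), (80, 1), (83, 1), (84, 1), (87, 1), (88, 1), (90, 1), (91, 1), (92, 1), (93, 1), (94, 1), (95, 1), (99, 1), (102, 1), (104, 1), (106, 1), (107, 1), (109, 1), (110, 1), (112, 1), (114, 1), (116, 1), (117, 1), (120, 1), (121, 1), (125, 1)],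
    [(0, 1), (7, 1), (9, 1), (10, 1), (12, 1), (17, 1), (18, 1), (23, 1), (24, 1), (25, 1), (26, 1), (27, 1), (28, 1), (29, 1), (33, 1), (35, 1), (37, 1), (38, 1), (40, 1), (43, 1), (44, 1), (45, 1), (47, 1), (50, 1), (51, 1), (52, 1), (57, 1), (59, 1), (61, 1), (63, 1), (64, 1), (68, 1), (69, 1), (70, 1), (71, 1), (74, 1), (75, 1), (76, 1), (78, 1), (79, 1), (84, 1), (90, 1), (96, 1), (98, 1), (100, 1), (101, 1), (104, 1), (106, 1), (110, 1), (113, 1), (114, 1), (116, 1), (117, 1), (124, 1), (150, 1), (151, 1)],
    [(0, 1), (2, 1), (3, 1), (5, 1), (6, 1), (9, 1), (11, 1), (12, 1), (15, 1), (18, 1), (19, 1), (20, 1), (21, 1), (22, 1), (24, 1), (25, 1), (27, 1), (29, 1), (30, 1), (32, 1), (36, 1), (37, 1), (38, 1), (41, 1), (46, 1), (48, 1), (49, 1), (50, 1), (55, 1), (56, 1), (58, 1), (59, 1), (60, 1), (62, 1), (67, 1), (70, 1), (74, 1), (77, 1), (78, 1), (80, 1), (81, 1), (82, 1), (85, 1), (87, 1), (89, 1), (90, 1), (91, 1), (92, 1), (94, 1), (95, 1), (96, 1), (98, 1), (99, 1), (100, 1), (109, 1), (110, 1), (111, 1), (112, 1), (115,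 1), (117, 1), (118, 1), (121, 1), (126, 1)],
    [(0, 1)],
    [(0, 1), (1, 1), (2, 1), (7, 1), (10, 1), (13, 1), (15, 1), (17, 1), (18, 1), (19, 1), (20, 1), (21, 1), (22, 1), (23, 1), (25, 1), (26, 1), (27, 1), (29, 1), (33, 1), (36, 1), (38, 1), (39, 1), (40, 1), (42, 1), (46, 1), (53, 1), (54, 1), (59, 1), (61, 1), (63, 1), (64, 1), (65, 1), (66, 1), (68, 1), (71, 1), (72, 1), (75, 1), (76, 1), (77, 1), (79, 1), (80, 1), (81, 1), (82, 1), (83, 1), (84, 1), (85, 1), (86, 1), (92, 1), (96, 1), (97, 1), (99, 1), (101, 1), (106, 1), (107, 1), (108, 1), (110, 1), (111, 1), (119, 1), (120, 1), (121, 1), (124, 1), (126, 1), (127, 1), (128, 1), (129, 1), (131, 1), (132, 1), (135, 1), (136, 1), (137, 1), (138, 1), (141, 1), (147, 1), (148, 1), (150, 1), (151, 1), (154, 1), (155, 1), (156, 1)],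
    [(0, 1), (1, 1), (4, 1), (5, 1), (9, 1), (11, 1), (12, 1), (15, 1), (17, 1), (20, 1), (21, 1), (23, 1), (24, 1), (25, 1), (26, 1), (27, 1), (28, 1), (30, 1), (32, 1), (34, 1), (35, 1), (36, 1), (39, 1), (40, 1), (44, 1), (48, 1), (52, 1), (53, 1), (54, 1), (55, 1), (56, 1), (57, 1), (60, 1), (61, 1), (62, 1), (63, 1), (64, 1), (66, 1), (67, 1), (68, 1), (69, 1), (72, 1), (73, 1), (74, 1), (75, 1), (76, 1), (77, 1), (78, 1), (79, 1), (80, 1), (83, 1), (84, 1), (87, 1), (88, 1), (90, 1), (91, 1), (92, 1), (93, 1), (94, 1), (95, 1), (99, 1), (100, 1), (102, 1), (104, 1), (106, 1), (107, 1), (109, 1), (110, 1), (112, 1), (114, 1), (116, 1), (117, 1), (120, 1), (121, 1), (125, 1)],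
    [], [(6, 1), (36, 1), (51, 1)], [], [],
    [(0, 1), (4, 1), (5, 1), (6, 1), (7, 1), (8, 1), (12, 1), (16, 1), (24, 1), (28, 1), (31, 1), (32, 1), (33, 1), (34, 1), (35, 1), (37, 1), (38, 1), (40, 1), (43, 1), (45, 1), (46, 1), (48, 1), (50, 1), (51, 1), (52, 1), (55, 1), (56, 1), (58, 1), (60, 1), (62, 1), (65, 1), (67, 1), (68, 1), (71, 1), (72, 1), (75, 1), (76, 1), (79, 1), (80, 1), (81, 1), (82, 1), (84, 1), (85, 1), (87, 1), (88, 1), (89, 1), (91, 1), (92, 1), (94, 1), (95, 1), (99, 1), (100, 1), (101, 1), (104, 1), (106, 1), (109, 1), (110, 1), (111, 1), (112, 1), (113, 1), (114, 1), (115, 1), (116, 1), (118, 1), (121, 1), (124, 1), (126, 1), (151, 1)],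
    [(0, 1), (5, 1), (6, 1), (7, 1), (9, 1), (11, 1), (18, 1), (19, 1), (20, 1), (23, 1), (24, 1), (25, 1), (26, 1), (28, 1), (31, 1), (32, 1), (34, 1), (38, 1), (42, 1), (46, 1), (47, 1), (48, 1), (50, 1), (52, 1), (54, 1), (55, 1), (56, 1), (60, 1), (61, 1), (62, 1), (64, 1), (66, 1), (67, 1), (68, 1), (72, 1), (73, 1), (75, 1), (78, 1), (79, 1), (80, 1), (83, 1), (84, 1), (87, 1), (88, 1), (90, 1), (91, 1), (92, 1), (93, 1), (94, 1), (95, 1), (99, 1), (102, 1), (104, 1), (106, 1), (107, 1), (109, 1), (110, 1), (112, 1), (114, 1), (116, 1), (117, 1), (120, 1), (121, 1), (125, 1)],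
    [(0, 1), (5, 1), (9, 1), (11, 1), (15, 1), (17, 1), (21, 1), (24, 1), (26, 1), (31, 1), (32, 1), (33, 1), (35, 1), (36, 1), (37, 1), (38, 1), (39, 1), (44, 1), (48, 1), (49, 1), (50, 1), (51, 1), (53, 1), (54, 1), (56, 1), (58, 1), (59, 1), (60, 1), (62, 1), (63, 1), (68, 1), (70, 1), (72, 1), (73, 1), (75, 1), (79, 1), (81, 1), (82, 1), (83, 1), (84, 1), (85, 1), (89, 1), (90, 1), (92, 1), (93, 1), (95, 1), (96, 1), (98, 1), (102, 1), (104, 1), (106, 1), (107, 1), (110, 1), (111, 1), (113, 1), (114, 1), (115, 1), (116, 1), (118, 1), (120, 1), (125, 1), (126, 1)],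
    [(1, 1), (2, 1), (3, 1), (4, 1), (11, 1), (12, 1), (13, 1), (15, 1), (17, 1), (19, 1), (20, 1), (22, 1), (24, 1), (25, 1), (26, 1), (27, 1), (28, 1), (32, 1), (34, 1), (35, 1), (38, 1), (40, 1), (42, 1), (46, 1), (47, 1), (48, 1), (49, 1), (50, 1), (51, 1), (52, 1), (53, 1), (54, 1), (56, 1), (59, 1), (60, 1), (61, 1), (62, 1), (63, 1), (64, 1), (66, 1), (67, 1), (68, 1), (69, 1), (72, 1), (73, 1), (75, 1), (78, 1), (79, 1), (80, 1), (83, 1), (84, 1), (87, 1), (88, 1), (90, 1), (91, 1), (93, 1), (94, 1), (95, 1), (99, 1), (100, 1), (102, 1), (104, 1), (106, 1), (107, 1), (109, 1), (110, 1), (112, 1), (114, 1), (116, 1), (117, 1), (120, 1), (121, 1), (125, 1)],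
    [(0, 1), (1, 1), (4, 1), (5, 1), (8, 1), (10, 1), (11, 1), (13, 1), (15, 1), (16, 1), (17, 1), (20, 1), (21, 1), (23, 1), (24, 1), (26, 1), (31, 1), (32, 1), (33, 1), (34, 1), (35, 1), (36, 1), (40, 1), (41, 1), (43, 1), (47, 1), (48, 1), (49, 1), (50, 1), (53, 1), (55, 1), (56, 1), (58, 1), (62, 1), (64, 1), (65, 1), (66, 1), (68, 1), (70, 1), (71, 1), (74, 1), (75, 1), (78, 1), (79, 1), (84, 1), (88, 1), (95, 1), (96, 1), (98, 1), (100, 1), (101, 1), (104, 1), (106, 1), (114, 1), (116, 1), (117, 1), (124, 1), (150, 1), (151, 1)],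
    [(32, 1)],
    [(1, 1), (3, 1), (4, 1), (6, 1), (11, 1), (12, 1), (14, 1), (15, 1), (16, 1), (18, 1), (20, 1), (21, 1), (22, 1), (24, 1), (29, 1), (32, 1), (34, 1), (35, 1), (36, 1), (39, 1), (40, 1), (41, 1), (45, 1), (59, 1), (64, 1), (65, 1), (67, 1), (68, 1), (71, 1), (73, 1), (75, 1), (78, 1), (79, 1), (82, 1), (86, 1), (89, 1), (91, 1), (92, 1), (93, 1), (99, 1), (100, 1), (101, 1), (102, 1), (106, 1), (108, 1), (113, 1), (115, 1), (117, 1), (118, 1), (119, 1), (121, 1), (125, 1), (127, 1), (128, 1), (129, 1), (131, 1), (132, 1), (135, 1), (136, 1), (137, 1), (138, 1), (141, 1), (146, 1), (147, 1), (148, 1), (150, 1), (154, 1), (155, 1), (156, 1)],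
    [(0, 1), (1, 1), (2, 1), (5, 1), (6, 1), (8, 1), (9, 1), (10, 1), (11, 1), (13, 1), (14, 1), (15, 1), (17, 1), (19, 1), (20, 1), (23, 1), (27, 1), (28, 1), (31, 1), (35, 1), (36, 1), (37, 1), (38, 1), (39, 1), (40, 1), (42, 1), (46, 1), (48, 1), (49, 1), (50, 1), (55, 1), (57, 1), (58, 1), (59, 1), (63, 1), (68, 1), (69, 1), (73, 1), (75, 1), (77, 1), (78, 1), (79, 1), (80, 1), (84, 1), (86, 1), (88, 1), (89, 1), (92, 1), (93, 1), (96, 1), (97, 1), (99, 1), (102, 1), (106, 1), (108, 1), (110, 1), (113, 1), (115, 1), (117, 1), (118, 1), (119, 1), (121, 1), (125, 1), (127, 1), (128, 1), (131, 1), (134, 1), (136, 1), (137, 1), (138, 1), (141, 1), (147, 1), (148, 1), (154, 1), (155, 1), (156, 1)],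
    [(0, 1), (3, 1), (4, 1), (6, 1), (8, 1), (9, 1), (10, 1), (11, 1), (12, 1), (13, 1), (14, 1), (15, 1), (18, 1), (19, 1), (20, 1), (21, 1), (23, 1), (24, 1), (25, 1), (29, 1), (34, 1), (35, 1), (38, 1), (39, 1), (46, 1), (47, 1), (48, 1), (49, 1), (56, 1), (57, 1), (59, 1), (62, 1), (64, 1), (65, 1), (67, 1), (70, 1), (78, 1), (80, 1), (81, 1), (82, 1), (85, 1), (87, 1), (88, 1), (89, 1), (91, 1), (94, 1), (96, 1), (98, 1), (99, 1), (100, 1), (109, 1), (111, 1), (112, 1), (113, 1), (115, 1), (117, 1), (118, 1), (121, 1), (126, 1)],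
    [],
    [(2, 1), (4, 1), (6, 1), (7, 1), (9, 1), (10, 1), (14, 1), (16, 1), (17, 1), (18, 1), (19, 1), (20, 1), (21, 1), (22, 1), (23, 1), (28, 1), (29, 1), (30, 1), (34, 1), (36, 1), (39, 1), (42, 1), (43, 1), (48, 1), (50, 1), (51, 1), (55, 1), (56, 1), (57, 1), (58, 1), (62, 1), (63, 1), (64, 1), (65, 1), (69, 1), (71, 1), (75, 1), (77, 1), (78, 1), (79, 1), (84, 1), (95, 1), (96, 1), (98, 1), (101, 1), (104, 1), (106, 1), (110, 1), (112, 1), (114, 1), (116, 1), (117, 1), (124, 1), (150, 1), (151, 1)],
    [(0, 1), (3, 1), (4, 1), (5, 1), (7, 1), (8, 1), (11, 1), (17, 1), (19, 1), (20, 1), (23, 1), (26, 1), (30, 1), (31, 1), (34, 1), (43, 1), (47, 1), (48, 1), (49, 1), (53, 1), (54, 1), (56, 1), (57, 1), (58, 1), (61, 1), (62, 1), (63, 1), (64, 1), (65, 1), (66, 1), (72, 1), (73, 1), (74, 1), (75, 1), (79, 1), (81, 1), (82, 1), (83, 1), (84, 1), (85, 1), (89, 1), (90, 1), (92, 1), (93, 1), (95, 1), (96, 1), (98, 1), (102, 1), (104, 1), (106, 1), (107, 1), (110, 1), (111, 1), (113, 1), (114, 1), (115, 1), (116, 1), (118, 1), (120,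 1), (125, 1), (126, 1)],
    [],
    [(1, 1), (3, 1), (4, 1), (5, 1), (7, 1), (10, 1), (11, 1), (12, 1), (14, 1), (15, 1), (16, 1), (18, 1), (19, 1), (20, 1), (21, 1), (22, 1), (24, 1), (25, 1), (26, 1), (27, 1), (28, 1), (30, 1), (32, 1), (33, 1), (38, 1), (41, 1), (42, 1), (44, 1), (45, 1), (46, 1), (47, 1), (48, 1), (50, 1), (51, 1), (53, 1), (54, 1), (55, 1), (56, 1), (58, 1), (60, 1), (61, 1), (62, 1), (63, 1), (65, 1), (67, 1), (68, 1), (69, 1), (70, 1), (71, 1), (73, 1), (76, 1), (77, 1), (80, 1), (83, 1), (87, 1), (90, 1), (92, 1), (93, 1), (94, 1), (96, 1), (98, 1), (99, 1), (100, 1), (101, 1), (102, 1), (107, 1), (109, 1), (110, 1), (120, 1), (121, 1), (124, 1), (125, 1), (151, 1)],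
    [(0, 1), (4, 1), (7, 1), (10, 1), (12, 1), (16, 1), (21, 1), (22, 1), (23, 1), (27, 1), (28, 1), (30, 1), (34, 1), (38, 1), (40, 1), (46, 1), (48, 1), (49, 1), (54, 1), (55, 1), (57, 1), (59, 1), (60, 1), (61, 1), (63, 1), (64, 1), (65, 1), (70, 1), (74, 1), (77, 1), (78, 1), (80, 1), (81, 1), (82, 1), (85, 1), (87, 1), (88, 1), (89, 1), (91, 1), (94, 1), (95, 1), (96, 1), (98, 1), (99, 1), (109, 1), (111, 1), (112, 1), (113, 1), (115, 1), (117, 1), (118, 1), (121, 1), (126, 1)],
    [(0, 1), (1, 1), (5, 1), (7, 1), (9, 1), (13, 1), (16, 1), (17, 1), (19, 1), (20, 1), (22, 1), (26, 1), (27, 1), (28, 1), (29, 1), (30, 1), (33, 1), (35, 1), (36, 1), (38, 1), (39, 1), (40, 1), (41, 1), (42, 1), (46, 1), (47, 1), (49, 1), (52, 1), (53, 1), (54, 1), (55, 1), (56, 1), (57, 1), (58, 1), (59, 1), (61, 1), (62, 1), (63, 1), (65, 1), (66, 1), (67, 1), (68, 1), (72, 1), (73, 1), (74, 1), (75, 1), (76, 1), (77, 1), (78, 1), (79, 1), (80, 1), (83, 1), (84, 1), (87, 1), (88, 1), (90, 1), (91, 1), (92, 1), (93, 1), (94, 1), (95, 1), (99, 1), (100,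 1), (102, 1), (104, 1), (106, 1), (107, 1), (109, 1), (110, 1), (112, 1), (114, 1), (116, 1), (117, 1), (120, 1), (121, 1), (125, 1)],
    [(1, 1), (7, 1), (8, 1), (9, 1), (13, 1), (16, 1), (17, 1), (20, 1), (21, 1), (24, 1), (25, 1), (26, 1), (27, 1), (32, 1), (33, 1), (34, 1), (37, 1), (39, 1), (40, 1), (42, 1), (43, 1), (47, 1), (48, 1), (49, 1), (50, 1), (52, 1), (54, 1), (57, 1), (58, 1), (59, 1), (61, 1), (66, 1), (70, 1), (76, 1), (77, 1), (90, 1), (92, 1), (112, 1), (113, 1)],
    [(0, 1), (1, 1), (2, 1), (3, 1), (4, 1), (6, 1), (7, 1), (10, 1), (11, 1), (13, 1), (16, 1), (17, 1), (19, 1), (20, 1), (22, 1), (23, 1), (24, 1), (25, 1), (28, 1), (30, 1), (33, 1), (39, 1), (41, 1), (42, 1), (43, 1), (44, 1), (47, 1), (48, 1), (55, 1), (56, 1), (57, 1), (59, 1), (60, 1), (63, 1), (66, 1), (68, 1), (70, 1), (76, 1), (77, 1), (78, 1), (80, 1), (81, 1), (82, 1), (85, 1), (87, 1), (89, 1), (90, 1), (91, 1), (94, 1), (95, 1), (96, 1), (98, 1), (99, 1), (109, 1), (110, 1), (111, 1), (112, 1), (115, 1), (117, 1), (118, 1), (121, 1), (126,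 1)],
    [(0, 1), (1, 1), (2, 1), (4, 1), (6, 1), (11, 1), (12, 1), (16, 1), (17, 1), (19, 1), (20, 1), (21, 1), (23, 1), (24, 1), (25, 1), (26, 1), (27, 1), (28, 1), (31, 1), (33, 1), (34, 1), (36, 1), (39, 1), (41, 1), (45, 1), (46, 1), (52, 1), (53, 1), (54, 1), (56, 1), (57, 1), (58, 1), (59, 1), (60, 1), (62, 1), (66, 1), (68, 1), (70, 1), (72, 1), (73, 1), (74, 1), (75, 1), (76, 1), (77, 1), (79, 1), (81, 1), (82, 1), (83, 1), (84, 1), (85, 1), (89, 1), (90, 1), (92, 1), (93, 1), (95, 1), (96, 1), (98, 1), (102, 1), (104, 1), (106, 1), (107, 1), (110, 1), (111, 1), (113, 1), (114, 1), (115, 1), (116, 1), (118, 1), (120, 1), (125, 1), (126, 1)],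
    [(2, 1), (4, 1), (6, 1), (7, 1), (8, 1), (10, 1), (12, 1), (13, 1), (14, 1), (15, 1), (17, 1), (21, 1), (22, 1), (23, 1), (24, 1), (25, 1), (26, 1), (27, 1), (29, 1), (30, 1), (32, 1), (33, 1), (37, 1), (38, 1), (40, 1), (41, 1), (42, 1), (43, 1), (44, 1), (45, 1), (46, 1), (47, 1), (52, 1), (54, 1), (59, 1), (61, 1), (63, 1), (64, 1), (65, 1), (66, 1), (72, 1), (74, 1), (78, 1), (80, 1), (81, 1), (82, 1), (85, 1), (87, 1), (88, 1), (89, 1), (93, 1), (94, 1), (97, 1), (98, 1), (99, 1), (100, 1), (109, 1), (110, 1), (111, 1), (113, 1), (115, 1), (117, 1), (118, 1), (121, 1), (126, 1), (151, 1)],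
    [(1, 1), (7, 1), (9, 1), (12, 1), (13, 1), (14, 1), (16, 1), (22, 1), (24, 1), (26, 1), (27, 1), (29, 1), (30, 1), (31, 1), (32, 1), (34, 1), (35, 1), (39, 1), (41, 1), (43, 1), (44, 1), (45, 1), (46, 1), (47, 1), (48, 1), (49, 1), (50, 1), (52, 1), (54, 1), (56, 1), (57, 1), (62, 1), (63, 1), (65, 1), (67, 1), (70, 1), (72, 1), (75, 1), (78, 1), (79, 1), (81, 1), (82, 1), (83, 1), (84, 1), (86, 1), (87, 1), (88, 1), (89, 1), (91, 1), (92, 1), (94, 1), (101, 1), (104, 1), (107, 1), (108, 1), (109, 1), (112, 1), (113, 1), (114, 1), (115, 1), (117, 1), (118, 1), (119, 1), (127, 1), (128, 1), (129, 1), (131, 1), (132, 1), (135, 1), (136, 1), (137, 1), (138, 1), (141, 1), (146, 1), (147, 1), (148, 1), (150, 1), (151, 1), (154, 1), (155, 1), (156, 1)],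
    [(1, 1), (3, 1), (6, 1), (8, 1), (11, 1), (16, 1), (20, 1), (21, 1), (22, 1), (24, 1), (25, 1), (29, 1), (30, 1), (31, 1), (32, 1), (34, 1), (37, 1), (38, 1), (41, 1), (42, 1), (46, 1), (47, 1), (51, 1), (52, 1), (54, 1), (56, 1), (57, 1), (59, 1), (61, 1), (63, 1), (64, 1), (66, 1), (67, 1), (68, 1), (69, 1), (72, 1), (73, 1), (74, 1), (75, 1), (77, 1), (79, 1), (81, 1), (82, 1), (84, 1), (85, 1), (86, 1), (87, 1), (88, 1), (90, 1), (91, 1), (92, 1), (94, 1), (96, 1), (98, 1), (100, 1), (102, 1), (106, 1), (108, 1), (109, 1), (111, 1), (112, 1), (113, 1), (119, 1), (125, 1), (126, 1), (127, 1), (128, 1), (129, 1), (131, 1), (132, 1), (135, 1), (136, 1), (137, 1), (138, 1), (141, 1), (147, 1), (148, 1), (150, 1), (154, 1), (155, 1), (156, 1)],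
    [(0, 1), (5, 1), (7, 1), (8, 1), (9, 1), (18, 1), (20, 1), (21, 1), (23, 1), (25, 1), (27, 1), (28, 1), (29, 1), (30, 1), (31, 1), (32, 1), (33, 1), (39, 1), (40, 1), (41, 1), (43, 1), (45, 1), (47, 1), (48, 1), (52, 1), (53, 1), (54, 1), (55, 1), (56, 1), (58, 1), (61, 1), (62, 1), (65, 1), (66, 1), (67, 1), (68, 1), (71, 1), (72, 1), (73, 1), (74, 1), (75, 1), (80, 1), (83, 1), (84, 1), (87, 1), (88, 1), (90, 1), (91, 1), (92, 1), (93, 1), (94, 1), (95, 1), (99, 1), (102, 1), (104, 1), (106, 1), (107, 1), (109, 1), (110, 1), (112, 1), (114, 1), (116, 1), (117, 1), (120, 1), (121, 1), (125, 1)],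
    [],
    [(0, 1), (1, 1), (2, 1), (5, 1), (7, 1), (8, 1), (9, 1), (10, 1), (11, 1), (12, 1), (13, 1), (16, 1), (17, 1), (19, 1), (24, 1), (25, 1), (26, 1), (27, 1), (30, 1), (32, 1), (33, 1), (34, 1), (35, 1), (38, 1), (40, 1), (41, 1), (43, 1), (44, 1), (48, 1), (51, 1), (57, 1), (59, 1), (60, 1), (64, 1), (67, 1), (69, 1), (71, 1), (73, 1), (74, 1), (76, 1), (78, 1), (79, 1), (82, 1), (85, 1), (88, 1), (89, 1), (90, 1), (93, 1), (95, 1), (101, 1), (102, 1), (107, 1), (110, 1), (111, 1), (115, 1), (117, 1), (118, 1), (120, 1), (124, 1), (125, 1), (126, 1), (151, 1), (152, 1)],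
    [(3, 1), (4, 1), (10, 1), (17, 1), (18, 1), (20, 1), (21, 1), (25, 1), (27, 1), (28, 1), (29, 1), (30, 1), (31, 1), (32, 1), (34, 1), (36, 1), (37, 1), (40, 1), (42, 1), (46, 1), (47, 1), (48, 1), (49, 1), (50, 1), (55, 1), (56, 1), (57, 1), (60, 1), (61, 1), (63, 1), (64, 1), (68, 1), (69, 1), (70, 1), (77, 1), (78, 1), (81, 1), (82, 1), (87, 1), (88, 1), (92, 1), (93, 1), (94, 1), (95, 1), (99, 1), (100, 1), (102, 1), (104, 1), (106, 1), (107, 1), (109, 1), (110, 1), (112, 1), (113, 1), (114, 1), (116, 1), (117, 1), (120, 1), (121, 1), (125, 1), (129, 1), (150, 1)],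
    [(2, 1), (4, 1), (8, 1), (9, 1), (11, 1), (14, 1), (16, 1), (17, 1), (18, 1), (19, 1), (20, 1), (22, 1), (23, 1), (29, 1), (30, 1), (32, 1), (33, 1), (34, 1), (36, 1), (38, 1), (39, 1), (40, 1), (41, 1), (43, 1), (49, 1), (50, 1), (53, 1), (57, 1), (61, 1), (65, 1), (72, 1), (75, 1), (78, 1), (79, 1), (83, 1), (90, 1), (91, 1), (110, 1), (113, 1)],
    [(0, 1), (4, 1), (6, 1), (8, 1), (9, 1), (10, 1), (13, 1), (14, 1), (15, 1), (16, 1), (17, 1), (18, 1), (20, 1), (21, 1), (22, 1), (26, 1), (27, 1), (28, 1), (29, 1), (30, 1), (31, 1), (35, 1), (36, 1), (37, 1), (39, 1), (40, 1), (42, 1), (47, 1), (48, 1), (50, 1), (51, 1), (53, 1), (54, 1), (55, 1), (56, 1), (58, 1), (59, 1), (60, 1), (61, 1), (64, 1), (66, 1), (68, 1), (70, 1), (73, 1), (75, 1), (76, 1), (77, 1), (83, 1), (85, 1), (87, 1), (88, 1), (89, 1), (90, 1), (94, 1), (95, 1), (99, 1), (100, 1), (101, 1), (104, 1), (106, 1), (109, 1), (111, 1), (112, 1), (114, 1), (115, 1), (116, 1), (118, 1), (121, 1), (124, 1), (126, 1), (151, 1)],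
    [(0, 1), (4, 1), (8, 1), (9, 1), (10, 1), (11, 1), (12, 1), (19, 1), (20, 1), (24, 1), (26, 1), (27, 1), (28, 1), (30, 1), (34, 1), (35, 1), (36, 1), (40, 1), (42, 1), (43, 1), (44, 1), (50, 1), (52, 1), (53, 1), (54, 1), (55, 1), (56, 1), (60, 1), (61, 1), (62, 1), (63, 1), (65, 1), (66, 1), (67, 1), (68, 1), (69, 1), (72, 1), (73, 1), (75, 1), (76, 1), (77, 1), (79, 1), (80, 1), (82, 1), (83, 1), (84, 1), (87, 1), (88, 1), (90, 1), (91, 1), (92, 1), (93, 1), (94, 1), (95, 1), (99, 1), (100, 1), (102, 1), (104, 1), (106, 1), (107, 1), (109, 1), (110, 1), (112, 1), (114, 1), (116, 1), (117, 1), (120, 1), (121, 1), (125, 1)],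
    [(2, 1), (5, 1), (8, 1), (10, 1), (11, 1), (13, 1), (15, 1), (18, 1), (20, 1), (22, 1), (24, 1), (26, 1), (30, 1), (33, 1), (35, 1), (36, 1), (37, 1), (38, 1), (39, 1), (42, 1), (43, 1), (44, 1), (45, 1), (46, 1), (47, 1), (48, 1), (49, 1), (52, 1), (53, 1), (54, 1), (55, 1), (57, 1), (60, 1), (61, 1), (65, 1), (66, 1), (68, 1), (70, 1), (72, 1), (73, 1), (75, 1), (79, 1), (80, 1), (81, 1), (82, 1), (83, 1), (84, 1), (85, 1), (89, 1), (90, 1), (92, 1), (93, 1), (96, 1), (98, 1), (100, 1), (102, 1), (104, 1), (106, 1), (107, 1), (110, 1), (111, 1), (113, 1), (114, 1), (115, 1), (116, 1), (118, 1), (120, 1), (125, 1), (126, 1)],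
    [(0, 1), (3, 1), (4, 1), (7, 1), (9, 1), (10, 1), (12, 1), (13, 1), (14, 1), (15, 1), (18, 1), (19, 1), (21, 1), (22, 1), (23, 1), (25, 1), (26, 1), (27, 1), (29, 1), (32, 1), (37, 1), (38, 1), (42, 1), (43, 1), (45, 1), (46, 1), (48, 1), (49, 1), (50, 1), (51, 1), (53, 1), (56, 1), (57, 1), (58, 1), (60, 1), (61, 1), (64, 1), (67, 1), (68, 1), (70, 1), (72, 1), (73, 1), (74, 1), (81, 1), (83, 1), (85, 1), (87, 1), (89, 1), (90, 1), (91, 1), (92, 1), (94, 1), (99, 1), (100, 1), (101, 1), (104, 1), (106, 1), (109, 1), (110, 1), (111, 1), (113, 1), (114, 1), (115, 1), (116, 1), (118, 1), (121, 1), (124, 1), (126, 1), (151, 1), (152, 1)],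
    [(0, 1), (2, 1), (3, 1), (4, 1), (6, 1), (7, 1), (8, 1), (14, 1), (18, 1), (20, 1), (21, 1), (22, 1), (23, 1), (24, 1), (27, 1), (28, 1), (29, 1), (34, 1), (36, 1), (37, 1), (41, 1), (42, 1), (43, 1), (44, 1), (47, 1), (50, 1), (51, 1), (54, 1), (57, 1), (59, 1), (61, 1), (62, 1), (64, 1), (65, 1), (66, 1), (67, 1), (68, 1), (75, 1), (76, 1), (77, 1), (81, 1), (82, 1), (92, 1), (96, 1), (98, 1), (101, 1), (104, 1), (106, 1), (112, 1), (114, 1), (116, 1), (117, 1), (124, 1), (150, 1), (151, 1)],
    [(2, 1), (3, 1), (5, 1), (6, 1), (8, 1), (9, 1), (11, 1), (12, 1), (15, 1), (16, 1), (17, 1), (18, 1), (20, 1), (21, 1), (23, 1), (24, 1), (27, 1), (30, 1), (31, 1), (32, 1), (34, 1), (35, 1), (38, 1), (39, 1), (44, 1), (45, 1), (46, 1), (49, 1), (52, 1), (53, 1), (54, 1), (55, 1), (56, 1), (58, 1), (61, 1), (62, 1), (65, 1), (66, 1), (67, 1), (68, 1), (72, 1), (73, 1), (75, 1), (78, 1), (80, 1), (83, 1), (84, 1), (87, 1), (88, 1), (90, 1), (91, 1), (92, 1), (93, 1), (94, 1), (95, 1), (99, 1), (102, 1), (104, 1), (106, 1), (107, 1), (109,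 1), (110, 1), (112, 1), (114, 1), (116, 1), (117, 1), (120, 1), (121, 1), (125, 1)],
    [(1, 1), (2, 1), (3, 1), (4, 1), (5, 1), (7, 1), (8, 1), (9, 1), (16, 1), (17, 1), (18, 1), (19, 1), (20, 1), (22, 1), (23, 1), (24, 1), (26, 1), (27, 1), (31, 1), (32, 1), (33, 1), (36, 1), (38, 1), (41, 1), (43, 1), (46, 1), (48, 1), (54, 1), (56, 1), (57, 1), (65, 1), (67, 1), (70, 1), (71, 1), (73, 1), (74, 1), (75, 1), (76, 1), (77, 1), (80, 1), (81, 1), (82, 1), (83, 1), (86, 1), (89, 1), (90, 1), (91, 1), (92, 1), (93, 1), (97, 1), (98, 1), (99, 1), (100, 1), (101, 1), (102, 1), (104, 1), (108, 1), (110, 1), (112, 1), (115, 1), (116, 1), (118, 1), (119, 1), (120, 1), (121, 1), (125, 1), (127, 1), (128, 1), (129, 1), (131, 1), (132, 1), (135, 1), (136, 1), (137, 1), (138, 1), (141, 1), (146, 1), (147, 1), (148, 1), (150, 1), (151, 1), (154, 1), (155, 1), (156, 1)],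
    [(1, 1), (2, 1), (5, 1), (10, 1), (11, 1), (12, 1), (14, 1), (16, 1), (22, 1), (24, 1), (25, 1), (27, 1), (28, 1), (31, 1), (32, 1), (34, 1), (35, 1), (37, 1), (38, 1), (43, 1), (44, 1), (45, 1), (47, 1), (49, 1), (51, 1), (52, 1), (53, 1), (54, 1), (56, 1), (57, 1), (58, 1), (62, 1), (63, 1), (64, 1), (66, 1), (67, 1), (68, 1), (70, 1), (73, 1), (74, 1), (76, 1), (77, 1), (79, 1), (81, 1), (82, 1), (83, 1), (85, 1), (87, 1), (88, 1), (89, 1), (91, 1), (93, 1), (94, 1), (96, 1), (98, 1), (99, 1), (101, 1), (105, 1), (109, 1), (111, 1), (112, 1), (114, 1), (115, 1), (117, 1), (118, 1), (120, 1), (121, 1), (126, 1), (151, 1)],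
    [(0, 1), (1, 1), (3, 1), (4, 1), (5, 1), (6, 1), (7, 1), (8, 1), (9, 1), (11, 1), (12, 1), (14, 1), (15, 1), (16, 1), (22, 1), (23, 1), (24, 1), (25, 1), (27, 1), (28, 1), (30, 1), (31, 1), (33, 1), (34, 1), (35, 1), (36, 1), (43, 1), (47, 1), (48, 1), (52, 1), (53, 1), (54, 1), (55, 1), (56, 1), (58, 1), (59, 1), (61, 1), (62, 1), (64, 1), (66, 1), (72, 1), (74, 1), (78, 1), (79, 1), (80, 1), (82, 1), (83, 1), (84, 1), (86, 1), (87, 1), (88, 1), (89, 1), (90, 1), (94, 1), (95, 1), (100, 1), (101, 1), (104, 1), (105, 1), (107, 1), (108, 1), (109, 1), (110, 1), (112, 1), (113, 1), (114, 1), (115, 1), (116, 1), (118, 1), (119, 1), (120, 1), (127, 1), (128, 1), (129, 1), (131, 1), (132, 1), (135, 1), (136, 1), (137, 1), (138, 1), (141, 1), (146, 1), (147, 1), (148, 1), (150, 1), (154, 1), (155, 1), (156, 1)],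
    [(0, 1), (4, 1), (6, 1), (7, 1), (11, 1), (12, 1), (15, 1), (16, 1), (17, 1), (22, 1), (25, 1), (26, 1), (28, 1), (29, 1), (30, 1), (32, 1), (33, 1), (41, 1), (42, 1), (48, 1), (50, 1), (51, 1), (52, 1), (53, 1), (55, 1), (58, 1), (61, 1), (62, 1), (63, 1), (65, 1), (68, 1), (70, 1), (71, 1), (75, 1), (76, 1), (77, 1), (79, 1), (80, 1), (81, 1), (82, 1), (83, 1), (84, 1), (85, 1), (86, 1), (88, 1), (90, 1), (92, 1), (99, 1), (106, 1), (107, 1), (108, 1), (111, 1), (113, 1), (119, 1), (120, 1), (121, 1), (124, 1), (126, 1), (127, 1), (128, 1), (131, 1), (134, 1), (136, 1), (137, 1), (138, 1), (141, 1), (147, 1), (148, 1), (151, 1), (154, 1), (155, 1), (156, 1)],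
    [(0, 1), (3, 1), (5, 1), (7, 1), (8, 1), (9, 1), (10, 1), (12, 1), (16, 1), (17, 1), (19, 1), (21, 1), (22, 1), (23, 1), (24, 1), (29, 1), (31, 1), (32, 1), (34, 1), (35, 1), (36, 1), (37, 1), (38, 1), (40, 1), (41, 1), (43, 1), (44, 1), (45, 1), (47, 1), (49, 1), (53, 1), (55, 1), (61, 1), (63, 1), (64, 1), (65, 1), (72, 1), (75, 1), (76, 1), (77, 1), (78, 1), (79, 1), (83, 1), (85, 1), (86, 1), (87, 1), (89, 1), (92, 1), (104, 1), (110, 1), (113, 1)],
    [(0, 1), (4, 1), (6, 1), (7, 1), (10, 1), (12, 1), (13, 1), (14, 1), (15, 1), (16, 1), (17, 1), (24, 1), (26, 1), (27, 1), (29, 1), (32, 1), (34, 1), (38, 1), (46, 1), (47, 1), (50, 1), (51, 1), (55, 1), (56, 1), (58, 1), (59, 1), (61, 1), (63, 1), (64, 1), (65, 1), (68, 1), (69, 1), (73, 1), (75, 1), (77, 1), (78, 1), (79, 1), (82, 1), (93, 1), (95, 1), (96, 1), (97, 1), (107, 1), (110, 1), (111, 1), (116, 1), (119, 1), (120, 1), (123, 1), (127, 1), (130, 1), (132, 1), (137, 1), (138, 1), (143, 1), (153, 1)],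
    [(2, 1), (3, 1), (6, 1), (7, 1), (9, 1), (10, 1), (14, 1), (15, 1), (18, 1), (20, 1), (21, 1), (22, 1), (24, 1), (27, 1), (31, 1), (33, 1), (35, 1), (37, 1), (42, 1), (43, 1), (49, 1), (51, 1), (52, 1), (53, 1), (55, 1), (58, 1), (61, 1), (67, 1), (68, 1), (69, 1), (70, 1), (72, 1), (74, 1), (76, 1), (77, 1), (80, 1), (83, 1), (85, 1), (89, 1), (91, 1), (92, 1), (98, 1), (102, 1), (103, 1), (104, 1), (106, 1), (112, 1), (113, 1), (114, 1), (115, 1), (118, 1), (119, 1), (123, 1), (125, 1), (126, 1), (127, 1), (129, 1), (130, 1), (132, 1), (137, 1), (138, 1), (143, 1), (153, 1)],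
    [(0, 1), (1, 1), (2, 1), (4, 1), (5, 1), (7, 1), (9, 1), (14, 1), (15, 1), (17, 1), (19, 1), (20, 1), (21, 1), (24, 1), (25, 1), (26, 1), (27, 1), (29, 1), (30, 1), (31, 1), (33, 1), (36, 1), (37, 1), (38, 1), (39, 1), (40, 1), (41, 1), (43, 1), (46, 1), (52, 1), (53, 1), (56, 1), (57, 1), (62, 1), (65, 1), (67, 1), (68, 1), (70, 1), (71, 1), (75, 1), (77, 1), (78, 1), (79, 1), (80, 1), (83, 1), (84, 1), (85, 1), (87, 1), (88, 1), (90, 1), (92, 1), (95, 1), (96, 1), (97, 1), (99, 1), (101, 1), (102, 1), (103, 1), (110, 1), (112, 1), (113, 1), (115, 1), (116, 1), (117, 1), (118, 1), (119, 1), (123, 1), (124, 1), (125, 1), (126, 1), (127, 1), (130, 1), (132, 1), (137, 1), (138, 1), (143, 1), (150, 1), (151, 1), (153, 1)],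
    [(2, 1), (9, 1), (12, 1), (15, 1), (16, 1), (17, 1), (18, 1), (19, 1), (24, 1), (28, 1), (30, 1), (31, 1), (37, 1), (39, 1), (42, 1), (44, 1), (45, 1), (46, 1), (48, 1), (50, 1), (58, 1), (60, 1), (64, 1), (65, 1), (72, 1), (74, 1), (77, 1), (87, 1), (90, 1), (91, 1), (110, 1), (113, 1)],
    [(0, 1), (2, 1), (3, 1), (8, 1), (9, 1), (13, 1), (15, 1), (16, 1), (17, 1), (19, 1), (24, 1), (27, 1), (28, 1), (29, 1), (37, 1), (38, 1), (39, 1), (42, 1), (43, 1), (46, 1), (48, 1), (49, 1), (50, 1), (53, 1), (59, 1), (63, 1), (64, 1), (75, 1), (78, 1), (79, 1), (83, 1), (85, 1), (86, 1), (87, 1), (88, 1), (91, 1), (99, 1), (104, 1), (110, 1), (112, 1)],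
    [(0, 1), (3, 1), (5, 1), (7, 1), (8, 1), (9, 1), (10, 1), (12, 1), (16, 1), (17, 1), (19, 1), (21, 1), (22, 1), (23, 1), (24, 1), (29, 1), (31, 1), (32, 1), (34, 1), (35, 1), (36, 1), (37, 1), (38, 1), (40, 1), (41, 1), (43, 1), (44, 1), (45, 1), (47, 1), (49, 1), (53, 1), (55, 1), (61, 1), (63, 1), (64, 1), (65, 1), (72, 1), (75, 1), (76, 1), (77, 1), (78, 1), (79, 1), (83, 1), (86, 1), (87, 1), (89, 1), (92, 1), (104, 1), (110, 1), (113, 1)],
    [(1, 1), (4, 1), (6, 1), (8, 1), (9, 1), (11, 1), (14, 1), (15, 1), (17, 1), (18, 1), (22, 1), (23, 1), (24, 1), (25, 1), (26, 1), (27, 1), (29, 1), (33, 1), (35, 1), (38, 1), (42, 1), (43, 1), (45, 1), (47, 1), (48, 1), (49, 1), (50, 1), (53, 1), (54, 1), (55, 1), (56, 1), (57, 1), (58, 1), (59, 1), (61, 1), (65, 1), (66, 1), (67, 1), (68, 1), (74, 1), (75, 1), (78, 1), (79, 1), (83, 1), (91, 1), (92, 1), (95, 1), (97, 1), (98, 1), (100, 1), (104, 1), (112, 1), (113, 1)],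
    [(0, 1), (2, 1), (5, 1), (6, 1), (7, 1), (8, 1), (9, 1), (11, 1), (13, 1), (15, 1), (19, 1), (23, 1), (25, 1), (28, 1), (30, 1), (31, 1), (32, 1), (34, 1), (35, 1), (36, 1), (39, 1), (40, 1), (41, 1), (43, 1), (46, 1), (48, 1), (49, 1), (51, 1), (52, 1), (53, 1), (55, 1), (58, 1), (59, 1), (61, 1), (63, 1), (64, 1), (67, 1), (68, 1), (69, 1), (70, 1), (76, 1), (77, 1), (80, 1), (83, 1), (86, 1), (88, 1), (89, 1), (90, 1), (91, 1), (92, 1), (98, 1), (99, 1), (102, 1), (103, 1), (104, 1), (106, 1), (114, 1), (115, 1), (118, 1), (119, 1), (123, 1), (125, 1), (126, 1), (127, 1), (129, 1), (130, 1), (132, 1), (137, 1), (138, 1), (143, 1), (153, 1)],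
    [(0, 1), (1, 1), (2, 1), (4, 1), (6, 1), (9, 1), (11, 1), (14, 1), (15, 1), (17, 1), (19, 1), (20, 1), (22, 1), (25, 1), (29, 1), (30, 1), (31, 1), (32, 1), (33, 1), (34, 1), (40, 1), (43, 1), (48, 1), (49, 1), (51, 1), (53, 1), (54, 1), (57, 1), (61, 1), (64, 1), (66, 1), (67, 1), (69, 1), (73, 1), (74, 1), (76, 1), (82, 1), (83, 1), (85, 1), (86, 1), (90, 1), (92, 1), (93, 1), (96, 1), (98, 1), (100, 1), (104, 1), (107, 1), (111, 1), (113, 1), (116, 1), (119, 1), (120, 1), (123, 1), (127, 1), (130, 1), (132, 1), (137, 1), (138, 1), (143, 1), (153, 1)],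
    [(1, 1), (2, 1), (4, 1), (5, 1), (7, 1), (8, 1), (9, 1), (10, 1), (12, 1), (13, 1), (14, 1), (16, 1), (19, 1), (20, 1), (22, 1), (23, 1), (25, 1), (26, 1), (27, 1), (29, 1), (30, 1), (31, 1), (32, 1), (33, 1), (35, 1), (36, 1), (37, 1), (38, 1), (39, 1), (40, 1), (41, 1), (46, 1), (49, 1), (51, 1), (52, 1), (53, 1), (57, 1), (59, 1), (61, 1), (62, 1), (65, 1), (69, 1), (70, 1), (71, 1), (73, 1), (76, 1), (78, 1), (81, 1), (82, 1), (83, 1), (85, 1), (89, 1), (90, 1), (93, 1), (96, 1), (97, 1), (101, 1), (102, 1), (107, 1), (110, 1), (111, 1), (115, 1), (117, 1), (118, 1), (120, 1), (124, 1), (125, 1), (126, 1), (151, 1)],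
    [], [],
    [(0, 1), (3, 1), (5, 1), (8, 1), (9, 1), (10, 1), (14, 1), (15, 1), (16, 1), (19, 1), (20, 1), (22, 1), (27, 1), (28, 1), (29, 1), (31, 1), (34, 1), (37, 1), (39, 1), (41, 1), (53, 1), (56, 1), (57, 1), (58, 1), (61, 1), (62, 1), (63, 1), (65, 1), (66, 1), (72, 1), (75, 1), (76, 1), (78, 1), (79, 1), (83, 1), (85, 1), (86, 1), (87, 1), (89, 1), (92, 1), (94, 1), (95, 1), (100, 1), (104, 1), (110, 1), (113, 1)],
    [(1, 1), (4, 1), (6, 1), (7, 1), (12, 1), (15, 1), (17, 1), (18, 1), (19, 1), (21, 1), (27, 1), (30, 1), (31, 1), (35, 1), (36, 1), (38, 1), (39, 1), (40, 1), (42, 1), (44, 1), (46, 1), (47, 1), (50, 1), (53, 1), (57, 1), (63, 1), (69, 1), (74, 1), (76, 1), (77, 1), (100, 1), (102, 1)],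
    [(0, 1), (4, 1), (5, 1), (6, 1), (7, 1), (8, 1), (13, 1), (14, 1), (15, 1), (16, 1), (19, 1), (20, 1), (23, 1), (25, 1), (28, 1), (29, 1), (31, 1), (32, 1), (33, 1), (37, 1), (38, 1), (39, 1), (41, 1), (43, 1), (44, 1), (46, 1), (47, 1), (49, 1), (50, 1), (51, 1), (53, 1), (54, 1), (58, 1), (59, 1), (60, 1), (61, 1), (62, 1), (63, 1), (65, 1), (66, 1), (67, 1), (68, 1), (69, 1), (70, 1), (73, 1), (75, 1), (77, 1), (79, 1), (80, 1), (81, 1), (84, 1), (85, 1), (89, 1), (90, 1), (95, 1), (97, 1), (98, 1), (100, 1), (102, 1), (104, 1), (106, 1), (112, 1), (113, 1), (125, 1), (126, 1), (127, 1), (128, 1), (131, 1), (132, 1), (135, 1), (136, 1), (137, 1), (138, 1), (141, 1), (147, 1)],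
    [(0, 1), (3, 1), (4, 1), (6, 1), (7, 1), (8, 1), (9, 1), (10, 1), (11, 1), (13, 1), (15, 1), (17, 1), (18, 1), (22, 1), (23, 1), (26, 1), (29, 1), (30, 1), (33, 1), (35, 1), (37, 1), (40, 1), (41, 1), (42, 1), (47, 1), (48, 1), (50, 1), (51, 1), (54, 1), (55, 1), (57, 1), (61, 1), (63, 1), (65, 1), (66, 1), (68, 1), (72, 1), (73, 1), (75, 1), (76, 1), (77, 1), (80, 1), (81, 1), (88, 1), (90, 1), (92, 1), (95, 1), (100, 1), (107, 1), (108, 1), (109, 1), (110, 1), (111, 1), (112, 1), (113, 1), (117, 1), (118, 1), (119, 1)],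
    [(1, 1), (3, 1), (7, 1), (10, 1), (12, 1), (14, 1), (18, 1), (19, 1), (21, 1), (23, 1), (24, 1), (25, 1), (27, 1), (28, 1), (29, 1), (30, 1), (34, 1), (35, 1), (36, 1), (37, 1), (39, 1), (42, 1), (44, 1), (46, 1), (50, 1), (51, 1), (52, 1), (53, 1), (55, 1), (56, 1), (58, 1), (59, 1), (63, 1), (64, 1), (66, 1), (68, 1), (71, 1), (72, 1), (74, 1), (75, 1), (77, 1), (82, 1), (83, 1), (84, 1), (85, 1), (87, 1), (89, 1), (91, 1), (92, 1), (94, 1), (96, 1), (98, 1), (99, 1), (100, 1), (107, 1), (109, 1), (113, 1), (115, 1), (117, 1), (118, 1), (119, 1), (121, 1), (122, 1), (123, 1), (126, 1), (129, 1), (150, 1), (153, 1)],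
    [(2, 1), (3, 1), (6, 1), (8, 1), (11, 1), (14, 1), (16, 1), (17, 1), (18, 1), (20, 1), (23, 1), (28, 1), (29, 1), (31, 1), (32, 1), (35, 1), (40, 1), (45, 1), (47, 1), (49, 1), (50, 1), (52, 1), (56, 1), (57, 1), (60, 1), (61, 1), (64, 1), (65, 1), (67, 1), (68, 1), (69, 1), (70, 1), (71, 1), (72, 1), (75, 1), (77, 1), (79, 1), (80, 1), (83, 1), (84, 1), (85, 1), (89, 1), (91, 1), (92, 1), (93, 1), (95, 1), (96, 1), (98, 1), (102, 1), (104, 1), (106, 1), (110, 1), (112, 1), (114, 1), (115, 1), (116, 1), (117, 1), (118, 1), (119, 1), (120, 1), (123, 1), (125, 1), (126, 1), (153, 1)],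
    [(3, 1), (7, 1), (9, 1), (11, 1), (12, 1), (22, 1), (24, 1), (25, 1), (26, 1), (28, 1), (29, 1), (31, 1), (32, 1), (34, 1), (37, 1), (40, 1), (41, 1), (42, 1), (43, 1), (44, 1), (46, 1), (50, 1), (51, 1), (52, 1), (53, 1), (54, 1), (55, 1), (57, 1), (58, 1), (59, 1), (60, 1), (61, 1), (62, 1), (63, 1), (64, 1), (65, 1), (66, 1), (68, 1), (69, 1), (70, 1), (72, 1), (73, 1), (74, 1), (75, 1), (82, 1), (84, 1), (88, 1), (90, 1), (107, 1), (109, 1), (111, 1), (117, 1), (118, 1), (119, 1), (123, 1), (153, 1)],
    [(2, 1), (3, 1), (5, 1), (6, 1), (7, 1), (8, 1), (10, 1), (11, 1), (12, 1), (13, 1), (14, 1), (15, 1), (16, 1), (17, 1), (18, 1), (19, 1), (20, 1), (21, 1), (22, 1), (24, 1), (25, 1), (26, 1), (29, 1), (37, 1), (38, 1), (40, 1), (46, 1), (49, 1), (64, 1), (65, 1), (67, 1), (69, 1), (71, 1), (75, 1), (76, 1), (77, 1), (78, 1), (82, 1), (83, 1), (95, 1), (100, 1), (107, 1), (111, 1), (112, 1), (113, 1), (119, 1)],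
    [(1, 1), (2, 1), (4, 1), (7, 1), (9, 1), (10, 1), (15, 1), (19, 1), (21, 1), (25, 1), (28, 1), (30, 1), (33, 1), (34, 1), (35, 1), (37, 1), (38, 1), (39, 1), (41, 1), (43, 1), (45, 1), (47, 1), (49, 1), (50, 1), (55, 1), (57, 1), (58, 1), (59, 1), (60, 1), (61, 1), (63, 1), (64, 1), (65, 1), (72, 1), (74, 1), (76, 1), (77, 1), (88, 1), (90, 1), (108, 1), (112, 1), (113, 1)],
    [(0, 1), (3, 1), (4, 1), (6, 1), (7, 1), (8, 1), (9, 1), (10, 1), (11, 1), (13, 1), (15, 1), (17, 1), (18, 1), (22, 1), (23, 1), (26, 1), (29, 1), (30, 1), (33, 1), (35, 1), (37, 1), (40, 1), (41, 1), (42, 1), (47, 1), (48, 1), (50, 1), (51, 1), (54, 1), (55, 1), (57, 1), (61, 1), (63, 1), (65, 1), (66, 1), (68, 1), (72, 1), (73, 1), (75, 1), (76, 1), (77, 1), (80, 1), (81, 1), (88, 1), (90, 1), (92, 1), (95, 1), (100, 1), (108, 1), (109, 1), (110, 1), (111, 1), (112, 1), (113, 1), (117, 1), (118, 1), (119, 1)],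
    [(0, 1), (1, 1), (4, 1), (5, 1), (10, 1), (12, 1), (15, 1), (16, 1), (17, 1), (19, 1), (20, 1), (21, 1), (22, 1), (24, 1), (26, 1), (27, 1), (28, 1), (31, 1), (33, 1), (35, 1), (39, 1), (40, 1), (45, 1), (49, 1), (50, 1), (52, 1), (56, 1), (60, 1), (61, 1), (63, 1), (66, 1), (70, 1), (72, 1), (88, 1), (91, 1), (100, 1), (108, 1), (109, 1), (111, 1), (112, 1), (122, 1), (123, 1)],
    [(4, 1), (6, 1), (7, 1), (11, 1), (12, 1), (15, 1), (19, 1), (20, 1), (24, 1), (25, 1), (26, 1), (29, 1), (30, 1), (31, 1), (32, 1), (34, 1), (38, 1), (39, 1), (42, 1), (43, 1), (49, 1), (50, 1), (51, 1), (54, 1), (55, 1), (67, 1), (69, 1), (71, 1), (72, 1), (73, 1), (76, 1), (77, 1), (79, 1), (81, 1), (83, 1), (84, 1), (85, 1), (88, 1), (89, 1), (90, 1), (91, 1), (93, 1), (96, 1), (98, 1), (102, 1), (104, 1), (106, 1), (107, 1), (109, 1), (114, 1), (115, 1), (116, 1), (120, 1), (122, 1), (125, 1), (126, 1), (153, 1)],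
    [(0, 1), (1, 1), (2, 1), (3, 1), (4, 1), (5, 1), (6, 1), (8, 1), (9, 1), (10, 1), (11, 1), (12, 1), (13, 1), (14, 1), (15, 1), (17, 1), (19, 1), (22, 1), (25, 1), (26, 1), (28, 1), (30, 1), (31, 1), (34, 1), (36, 1), (38, 1), (40, 1), (41, 1), (45, 1), (47, 1), (49, 1), (52, 1), (53, 1), (54, 1), (55, 1), (56, 1), (57, 1), (60, 1), (65, 1), (67, 1), (69, 1), (73, 1), (75, 1), (76, 1), (77, 1), (78, 1), (80, 1), (81, 1), (84, 1), (85, 1), (87, 1), (88, 1), (89, 1), (90, 1), (91, 1), (92, 1), (94, 1), (96, 1), (98, 1), (99, 1), (100, 1), (108, 1), (109, 1), (110, 1), (111, 1), (112, 1), (115, 1), (119, 1), (121, 1), (122, 1), (123, 1), (126, 1), (129, 1), (150, 1), (153, 1)],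
    [(0, 1), (1, 1), (2, 1), (3, 1), (4, 1), (7, 1), (8, 1), (9, 1), (11, 1), (12, 1), (13, 1), (14, 1), (16, 1), (17, 1), (18, 1), (20, 1), (21, 1), (22, 1), (23, 1), (25, 1), (26, 1), (30, 1), (36, 1), (38, 1), (41, 1), (44, 1), (46, 1), (47, 1), (48, 1), (51, 1), (54, 1), (55, 1), (56, 1), (57, 1), (58, 1), (64, 1), (66, 1), (70, 1), (71, 1), (72, 1), (73, 1), (76, 1), (77, 1), (81, 1), (83, 1), (84, 1), (87, 1), (90, 1), (93, 1), (94, 1), (95, 1), (99, 1), (100, 1), (102, 1), (104, 1), (106, 1), (107, 1), (109, 1), (113, 1), (114, 1), (120, 1), (121, 1), (125, 1)],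
    [(1, 1), (3, 1), (5, 1), (8, 1), (9, 1), (10, 1), (11, 1), (12, 1), (13, 1), (14, 1), (15, 1), (18, 1), (19, 1), (20, 1), (22, 1), (26, 1), (29, 1), (30, 1), (31, 1), (32, 1), (35, 1), (36, 1), (38, 1), (41, 1), (50, 1), (53, 1), (57, 1), (58, 1), (60, 1), (61, 1), (62, 1), (68, 1), (69, 1), (70, 1), (73, 1), (74, 1), (76, 1), (77, 1), (78, 1), (80, 1), (85, 1), (88, 1), (90, 1), (91, 1), (92, 1), (96, 1), (99, 1), (102, 1), (103, 1), (104, 1), (105, 1), (106, 1), (107, 1), (108, 1), (109, 1), (115, 1), (116, 1), (117, 1), (118, 1), (119, 1), (122, 1), (123, 1), (126, 1), (127, 1), (128, 1), (129, 1), (131, 1), (134, 1), (136, 1), (137, 1), (138, 1), (141, 1), (146, 1), (147, 1), (151, 1), (153, 1), (155, 1), (160, 1), (161, 1), (162, 1)],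
    [(1, 1), (2, 1), (4, 1), (5, 1), (6, 1), (8, 1), (9, 1), (11, 1), (12, 1), (15, 1), (17, 1), (20, 1), (21, 1), (25, 1), (26, 1), (27, 1), (28, 1), (29, 1), (30, 1), (34, 1), (35, 1), (37, 1), (39, 1), (42, 1), (45, 1), (49, 1), (50, 1), (51, 1), (54, 1), (55, 1), (56, 1), (60, 1), (62, 1), (67, 1), (69, 1), (70, 1), (72, 1), (73, 1), (76, 1), (79, 1), (81, 1), (82, 1), (85, 1), (89, 1), (90, 1), (91, 1), (92, 1), (96, 1), (98, 1), (100, 1), (101, 1), (102, 1), (104, 1), (106, 1), (107, 1), (111, 1), (112, 1), (114, 1), (115, 1), (117, 1), (118, 1), (125, 1), (126, 1), (128, 1), (132, 1), (133, 1), (136, 1), (139, 1), (140, 1), (144, 1), (146, 1), (150, 1), (151, 1)],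
    [(1, 1), (2, 1), (4, 1), (5, 1), (7, 1), (9, 1), (10, 1), (11, 1), (14, 1), (15, 1), (17, 1), (21, 1), (22, 1), (23, 1), (25, 1), (29, 1), (30, 1), (32, 1), (34, 1), (35, 1), (36, 1), (37, 1), (40, 1), (41, 1), (42, 1), (45, 1), (46, 1), (48, 1), (49, 1), (50, 1), (51, 1), (63, 1), (65, 1), (66, 1), (69, 1), (70, 1), (71, 1), (72, 1), (73, 1), (76, 1), (77, 1), (81, 1), (83, 1), (86, 1), (87, 1), (90, 1), (92, 1), (93, 1), (94, 1), (95, 1), (97, 1), (99, 1), (100, 1), (101, 1), (103, 1), (106, 1), (107, 1), (108, 1), (113, 1), (114, 1), (115, 1), (117, 1), (119, 1), (120, 1), (121, 1), (122, 1), (123, 1), (124, 1), (125, 1), (132, 1), (134, 1), (135, 1), (148, 1), (150, 1), (153, 1), (154, 1), (156, 1), (160, 1), (161, 1), (162, 1)],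
    [(0, 1), (2, 1), (5, 1), (6, 1), (8, 1), (9, 1), (10, 1), (11, 1), (13, 1), (14, 1), (16, 1), (17, 1), (18, 1), (19, 1), (20, 1), (22, 1), (23, 1), (24, 1), (25, 1), (27, 1), (34, 1), (35, 1), (36, 1), (39, 1), (44, 1), (45, 1), (46, 1), (48, 1), (49, 1), (50, 1), (53, 1), (56, 1), (59, 1), (60, 1), (64, 1), (66, 1), (68, 1), (71, 1), (72, 1), (73, 1), (74, 1), (75, 1), (76, 1), (80, 1), (81, 1), (82, 1), (85, 1), (86, 1), (87, 1), (88, 1), (92, 1), (93, 1), (94, 1), (96, 1), (98, 1), (100, 1), (101, 1), (102, 1), (106, 1), (108, 1), (114, 1), (115, 1), (116, 1), (118, 1), (119, 1), (121, 1), (124, 1), (125, 1), (126, 1), (127, 1), (129, 1), (131, 1), (133, 1), (135, 1), (137, 1), (138, 1), (139, 1), (140, 1), (141, 1), (144, 1), (147, 1), (148, 1), (154, 1), (155, 1), (156, 1)],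
    [(5, 1), (7, 1), (12, 1), (13, 1), (14, 1), (15, 1), (20, 1), (21, 1), (22, 1), (23, 1), (25, 1), (28, 1), (29, 1), (30, 1), (34, 1), (35, 1), (36, 1), (39, 1), (41, 1), (42, 1), (44, 1), (49, 1), (52, 1), (56, 1), (62, 1), (64, 1), (66, 1), (67, 1), (70, 1), (72, 1), (74, 1), (78, 1), (79, 1), (81, 1), (82, 1), (84, 1), (87, 1), (90, 1), (93, 1), (97, 1), (98, 1), (99, 1), (100, 1), (107, 1), (108, 1), (110, 1), (112, 1), (114, 1), (119, 1), (125, 1), (148, 1)],
    [(0, 1), (1, 1), (5, 1), (6, 1), (8, 1), (10, 1), (13, 1), (15, 1), (18, 1), (20, 1), (23, 1), (27, 1), (28, 1), (30, 1), (32, 1), (33, 1), (34, 1), (37, 1), (40, 1), (41, 1), (43, 1), (44, 1), (45, 1), (47, 1), (48, 1), (50, 1), (52, 1), (53, 1), (54, 1), (55, 1), (57, 1), (61, 1), (62, 1), (63, 1), (64, 1), (65, 1), (66, 1), (68, 1), (69, 1), (71, 1), (72, 1), (74, 1), (75, 1), (77, 1), (78, 1), (79, 1), (81, 1), (82, 1), (83, 1), (90, 1), (91, 1), (95, 1), (100, 1), (107, 1), (111, 1), (113, 1), (114, 1), (115, 1), (117, 1), (118, 1), (147, 1)],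
    [(1, 1), (4, 1), (7, 1), (10, 1), (14, 1), (16, 1), (18, 1), (19, 1), (25, 1), (27, 1), (29, 1), (30, 1), (31, 1), (34, 1), (38, 1), (39, 1), (40, 1), (45, 1), (46, 1), (48, 1), (49, 1), (51, 1), (52, 1), (55, 1), (57, 1), (58, 1), (59, 1), (60, 1), (64, 1), (67, 1), (70, 1), (71, 1), (72, 1), (73, 1), (74, 1), (78, 1), (80, 1), (82, 1), (83, 1), (84, 1), (85, 1), (89, 1), (91, 1), (97, 1), (98, 1), (102, 1), (104, 1), (106, 1), (107, 1), (111, 1), (112, 1), (114, 1), (115, 1), (117, 1), (118, 1), (125, 1), (126, 1), (128, 1), (131, 1), (132, 1), (135, 1), (136, 1), (137, 1), (138, 1)],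
    [(2, 1), (7, 1), (8, 1), (9, 1), (10, 1), (13, 1), (16, 1), (17, 1), (19, 1), (20, 1), (22, 1), (23, 1), (26, 1), (28, 1), (31, 1), (33, 1), (34, 1), (35, 1), (37, 1), (42, 1), (43, 1), (45, 1), (49, 1), (53, 1), (58, 1), (59, 1), (61, 1), (63, 1), (69, 1), (71, 1), (72, 1), (74, 1), (75, 1), (77, 1), (78, 1), (81, 1), (83, 1), (84, 1), (88, 1), (92, 1), (95, 1), (96, 1), (98, 1), (101, 1), (104, 1), (106, 1), (110, 1), (113, 1), (114, 1), (116, 1), (117, 1), (124, 1), (127, 1), (129, 1), (131, 1), (134, 1), (135, 1), (136, 1), (137, 1), (140, 1), (150, 1), (151, 1), (164, 1)],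
    [(0, 1), (2, 1), (3, 1), (4, 1), (7, 1), (11, 1), (12, 1), (14, 1), (16, 1), (17, 1), (19, 1), (21, 1), (23, 1), (25, 1), (26, 1), (27, 1), (28, 1), (29, 1), (33, 1), (34, 1), (35, 1), (37, 1), (39, 1), (42, 1), (43, 1), (45, 1), (46, 1), (47, 1), (49, 1), (53, 1), (59, 1), (60, 1), (61, 1), (65, 1), (69, 1), (71, 1), (72, 1), (74, 1), (75, 1), (77, 1), (78, 1), (81, 1), (83, 1), (84, 1), (90, 1), (92, 1), (95, 1), (96, 1), (98, 1), (101, 1), (104, 1), (106, 1), (114, 1), (116, 1), (117, 1), (124, 1), (127, 1), (128, 1), (129, 1), (131, 1), (134, 1), (135, 1), (136, 1), (137, 1), (140, 1), (150, 1), (151, 1), (164, 1)],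
    [(4, 1), (5, 1), (7, 1), (13, 1), (14, 1), (15, 1), (16, 1), (20, 1), (23, 1), (29, 1), (31, 1), (33, 1), (37, 1), (38, 1), (40, 1), (42, 1), (43, 1), (45, 1), (47, 1), (48, 1), (51, 1), (52, 1), (53, 1), (55, 1), (57, 1), (58, 1), (61, 1), (64, 1), (65, 1), (67, 1), (69, 1), (70, 1), (73, 1), (74, 1), (75, 1), (76, 1), (77, 1), (80, 1), (81, 1), (82, 1), (85, 1), (89, 1), (90, 1), (91, 1), (95, 1), (96, 1), (97, 1), (101, 1), (102, 1), (107, 1), (111, 1), (112, 1), (115, 1), (116, 1), (118, 1), (124, 1), (125, 1), (126, 1), (127, 1), (129, 1), (130, 1), (132, 1), (134, 1), (135, 1), (138, 1), (140, 1), (150, 1), (151, 1), (164, 1)],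
    [(1, 1), (2, 1), (3, 1), (5, 1), (6, 1), (7, 1), (8, 1), (12, 1), (13, 1), (16, 1), (18, 1), (21, 1), (22, 1), (24, 1), (28, 1), (31, 1), (32, 1), (35, 1), (36, 1), (40, 1), (41, 1), (42, 1), (43, 1), (45, 1), (46, 1), (53, 1), (54, 1), (55, 1), (56, 1), (57, 1), (59, 1), (61, 1), (62, 1), (64, 1), (66, 1), (67, 1), (68, 1), (70, 1), (72, 1), (74, 1), (76, 1), (78, 1), (79, 1), (80, 1), (82, 1), (83, 1), (85, 1), (87, 1), (89, 1), (91, 1), (92, 1), (94, 1), (96, 1), (98, 1), (99, 1), (100, 1), (109, 1), (111, 1), (115, 1), (117, 1), (118, 1), (121, 1), (126, 1), (128, 1), (135, 1), (137, 1), (140, 1), (150, 1)],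
    [(0, 1), (1, 1), (2, 1), (4, 1), (8, 1), (9, 1), (10, 1), (11, 1), (13, 1), (18, 1), (21, 1), (22, 1), (23, 1), (28, 1), (29, 1), (30, 1), (31, 1), (38, 1), (39, 1), (40, 1), (41, 1), (42, 1), (44, 1), (45, 1), (46, 1), (48, 1), (49, 1), (50, 1), (53, 1), (54, 1), (55, 1), (56, 1), (58, 1), (59, 1), (60, 1), (61, 1), (62, 1), (64, 1), (66, 1), (67, 1), (68, 1), (70, 1), (72, 1), (74, 1), (78, 1), (79, 1), (80, 1), (82, 1), (83, 1), (85, 1), (87, 1), (89, 1), (91, 1), (92, 1), (94, 1), (96, 1), (98, 1), (99, 1), (100, 1), (109, 1), (111, 1), (115, 1), (117, 1), (118, 1), (121, 1), (126, 1), (128, 1), (130, 1), (135, 1), (137, 1), (140, 1), (150, 1)],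
    [(127, 1)],
    [(0, 1), (1, 1), (6, 1), (7, 1), (8, 1), (10, 1), (11, 1), (13, 1), (15, 1), (16, 1), (18, 1), (19, 1), (21, 1), (25, 1), (26, 1), (27, 1), (28, 1), (29, 1), (33, 1), (34, 1), (35, 1), (36, 1), (37, 1), (40, 1), (44, 1), (45, 1), (49, 1), (51, 1), (52, 1), (55, 1), (56, 1), (59, 1), (62, 1), (63, 1), (67, 1), (68, 1), (71, 1), (72, 1), (75, 1), (76, 1), (79, 1), (80, 1), (81, 1), (82, 1), (84, 1), (85, 1), (87, 1), (89, 1), (90, 1), (91, 1), (92, 1), (94, 1), (95, 1), (99, 1), (100, 1), (101, 1), (104, 1), (106, 1), (109, 1), (111, 1), (112, 1), (114, 1), (115, 1), (116, 1), (118, 1), (121, 1), (124, 1), (126, 1), (128, 1), (131, 1), (137, 1), (151, 1)],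
    [(0, 1), (5, 1), (6, 1), (7, 1), (8, 1), (11, 1), (16, 1), (20, 1), (21, 1), (23, 1), (26, 1), (28, 1), (29, 1), (30, 1), (35, 1), (36, 1), (39, 1), (40, 1), (42, 1), (43, 1), (44, 1), (45, 1), (46, 1), (47, 1), (51, 1), (52, 1), (53, 1), (55, 1), (56, 1), (60, 1), (61, 1), (62, 1), (63, 1), (65, 1), (67, 1), (68, 1), (69, 1), (77, 1), (78, 1), (79, 1), (80, 1), (82, 1), (83, 1), (85, 1), (87, 1), (89, 1), (91, 1), (92, 1), (94, 1), (96, 1), (98, 1), (99, 1), (100, 1), (109, 1), (111, 1), (112, 1), (115, 1), (117, 1), (118, 1), (121, 1), (126, 1), (127, 1), (129, 1), (130, 1), (134, 1), (140, 1), (150, 1), (164, 1)],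
    [(0, 1), (1, 1), (4, 1), (7, 1), (11, 1), (13, 1), (14, 1), (15, 1), (18, 1), (25, 1), (26, 1), (27, 1), (28, 1), (29, 1), (31, 1), (32, 1), (38, 1), (40, 1), (42, 1), (44, 1), (48, 1), (49, 1), (50, 1), (51, 1), (52, 1), (53, 1), (55, 1), (56, 1), (60, 1), (61, 1), (62, 1), (63, 1), (65, 1), (67, 1), (68, 1), (69, 1), (77, 1), (78, 1), (79, 1), (80, 1), (82, 1), (83, 1), (85, 1), (87, 1), (88, 1), (89, 1), (90, 1), (91, 1), (92, 1), (94, 1), (96, 1), (98, 1), (99, 1), (100, 1), (109, 1), (110, 1), (111, 1), (112, 1), (113, 1), (115, 1), (117, 1), (118, 1), (121, 1), (126, 1), (127, 1), (129, 1), (130, 1), (131, 1), (134, 1), (140, 1), (150, 1), (164, 1)],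
    [(5, 1), (6, 1), (7, 1), (8, 1), (9, 1), (11, 1), (14, 1), (18, 1), (21, 1), (22, 1), (25, 1), (26, 1), (28, 1), (29, 1), (31, 1), (33, 1), (35, 1), (37, 1), (48, 1), (49, 1), (50, 1), (53, 1), (54, 1), (55, 1), (57, 1), (58, 1), (61, 1), (64, 1), (65, 1), (66, 1), (69, 1), (71, 1), (72, 1), (73, 1), (76, 1), (78, 1), (81, 1), (82, 1), (83, 1), (85, 1), (88, 1), (89, 1), (93, 1), (101, 1), (102, 1), (107, 1), (111, 1), (113, 1), (115, 1), (117, 1), (118, 1), (120, 1), (124, 1), (125, 1), (126, 1), (129, 1), (134, 1), (135, 1), (150, 1), (151, 1)],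
    [],
    [(0, 1), (1, 1), (3, 1), (4, 1), (5, 1), (6, 1), (7, 1), (9, 1), (11, 1), (18, 1), (21, 1), (22, 1), (23, 1), (25, 1), (27, 1), (28, 1), (29, 1), (32, 1), (34, 1), (36, 1), (39, 1), (40, 1), (43, 1), (44, 1), (45, 1), (46, 1), (55, 1), (57, 1), (58, 1), (59, 1), (61, 1), (64, 1), (66, 1), (67, 1), (70, 1), (74, 1), (77, 1), (78, 1), (80, 1), (81, 1), (82, 1), (85, 1), (87, 1), (88, 1), (89, 1), (91, 1), (94, 1), (96, 1), (98, 1), (99, 1), (109, 1), (111, 1), (112, 1), (113, 1), (115, 1), (117, 1), (118, 1), (121, 1), (126, 1), (133, 1)],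
    [(2, 1), (5, 1), (6, 1), (7, 1), (8, 1), (9, 1), (10, 1), (11, 1), (12, 1), (14, 1), (15, 1), (16, 1), (17, 1), (18, 1), (19, 1), (20, 1), (21, 1), (26, 1), (28, 1), (31, 1), (35, 1), (37, 1), (38, 1), (40, 1), (42, 1), (46, 1), (48, 1), (50, 1), (52, 1), (54, 1), (56, 1), (57, 1), (58, 1), (59, 1), (62, 1), (64, 1), (69, 1), (71, 1), (74, 1), (76, 1), (78, 1), (79, 1), (80, 1), (81, 1), (83, 1), (84, 1), (90, 1), (92, 1), (96, 1), (97, 1), (100, 1), (101, 1), (131, 1), (133, 1), (135, 1), (137, 1), (138, 1), (139, 1), (140, 1), (146, 1), (150, 1), (151, 1)],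
    [(0, 1), (4, 1), (6, 1), (7, 1), (8, 1), (10, 1), (12, 1), (13, 1), (14, 1), (15, 1), (19, 1), (20, 1), (21, 1), (23, 1), (25, 1), (26, 1), (27, 1), (28, 1), (30, 1), (31, 1), (34, 1), (35, 1), (38, 1), (39, 1), (40, 1), (41, 1), (43, 1), (44, 1), (45, 1), (46, 1), (50, 1), (53, 1), (55, 1), (59, 1), (60, 1), (62, 1), (64, 1), (66, 1), (67, 1), (68, 1), (69, 1), (73, 1), (76, 1), (81, 1), (82, 1), (87, 1), (89, 1), (90, 1), (92, 1), (94, 1), (98, 1), (102, 1), (103, 1), (104, 1), (105, 1), (106, 1), (107, 1), (108, 1), (111, 1), (112, 1), (113, 1), (116, 1), (119, 1), (121, 1), (122, 1), (123, 1), (127, 1), (128, 1), (129, 1), (131, 1), (133, 1), (134, 1), (136, 1), (137, 1), (138, 1), (141, 1), (145, 1), (146, 1), (147, 1), (151, 1), (153, 1), (155, 1), (160, 1), (161, 1), (162, 1)],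
    [],
    [(0, 1), (3, 1), (5, 1), (7, 1), (8, 1), (9, 1), (10, 1), (12, 1), (16, 1), (17, 1), (19, 1), (21, 1), (22, 1), (23, 1), (24, 1), (29, 1), (31, 1), (32, 1), (34, 1), (35, 1), (36, 1), (37, 1), (38, 1), (40, 1), (41, 1), (43, 1), (44, 1), (45, 1), (47, 1), (49, 1), (53, 1), (55, 1), (61, 1), (63, 1), (64, 1), (65, 1), (72, 1), (75, 1), (76, 1), (77, 1), (78, 1), (79, 1), (83, 1), (86, 1), (87, 1), (89, 1), (92, 1), (104, 1), (110, 1), (113, 1), (142, 1)],
    [(5, 1), (6, 1), (9, 1), (10, 1), (13, 1), (14, 1), (15, 1), (16, 1), (18, 1), (19, 1), (25, 1), (26, 1), (28, 1), (29, 1), (31, 1), (32, 1), (33, 1), (34, 1), (36, 1), (40, 1), (41, 1), (45, 1), (49, 1), (50, 1), (52, 1), (54, 1), (57, 1), (58, 1), (63, 1), (64, 1), (65, 1), (68, 1), (72, 1), (74, 1), (76, 1), (78, 1), (80, 1), (81, 1), (82, 1), (83, 1), (84, 1), (86, 1), (87, 1), (89, 1), (93, 1), (94, 1), (96, 1), (98, 1), (101, 1), (106, 1), (107, 1), (108, 1), (109, 1), (110, 1), (113, 1), (115, 1), (116, 1), (118, 1), (119, 1), (124, 1), (128, 1), (131, 1), (132,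 1), (133, 1), (134, 1), (135, 1), (136, 1), (137, 1), (138, 1), (139, 1), (141, 1), (147, 1), (148, 1), (151, 1), (154, 1), (155, 1), (156, 1), (164, 1), (167, 1)]]

/-- The combinations of tails vanishing by the rewritings at 2. -/
def maskTwo : List (List (ℕ × ℕ)) :=
  [
    [(76, 1)], [(55, 1)],
    [(0, 1), (1, 1), (3, 1), (4, 1), (5, 1), (6, 1), (7, 1), (8, 1), (9, 1), (10, 1), (11, 1), (12, 1), (13, 1), (14, 1), (15, 1), (16, 1), (17, 1), (18, 1), (19, 1), (20, 1), (55, 1), (56, 1), (57, 1), (58, 1), (59, 1), (60, 1), (65, 1)],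
    [(2, 1), (4, 1), (5, 1), (6, 1), (9, 1), (10, 1), (11, 1), (13, 1), (15, 1), (18, 1), (19, 1), (20, 1), (29, 1), (30, 1), (32, 1), (35, 1), (37, 1), (38, 1), (40, 1), (43, 1), (44, 1), (46, 1), (49, 1), (54, 1), (56, 1), (57, 1), (58, 1), (59, 1), (60, 1), (65, 1), (66, 1), (68, 1), (69, 1), (70, 1), (71, 1), (76, 1)],
    [(3, 1), (6, 1), (10, 1), (15, 1), (55, 1)],
    [(0, 1), (5, 1), (6, 1), (9, 1), (10, 1), (13, 1), (14, 1), (15, 1), (18, 1), (19, 1), (20, 1)],
    [(0, 1), (2, 1), (4, 1), (11, 1), (14, 1), (29, 1), (30, 1), (32, 1), (35, 1), (37, 1), (38, 1), (40, 1), (43, 1), (44, 1), (46, 1), (49, 1), (54, 1), (57, 1), (66, 1), (68, 1), (69, 1), (70, 1), (71, 1)],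
    [(1, 1), (3, 1), (4, 1), (7, 1), (8, 1), (11, 1), (12, 1), (16, 1), (17, 1), (55, 1), (58, 1), (59, 1), (60, 1)],
    [(0, 1), (9, 1), (28, 1), (35, 1), (36, 1), (43, 1), (44, 1)],
    [(0, 1), (28, 1), (31, 1), (35, 1), (58, 1), (66, 1), (69, 1), (73, 1), (74, 1)],
    [(6, 1), (28, 1), (36, 1)],
    [(1, 1), (3, 1), (6, 1), (7, 1), (10, 1), (15, 1), (28, 1), (29, 1), (30, 1), (31, 1), (32, 1), (33, 1), (36, 1), (37, 1), (38, 1), (39, 1), (40, 1), (41, 1), (55, 1), (62, 1), (63, 1)],
    [(6, 1), (8, 1), (10, 1), (15, 1), (28, 1), (31, 1), (32, 1), (33, 1), (36, 1), (39, 1), (40, 1), (41, 1)],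
    [(2, 1), (4, 1), (5, 1), (11, 1), (12, 1), (29, 1), (30, 1), (32, 1), (35, 1), (37, 1), (38, 1), (40, 1), (43, 1), (44, 1), (46, 1), (47, 1), (49, 1), (52, 1), (53, 1), (54, 1)],
    [(1, 1), (2, 1), (3, 1), (4, 1), (5, 1), (10, 1), (13, 1), (14, 1), (15, 1), (18, 1), (19, 1), (20, 1), (28, 1), (31, 1), (43, 1), (44, 1), (52, 1), (53, 1), (54, 1), (55, 1), (56, 1), (57, 1), (58, 1), (59, 1), (60, 1), (65, 1), (67, 1), (68, 1), (73, 1), (74, 1), (75, 1)],
    [(1, 1), (3, 1), (28, 1), (36, 1), (45, 1)],
    [(1, 1), (3, 1), (7, 1), (8, 1), (10, 1), (11, 1), (13, 1), (16, 1), (17, 1), (19, 1), (28, 1), (29, 1), (30, 1), (31, 1), (32, 1), (33, 1), (36, 1), (37, 1), (38, 1), (39, 1), (40, 1), (41, 1), (45, 1), (46, 1), (47, 1), (48, 1), (49, 1), (50, 1), (56, 1), (57, 1), (59, 1), (62, 1), (63, 1), (64, 1)],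
    [(1, 1), (3, 1), (7, 1), (8, 1), (10, 1), (11, 1), (13, 1), (16, 1), (17, 1), (19, 1), (28, 1), (31, 1), (32, 1), (33, 1), (36, 1), (39, 1), (40, 1), (41, 1), (45, 1), (48, 1), (49, 1), (50, 1)],
    [(1, 1), (3, 1), (10, 1), (13, 1), (28, 1), (29, 1), (30, 1), (32, 1), (36, 1), (37, 1), (38, 1), (40, 1), (45, 1), (52, 1), (53, 1)],
    [(2, 1), (11, 1), (14, 1), (20, 1), (46, 1), (49, 1), (54, 1)],
    [(0, 1), (2, 1), (4, 1), (5, 1), (6, 1), (7, 1), (8, 1), (9, 1), (11, 1), (12, 1), (14, 1), (15, 1), (16, 1), (17, 1), (18, 1), (19, 1), (28, 1), (31, 1), (35, 1), (36, 1), (39, 1), (43, 1), (44, 1), (45, 1), (48, 1), (52, 1), (53, 1), (54, 1), (55, 1), (56, 1), (57, 1), (58, 1), (59, 1), (60, 1), (65, 1), (67, 1), (70, 1), (71, 1), (75, 1)],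
    [(1, 1), (10, 1), (18, 1), (29, 1), (32, 1), (37, 1), (40, 1), (45, 1), (52, 1), (53, 1)], [(61, 1)],
    [(21, 1), (23, 1), (24, 1), (25, 1), (26, 1), (61, 1)], [(21, 1), (24, 1), (34, 1), (42, 1)],
    [(22, 1), (23, 1), (34, 1), (42, 1), (51, 1)], [(62, 1)],
    [(28, 1), (30, 1), (31, 1), (32, 1), (33, 1), (62, 1)], [(28, 1), (31, 1), (43, 1)],
    [(29, 1), (30, 1), (43, 1), (52, 1)],
    [(0, 1), (35, 1), (43, 1), (63, 1), (66, 1), (69, 1), (73, 1), (74, 1)],
    [(0, 1), (6, 1), (9, 1), (28, 1), (31, 1), (35, 1), (36, 1), (39, 1), (43, 1), (44, 1), (45, 1), (48, 1), (52, 1), (53, 1), (55, 1), (58, 1), (62, 1), (63, 1), (64, 1), (65, 1)],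
    [(88, 1)],
    [(0, 1), (2, 1), (6, 1), (9, 1), (10, 1), (13, 1), (14, 1), (15, 1), (18, 1), (19, 1), (20, 1)],
    [(0, 1), (4, 1), (5, 1), (16, 1), (17, 1), (20, 1), (22, 1), (27, 1), (29, 1), (34, 1), (35, 1), (37, 1), (38, 1), (41, 1), (42, 1), (43, 1), (44, 1), (46, 1), (51, 1), (52, 1), (54, 1), (56, 1), (78, 1), (79, 1), (81, 1), (82, 1), (83, 1)],
    [(1, 1), (6, 1), (10, 1), (15, 1)],
    [(1, 1), (2, 1), (3, 1), (5, 1), (6, 1), (7, 1), (8, 1), (9, 1), (10, 1), (11, 1), (12, 1), (13, 1), (14, 1), (15, 1), (18, 1), (19, 1), (22, 1), (27, 1), (29, 1), (34, 1), (35, 1), (37, 1), (38, 1), (41, 1), (42, 1), (43, 1), (44, 1), (46, 1), (51, 1), (52, 1), (54, 1), (55, 1), (56, 1), (57, 1), (65, 1), (78, 1), (79, 1), (81, 1), (82, 1), (83, 1), (88, 1)],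
    [(0, 1), (9, 1), (21, 1), (27, 1), (28, 1), (34, 1), (35, 1), (45, 1), (51, 1), (52, 1), (54, 1)],
    [(0, 1), (21, 1), (24, 1), (27, 1), (28, 1), (31, 1), (34, 1), (35, 1), (58, 1), (78, 1), (81, 1), (84, 1), (85, 1), (87, 1)],
    [(6, 1), (21, 1), (28, 1), (45, 1)],
    [(6, 1), (7, 1), (10, 1), (15, 1), (21, 1), (24, 1), (25, 1), (26, 1), (28, 1), (31, 1), (32, 1), (33, 1), (45, 1), (48, 1), (49, 1), (50, 1)],
    [(1, 1), (3, 1), (6, 1), (8, 1), (10, 1), (15, 1), (21, 1), (22, 1), (23, 1), (24, 1), (25, 1), (26, 1), (28, 1), (29, 1), (30, 1), (31, 1), (32, 1), (33, 1), (45, 1), (46, 1), (47, 1), (48, 1), (49, 1), (50, 1), (55, 1), (61, 1), (62, 1), (64, 1)],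
    [(5, 1), (14, 1), (17, 1), (20, 1), (38, 1), (41, 1), (44, 1)],
    [(0, 1), (2, 1), (4, 1), (5, 1), (6, 1), (7, 1), (8, 1), (9, 1), (10, 1), (11, 1), (12, 1), (13, 1), (16, 1), (17, 1), (20, 1), (21, 1), (24, 1), (27, 1), (28, 1), (31, 1), (34, 1), (35, 1), (36, 1), (39, 1), (42, 1), (43, 1), (44, 1), (45, 1), (48, 1), (51, 1), (52, 1), (53, 1), (54, 1), (55, 1), (56, 1), (57, 1), (58, 1), (59, 1), (60, 1), (65, 1), (80, 1), (82, 1), (83, 1), (86, 1)],
    [(3, 1), (10, 1), (15, 1), (36, 1)],
    [(3, 1), (8, 1), (11, 1), (12, 1), (15, 1), (17, 1), (18, 1), (19, 1), (36, 1), (39, 1), (40, 1), (41, 1)],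
    [(3, 1), (4, 1), (8, 1), (15, 1), (16, 1), (18, 1), (19, 1), (36, 1), (37, 1), (38, 1), (39, 1), (40, 1), (41, 1), (57, 1), (60, 1), (63, 1)],
    [(3, 1), (13, 1), (15, 1), (23, 1), (26, 1), (30, 1), (33, 1), (36, 1), (42, 1), (43, 1), (47, 1), (50, 1), (53, 1)],
    [(2, 1), (4, 1), (5, 1), (16, 1), (17, 1), (22, 1), (23, 1), (26, 1), (27, 1), (29, 1), (30, 1), (33, 1), (34, 1), (35, 1), (37, 1), (38, 1), (41, 1), (42, 1), (43, 1), (44, 1), (46, 1), (47, 1), (50, 1), (51, 1), (52, 1), (53, 1), (54, 1)],
    [(2, 1), (4, 1), (5, 1), (7, 1), (8, 1), (10, 1), (11, 1), (12, 1), (13, 1), (14, 1), (15, 1), (16, 1), (17, 1), (18, 1), (19, 1), (20, 1), (21, 1), (24, 1), (28, 1), (31, 1), (36, 1), (39, 1), (44, 1), (45, 1), (48, 1), (53, 1), (54, 1), (55, 1), (56, 1), (57, 1), (58, 1), (61, 1), (62, 1), (65, 1), (79, 1), (80, 1), (84, 1), (85, 1), (86, 1), (87, 1)],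
    [(21, 1), (24, 1), (34, 1), (51, 1)],
    [(0, 1), (1, 1), (3, 1), (4, 1), (5, 1), (6, 1), (7, 1), (8, 1), (9, 1), (10, 1), (12, 1), (13, 1), (15, 1), (18, 1), (19, 1), (22, 1), (27, 1), (30, 1), (32, 1), (34, 1), (40, 1), (41, 1), (42, 1), (49, 1), (51, 1), (52, 1), (55, 1), (56, 1), (65, 1), (66, 1), (67, 1), (69, 1), (70, 1), (71, 1), (78, 1), (80, 1), (81, 1), (82, 1), (83, 1), (88, 1)],
    [(21, 1), (24, 1), (34, 1), (66, 1), (69, 1), (72, 1), (73, 1), (75, 1), (78, 1), (81, 1), (85, 1), (86, 1)],
    [(0, 1), (1, 1), (5, 1), (6, 1), (8, 1), (9, 1), (10, 1), (12, 1), (13, 1), (17, 1), (20, 1), (21, 1), (24, 1), (27, 1), (28, 1), (31, 1), (34, 1), (35, 1), (36, 1), (39, 1), (42, 1), (44, 1), (51, 1), (55, 1), (57, 1), (58, 1), (60, 1), (61, 1), (64, 1), (65, 1), (68, 1), (70, 1), (71, 1), (74, 1), (79, 1), (80, 1), (85, 1), (86, 1), (87, 1)],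
    [(0, 1), (1, 1), (2, 1), (3, 1), (4, 1), (8, 1), (9, 1), (10, 1), (11, 1), (14, 1), (21, 1), (22, 1), (25, 1), (27, 1), (28, 1), (29, 1), (31, 1), (33, 1), (34, 1), (35, 1), (36, 1), (37, 1), (39, 1), (41, 1), (42, 1), (43, 1), (45, 1), (46, 1), (49, 1), (51, 1), (54, 1), (91, 1), (93, 1), (95, 1), (96, 1), (99, 1), (101, 1)],
    [(2, 1), (9, 1), (24, 1), (27, 1), (39, 1), (42, 1), (44, 1), (48, 1), (51, 1), (53, 1), (54, 1), (58, 1), (61, 1), (63, 1), (64, 1), (65, 1)],
    [(1, 1), (5, 1), (7, 1), (8, 1), (9, 1), (12, 1), (13, 1), (14, 1), (17, 1), (18, 1), (19, 1), (20, 1), (22, 1), (23, 1), (27, 1), (29, 1), (30, 1), (31, 1), (32, 1), (33, 1), (34, 1), (35, 1), (37, 1), (56, 1), (65, 1), (92, 1), (94, 1), (97, 1), (99, 1), (100, 1), (101, 1)],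
    [(1, 1), (6, 1), (21, 1), (36, 1), (45, 1), (55, 1)],
    [(3, 1), (12, 1), (17, 1), (38, 1), (57, 1), (93, 1), (94, 1)],
    [(4, 1), (24, 1), (39, 1), (48, 1), (58, 1)],
    [(6, 1), (8, 1), (13, 1), (18, 1), (39, 1), (58, 1), (93, 1), (94, 1)],
    [(0, 1), (1, 1), (2, 1), (3, 1), (4, 1), (5, 1), (10, 1), (11, 1), (12, 1), (21, 1), (22, 1), (23, 1), (25, 1), (27, 1), (28, 1), (29, 1), (30, 1), (32, 1), (34, 1), (35, 1), (36, 1), (37, 1), (38, 1), (40, 1), (42, 1), (43, 1), (44, 1), (45, 1), (46, 1), (47, 1), (49, 1), (51, 1), (52, 1), (53, 1), (54, 1)],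
    [(0, 1), (2, 1), (4, 1), (5, 1), (7, 1), (8, 1), (10, 1), (12, 1), (13, 1), (14, 1), (16, 1), (17, 1), (18, 1), (20, 1), (21, 1), (24, 1), (25, 1), (29, 1), (30, 1), (31, 1), (32, 1), (33, 1), (36, 1), (37, 1), (38, 1), (39, 1), (42, 1), (43, 1), (44, 1), (45, 1), (46, 1), (47, 1), (48, 1), (49, 1), (51, 1), (52, 1), (53, 1), (54, 1), (55, 1), (58, 1), (61, 1), (63, 1), (64, 1), (65, 1), (91, 1), (92, 1), (93, 1), (97, 1), (98, 1), (99, 1), (100, 1)],
    [(6, 1), (7, 1), (8, 1), (11, 1), (13, 1), (21, 1), (22, 1), (23, 1), (24, 1), (25, 1), (31, 1), (34, 1), (36, 1), (37, 1), (38, 1), (39, 1), (40, 1), (43, 1), (45, 1), (46, 1), (47, 1), (48, 1), (49, 1), (52, 1), (55, 1), (56, 1), (57, 1), (59, 1), (61, 1), (62, 1), (63, 1), (64, 1)],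
    [(6, 1), (7, 1), (8, 1), (12, 1), (13, 1), (24, 1), (31, 1), (39, 1), (48, 1)],
    [(3, 1), (4, 1), (12, 1), (13, 1), (23, 1), (30, 1), (38, 1), (47, 1)],
    [(0, 1), (2, 1), (3, 1), (4, 1), (5, 1), (6, 1), (8, 1), (9, 1), (10, 1), (11, 1), (13, 1), (15, 1), (18, 1), (19, 1), (20, 1), (21, 1), (23, 1), (24, 1), (25, 1), (26, 1), (27, 1), (28, 1), (29, 1), (31, 1), (32, 1), (34, 1), (35, 1), (36, 1), (37, 1), (38, 1), (39, 1), (41, 1), (43, 1), (44, 1), (46, 1), (49, 1), (54, 1), (68, 1), (70, 1), (71, 1), (72, 1), (74, 1), (101, 1)],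
    [(1, 1), (5, 1), (6, 1), (13, 1), (14, 1), (15, 1), (18, 1), (19, 1), (20, 1), (21, 1), (22, 1), (23, 1), (24, 1), (25, 1), (32, 1), (33, 1), (38, 1), (42, 1), (44, 1), (45, 1), (51, 1), (66, 1), (68, 1), (70, 1), (71, 1), (74, 1), (76, 1), (93, 1), (95, 1), (96, 1), (97, 1), (99, 1)],
    [(1, 1), (2, 1), (4, 1), (5, 1), (6, 1), (11, 1), (14, 1), (15, 1), (22, 1), (23, 1), (24, 1), (26, 1), (27, 1), (29, 1), (30, 1), (31, 1), (33, 1), (34, 1), (35, 1), (37, 1), (39, 1), (40, 1), (42, 1), (45, 1), (46, 1), (47, 1), (48, 1), (50, 1), (52, 1), (54, 1), (58, 1), (62, 1), (63, 1), (67, 1), (69, 1), (72, 1), (74, 1), (75, 1), (76, 1), (91, 1), (93, 1), (94, 1), (95, 1), (96, 1), (101, 1)],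
    [(0, 1), (2, 1), (3, 1), (5, 1), (6, 1), (7, 1), (9, 1), (10, 1), (11, 1), (13, 1), (15, 1), (17, 1), (18, 1), (20, 1), (21, 1), (24, 1), (27, 1), (28, 1), (31, 1), (34, 1), (37, 1), (38, 1), (41, 1), (42, 1), (43, 1), (44, 1), (45, 1), (48, 1), (51, 1), (52, 1), (53, 1), (54, 1), (55, 1), (56, 1), (58, 1), (63, 1), (65, 1), (78, 1), (80, 1), (82, 1), (83, 1), (86, 1), (88, 1), (98, 1)],
    [(1, 1), (2, 1), (3, 1), (4, 1), (5, 1), (6, 1), (9, 1), (10, 1), (11, 1), (14, 1), (22, 1), (24, 1), (25, 1), (27, 1), (28, 1), (29, 1), (31, 1), (32, 1), (34, 1), (35, 1), (37, 1), (39, 1), (40, 1), (46, 1), (48, 1), (49, 1), (51, 1), (52, 1), (53, 1), (55, 1), (58, 1), (61, 1), (62, 1), (65, 1), (79, 1), (81, 1), (84, 1), (86, 1), (87, 1), (88, 1), (91, 1), (92, 1), (94, 1), (95, 1), (96, 1)],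
    [(0, 1), (1, 1), (2, 1), (3, 1), (4, 1), (5, 1), (6, 1), (7, 1), (8, 1), (9, 1), (10, 1), (11, 1), (12, 1), (13, 1), (15, 1), (16, 1), (17, 1), (20, 1), (30, 1), (31, 1), (33, 1), (35, 1), (39, 1), (43, 1), (44, 1), (47, 1), (48, 1), (50, 1), (52, 1), (54, 1), (55, 1), (56, 1), (57, 1), (58, 1), (60, 1), (65, 1), (105, 1), (107, 1), (109, 1), (110, 1), (113, 1), (115, 1)],
    [(0, 1), (1, 1), (3, 1), (4, 1), (5, 1), (6, 1), (7, 1), (8, 1), (9, 1), (15, 1), (16, 1), (17, 1), (18, 1), (20, 1), (28, 1), (29, 1), (30, 1), (31, 1), (33, 1), (35, 1), (36, 1), (37, 1), (38, 1), (39, 1), (41, 1), (43, 1), (44, 1), (45, 1), (46, 1), (47, 1), (48, 1), (50, 1), (52, 1), (53, 1), (54, 1)],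
    [(1, 1), (4, 1), (6, 1), (8, 1), (10, 1), (12, 1), (14, 1), (15, 1), (16, 1), (17, 1), (19, 1), (29, 1), (32, 1), (33, 1), (36, 1), (37, 1), (39, 1), (41, 1), (52, 1), (53, 1), (55, 1), (56, 1), (58, 1), (60, 1), (62, 1), (63, 1), (65, 1), (105, 1), (107, 1), (108, 1), (110, 1), (112, 1), (113, 1), (114, 1)],
    [(3, 1), (6, 1), (15, 1), (28, 1), (36, 1), (45, 1)],
    [(0, 1), (2, 1), (3, 1), (4, 1), (5, 1), (7, 1), (9, 1), (12, 1), (16, 1), (18, 1), (29, 1), (31, 1), (33, 1), (35, 1), (37, 1), (44, 1), (46, 1), (48, 1), (50, 1), (52, 1), (53, 1), (54, 1), (57, 1), (65, 1), (105, 1), (106, 1), (107, 1), (108, 1), (109, 1), (113, 1), (115, 1)],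
    [(3, 1), (8, 1), (10, 1), (11, 1), (12, 1), (13, 1), (15, 1), (16, 1), (18, 1), (19, 1), (28, 1), (29, 1), (31, 1), (32, 1), (38, 1), (40, 1), (41, 1), (43, 1), (45, 1), (46, 1), (48, 1), (49, 1), (53, 1), (55, 1), (56, 1), (57, 1), (58, 1), (60, 1), (62, 1), (63, 1), (64, 1)],
    [(1, 1), (4, 1), (15, 1), (17, 1), (18, 1), (29, 1), (33, 1), (37, 1), (41, 1), (46, 1), (50, 1)],
    [(0, 1), (1, 1), (2, 1), (5, 1), (6, 1), (7, 1), (9, 1), (11, 1), (12, 1), (13, 1), (17, 1), (18, 1), (19, 1), (20, 1), (30, 1), (31, 1), (33, 1), (35, 1), (36, 1), (37, 1), (38, 1), (40, 1), (41, 1), (43, 1), (44, 1), (47, 1), (48, 1), (50, 1), (52, 1), (54, 1), (55, 1), (56, 1), (58, 1), (59, 1), (63, 1), (65, 1), (107, 1), (109, 1), (110, 1), (113, 1)],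
    [(35, 1), (73, 1), (115, 1)],
    [(0, 1), (2, 1), (3, 1), (4, 1), (6, 1), (8, 1), (9, 1), (10, 1), (11, 1), (12, 1), (13, 1), (14, 1), (15, 1), (17, 1), (18, 1), (28, 1), (29, 1), (31, 1), (32, 1), (36, 1), (37, 1), (39, 1), (40, 1), (43, 1), (46, 1), (49, 1), (54, 1), (66, 1), (68, 1), (70, 1), (71, 1), (74, 1), (76, 1), (112, 1)],
    [(0, 1), (2, 1), (3, 1), (4, 1), (5, 1), (6, 1), (7, 1), (9, 1), (13, 1), (14, 1), (15, 1), (16, 1), (17, 1), (20, 1), (28, 1), (30, 1), (32, 1), (33, 1), (35, 1), (37, 1), (38, 1), (39, 1), (41, 1), (44, 1), (46, 1), (48, 1), (49, 1), (50, 1), (55, 1), (56, 1), (58, 1), (62, 1), (64, 1), (66, 1), (68, 1), (69, 1), (71, 1), (73, 1), (74, 1), (75, 1), (105, 1), (107, 1), (108, 1), (109, 1), (110, 1), (115, 1)],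
    [(1, 1), (4, 1), (5, 1), (8, 1), (14, 1), (16, 1), (17, 1), (18, 1), (19, 1), (20, 1), (21, 1), (25, 1), (28, 1), (30, 1), (33, 1), (37, 1), (39, 1), (40, 1), (42, 1), (44, 1), (45, 1), (47, 1), (50, 1), (53, 1), (57, 1), (60, 1), (61, 1), (63, 1), (78, 1), (80, 1), (82, 1), (83, 1), (86, 1), (88, 1), (107, 1), (109, 1), (110, 1), (111, 1), (113, 1)],
    [(7, 1), (8, 1), (10, 1), (11, 1), (12, 1), (13, 1), (14, 1), (15, 1), (16, 1), (17, 1), (18, 1), (21, 1), (22, 1), (23, 1), (24, 1), (28, 1), (29, 1), (31, 1), (32, 1), (34, 1), (37, 1), (38, 1), (39, 1), (42, 1), (45, 1), (46, 1), (48, 1), (49, 1), (51, 1), (54, 1), (56, 1), (57, 1), (58, 1), (60, 1), (61, 1), (64, 1), (65, 1), (78, 1), (80, 1), (81, 1), (83, 1), (85, 1), (86, 1), (87, 1), (105, 1), (106, 1), (108, 1), (109, 1), (110, 1)],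
    [(0, 1), (3, 1), (4, 1), (9, 1), (13, 1), (14, 1), (16, 1), (19, 1), (21, 1), (23, 1), (24, 1), (26, 1), (27, 1), (29, 1), (30, 1), (33, 1), (35, 1), (36, 1), (39, 1), (40, 1), (43, 1), (45, 1), (51, 1), (53, 1), (55, 1), (56, 1), (57, 1), (62, 1), (63, 1), (91, 1), (93, 1), (94, 1), (96, 1), (98, 1), (99, 1), (100, 1), (106, 1), (108, 1), (111, 1), (113, 1), (114, 1), (115, 1)],
    [(120, 1), (126, 1)],
    [(0, 1), (1, 1), (21, 1), (27, 1), (28, 1), (29, 1), (34, 1), (35, 1), (120, 1), (121, 1), (126, 1), (127, 1), (129, 1)],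
    [(3, 1), (14, 1), (23, 1), (124, 1)],
    [(3, 1), (4, 1), (10, 1), (23, 1), (25, 1), (30, 1), (32, 1), (47, 1), (49, 1)],
    [(0, 1), (1, 1), (2, 1), (3, 1), (4, 1), (5, 1), (7, 1), (10, 1), (11, 1), (12, 1), (13, 1), (14, 1), (15, 1), (20, 1), (21, 1), (25, 1), (28, 1), (31, 1), (33, 1), (40, 1), (41, 1), (43, 1), (44, 1), (45, 1), (46, 1), (48, 1), (49, 1), (50, 1), (52, 1), (53, 1), (54, 1), (120, 1), (121, 1), (122, 1), (125, 1), (127, 1), (128, 1), (129, 1)],
    [(1, 1), (3, 1), (6, 1), (7, 1), (15, 1), (21, 1), (22, 1), (23, 1), (24, 1), (26, 1), (29, 1), (30, 1), (31, 1), (33, 1), (34, 1), (36, 1), (42, 1), (43, 1), (46, 1), (47, 1), (48, 1), (50, 1), (51, 1), (53, 1)],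
    [(3, 1), (4, 1), (10, 1), (11, 1), (12, 1), (13, 1), (17, 1), (19, 1), (30, 1), (32, 1), (38, 1), (40, 1), (47, 1), (49, 1)],
    [(10, 1), (11, 1), (25, 1), (32, 1), (49, 1)], [(0, 1), (77, 1), (91, 1), (104, 1), (130, 1)],
    [(0, 1), (66, 1), (72, 1), (120, 1), (131, 1), (133, 1)], [(66, 1), (91, 1)],
    [(1, 1), (4, 1), (5, 1), (6, 1), (8, 1), (11, 1), (12, 1), (13, 1), (14, 1), (19, 1), (20, 1), (23, 1), (25, 1), (26, 1), (28, 1), (30, 1), (34, 1), (38, 1), (42, 1), (44, 1), (45, 1), (46, 1), (48, 1), (49, 1), (50, 1), (52, 1), (53, 1), (54, 1), (55, 1), (67, 1), (91, 1), (97, 1), (98, 1), (100, 1), (120, 1), (122, 1), (123, 1), (124, 1), (125, 1), (130, 1)],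
    [(0, 1), (6, 1), (7, 1), (8, 1), (15, 1), (19, 1), (20, 1), (21, 1), (32, 1), (33, 1), (34, 1), (40, 1), (41, 1), (42, 1), (49, 1), (50, 1), (51, 1), (68, 1), (93, 1), (95, 1), (120, 1), (122, 1), (123, 1), (124, 1), (125, 1)],
    [(2, 1), (3, 1), (5, 1), (7, 1), (8, 1), (10, 1), (13, 1), (14, 1), (16, 1), (17, 1), (18, 1), (19, 1), (20, 1), (22, 1), (23, 1), (24, 1), (25, 1), (27, 1), (31, 1), (33, 1), (34, 1), (35, 1), (39, 1), (40, 1), (43, 1), (45, 1), (46, 1), (47, 1), (48, 1), (49, 1), (51, 1), (54, 1), (55, 1), (58, 1), (59, 1), (62, 1), (64, 1), (65, 1), (69, 1), (91, 1), (92, 1), (93, 1), (94, 1), (96, 1), (98, 1), (99, 1), (100, 1), (120, 1), (123, 1), (127, 1), (128, 1)],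
    [(0, 1), (1, 1), (3, 1), (4, 1), (11, 1), (14, 1), (23, 1), (25, 1), (27, 1), (28, 1), (30, 1), (35, 1), (37, 1), (42, 1), (43, 1), (45, 1), (46, 1), (47, 1), (49, 1), (53, 1), (70, 1), (95, 1), (121, 1), (122, 1), (127, 1), (128, 1), (129, 1)],
    [(28, 1), (73, 1), (98, 1)], [(90, 1), (119, 1), (130, 1)], [(78, 1), (84, 1), (132, 1), (134, 1)],
    [(0, 1), (1, 1), (3, 1), (6, 1), (10, 1), (15, 1), (19, 1), (20, 1), (22, 1), (23, 1), (24, 1), (25, 1), (28, 1), (29, 1), (30, 1), (31, 1), (33, 1), (34, 1), (36, 1), (40, 1), (41, 1), (42, 1), (45, 1), (49, 1), (50, 1), (51, 1), (79, 1), (105, 1), (111, 1), (112, 1), (114, 1), (120, 1), (121, 1), (123, 1), (124, 1), (125, 1)],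
    [(0, 1), (14, 1), (15, 1), (19, 1), (21, 1), (25, 1), (27, 1), (82, 1), (109, 1), (122, 1), (124, 1), (125, 1), (128, 1)],
    [(89, 1), (105, 1), (118, 1)], [(28, 1), (35, 1), (103, 1), (105, 1), (116, 1), (127, 1)],
    [(136, 1), (142, 1)], [(1, 1), (20, 1), (22, 1), (141, 1)],
    [(0, 1), (3, 1), (23, 1), (28, 1), (30, 1), (35, 1), (136, 1), (138, 1), (143, 1), (144, 1)],
    [(1, 1), (4, 1), (15, 1), (29, 1), (33, 1), (37, 1), (41, 1)],
    [(0, 1), (2, 1), (5, 1), (8, 1), (10, 1), (14, 1), (15, 1), (16, 1), (18, 1), (20, 1), (21, 1), (23, 1), (24, 1), (25, 1), (26, 1), (29, 1), (31, 1), (32, 1), (34, 1), (36, 1), (37, 1), (38, 1), (39, 1), (40, 1), (42, 1), (43, 1), (44, 1), (45, 1), (47, 1), (49, 1), (50, 1), (51, 1), (54, 1), (136, 1), (137, 1), (138, 1), (140, 1), (142, 1), (143, 1), (144, 1), (145, 1)],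
    [(1, 1), (4, 1), (11, 1), (15, 1), (16, 1), (17, 1), (18, 1), (19, 1), (22, 1), (26, 1), (29, 1), (33, 1), (37, 1), (41, 1), (46, 1), (50, 1)],
    [(1, 1), (3, 1), (6, 1), (8, 1), (10, 1), (21, 1), (29, 1), (30, 1), (31, 1), (32, 1), (34, 1), (37, 1), (38, 1), (39, 1), (40, 1), (42, 1), (45, 1), (52, 1), (53, 1)],
    [(0, 1), (1, 1), (8, 1), (9, 1), (10, 1), (12, 1), (16, 1), (18, 1), (19, 1), (22, 1), (23, 1), (25, 1), (26, 1), (28, 1), (30, 1), (31, 1), (32, 1), (33, 1), (34, 1), (35, 1), (37, 1), (38, 1), (39, 1), (41, 1), (45, 1), (46, 1), (49, 1), (50, 1), (52, 1), (53, 1), (55, 1), (56, 1), (57, 1), (60, 1), (62, 1), (63, 1), (64, 1), (77, 1), (80, 1), (83, 1), (86, 1), (88, 1), (90, 1), (91, 1), (92, 1), (96, 1), (97, 1), (100, 1), (101, 1), (103, 1), (104, 1), (105, 1), (106, 1), (110, 1), (114, 1), (115, 1), (117, 1), (118, 1), (119, 1), (146, 1)],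
    [(0, 1), (1, 1), (2, 1), (6, 1), (9, 1), (10, 1), (17, 1), (18, 1), (25, 1), (26, 1), (28, 1), (29, 1), (31, 1), (34, 1), (35, 1), (36, 1), (41, 1), (43, 1), (45, 1), (46, 1), (51, 1), (52, 1), (54, 1), (57, 1), (60, 1), (61, 1), (62, 1), (63, 1), (66, 1), (67, 1), (71, 1), (72, 1), (75, 1), (76, 1), (77, 1), (79, 1), (80, 1), (82, 1), (86, 1), (87, 1), (89, 1), (90, 1), (91, 1), (92, 1), (95, 1), (98, 1), (100, 1), (101, 1), (103, 1), (104, 1), (105, 1), (107, 1), (111, 1), (113, 1), (115, 1), (116, 1), (118, 1), (119, 1), (136, 1), (137, 1), (141, 1), (145, 1), (146, 1), (147, 1), (148, 1), (149, 1), (150, 1)],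
    [(0, 1), (1, 1), (4, 1), (5, 1), (7, 1), (8, 1), (11, 1), (14, 1), (17, 1), (19, 1), (21, 1), (25, 1), (27, 1), (31, 1), (32, 1), (33, 1), (34, 1), (39, 1), (40, 1), (41, 1), (42, 1), (46, 1), (48, 1), (49, 1), (51, 1), (52, 1), (53, 1), (57, 1), (58, 1), (59, 1), (64, 1), (67, 1), (80, 1), (94, 1), (106, 1), (110, 1), (136, 1), (138, 1), (139, 1), (140, 1), (141, 1), (146, 1)],
    [(2, 1), (4, 1), (5, 1), (6, 1), (7, 1), (9, 1), (10, 1), (11, 1), (12, 1), (13, 1), (15, 1), (17, 1), (22, 1), (23, 1), (26, 1), (27, 1), (29, 1), (30, 1), (31, 1), (32, 1), (33, 1), (34, 1), (36, 1), (37, 1), (39, 1), (40, 1), (46, 1), (48, 1), (51, 1), (53, 1), (55, 1), (56, 1), (57, 1), (58, 1), (60, 1), (62, 1), (63, 1), (64, 1), (65, 1), (68, 1), (83, 1), (85, 1), (87, 1), (91, 1), (93, 1), (94, 1), (96, 1), (100, 1), (101, 1), (105, 1), (112, 1), (113, 1), (136, 1), (138, 1), (139, 1), (140, 1), (141, 1)],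
    [(2, 1), (3, 1), (5, 1), (7, 1), (9, 1), (10, 1), (11, 1), (13, 1), (18, 1), (22, 1), (23, 1), (24, 1), (29, 1), (31, 1), (32, 1), (33, 1), (34, 1), (36, 1), (37, 1), (38, 1), (39, 1), (43, 1), (44, 1), (45, 1), (46, 1), (47, 1), (49, 1), (50, 1), (52, 1), (55, 1), (57, 1), (58, 1), (60, 1), (61, 1), (63, 1), (64, 1), (69, 1), (78, 1), (79, 1), (80, 1), (81, 1), (82, 1), (83, 1), (88, 1), (91, 1), (97, 1), (98, 1), (100, 1), (105, 1), (106, 1), (107, 1), (108, 1), (109, 1), (111, 1), (112, 1), (113, 1), (114, 1), (136, 1), (139, 1), (143, 1), (144, 1)],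
    [(3, 1), (4, 1), (8, 1), (14, 1), (17, 1), (21, 1), (23, 1), (24, 1), (26, 1), (27, 1), (28, 1), (29, 1), (32, 1), (36, 1), (37, 1), (38, 1), (39, 1), (40, 1), (47, 1), (53, 1), (56, 1), (57, 1), (59, 1), (62, 1), (63, 1), (64, 1), (70, 1), (79, 1), (83, 1), (85, 1), (87, 1), (91, 1), (93, 1), (96, 1), (97, 1), (99, 1), (105, 1), (109, 1), (111, 1), (137, 1), (138, 1), (143, 1), (144, 1), (145, 1)],
    [(1, 1), (4, 1), (6, 1), (7, 1), (8, 1), (10, 1), (13, 1), (15, 1), (16, 1), (18, 1), (19, 1), (20, 1), (22, 1), (24, 1), (25, 1), (26, 1), (27, 1), (33, 1), (35, 1), (39, 1), (40, 1), (42, 1), (45, 1), (46, 1), (48, 1), (49, 1), (51, 1), (53, 1), (55, 1), (57, 1), (59, 1), (60, 1), (61, 1), (62, 1), (63, 1), (66, 1), (67, 1), (68, 1), (70, 1), (71, 1), (72, 1), (73, 1), (74, 1), (75, 1), (76, 1), (77, 1), (78, 1), (80, 1), (85, 1), (86, 1), (88, 1), (89, 1), (91, 1), (93, 1), (97, 1), (98, 1), (99, 1), (101, 1), (102, 1), (103, 1), (104, 1), (146, 1)],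
    [(2, 1), (4, 1), (5, 1), (6, 1), (8, 1), (9, 1), (13, 1), (15, 1), (16, 1), (18, 1), (21, 1), (25, 1), (27, 1), (29, 1), (32, 1), (34, 1), (36, 1), (38, 1), (39, 1), (40, 1), (41, 1), (43, 1), (44, 1), (47, 1), (54, 1), (56, 1), (57, 1), (60, 1), (63, 1), (64, 1), (68, 1), (71, 1), (74, 1), (76, 1), (77, 1), (79, 1), (84, 1), (85, 1), (87, 1), (88, 1), (89, 1), (90, 1), (91, 1), (92, 1), (97, 1), (98, 1), (100, 1), (101, 1), (102, 1), (103, 1), (104, 1), (105, 1), (106, 1), (107, 1), (110, 1), (111, 1), (112, 1), (113, 1), (114, 1), (118, 1), (119, 1), (136, 1), (138, 1), (142, 1), (143, 1), (144, 1), (146, 1), (147, 1), (149, 1)],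
    [(0, 1), (4, 1), (6, 1), (8, 1), (9, 1), (10, 1), (11, 1), (13, 1), (16, 1), (17, 1), (19, 1), (20, 1), (27, 1), (29, 1), (30, 1), (32, 1), (33, 1), (34, 1), (35, 1), (36, 1), (43, 1), (44, 1), (46, 1), (48, 1), (53, 1), (57, 1), (58, 1), (59, 1), (60, 1), (61, 1), (62, 1), (63, 1), (65, 1), (68, 1), (70, 1), (78, 1), (81, 1), (82, 1), (86, 1), (88, 1), (92, 1), (96, 1), (136, 1), (137, 1), (139, 1), (140, 1), (141, 1)],
    [(1, 1), (5, 1), (8, 1), (9, 1), (10, 1), (11, 1), (13, 1), (15, 1), (23, 1), (24, 1), (25, 1), (27, 1), (30, 1), (31, 1), (33, 1), (35, 1), (36, 1), (38, 1), (39, 1), (41, 1), (42, 1), (43, 1), (45, 1), (46, 1), (47, 1), (49, 1), (52, 1), (54, 1), (55, 1), (56, 1), (57, 1), (61, 1), (64, 1), (66, 1), (67, 1), (69, 1), (70, 1), (74, 1), (76, 1), (80, 1), (81, 1), (82, 1), (91, 1), (92, 1), (93, 1), (94, 1), (95, 1), (97, 1), (98, 1), (99, 1), (100, 1), (136, 1), (139, 1), (142, 1), (143, 1), (145, 1)],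
    [(0, 1), (1, 1), (4, 1), (7, 1), (10, 1), (11, 1), (12, 1), (13, 1), (14, 1), (16, 1), (19, 1), (20, 1), (21, 1), (22, 1), (23, 1), (24, 1), (25, 1), (32, 1), (33, 1), (37, 1), (38, 1), (42, 1), (43, 1), (45, 1), (47, 1), (48, 1), (49, 1), (51, 1), (52, 1), (53, 1), (56, 1), (59, 1), (64, 1), (68, 1), (71, 1), (73, 1), (74, 1), (76, 1), (79, 1), (80, 1), (83, 1), (85, 1), (86, 1), (87, 1), (91, 1), (96, 1), (98, 1), (102, 1), (105, 1), (107, 1), (111, 1), (112, 1), (113, 1), (115, 1), (116, 1), (117, 1), (118, 1)],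
    [(0, 1), (2, 1), (4, 1), (5, 1), (6, 1), (8, 1), (9, 1), (11, 1), (13, 1), (15, 1), (16, 1), (18, 1), (19, 1), (20, 1), (24, 1), (26, 1), (28, 1), (30, 1), (31, 1), (37, 1), (38, 1), (39, 1), (41, 1), (44, 1), (49, 1), (50, 1), (51, 1), (54, 1), (55, 1), (57, 1), (59, 1), (60, 1), (61, 1), (62, 1), (63, 1), (68, 1), (70, 1), (71, 1), (72, 1), (74, 1), (105, 1), (116, 1), (117, 1), (120, 1), (121, 1), (125, 1), (129, 1), (130, 1), (131, 1), (132, 1), (133, 1), (134, 1), (136, 1), (147, 1), (149, 1)],
    [(5, 1), (10, 1), (12, 1), (17, 1), (19, 1), (20, 1), (21, 1), (25, 1), (27, 1), (30, 1), (33, 1), (34, 1), (35, 1), (36, 1), (38, 1), (40, 1), (41, 1), (44, 1), (57, 1), (59, 1), (60, 1), (61, 1), (62, 1), (63, 1), (91, 1), (98, 1), (102, 1), (105, 1), (116, 1), (120, 1), (122, 1), (126, 1), (127, 1), (128, 1), (130, 1), (131, 1), (133, 1), (148, 1), (150, 1)],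
    [(159, 1)], [(22, 1), (154, 1), (155, 1)], [(7, 1), (8, 1)], [(25, 1), (157, 1), (158, 1)],
    [(42, 1), (161, 1), (162, 1)], [(77, 1), (90, 1), (163, 1)], [(72, 1), (164, 1), (165, 1)],
    [(4, 1), (19, 1), (67, 1), (80, 1), (153, 1), (155, 1), (156, 1), (157, 1), (158, 1), (163, 1)],
    [(19, 1), (68, 1), (79, 1), (153, 1), (155, 1), (156, 1), (157, 1), (158, 1)],
    [(69, 1), (81, 1), (153, 1), (156, 1), (160, 1), (161, 1)],
    [(4, 1), (53, 1), (70, 1), (83, 1), (154, 1), (155, 1), (160, 1), (161, 1), (162, 1)],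
    [(0, 1), (1, 1), (3, 1), (4, 1), (6, 1), (7, 1), (8, 1), (10, 1), (13, 1), (15, 1), (16, 1), (18, 1), (20, 1), (21, 1), (22, 1), (24, 1), (25, 1), (26, 1), (27, 1), (28, 1), (33, 1), (35, 1), (36, 1), (39, 1), (40, 1), (42, 1), (45, 1), (46, 1), (48, 1), (49, 1), (51, 1), (53, 1), (57, 1), (59, 1), (60, 1), (61, 1), (62, 1), (63, 1), (67, 1), (68, 1), (70, 1), (71, 1), (72, 1), (73, 1), (74, 1), (75, 1), (76, 1), (77, 1), (80, 1), (85, 1), (86, 1), (88, 1), (89, 1), (90, 1), (93, 1), (97, 1), (98, 1), (99, 1), (101, 1), (102, 1), (103, 1), (153, 1), (155, 1), (157, 1), (158, 1), (161, 1), (163, 1)],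
    [(2, 1), (3, 1), (5, 1), (6, 1), (8, 1), (9, 1), (10, 1), (11, 1), (13, 1), (16, 1), (18, 1), (19, 1), (20, 1), (21, 1), (22, 1), (23, 1), (27, 1), (28, 1), (29, 1), (33, 1), (34, 1), (39, 1), (42, 1), (44, 1), (45, 1), (46, 1), (49, 1), (54, 1), (56, 1), (57, 1), (58, 1), (62, 1), (67, 1), (72, 1), (75, 1), (76, 1), (77, 1), (80, 1), (83, 1), (84, 1), (86, 1), (88, 1), (90, 1), (91, 1), (92, 1), (96, 1), (100, 1), (101, 1), (103, 1), (104, 1), (111, 1), (153, 1), (154, 1), (158, 1), (162, 1), (163, 1), (165, 1), (166, 1)],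
    [(0, 1), (4, 1), (5, 1), (7, 1), (8, 1), (9, 1), (10, 1), (12, 1), (13, 1), (14, 1), (15, 1), (18, 1), (19, 1), (20, 1), (25, 1), (26, 1), (27, 1), (28, 1), (29, 1), (31, 1), (32, 1), (35, 1), (40, 1), (41, 1), (42, 1), (43, 1), (44, 1), (45, 1), (46, 1), (47, 1), (48, 1), (50, 1), (53, 1), (54, 1), (57, 1), (59, 1), (60, 1), (62, 1), (65, 1), (79, 1), (83, 1), (91, 1), (92, 1), (94, 1), (95, 1), (99, 1), (101, 1), (106, 1), (107, 1), (153, 1), (155, 1), (156, 1), (158, 1), (160, 1), (161, 1), (162, 1)],
    [(135, 1), (152, 1), (153, 1), (159, 1)], [(126, 1), (168, 1), (169, 1)],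
    [(27, 1), (121, 1), (138, 1), (153, 1), (154, 1), (159, 1), (160, 1), (162, 1)],
    [(131, 1), (148, 1), (153, 1), (164, 1), (166, 1)], [(132, 1), (147, 1), (165, 1), (167, 1)],
    [(3, 1), (4, 1), (7, 1), (8, 1), (10, 1), (11, 1), (14, 1), (15, 1), (16, 1), (18, 1), (19, 1), (21, 1), (24, 1), (27, 1), (32, 1), (34, 1), (38, 1), (40, 1), (42, 1), (43, 1), (45, 1), (46, 1), (48, 1), (50, 1), (51, 1), (53, 1), (57, 1), (59, 1), (64, 1), (67, 1), (70, 1), (71, 1), (74, 1), (77, 1), (79, 1), (82, 1), (83, 1), (86, 1), (88, 1), (89, 1), (90, 1), (105, 1), (106, 1), (108, 1), (112, 1), (113, 1), (114, 1), (119, 1)],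
    [(0, 1), (1, 1), (2, 1), (5, 1), (6, 1), (8, 1), (11, 1), (13, 1), (14, 1), (16, 1), (18, 1), (19, 1), (23, 1), (29, 1), (30, 1), (32, 1), (33, 1), (34, 1), (39, 1), (40, 1), (43, 1), (44, 1), (45, 1), (46, 1), (47, 1), (49, 1), (53, 1), (54, 1), (55, 1), (56, 1), (57, 1), (58, 1), (65, 1), (67, 1), (68, 1), (70, 1), (73, 1), (74, 1), (75, 1), (76, 1), (88, 1), (89, 1), (92, 1), (97, 1), (98, 1), (100, 1), (107, 1), (109, 1), (111, 1), (113, 1), (116, 1), (117, 1), (136, 1), (147, 1), (148, 1), (149, 1), (150, 1), (152, 1)],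
    [(0, 1), (1, 1), (3, 1), (5, 1), (7, 1), (8, 1), (11, 1), (14, 1), (15, 1), (16, 1), (18, 1), (20, 1), (21, 1), (23, 1), (26, 1), (27, 1), (28, 1), (31, 1), (32, 1), (34, 1), (36, 1), (38, 1), (39, 1), (41, 1), (42, 1), (44, 1), (45, 1), (48, 1), (49, 1), (51, 1), (56, 1), (57, 1), (58, 1), (59, 1), (62, 1), (65, 1), (71, 1), (72, 1), (76, 1), (79, 1), (80, 1), (82, 1), (83, 1), (85, 1), (86, 1), (87, 1), (90, 1), (91, 1), (92, 1), (97, 1), (100, 1), (101, 1), (103, 1), (107, 1), (111, 1), (113, 1), (116, 1), (118, 1), (119, 1), (120, 1), (131, 1), (132, 1), (133, 1), (134, 1), (137, 1), (138, 1), (141, 1), (142, 1), (143, 1), (144, 1), (145, 1), (146, 1), (147, 1), (149, 1), (151, 1)],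
    [(0, 1), (3, 1), (4, 1), (6, 1), (7, 1), (13, 1), (16, 1), (17, 1), (18, 1), (20, 1), (22, 1), (23, 1), (24, 1), (25, 1), (29, 1), (30, 1), (31, 1), (35, 1), (36, 1), (40, 1), (42, 1), (46, 1), (48, 1), (49, 1), (50, 1), (51, 1), (52, 1), (53, 1), (55, 1), (56, 1), (61, 1), (62, 1), (64, 1), (66, 1), (67, 1), (75, 1), (78, 1), (79, 1), (80, 1), (85, 1), (86, 1), (87, 1), (88, 1), (89, 1), (90, 1), (91, 1), (93, 1), (97, 1), (99, 1), (109, 1), (110, 1), (111, 1), (112, 1), (115, 1), (119, 1), (124, 1), (125, 1), (126, 1), (127, 1), (130, 1), (132, 1), (134, 1), (135, 1), (136, 1), (140, 1), (141, 1), (143, 1), (146, 1), (148, 1), (150, 1), (151, 1), (152, 1), (175, 1), (178, 1)],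
    [(0, 1), (1, 1), (2, 1), (3, 1), (4, 1), (5, 1), (6, 1), (7, 1), (8, 1), (9, 1), (10, 1), (11, 1), (12, 1), (13, 1), (14, 1), (15, 1), (16, 1), (17, 1), (18, 1), (19, 1), (20, 1), (21, 1), (22, 1), (23, 1), (24, 1), (25, 1), (26, 1), (28, 1), (29, 1), (30, 1), (31, 1), (32, 1), (33, 1), (34, 1), (35, 1), (55, 1), (56, 1), (57, 1), (58, 1), (59, 1), (60, 1), (61, 1), (62, 1), (65, 1)],
    [(0, 1), (1, 1), (3, 1), (6, 1), (7, 1), (9, 1), (11, 1), (12, 1), (16, 1), (17, 1), (20, 1), (21, 1), (27, 1), (28, 1), (29, 1), (32, 1), (34, 1), (37, 1), (42, 1), (44, 1), (47, 1), (48, 1), (58, 1), (60, 1), (62, 1), (64, 1), (66, 1), (70, 1), (73, 1), (76, 1), (77, 1), (92, 1), (96, 1), (100, 1), (101, 1), (102, 1), (104, 1)],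
    [(1, 1), (3, 1), (7, 1), (8, 1), (11, 1), (12, 1), (15, 1), (18, 1), (19, 1), (21, 1), (22, 1), (24, 1), (25, 1), (26, 1), (29, 1), (30, 1), (33, 1), (34, 1), (45, 1), (46, 1), (47, 1), (48, 1), (49, 1), (50, 1), (52, 1), (55, 1), (58, 1), (59, 1), (61, 1), (62, 1), (64, 1), (72, 1), (97, 1)],
    [(0, 1), (1, 1), (5, 1), (8, 1), (9, 1), (10, 1), (11, 1), (13, 1), (16, 1), (17, 1), (19, 1), (20, 1), (26, 1), (30, 1), (35, 1), (36, 1), (38, 1), (39, 1), (45, 1), (50, 1), (51, 1), (52, 1), (53, 1), (54, 1), (55, 1), (56, 1), (57, 1), (59, 1), (60, 1), (62, 1), (66, 1), (67, 1), (69, 1), (70, 1), (72, 1), (74, 1), (76, 1), (80, 1), (82, 1), (84, 1), (91, 1), (92, 1), (93, 1), (94, 1), (95, 1), (98, 1), (99, 1), (100, 1), (105, 1), (112, 1), (114, 1), (141, 1), (142, 1), (143, 1), (145, 1)],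
    [(0, 1), (1, 1), (3, 1), (4, 1), (7, 1), (10, 1), (11, 1), (16, 1), (18, 1), (19, 1), (20, 1), (22, 1), (24, 1), (25, 1), (26, 1), (28, 1), (29, 1), (30, 1), (32, 1), (33, 1), (36, 1), (37, 1), (39, 1), (40, 1), (43, 1), (45, 1), (47, 1), (51, 1), (53, 1), (54, 1), (55, 1), (59, 1), (60, 1), (61, 1), (62, 1), (63, 1), (65, 1), (66, 1), (67, 1), (68, 1), (69, 1), (71, 1), (72, 1), (73, 1), (74, 1), (76, 1), (82, 1), (83, 1), (85, 1), (87, 1), (88, 1), (90, 1), (91, 1), (92, 1), (93, 1), (95, 1), (96, 1), (98, 1), (99, 1), (100, 1), (102, 1), (103, 1), (104, 1), (106, 1), (107, 1), (108, 1), (109, 1), (110, 1), (113, 1), (114, 1), (116, 1), (119, 1), (123, 1), (126, 1), (127, 1), (130, 1), (138, 1), (139, 1), (140, 1), (142, 1), (144, 1), (147, 1), (149, 1), (151, 1), (194, 1), (195, 1), (197, 1), (198, 1)],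
    [(0, 1), (2, 1), (4, 1), (6, 1), (10, 1), (12, 1), (13, 1), (14, 1), (15, 1), (16, 1), (17, 1), (20, 1), (21, 1), (24, 1), (25, 1), (26, 1), (27, 1), (29, 1), (31, 1), (32, 1), (33, 1), (39, 1), (41, 1), (42, 1), (43, 1), (44, 1), (47, 1), (48, 1), (49, 1), (50, 1), (51, 1), (55, 1), (56, 1), (59, 1), (64, 1), (65, 1), (67, 1), (70, 1), (72, 1), (74, 1), (75, 1), (76, 1), (77, 1), (80, 1), (81, 1), (82, 1), (87, 1), (88, 1), (89, 1), (91, 1), (93, 1), (95, 1), (97, 1), (98, 1), (99, 1), (100, 1), (103, 1), (104, 1), (106, 1), (107, 1), (108, 1), (110, 1), (113, 1), (114, 1), (115, 1), (117, 1), (120, 1), (121, 1), (124, 1), (125, 1), (129, 1), (130, 1), (131, 1), (133, 1), (135, 1), (137, 1), (138, 1), (139, 1), (140, 1), (143, 1), (144, 1), (145, 1), (146, 1), (147, 1), (148, 1), (149, 1), (150, 1), (152, 1), (197, 1), (198, 1), (199, 1)],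
    [(3, 1), (4, 1), (5, 1), (6, 1), (11, 1), (19, 1), (20, 1), (23, 1), (24, 1), (25, 1), (28, 1), (31, 1), (36, 1), (40, 1), (42, 1), (45, 1), (47, 1), (49, 1), (50, 1), (51, 1), (53, 1), (55, 1), (58, 1), (59, 1), (61, 1), (62, 1), (66, 1), (67, 1), (68, 1), (71, 1), (72, 1), (75, 1), (77, 1), (78, 1), (79, 1), (81, 1), (82, 1), (86, 1), (87, 1), (89, 1), (92, 1), (93, 1), (96, 1), (99, 1), (102, 1), (103, 1), (104, 1), (105, 1), (110, 1), (111, 1), (112, 1), (115, 1), (117, 1), (118, 1), (120, 1), (121, 1), (123, 1), (124, 1), (125, 1), (127, 1), (129, 1), (130, 1), (131, 1), (132, 1), (133, 1), (134, 1), (140, 1), (142, 1), (143, 1), (147, 1), (148, 1), (149, 1), (150, 1), (152, 1), (194, 1), (195, 1), (199, 1)],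
    [(1, 1), (3, 1), (6, 1), (7, 1), (11, 1), (12, 1), (13, 1), (14, 1), (16, 1), (17, 1), (18, 1), (22, 1), (23, 1), (24, 1), (27, 1), (28, 1), (32, 1), (33, 1), (39, 1), (43, 1), (45, 1), (47, 1), (48, 1), (51, 1), (55, 1), (58, 1), (62, 1), (66, 1), (68, 1), (71, 1), (72, 1), (73, 1), (74, 1), (76, 1), (77, 1), (78, 1), (80, 1), (81, 1), (84, 1), (85, 1), (86, 1), (88, 1), (91, 1), (93, 1), (97, 1), (99, 1), (102, 1), (103, 1), (104, 1), (106, 1), (108, 1), (109, 1), (110, 1), (111, 1), (112, 1), (113, 1), (115, 1), (116, 1), (119, 1), (120, 1), (121, 1), (123, 1), (125, 1), (127, 1), (128, 1), (139, 1), (141, 1), (142, 1), (143, 1), (144, 1), (145, 1), (146, 1), (147, 1), (149, 1), (151, 1), (194, 1), (195, 1), (196, 1), (197, 1), (199, 1)],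
    [(2, 1), (5, 1), (8, 1), (9, 1), (10, 1), (12, 1), (13, 1), (17, 1), (19, 1), (21, 1), (23, 1), (24, 1), (25, 1), (27, 1), (29, 1), (32, 1), (33, 1), (34, 1), (38, 1), (39, 1), (40, 1), (41, 1), (45, 1), (46, 1), (48, 1), (49, 1), (51, 1), (52, 1), (53, 1), (55, 1), (56, 1), (61, 1), (63, 1), (64, 1), (67, 1), (70, 1), (73, 1), (76, 1), (79, 1), (80, 1), (84, 1), (85, 1), (87, 1), (88, 1), (90, 1), (91, 1), (92, 1), (93, 1), (94, 1), (95, 1), (96, 1), (97, 1), (102, 1), (108, 1), (109, 1), (112, 1), (113, 1), (114, 1), (115, 1), (119, 1), (126, 1), (130, 1), (131, 1), (133, 1), (135, 1), (136, 1), (137, 1), (139, 1), (143, 1), (144, 1), (146, 1), (147, 1), (149, 1), (151, 1), (194, 1), (195, 1), (198, 1)],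
    [(0, 1), (2, 1), (7, 1), (8, 1), (11, 1), (12, 1), (14, 1), (15, 1), (16, 1), (18, 1), (21, 1), (23, 1), (24, 1), (25, 1), (26, 1), (27, 1), (28, 1), (30, 1), (31, 1), (37, 1), (40, 1), (41, 1), (46, 1), (50, 1), (52, 1), (53, 1), (55, 1), (56, 1), (60, 1), (62, 1), (63, 1), (65, 1), (68, 1), (69, 1), (73, 1), (75, 1), (77, 1), (78, 1), (83, 1), (84, 1), (86, 1), (88, 1), (89, 1), (94, 1), (96, 1), (97, 1), (102, 1), (104, 1), (110, 1), (111, 1), (112, 1), (114, 1), (116, 1), (117, 1), (136, 1), (138, 1), (140, 1), (143, 1), (144, 1), (145, 1), (147, 1), (148, 1), (149, 1), (150, 1), (152, 1), (193, 1), (196, 1)],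
    [(5, 1), (6, 1), (9, 1), (11, 1), (12, 1), (13, 1), (14, 1), (16, 1), (17, 1), (18, 1), (19, 1), (21, 1), (22, 1), (26, 1), (31, 1), (32, 1), (33, 1), (35, 1), (36, 1), (38, 1), (39, 1), (40, 1), (42, 1), (43, 1), (45, 1), (46, 1), (47, 1), (49, 1), (50, 1), (52, 1), (54, 1), (56, 1), (58, 1), (59, 1), (61, 1), (62, 1), (64, 1), (65, 1), (66, 1), (68, 1), (70, 1), (71, 1), (72, 1), (76, 1), (81, 1), (83, 1), (84, 1), (88, 1), (90, 1), (93, 1), (94, 1), (95, 1), (96, 1), (99, 1), (102, 1), (104, 1), (107, 1), (109, 1), (113, 1), (114, 1), (118, 1), (119, 1), (120, 1), (121, 1), (124, 1), (126, 1), (127, 1), (129, 1), (133, 1), (135, 1), (137, 1), (139, 1), (146, 1), (152, 1), (193, 1), (195, 1), (196, 1), (198, 1), (200, 1), (203, 1)],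
    [(1, 1), (2, 1), (3, 1), (5, 1), (7, 1), (8, 1), (9, 1), (11, 1), (14, 1), (17, 1), (18, 1), (19, 1), (20, 1), (25, 1), (28, 1), (29, 1), (30, 1), (32, 1), (34, 1), (36, 1), (37, 1), (38, 1), (40, 1), (42, 1), (44, 1), (46, 1), (48, 1), (54, 1), (55, 1), (56, 1), (59, 1), (60, 1), (63, 1), (65, 1), (66, 1), (73, 1), (80, 1), (82, 1), (83, 1), (84, 1), (89, 1), (91, 1), (93, 1), (94, 1), (95, 1), (98, 1), (99, 1), (100, 1), (103, 1), (106, 1), (107, 1), (113, 1), (115, 1), (116, 1), (119, 1), (120, 1), (123, 1), (125, 1), (126, 1), (127, 1), (128, 1), (129, 1), (132, 1), (136, 1), (137, 1), (138, 1), (139, 1), (141, 1), (142, 1), (145, 1), (147, 1), (148, 1), (149, 1), (150, 1), (193, 1), (194, 1), (195, 1), (197, 1), (198, 1), (199, 1), (200, 1), (204, 1)],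
    [(0, 1), (2, 1), (3, 1), (5, 1), (6, 1), (7, 1), (8, 1), (10, 1), (11, 1), (13, 1), (17, 1), (18, 1), (19, 1), (22, 1), (25, 1), (26, 1), (27, 1), (28, 1), (31, 1), (34, 1), (36, 1), (38, 1), (39, 1), (42, 1), (43, 1), (45, 1), (47, 1), (48, 1), (52, 1), (53, 1), (54, 1), (55, 1), (57, 1), (60, 1), (62, 1), (63, 1), (65, 1), (68, 1), (69, 1), (73, 1), (75, 1), (76, 1), (77, 1), (79, 1), (80, 1), (81, 1), (82, 1), (83, 1), (85, 1), (86, 1), (87, 1), (88, 1), (89, 1), (91, 1), (95, 1), (96, 1), (100, 1), (101, 1), (103, 1), (105, 1), (111, 1), (112, 1), (114, 1), (115, 1), (116, 1), (118, 1), (120, 1), (123, 1), (124, 1), (125, 1), (127, 1), (130, 1), (131, 1), (132, 1), (133, 1), (134, 1), (135, 1), (141, 1), (147, 1), (148, 1), (150, 1), (194, 1), (196, 1), (198, 1), (203, 1), (204, 1)],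
    [(0, 1), (2, 1), (8, 1), (12, 1), (15, 1), (19, 1), (22, 1), (23, 1), (25, 1), (26, 1), (28, 1), (29, 1), (33, 1), (35, 1), (36, 1), (39, 1), (41, 1), (42, 1), (45, 1), (46, 1), (47, 1), (49, 1), (50, 1), (51, 1), (52, 1), (53, 1), (54, 1), (56, 1), (57, 1), (61, 1), (63, 1), (64, 1), (71, 1), (72, 1), (78, 1), (79, 1), (82, 1), (83, 1), (85, 1), (87, 1), (88, 1), (93, 1), (97, 1), (99, 1), (101, 1), (102, 1), (104, 1), (105, 1), (116, 1), (120, 1), (122, 1), (125, 1), (128, 1), (130, 1), (132, 1), (133, 1), (153, 1), (154, 1), (162, 1), (164, 1), (165, 1), (166, 1), (167, 1), (169, 1), (194, 1), (195, 1)],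
    [(0, 1), (1, 1), (2, 1), (3, 1), (4, 1), (5, 1), (7, 1), (8, 1), (10, 1), (11, 1), (12, 1), (16, 1), (18, 1), (19, 1), (20, 1), (22, 1), (25, 1), (26, 1), (27, 1), (29, 1), (31, 1), (35, 1), (36, 1), (40, 1), (42, 1), (43, 1), (44, 1), (46, 1), (49, 1), (50, 1), (54, 1), (56, 1), (57, 1), (58, 1), (61, 1), (62, 1), (65, 1), (78, 1), (79, 1), (80, 1), (81, 1), (83, 1), (84, 1), (85, 1), (86, 1), (87, 1), (95, 1), (98, 1), (99, 1), (158, 1), (159, 1), (160, 1), (162, 1), (163, 1)],
    [(0, 1), (1, 1), (5, 1), (7, 1), (8, 1), (10, 1), (11, 1), (13, 1), (14, 1), (16, 1), (17, 1), (21, 1), (22, 1), (23, 1), (27, 1), (28, 1), (31, 1), (32, 1), (35, 1), (36, 1), (38, 1), (39, 1), (41, 1), (42, 1), (43, 1), (48, 1), (49, 1), (50, 1), (51, 1), (53, 1), (54, 1), (57, 1), (58, 1), (59, 1), (62, 1), (67, 1), (68, 1), (72, 1), (73, 1), (74, 1), (75, 1), (76, 1), (77, 1), (78, 1), (82, 1), (84, 1), (85, 1), (86, 1), (88, 1), (89, 1), (90, 1), (91, 1), (94, 1), (95, 1), (97, 1), (98, 1), (104, 1), (107, 1), (112, 1), (113, 1), (115, 1), (116,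 1), (117, 1), (120, 1), (124, 1), (125, 1), (126, 1), (127, 1), (130, 1), (133, 1), (134, 1), (136, 1), (138, 1), (141, 1), (144, 1), (146, 1), (148, 1), (149, 1), (151, 1), (153, 1), (155, 1), (158, 1), (160, 1), (161, 1), (162, 1), (164, 1), (165, 1), (167, 1), (168, 1), (169, 1), (201, 1), (202, 1)],
    [(1, 1), (10, 1), (13, 1), (16, 1), (18, 1), (19, 1), (22, 1), (24, 1), (26, 1), (28, 1), (31, 1), (40, 1), (41, 1), (43, 1), (47, 1), (49, 1), (52, 1), (53, 1), (55, 1), (56, 1), (58, 1), (59, 1), (60, 1), (62, 1), (63, 1), (67, 1), (72, 1), (73, 1), (75, 1), (77, 1), (82, 1), (83, 1), (84, 1), (88, 1), (91, 1), (93, 1), (95, 1), (96, 1), (99, 1), (136, 1), (138, 1), (141, 1), (144, 1), (146, 1), (148, 1), (149, 1), (155, 1), (160, 1), (161, 1), (163, 1), (165, 1), (167, 1), (205, 1), (206, 1)],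
    [(0, 1), (1, 1), (5, 1), (6, 1), (8, 1), (12, 1), (13, 1), (16, 1), (17, 1), (18, 1), (20, 1), (22, 1), (27, 1), (29, 1), (31, 1), (33, 1), (35, 1), (36, 1), (39, 1), (41, 1), (42, 1), (46, 1), (49, 1), (54, 1), (59, 1), (60, 1), (61, 1), (63, 1), (69, 1), (70, 1), (71, 1), (72, 1), (73, 1), (76, 1), (80, 1), (84, 1), (85, 1), (86, 1), (88, 1), (89, 1), (90, 1), (94, 1), (97, 1), (98, 1), (99, 1), (100, 1), (101, 1), (102, 1), (104, 1), (154, 1), (155, 1), (156, 1), (157, 1), (158, 1), (160, 1), (163, 1), (164, 1), (166, 1), (170, 1)],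
    [(1, 1), (2, 1), (4, 1), (5, 1), (7, 1), (10, 1), (11, 1), (12, 1), (13, 1), (14, 1), (15, 1), (16, 1), (17, 1), (21, 1), (22, 1), (23, 1), (27, 1), (28, 1), (29, 1), (30, 1), (33, 1), (36, 1), (37, 1), (40, 1), (43, 1), (46, 1), (48, 1), (49, 1), (50, 1), (51, 1), (52, 1), (53, 1), (54, 1), (58, 1), (60, 1), (65, 1), (67, 1), (68, 1), (69, 1), (70, 1), (71, 1), (73, 1), (74, 1), (76, 1), (93, 1), (94, 1), (95, 1), (96, 1), (97, 1), (98, 1), (99, 1), (100, 1), (121, 1), (122, 1), (123, 1), (128, 1), (131, 1), (156, 1), (157, 1), (158, 1), (160, 1), (161, 1), (210, 1), (211, 1), (212, 1)],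
    [(5, 1), (6, 1), (7, 1), (8, 1), (12, 1), (13, 1), (15, 1), (16, 1), (17, 1), (20, 1), (22, 1), (25, 1), (26, 1), (28, 1), (29, 1), (30, 1), (31, 1), (33, 1), (36, 1), (40, 1), (41, 1), (42, 1), (46, 1), (49, 1), (51, 1), (52, 1), (55, 1), (57, 1), (58, 1), (60, 1), (61, 1), (66, 1), (68, 1), (69, 1), (71, 1), (72, 1), (75, 1), (78, 1), (84, 1), (91, 1), (93, 1), (95, 1), (98, 1), (99, 1), (100, 1), (101, 1), (102, 1), (105, 1), (111, 1), (137, 1), (139, 1), (149, 1), (152, 1), (156, 1), (159, 1), (160, 1), (163, 1), (209, 1), (210, 1), (211, 1), (212, 1), (213, 1)]]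

/-- Words for the elements of the certificate at 2. -/
def wordTwo : List (List ℕ) :=
  [
    [1, 2, 3, 4, 5, 6, 7, 1, 2, 3, 4, 5, 6, 7, 1, 2, 3, 4, 5, 6, 7, 1, 2, 3, 4, 5, 6, 7, 1, 2, 3, 4, 5, 6, 7, 1, 2, 3, 4, 5, 6, 7, 1, 2, 3, 4, 5, 6, 7, 1, 2, 3, 4, 5, 6, 7, 1, 2, 3, 4, 5, 6, 7],
    [5, 4, 5], [8, 7, 8],
    [8, 6, 5, 4, 1, 3, 2, 1, 3, 4, 5, 4, 7, 3, 5, 2, 3, 4, 7, 0, 7, 8, 1, 7, 3, 2, 3, 4, 7, 3, 1, 2, 7, 1, 0, 4, 3, 7, 4, 8, 3, 4, 5, 7, 8, 3, 7, 2, 1, 2, 3, 4, 5, 6, 0, 1, 0],
    [8, 1, 2, 1, 3, 4, 7, 3, 1, 2, 1, 8, 3, 5, 2, 3, 4, 7, 0, 7, 8, 1, 7, 3, 2, 3, 4, 7, 3, 1, 2, 7, 1, 0, 4, 3, 7, 4, 5, 4, 3, 1, 2, 3, 1, 4, 5, 7, 0, 3, 7, 1, 2, 3, 1, 4, 0, 7, 3, 2, 3, 7, 4, 3, 1, 2, 0, 4, 3, 7, 4, 3, 1, 2, 3, 1, 4, 5, 7, 0, 3, 7, 1, 2, 3, 1, 4, 0, 7, 3, 2, 3, 7, 4, 3, 1, 2, 0, 4, 3, 7, 4, 3, 1, 2, 3, 1, 2, 0, 7, 8, 3, 5, 2, 6, 1, 2, 5, 7, 0, 6, 4, 3, 7, 6, 4, 2, 3, 1, 2, 7, 1, 0, 4, 3, 8, 3, 0, 7, 6, 1, 4, 3, 0, 3, 5, 7, 2, 0, 6, 7, 1, 4, 8, 5, 3, 2, 7, 4, 3, 4, 7, 2, 3, 1, 2, 0, 5, 4, 3, 7, 8, 2, 1, 2, 3, 4],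
    [6, 5, 6, 4, 7, 5, 6, 3, 4, 7, 5, 6], [4, 7, 3, 0, 2, 3, 4, 7], [4, 7, 3, 2, 3, 4, 7],
    [8, 6, 4, 7, 5, 6, 3, 4, 7, 5, 6, 3, 4, 8, 7, 3, 5, 4, 2, 3, 4, 5, 6, 7, 3, 2, 4, 3, 5, 4, 7, 8, 7, 3, 4],
    [8, 7, 0, 3, 7, 1, 2, 3, 1, 4, 0, 7, 3, 2, 3, 7, 4, 3, 1, 2, 0, 4, 3, 7, 4, 3, 1, 2, 3, 1, 4, 8, 6, 7, 3, 1, 2, 1, 3, 7, 5, 3, 5, 2, 3, 4, 7, 0, 7, 8, 1, 7, 3, 2, 3, 4, 7, 3, 1, 2, 7, 1, 0, 4, 3, 7, 4, 5, 4, 1, 3, 2, 1, 3, 2, 0, 7, 8, 3, 5, 2, 6, 1, 2, 5, 7, 0, 6, 4, 3, 7, 6, 4, 2, 3, 1, 2, 7, 1, 0, 4, 3, 8, 6, 3, 0, 7, 6, 1, 4, 3, 0, 3, 5, 7, 2, 0, 6, 7, 1, 4, 8, 5, 3, 2, 7, 4, 3, 4, 7, 2, 3, 1, 2, 0, 5, 4, 3, 7, 2, 1, 2, 3, 4, 5, 6, 8, 7, 3, 4, 2, 3, 4, 5, 6, 7, 3, 2, 1, 4, 3, 5, 4, 7, 8, 7, 3, 2, 4, 3, 5, 4, 7, 3, 2, 1, 8],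
    [6, 5, 4, 1, 3, 2, 1, 3, 4, 5, 7, 0, 3, 7, 1, 2, 3, 1, 4, 0, 7, 3, 2, 3, 7, 4, 3, 1, 2, 0, 4, 3, 7, 4, 3, 1, 2, 3, 1, 4, 5, 6, 7, 0, 3, 7, 1, 2, 3, 1, 4, 0, 7, 3, 2, 3, 7, 4, 3, 1, 2, 0, 4, 3, 7, 4, 3, 1, 2, 3, 1, 4, 8, 2, 8, 6, 8, 0, 7, 1, 6, 2, 5, 3, 7, 4, 2, 3, 4, 6, 2, 7, 3, 1, 2, 0, 3, 7, 4, 3, 7, 8, 5, 4, 7, 2, 8, 6, 8, 0, 7, 1, 6, 2, 5, 3, 7, 4, 2, 3, 4, 6, 2, 7, 3, 1, 2, 0, 3, 7, 4, 3, 7, 8, 5, 6, 7, 8, 4, 3, 1, 2, 1, 3, 7, 8, 4, 3, 1, 2, 1, 3, 2, 8, 6, 8, 0, 7, 1, 6, 2, 5, 3, 7, 4, 2, 3, 4, 6, 2, 7, 3, 1, 2, 0, 3, 7, 4, 3, 5, 3, 0, 7, 6, 1, 4, 3, 0, 3, 5, 7, 2, 0, 6, 7, 1, 4, 8, 5, 3, 2, 7, 4, 3, 4, 7, 2, 3, 1, 2, 1, 0, 6, 3, 4, 7, 2, 1, 3, 4, 5, 7, 3, 4, 8, 7, 2, 1, 3, 4, 5, 3, 7, 8, 3, 2, 1, 3, 4, 5, 3, 7, 8, 3, 2, 1, 3, 4, 5, 3, 7, 8, 3, 2, 1, 3, 4, 5, 3, 7, 8, 3, 2, 1, 3, 4, 5, 3, 7, 8, 3, 2, 1, 3, 4, 5, 3, 7, 8, 3, 2, 1, 3, 4, 5, 3, 7, 8, 3, 2, 1, 3, 4, 5, 3, 7, 8, 3, 2, 1, 3, 4, 5, 3, 7, 8, 3, 2, 1, 3, 4, 5, 3, 7, 8],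
    [8, 6, 5, 4, 1, 3, 2, 1, 3, 4, 5, 6, 3, 5, 2, 3, 4, 7, 0, 7, 8, 1, 7, 3, 2, 3, 4, 7, 3, 1, 2, 7, 1, 0, 4, 3, 7, 4, 6, 5, 4, 1, 3, 2, 1, 3, 4, 7, 8, 4, 3, 0, 7, 6, 1, 4, 3, 0, 3, 5, 7, 2, 0, 6, 7, 1, 4, 8, 5, 3, 2, 7, 4, 3, 4, 7, 2, 3, 1, 2, 1, 0, 3, 5, 4, 5, 6, 2, 1, 2, 0, 2, 3, 4, 5, 6, 7, 3, 2, 4, 3, 8, 7, 3, 4, 5, 3, 2, 1, 3, 4, 5, 3, 7, 8, 3, 2, 1, 3, 4, 5, 3, 7, 8, 3, 2, 1, 3, 4, 5, 3, 7, 8, 3, 2, 1, 3, 4, 5, 3, 7, 8, 3, 2, 1, 3, 4, 5, 3, 7, 8, 3, 2, 1, 3, 4, 5, 3, 7, 8, 3, 2, 1, 3, 4, 5, 3, 7, 8, 3, 2, 1, 3, 4, 5, 3, 7, 8, 3, 2, 1, 3, 4, 5, 3, 7, 8, 3, 2, 1, 3, 4, 5, 3, 7, 8, 3, 2, 1, 3, 4, 5, 3, 7, 8, 3, 2, 1, 3, 4, 5, 3, 7, 8, 3, 2, 1, 3, 4, 5, 3, 7, 8, 3, 2, 1, 3, 4, 5, 3, 7, 8, 3, 2, 1, 3, 4, 5, 3, 7, 8, 3, 2, 1, 3, 4, 5, 3, 7, 8, 3, 2, 1, 3, 4, 5, 3, 7, 8, 3, 2, 1, 3, 4, 5, 3, 7, 8, 3, 2, 1, 3, 4, 5, 3, 7, 8, 3, 2, 1, 3, 4, 5, 3, 7, 8],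
    [1, 2, 1, 3, 4, 7, 3, 1, 2, 1, 8, 3, 5, 2, 3, 4, 7, 0, 7, 8, 1, 7, 3, 2, 3, 4, 7, 3, 1, 2, 7, 1, 0, 4, 3, 7, 4, 5, 4, 3, 1, 2, 3, 1, 4, 5, 7, 0, 3, 7, 1, 2, 3, 1, 4, 0, 7, 3, 2, 3, 7, 4, 3, 1, 2, 0, 4, 3, 7, 4, 3, 1, 2, 3, 1, 4, 8, 3, 5, 2, 3, 4, 7, 0, 7, 8, 1, 7, 3, 2, 3, 4, 7, 3, 1, 2, 7, 1, 0, 4, 3, 7, 4, 6, 5, 8, 7, 3, 1, 2, 1, 3, 7, 3, 5, 7, 2, 0, 6, 7, 1, 4, 8, 5, 3, 2, 7, 4, 3, 4, 7, 2, 3, 1, 2, 0, 5, 4, 3, 8, 7, 3, 1, 2, 1, 3, 4, 7, 8, 5, 6, 5, 4, 3, 0, 7, 6, 1, 4, 3, 0, 3, 5, 7, 2, 0, 6, 7, 1, 4, 8, 5, 3, 2, 7, 4, 3, 4, 7, 2, 3, 1, 2, 0, 6, 3, 2, 3, 4, 5, 6, 7, 3, 2, 4, 3, 5, 8, 7, 3, 2, 1, 4, 3, 2, 5, 6, 7, 3, 4, 3, 2, 1, 3, 4, 5, 3, 7, 8, 3, 2, 1, 3, 4, 5, 3, 7, 8, 3, 2, 1, 3, 4, 5, 3, 7, 8, 3, 2, 1, 3, 4, 5, 3, 7, 8, 3, 2, 1, 3, 4, 5, 3, 7, 8, 3, 2, 1, 3, 4, 5, 3, 7, 8, 3, 2, 1, 3, 4, 5, 3, 7, 8, 3, 2, 1, 3, 4, 5, 3, 7, 8, 3, 2, 1, 3, 4, 5, 3, 7, 8, 3, 2, 1, 3, 4, 5, 3, 7, 8, 3, 2, 1, 3, 4, 5, 3, 7, 8, 3, 2, 1, 3, 4, 5, 3, 7, 8, 3, 2, 1, 3, 4, 5, 3, 7, 8, 3, 2, 1, 3, 4, 5, 3, 7, 8, 3, 2, 1, 3, 4, 5, 3, 7, 8, 3, 2, 1,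 3, 4, 5, 3, 7, 8, 3, 2, 1, 3, 4, 5, 3, 7, 8, 3, 2, 1, 3, 4, 5, 3, 7, 8, 3, 2, 1, 3, 4, 5, 3, 7, 8, 3, 2, 1, 3, 4, 5, 3, 7, 8],
    [5, 4, 1, 3, 2, 1, 3, 4, 5, 6, 7, 0, 3, 7, 1, 2, 3, 1, 4, 0, 7, 3, 2, 3, 7, 4, 3, 1, 2, 0, 4, 3, 7, 4, 3, 1, 2, 3, 1, 4, 5, 4, 1, 3, 2, 1, 3, 4, 5, 7, 0, 3, 7, 1, 2, 3, 1, 4, 0, 7, 3, 2, 3, 7, 4, 3, 1, 2, 0, 4, 3, 7, 4, 3, 1, 2, 3, 1, 4, 8, 5, 0, 8, 5, 3, 2, 4, 3, 6, 5, 6, 1, 0, 7, 4, 2, 3, 7, 6, 2, 4, 3, 1, 2, 0, 5, 4, 3, 8, 6, 5, 7, 4, 3, 1, 2, 1, 3, 0, 3, 7, 1, 0, 4, 6, 5, 8, 4, 5, 7, 3, 1, 2, 1, 3, 7, 3, 5, 7, 2, 0, 6, 7, 1, 4, 8, 5, 3, 2, 7, 4, 3, 4, 7, 2, 3, 1, 2, 0, 5, 8, 7, 3, 2, 1, 3, 4, 5, 6, 7, 3, 2, 1, 4, 3, 2, 5, 4, 7, 8, 7, 3, 2, 1, 4, 3, 2, 5, 7, 3, 4, 8, 3, 2, 1, 3, 4, 5, 3, 7, 8, 3, 2, 1, 3, 4, 5, 3, 7, 8, 3, 2, 1, 3, 4, 5, 3, 7, 8, 3, 2, 1, 3, 4, 5, 3, 7, 8, 3, 2, 1, 3, 4, 5, 3, 7, 8, 3, 2, 1, 3, 4, 5, 3, 7, 8, 3, 2, 1, 3, 4, 5, 3, 7, 8, 3, 2, 1, 3, 4, 5, 3, 7, 8, 3, 2, 1, 3, 4, 5, 3, 7, 8, 3, 2, 1, 3, 4, 5, 3, 7, 8],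
    [1, 2, 1, 3, 4, 7, 3, 1, 2, 1, 8, 3, 5, 2, 3, 4, 7, 0, 7, 8, 1, 7, 3, 2, 3, 4, 7, 3, 1, 2, 7, 1, 0, 4, 3, 7, 4, 5, 4, 3, 1, 2, 3, 1, 4, 5, 7, 0, 3, 7, 1, 2, 3, 1, 4, 0, 7, 3, 2, 3, 7, 4, 3, 1, 2, 0, 4, 3, 7, 4, 3, 1, 2, 3, 1, 4, 5, 6, 7, 0, 3, 7, 1, 2, 3, 1, 4, 0, 7, 3, 2, 3, 7, 4, 3, 1, 2, 0, 4, 3, 7, 4, 3, 1, 2, 3, 1, 4, 8, 2, 8, 6, 8, 0, 7, 1, 6, 2, 5, 3, 7, 4, 2, 3, 4, 6, 2, 7, 3, 1, 2, 0, 3, 7, 4, 3, 7, 8, 7, 4, 5, 4, 1, 3, 2, 1, 3, 4, 2, 0, 7, 8, 3, 5, 2, 6, 1, 2, 5, 7, 0, 6, 4, 3, 7, 6, 4, 2, 3, 1, 2, 7, 1, 0, 4, 3, 5, 6, 4, 8, 7, 3, 1, 2, 1, 3, 7, 8, 3, 0, 7, 6, 1, 4, 3, 0, 3, 5, 7, 2, 0, 6, 7, 1, 4, 8, 5, 3, 2, 7, 4, 3, 4, 7, 2, 3, 1, 2, 1, 0, 5, 3, 7, 8, 2, 1, 2, 4, 3, 7, 4, 3, 2, 3, 4, 5, 6, 7, 3, 2, 1, 4, 3, 2, 8, 7, 3, 2, 1, 0, 4, 3, 5, 4, 7, 3],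
    [5, 4, 1, 3, 2, 1, 3, 4, 5, 8, 7, 3, 4, 7, 3, 0, 2, 1, 3, 7, 2, 6, 4, 3, 2, 4, 7, 3, 5, 2, 6, 1, 7, 0, 8, 6, 8, 2, 1, 2, 1, 3, 7, 4, 3, 1, 2, 1, 7, 0, 3, 7, 1, 2, 3, 1, 4, 0, 7, 3, 2, 3, 7, 4, 3, 1, 2, 0, 4, 3, 7, 4, 3, 1, 2, 3, 1, 4, 3, 5, 2, 3, 4, 7, 0, 7, 8, 1, 7, 3, 2, 3, 4, 7, 3, 1, 2, 7, 1, 0, 4, 3, 7, 4, 8, 6, 4, 7, 3, 5, 2, 3, 4, 7, 0, 7, 8, 1, 7, 3, 2, 3, 4, 7, 3, 1, 2, 7, 1, 0, 4, 3, 5, 6, 5, 3, 0, 7, 6, 1, 4, 3, 0, 3, 5, 7, 2, 0, 6, 7, 1, 4, 8, 5, 3, 2, 7, 4, 3, 4, 7, 2, 3, 1, 2, 0, 5, 4, 3, 7, 4, 3, 2, 3, 4, 5, 6, 7, 3, 2, 1, 4, 3, 2, 5, 4, 3, 8, 7, 3, 2, 1, 4, 3, 5, 6, 7, 3, 2, 1, 3, 4, 5, 3, 7, 8, 3, 2, 1, 3, 4, 5, 3, 7, 8, 3, 2, 1, 3, 4, 5, 3, 7, 8, 3, 2, 1, 3, 4, 5, 3, 7, 8, 3, 2, 1, 3, 4, 5, 3, 7, 8, 3, 2, 1, 3, 4, 5, 3, 7, 8, 3, 2, 1, 3, 4, 5, 3, 7, 8, 3, 2, 1, 3, 4, 5, 3, 7, 8, 3, 2, 1, 3, 4, 5, 3, 7, 8, 3, 2, 1, 3, 4, 5, 3, 7, 8, 3, 2, 1, 3, 4, 5, 3, 7, 8, 3, 2, 1, 3, 4, 5, 3, 7, 8, 3, 2, 1, 3, 4, 5, 3, 7, 8, 3, 2, 1, 3, 4, 5, 3, 7, 8, 3, 2, 1, 3, 4, 5, 3, 7, 8, 3, 2, 1, 3, 4, 5, 3, 7, 8, 3, 2, 1, 3, 4, 5, 3,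 7, 8, 3, 2, 1, 3, 4, 5, 3, 7, 8, 3, 2, 1, 3, 4, 5, 3, 7, 8, 3, 2, 1, 3, 4, 5, 3, 7, 8],
    [8, 1, 2, 1, 3, 4, 7, 3, 1, 2, 1, 2, 8, 6, 8, 0, 7, 1, 6, 2, 5, 3, 7, 4, 2, 3, 4, 6, 2, 7, 3, 1, 2, 0, 3, 7, 4, 3, 7, 8, 5, 4, 3, 1, 2, 3, 1, 4, 5, 7, 0, 3, 7, 1, 2, 3, 1, 4, 0, 7, 3, 2, 3, 7, 4, 3, 1, 2, 0, 4, 3, 7, 4, 3, 1, 2, 3, 1, 4, 8, 6, 2, 8, 6, 8, 0, 7, 1, 6, 2, 5, 3, 7, 4, 2, 3, 4, 6, 2, 7, 3, 1, 2, 0, 3, 7, 4, 3, 7, 8, 7, 3, 1, 2, 1, 3, 7, 3, 5, 2, 3, 4, 7, 0, 7, 8, 1, 7, 3, 2, 3, 4, 7, 3, 1, 2, 7, 1, 0, 4, 3, 7, 4, 5, 6, 4, 7, 3, 5, 2, 3, 4, 7, 0, 7, 8, 1, 7, 3, 2, 3, 4, 7, 3, 1, 2, 7, 1, 0, 4, 3, 5, 6, 5, 4, 3, 1, 2, 1, 3, 8, 4, 3, 0, 7, 6, 1, 4, 3, 0, 3, 5, 7, 2, 0, 6, 7, 1, 4, 8, 5, 3, 2, 7, 4, 3, 4, 7, 2, 3, 1, 2, 0, 5, 3, 4, 5, 7, 8, 2, 1, 3, 4, 5, 6, 7, 3, 2, 1, 4, 3, 2, 5, 4, 8, 7, 3, 2, 1, 4, 3, 5, 4, 7, 3, 8, 7, 3, 2, 1, 3, 4, 5, 3, 7, 8, 3, 2, 1, 3, 4, 5, 3, 7, 8, 3, 2, 1, 3, 4, 5, 3, 7, 8, 3, 2, 1, 3, 4, 5, 3, 7, 8, 3, 2, 1, 3, 4, 5, 3, 7, 8, 3, 2, 1, 3, 4, 5, 3, 7, 8, 3, 2, 1, 3, 4, 5, 3, 7, 8, 3, 2, 1, 3, 4, 5, 3, 7, 8,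 3, 2, 1, 3, 4, 5, 3, 7, 8, 3, 2, 1, 3, 4, 5, 3, 7, 8, 3, 2, 1, 3, 4, 5, 3, 7, 8, 3, 2, 1, 3, 4, 5, 3, 7, 8, 3, 2, 1, 3, 4, 5, 3, 7, 8, 3, 2, 1, 3, 4, 5, 3, 7, 8, 3, 2, 1, 3, 4, 5, 3, 7, 8, 3, 2, 1, 3, 4, 5, 3, 7, 8, 3, 2, 1, 3, 4, 5, 3, 7, 8, 3, 2, 1, 3, 4, 5, 3, 7, 8, 3, 2, 1, 3, 4, 5, 3, 7, 8, 3, 2, 1, 3, 4, 5, 3, 7, 8],
    [5, 4, 1, 3, 2, 1, 3, 4, 5, 8, 7, 3, 4, 7, 3, 0, 2, 1, 3, 7, 2, 6, 4, 3, 2, 4, 7, 3, 5, 2, 6, 1, 7, 0, 8, 6, 8, 2, 1, 2, 1, 3, 7, 4, 3, 1, 2, 1, 5, 4, 1, 3, 2, 1, 3, 4, 6, 7, 0, 3, 7, 1, 2, 3, 1, 4, 0, 7, 3, 2, 3, 7, 4, 3, 1, 2, 0, 4, 3, 7, 4, 3, 1, 2, 3, 1, 4, 8, 2, 8, 6, 8, 0, 7, 1, 6, 2, 5, 3, 7, 4, 2, 3, 4, 6, 2, 7, 3, 1, 2, 0, 3, 7, 4, 3, 7, 8, 5, 4, 7, 3, 5, 2, 3, 4, 7, 0, 7, 8, 1, 7, 3, 2, 3, 4, 7, 3, 1, 2, 7, 1, 0, 4, 3, 8, 5, 4, 6, 5, 4, 3, 1, 2, 1, 4, 5, 7, 8, 3, 7, 4, 3, 2, 1, 2, 3, 4, 5, 7, 3, 8, 7, 4, 3, 2, 1, 3, 4, 5, 6, 7, 3, 2, 1, 4, 3, 2, 5, 4, 8, 7, 3, 2, 1, 0, 4, 5, 6, 3, 2, 1, 3, 4, 5, 3, 7, 8, 3, 2, 1, 3, 4, 5, 3, 7, 8, 3, 2, 1, 3, 4, 5, 3, 7, 8, 3, 2, 1, 3, 4, 5, 3, 7, 8, 3, 2, 1, 3, 4, 5,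 3, 7, 8, 3, 2, 1, 3, 4, 5, 3, 7, 8, 3, 2, 1, 3, 4, 5, 3, 7, 8, 3, 2, 1, 3, 4, 5, 3, 7, 8, 3, 2, 1, 3, 4, 5, 3, 7, 8, 3, 2, 1, 3, 4, 5, 3, 7, 8, 3, 2, 1, 3, 4, 5, 3, 7, 8, 3, 2, 1, 3, 4, 5, 3, 7, 8, 3, 2, 1, 3, 4, 5, 3, 7, 8, 3, 2, 1, 3, 4, 5, 3, 7, 8, 3, 2, 1, 3, 4, 5, 3, 7, 8, 3, 2, 1, 3, 4, 5, 3, 7, 8, 3, 2, 1, 3, 4, 5, 3, 7, 8, 3, 2, 1, 3, 4, 5, 3, 7, 8, 3, 2, 1, 3, 4, 5, 3, 7, 8, 3, 2, 1, 3, 4, 5, 3, 7, 8],
    [5, 4, 1, 3, 2, 1, 3, 4, 5, 6, 7, 0, 3, 7, 1, 2, 3, 1, 4, 0, 7, 3, 2, 3, 7, 4, 3, 1, 2, 0, 4, 3, 7, 4, 3, 1, 2, 3, 1, 4, 5, 4, 1, 3, 2, 1, 3, 4, 5, 7, 0, 3, 7, 1, 2, 3, 1, 4, 0, 7, 3, 2, 3, 7, 4, 3, 1, 2, 0, 4, 3, 7, 4, 3, 1, 2, 3, 1, 4, 6, 5, 7, 8, 6, 3, 1, 2, 1, 3, 7, 4, 5, 3, 5, 7, 2, 0, 6, 7, 1, 4, 8, 5, 3, 2, 7, 4, 3, 4, 7, 2, 3, 1, 2, 0, 5, 4, 3, 7, 4, 6, 4, 7, 3, 5, 2, 3, 4, 7, 0, 7, 8, 1, 7, 3, 2, 3, 4, 7, 3, 1, 2, 7, 1, 0, 4, 3, 8, 6, 7, 3, 1, 2, 1, 3, 7, 8, 3, 4, 5, 7, 8, 3, 7, 4, 3, 2, 1, 2, 3, 7, 4, 3, 6, 5, 0, 1, 0, 2, 3, 4, 5, 6, 7, 3, 2, 1, 4, 3, 5, 7, 8, 7, 3, 2, 1, 0, 4, 3, 2, 5, 4, 7],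
    [5, 4, 1, 3, 2, 1, 3, 4, 5, 8, 7, 3, 4, 7, 3, 0, 2, 1, 3, 7, 2, 6, 4, 3, 2, 4, 7, 3, 5, 2, 6, 1, 7, 0, 8, 6, 8, 2, 1, 2, 1, 3, 7, 4, 3, 1, 2, 1, 6, 1, 2, 4, 7, 3, 2, 1, 5, 4, 3, 0, 7, 6, 1, 4, 3, 0, 3, 5, 7, 2, 0, 6, 7, 1, 4, 8, 5, 3, 2, 7, 4, 3, 4, 7, 2, 3, 1, 2, 0, 3, 4, 5, 2, 1, 2, 3, 4, 7, 3, 7, 8, 2, 3, 4, 5, 6, 7, 3, 2, 1, 4, 3, 2, 5, 4, 8, 7, 3, 2, 1, 4, 3, 2, 7, 3, 4, 5, 6, 8, 7],
    [5, 4, 1, 3, 2, 1, 3, 4, 5, 6, 7, 0, 3, 7, 1, 2, 3, 1, 4, 0, 7, 3, 2, 3, 7, 4, 3, 1, 2, 0, 4, 3, 7, 4, 3, 1, 2, 3, 1, 4, 5, 4, 1, 3, 2, 1, 3, 4, 5, 7, 0, 3, 7, 1, 2, 3, 1, 4, 0, 7, 3, 2, 3, 7, 4, 3, 1, 2, 0, 4, 3, 7, 4, 3, 1, 2, 3, 1, 4, 7, 3, 1, 2, 1, 3, 7, 3, 5, 2, 3, 4, 7, 0, 7, 8, 1, 7, 3, 2, 3, 4, 7, 3, 1, 2, 7, 1, 0, 4, 3, 7, 4, 6, 8, 7, 3, 1, 2, 1, 3, 7, 4, 2, 0, 7, 8, 3, 5, 2, 6, 1, 2, 5, 7, 0, 6, 4, 3, 7, 6, 4, 2, 3, 1, 2, 7, 1, 0, 4, 3, 6, 5, 3, 0, 7, 6, 1, 4, 3, 0, 3, 5, 7, 2, 0, 6, 7, 1, 4, 8, 5, 3, 2, 7, 4, 3, 4, 7, 2, 3, 1, 2, 1, 0, 3, 7, 8, 5, 4, 3, 7, 2, 1, 2, 3, 4, 8, 7, 3, 2, 1, 3, 4, 5, 6, 7, 3, 2, 1, 4, 3, 5, 4, 8, 7, 3,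 2, 1, 4, 3, 2, 5, 7, 3, 4, 5, 6, 8],
    [5, 4, 1, 3, 2, 1, 3, 4, 5, 8, 7, 3, 4, 7, 3, 0, 2, 1, 3, 7, 2, 6, 4, 3, 2, 4, 7, 3, 5, 2, 6, 1, 7, 0, 8, 6, 8, 2, 1, 2, 1, 3, 7, 4, 3, 1, 2, 1, 7, 8, 7, 5, 6, 3, 5, 7, 2, 0, 6, 7, 1, 4, 8, 5, 3, 2, 7, 4, 3, 4, 7, 2, 3, 1, 2, 0, 5, 4, 3, 7, 5, 3, 5, 2, 3, 4, 7, 0, 7, 8, 1, 7, 3, 2, 3, 4, 7, 3, 1, 2, 7, 1, 0, 4, 3, 7, 4, 6, 5, 8, 1, 2, 1, 3, 7, 4, 3, 1, 2, 1, 7, 4, 5, 7, 8, 4, 7, 3, 1, 2, 1, 3, 7, 5, 6, 3, 5, 7, 2, 0, 6, 7, 1, 4, 8, 5, 3, 2, 7, 4, 3, 4, 7, 2, 3, 1, 2, 0, 5, 4, 3, 7, 8, 7, 0, 3, 7, 1, 0, 4, 6, 5, 8, 4, 5, 7, 3, 1, 2, 1, 3, 7, 3, 5, 7, 2, 0, 6, 7, 1, 4, 8, 5, 3, 2, 7, 4, 3, 4, 7, 2, 3, 1, 2, 1, 0, 5, 4, 8, 7, 3, 2, 3, 4, 5, 6, 7, 3, 2, 1, 4, 3, 2, 5, 7, 8, 7, 3, 2, 1, 0, 4, 3, 2, 5, 4, 7, 3, 8, 7],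
    [1, 2, 1, 3, 4, 7, 3, 1, 2, 1, 7, 4, 5, 3, 1, 2, 1, 3, 8, 7, 3, 4, 5, 7, 8, 3, 7, 4, 3, 2, 1, 2, 3, 4, 5, 7, 3, 8, 6, 5, 2, 3, 4, 5, 6, 7, 3, 2, 4, 3, 8, 7, 3, 2, 4]]

/-- The matrices of the elements of the certificate at 2. -/
def matTwo : List (List ℕ) :=
  [
    [0x1, 0x2, 0x4, 0x8, 0x10, 0x20, 0x40, 0x80, 0x100, 0x200, 0x400, 0x800, 0x1000, 0x2000, 0x4000, 0x8000, 0x10000, 0x20000, 0x40000, 0x80000, 0x100000, 0x200000, 0x400000, 0x800000, 0x1000000, 0x2000000, 0x4000000],
    [0x1, 0x2, 0x31080000000050, 0x8, 0x19080000000044, 0x19080000005a74, 0x40, 0x80, 0x3d080007ffff80, 0x800, 0x400, 0x200, 0x4000, 0x2000, 0x1000, 0x8000, 0x10000, 0x80000, 0x40000, 0x20000, 0x100000, 0x200000, 0x400000, 0x800000, 0x4000000, 0x2000000, 0x1000000],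
    [0xf81b198bfde9f, 0x33f684f6708002, 0x3c05b198b18e04, 0x287852b48ef4de, 0xff27f19212f0e, 0xff27f19212f3e, 0x338400000e50de, 0x17fb67c5ae5aca, 0x1804a54a70a29b, 0x5fef4f14feaad, 0x5fef4f14fecad, 0x5fef4f14fe0ad, 0x27d04f1bfb09d, 0x27d04f1bf809d, 0x27d04f1bfe09d, 0x7284f67e509e, 0x3407f000ff18ae, 0x3f8284f1d2d09c, 0x3f8284f1d4d09c, 0x3f8284f1d8d09c, 0x7284f66ed09e, 0x9f87000b168af, 0x7284f63ed09e, 0xe7b8000e1209f, 0x97bfc07a1b063, 0xb8c0407ff4266, 0x3a84080000ba37],
    [0x2f8552f3b03627, 0x3a5c13c752054, 0x3f2591e0e49a77, 0x2da172bbb03627, 0x322dc3c5f4ae44, 0x9a9609e209814, 0x23295005c49867, 0x110493c03036f3, 0x1f0ce3cf81992d, 0x180dd319f58c4f, 0x1f05e39f84b82d, 0x180d81bfd4861b, 0x1d28c387818824, 0x1f2cc39f809827, 0x1d28c38781d824, 0x1d21c39fc0b824, 0x210d7005811c2e, 0x1facc38866b825, 0x1f2cc39f84b827, 0x1facc3886cb825, 0x208cc39f80b825, 0x1ca07005f09c2f, 0x1f2cc39fc0b827, 0xc8c7000d48e5f, 0x258c3001d41463, 0x1e845007941826, 0x14846004d41e37],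
    [0x18400086bc678, 0x2a7317d81562fb, 0x2dff900ebb69e6, 0x357263c2aeeca4, 0x2af353c5f0ac5f, 0x395ffcc8dba0ba, 0x2e080000619239, 0x10f337c8b436f9, 0x3ff6a67d642d80, 0xd0148ddd18480, 0x3afb37cd9ff080, 0x3efeee79518480, 0x160500029fd2f9, 0x2a01001d5fb2f9, 0x160500029f82f9, 0x160c001adeb2f9, 0x2bf2a407de5480, 0x17a80002a862f9, 0x15280012e462f9, 0x17a80002a262f9, 0x288800154462f9, 0x2a5fa407caf480, 0x2a0800055e62f9, 0x2fa50000d43279, 0x375aec014a5d80, 0x2fa50002543279, 0x20a5480414a900],
    [0x3c000007bff001, 0x3c000007be0002, 0x3d083c003ff7d0, 0x350054059e68a5, 0x2f79807e10344, 0x100868041e32d9, 0x7800040, 0x150800057ff400, 0xd0800067ff800, 0xc000006000f80, 0x29080002fff080, 0x19080004fff100, 0x3c00000001b000, 0x3c00000001d000, 0x3c00000001e000, 0x3c000000017000, 0x10000, 0x3c000000360000, 0x3c0000003a0000, 0x3c0000003c0000, 0x3c0000002e0000, 0x200000, 0x3c000007c00000, 0x7000000, 0x3800000, 0x5800000, 0x6800000],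
    [0x2f082005019278, 0xa00000000002, 0x3b4820004c0006, 0x39082007a4000a, 0x6182007e60012, 0x181020045ecfd9, 0x7a00040, 0x10800055ff400, 0x3d000005bd0500, 0x3d000007370600, 0x3d000007b40400, 0x3d0000073d0c00, 0x80800047f4d80, 0x3d000005f52400, 0x1d00000680e900, 0x3d000007758400, 0x2810000, 0x3d000000160000, 0x3d000007a40000, 0x3d0000001c0000, 0x3d000007b00000, 0x200000, 0x3d000000540000, 0x5a00000, 0x1000000, 0x7200000, 0x4000000],
    [0x1008200555927a, 0x3da00000000002, 0x39882000000004, 0x39882000000008, 0x39882000000010, 0x18a020045ccfdb, 0x40, 0x3c080002f5f400, 0x5a50500, 0x7310600, 0x400, 0x7310c00, 0x350800039d4d80, 0x5a52400, 0x2000000168e900, 0x7318400, 0x5210000, 0x7b60000, 0x40000, 0x7bc0000, 0x100000, 0x200000, 0x7f40000, 0x5a00000, 0x1000000, 0x7200000, 0x4000000],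
    [0x2d5363d211da88, 0xb55913ce42000, 0x3c93731b11da17, 0x2ffff0404f92fa, 0x2813213b084070, 0xfef0880a7fa9, 0x27f10005de9267, 0x88852acd49673, 0x3806d4dc624f2d, 0xbefc2ab389634, 0x162ed6e62abc2d, 0x3ab792ab329660, 0x2f7495e9149fdf, 0x3af802bc704c27, 0xb74974dca315f, 0x55c95747eae5f, 0x1fafd00291da55, 0x1104913e8cb225, 0x2ef4913924b227, 0x1104913e86b225, 0x110491392ab225, 0x36ffd4021a68af, 0x2ef4913ed4b227, 0x36f68007de4224, 0x999100156b063, 0xea104077420dd, 0x38c140045cba37],
    [0x10acc76bf55a55, 0x2af7a402810002, 0x8000213765706, 0x2489b1d8856c67, 0x1df00214fc5712, 0x37bd76b363c299, 0x3cf000029e0040, 0x2aafa4004af400, 0x2794dd7f71fb00, 0xe6cdd7f1a0c80, 0x25fa407c0f080, 0xccb797dbb0680, 0xf037fcd8b1d80, 0x9f804a3007400, 0x18fcdbcdd5b900, 0x1f0fa0a4a1d400, 0x3ffa4055ff480, 0x3eafa402e8f480, 0x35fa402e4f480, 0x3eafa402e2f480, 0x35fa402f0f480, 0x200000, 0x30fa40514f480, 0x15500000aa0000, 0x29a00004140000, 0x155000022a0000, 0x29a00001140000],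
    [0x12cb57b754cef, 0x247900578548ad, 0x37548db6b3b0a3, 0x3d5c95d05f0080, 0x369c958063b2bd, 0xb5eec6725edd3, 0x100900005bfaca, 0x12f34374d1005e, 0x37fa452ec7df82, 0x19b3494b300119, 0x37fa452ccede82, 0xe1cbfed4fffcd, 0x180794059968d2, 0x1afc916ccede82, 0x290fc405933286, 0x120854028f5ec1, 0x9080405942417, 0x27f3452c972008, 0x25f3452b3f200a, 0x27f3452c9d2008, 0x27f3452b312008, 0xb0fd405a468af, 0x2523453c952008, 0x340e80022548e4, 0x2f0910006c49a3, 0x19010407cede9d, 0xb09400799b777],
    [0x4c0b73e46b3c0, 0x3e81e90d6976c4, 0x22b799505907c7, 0x23b8e60f016966, 0x2658d6dbe02a99, 0xc9f1a019a537a, 0x122960848f4bf3, 0x2f7e4daf740f26, 0x145965a9306e2f, 0x21ca8838bf1a44, 0x2817fc7024d5c4, 0x2c2dcf76e11644, 0x7ab471070b293, 0x158c6f598e5d1a, 0x3a8cd7b932644b, 0x188b39406f4792, 0x21c634cc0cbd86, 0x2aea5f2f983d21, 0x17ea5f2fdc3d21, 0x159a5f38663d21, 0x152a5f387a3d23, 0x31192800811375, 0x17ba5f282c3d21, 0x1718a04ff808e3, 0xd1ad4118ffe94, 0x1f16df80b6a5e1, 0x36cd83ce5240e1],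
    [0x33217cd4fa7477, 0x1b29811aef8b08, 0x215e1010e6e9e9, 0x1aa9773a86cea5, 0x32bffbad5443e3, 0x3563d70d725286, 0x19fd72318070dc, 0x33f3afee3e2027, 0x31fd0b27aca7f1, 0x25a0a15de3fe65, 0x234cd37cd73265, 0x3fa0a95846df21, 0x24b0344b3eca10, 0x22618a7df2ef1c, 0x3fbc856841a6e8, 0x3c8a37a0ffc21, 0x214b0cde91ae5e, 0x3135d95b713023, 0xe45d94c893023, 0x3335d95cd53021, 0xe65d95b3b3021, 0x17b083de5edb9a, 0x3355d94cc33021, 0x2c4206ef220118, 0x3649080120718c, 0x3b0c7926a4051a, 0x3697f406feae16],
    [0x3c054f47ee265a, 0x3e87fed09be9fd, 0x1ec482e2337a2b, 0x15e1336a8d6608, 0x1520f8d6a782b7, 0x106fb0dadb548f, 0x3b97555f208048, 0x16f2960439b11f, 0x175a0b126356ad, 0x16decf0847f0a, 0x6f327a9202804, 0x1008de02c5da04, 0x139347b4377a28, 0x218504fdc0a37b, 0x31b99f78304f0b, 0x1beec12b1c10b1, 0x39635cdf2f723d, 0x3a18b1282affd8, 0x728b13830ffd8, 0x38c8b13860ffd8, 0x5e8b12822ffda, 0x7f928065dba75, 0x748b12f9effd8, 0x3b55824ffb5561, 0xc42d4165a0a14, 0xefbfd8701f863, 0x3cd583cf5b1d61],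
    [0x23784969f6d0b5, 0x6494ab0358110, 0x3dc78202d30abf, 0x1f19cf9dca0ffd, 0x2e5dffdabe6c54, 0xb6476c26d3aa5, 0x1e9cd93b69f1c8, 0x2b3953cc6374a, 0x61bc82f1c985c, 0x2caa9bea9ab908, 0xe36d4d3f60706, 0x120096421ca46f, 0x2d044eec9acfd, 0x16830bc61e6d86, 0x1bf19f1c911f87, 0x11e5050f8c3e5a, 0x396a54dbaeeabd, 0x7d54230952956, 0x3ae542208f2956, 0x38754237312954, 0x76542373d2954, 0xa041015128218, 0x5b54227272954, 0x2e548a287b9d6d, 0xefc6005fd1375, 0x4baf5e649996f, 0x13960fcedb956d],
    [0xfa4579b4286f5, 0x3cf86127afd82, 0x2589bb91d95b37, 0x702e438af27f9, 0x2334d33148fc23, 0x2abe7286388bcc, 0x1e1cfbdb40c2fb, 0x3b3fcea177c13b, 0xe169be945abb4, 0xea8b485aa0ce0, 0x243c91de28c2fb, 0x181bbbe8a934cf, 0x18c67d0dd6a03b, 0x3b134840b9b5c1, 0x3719b3b9e135c2, 0xffb2043d52aba, 0x141cfbcfd966fb, 0x2df86a1797f0c0, 0x12986a07c1f0c2, 0x10586a1029f0c0, 0x2f386a07d5f0c2, 0x1580002c1f480, 0x10586a17d5f0c0, 0x39f568132d6fb9, 0x37b80007bd5d80, 0x4556816196fb9, 0x36e00007e8a900],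
    [0x22551ca7431355, 0x23f7a407fd0002, 0x13e36217fd86de, 0x308f99db87496b, 0x7b30a163ded33, 0x3bfcc57bb5e7b4, 0x155000068a0040, 0x3707a407b40980, 0x243fa2b0181100, 0x3c67a2b3721b00, 0x25fa403d45980, 0x266806b52d1800, 0xc54dbccbfed80, 0x15cdf685fc980, 0x32a37fc99f1d80, 0x3ab7b6ffe6980, 0x3ffa407dff480, 0x1e0fa40476f480, 0x1e5fa4038cf480, 0x1e0fa403c8f480, 0x1e5fa40398f480, 0x2a00000, 0x23afa40434f480, 0x3cf000063e0000, 0x29a00003940000, 0x3cf00004be0000, 0x29a00004140000],
    [0x394387f85e9efa, 0x1c502004529f00, 0x130c4835a701e5, 0x4c26bf89fc1a0, 0x2c678f5ffae3a, 0x15327cf5012eba, 0x84b5c07096bc0, 0x284579a0484761, 0x214e85a238c9e1, 0x2b8b073e7288e1, 0x257583cfad76e1, 0x290ab6a97cf6e1, 0x3d7e7fca72f9e1, 0x3688fb3bad07e1, 0xc094aab0c07e1, 0xbbdd8f0205a00, 0x3d48a007081400, 0x278d23db365d80, 0x1b8523d946ad00, 0xc09b00476ad00, 0x13cfcfd95af080, 0x343bfc0159b061, 0x6c7cfdb2a0000, 0x1380001f9cfe1, 0x84aec01085d80, 0xbc2ec06079261, 0x3ec1100007ede1],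
    [0x104f061581170f, 0x1507709136cfcb, 0x2eef0bfdd37ea7, 0x43053bef23b4d, 0x61d8c7df0e847, 0x17fb5debadee47, 0x17ac78749fce81, 0xd7b38b0a387df, 0x3b28bada9c38d1, 0xa6c7c75b6d508, 0x4257be9166884, 0x308cca264bd6d1, 0x253d60747d2d69, 0x209b9a7d2ab2b6, 0xcb576a8a250d1, 0x2d37e240ca8273, 0x9baaaeddf24f3, 0x1e210ecd02ee10, 0x1e110edd06ee10, 0x21410edd10ee12, 0x21610edd0aee10, 0x24d1aa9c669a6f, 0x1c510edafaee10, 0x36590807ec718e, 0x1c675e998fdbb2, 0x1e1b0eeb0c7096, 0x10e4f2eead40c7],
    [0x14643e57d7a105, 0x35b747ed6aceb7, 0x26fa8318bccb83, 0x16e1c403af3f15, 0x103e89ddd3b74d, 0x17f5e84ad94408, 0x5631f7e45c6f3, 0x1ee326af3e5a21, 0x956b6652665e4, 0x17e9b24efef55f, 0xadab696598700, 0x2d30da98864838, 0x120709c9a3151d, 0x2f764f3e4cbc32, 0x10b840b775db7d, 0x2a67efb1fee06c, 0x3ff5e05f6294e9, 0x1ce1325142e8ff, 0x1ea13246f2e8ff, 0x231132514ce8fd, 0x1e413246fce8fd, 0x7ac78d78f5d9a, 0x1cc13246f0e8fd, 0x681b54c999ed, 0x1032f4a6429b6d, 0x2ee648d26696f, 0x2858f3af983677],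
    [0x3e5050ae7eb62c, 0x2cf733c8c18483, 0x14790607ff2080, 0x25bbee116c9d83, 0x1641a867415ab9, 0x12f5a9f18ec2b9, 0x48106088bc6f8, 0x13e69202cf159c, 0x22ae61c2efe6ed, 0x2c0e33c01b6279, 0x2004c8121bd003, 0xaf1ec15bad003, 0x3054e761afb8f9, 0x3de40e04ee74a5, 0x1743fa064f2ea5, 0x100633c29bc279, 0x190c761a2a622e, 0x17ab17c5dee679, 0x28cb17d59ae67b, 0x289b17d59ae67b, 0x17fb17c59ae679, 0x2c08004fff2a80, 0x2aab17c5cae679, 0x3181e1ddab5456, 0x38c0f1cb468fb7, 0x3490a1c9b32b63, 0x2c09b180a1da00],
    [0x1f282b636b2339, 0x350615ca160456, 0x285faf2b4989a7, 0x1d226c0251611e, 0x1328b8104a918a, 0x3ca029c51eb580, 0x1565720541f4c0, 0x288ecc276e7f97, 0x3bc52f5dcca44e, 0x4c05f6c14afd2, 0x268abeb79d0402, 0xad835efcff00c, 0x3802d404819b3b, 0x354567695c0804, 0x3d96ba955bdc83, 0x142fab68903ee9, 0x18be67795f6639, 0x18f6376906c2bb, 0x27f6376eecc2b9, 0x258637795cc2b9, 0x27a6376958c2b9, 0x1987f4101efed4, 0x1806376eacc2bb, 0x332fa6a4ca5002, 0x207a407a10000, 0x1bd7a6a18ba482, 0x33285012fe0a54],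
    [0x1848686f4f212a, 0x2a2ca6048663ea, 0x324f4be9ad5ad1, 0x26f37a01fd0bc7, 0x27c86d6bd9cefc, 0x39a40759ca61fc, 0x12f7e806390a80, 0x175cc60567f6c5, 0x1bd6f576c6e398, 0x1d82020e234c2c, 0x3c04a0dd621356, 0x1c310970992e43, 0x3cc852005a8cb8, 0x840da995f74e5, 0x34607607991957, 0x12bfb29d02abbe, 0x29e2cf8b27122a, 0x982420961e75a, 0x140e336c9d0a56, 0x362ea177997835, 0x10fb1b0bc1ad6, 0x2fd848b3e6c5f9, 0x1447329fbf18c8, 0x3de05c3bbaff2a, 0x1b1008b7fbbf84, 0x3de1dee438ef2a, 0x112fb4b7b92a6b]]

/-- For each generator of the Sylow subgroup: whether the witness is a point, the witness and its orbit. -/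
def witTwo : List (Bool × ℕ × List ℕ) :=
  [
    (true, 1, [1]), (true, 6290, [6290]), (true, 4964, [4964]), (true, 7834, [7834]),
    (true, 7834, [6530, 7834]), (true, 7834, [4366, 4858, 6530, 7834]), (true, 9592, [9592]),
    (true, 9592, [3159, 9592]), (true, 9592, [3159, 3841, 8006, 9592]),
    (true, 9592, [332, 425, 653, 831, 3159, 3841, 8006, 9592]),
    (true, 9592, [332, 425, 653, 831, 3159, 3841, 5496, 6825, 8006, 8295, 9592, 10052, 11112, 13287, 14412, 16599]),
    (true, 6524, [6524]), (true, 6524, [712, 6524]), (true, 6524, [712, 3362, 6524, 6537]),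
    (true, 6524, [235, 712, 3362, 4239, 5720, 6524, 6537, 9150]), (true, 3532, [3532]),
    (true, 3532, [3532, 4518]), (true, 11589, [11589])]

/-- The certificate at 3. -/
def certThree : Schur.PrimeCert.Cert where
  p := 3
  n := 10
  rules := [
    ([0, 0, 0], []), ([0, 1], [1, 0]), ([1, 1, 1], []), ([0, 2], [2, 0]), ([1, 2], [2, 1]),
    ([2, 2, 2], []), ([0, 3], [3, 0]), ([1, 3], [3, 2, 2, 1, 0]), ([2, 3], [3, 2]), ([3, 3, 3], []),
    ([0, 4], [4, 0]), ([1, 4], [4, 2, 1, 0, 0]), ([2, 4], [4, 2]), ([3, 4], [4, 3, 2, 2, 0]),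
    ([4, 4, 4], []), ([0, 5], [5, 0]), ([1, 5], [5, 2, 1, 0, 0]), ([2, 5], [5, 2]),
    ([3, 5], [5, 3, 2, 2, 0]), ([4, 5], [5, 4, 2]), ([5, 5, 5], []), ([0, 6], [6, 0]),
    ([1, 6], [6, 3, 3, 1]), ([2, 6], [6, 2]), ([3, 6], [6, 3]), ([4, 6], [6, 5, 3, 2, 0, 0]),
    ([5, 6], [6, 5, 5, 4, 4, 3, 0, 0]), ([6, 6, 6], []), ([0, 7], [7, 0]), ([1, 7], [7, 2, 1, 0, 0]),
    ([2, 7], [7, 2]), ([3, 7], [7, 3]), ([4, 7], [7, 4, 2, 0]), ([5, 7], [7, 5, 2, 0]), ([6, 7], [7, 6]),
    ([7, 7, 7], []), ([0, 8], [8, 0]), ([1, 8], [8, 1]), ([2, 8], [8, 2]), ([3, 8], [8, 3, 2, 2, 0]),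
    ([4, 8], [8, 4, 2, 0, 0]), ([5, 8], [8, 5, 0, 0]), ([6, 8], [8, 7, 6, 0, 0]), ([7, 8], [8, 7]),
    ([8, 8, 8], []), ([0, 9], [9, 0]), ([1, 9], [9, 8, 8, 7, 7, 5, 5, 4, 4, 2]), ([2, 9], [9, 2, 0, 0]),
    ([3, 9], [9, 7, 7, 5, 5, 4, 3, 3]), ([4, 9], [9, 8, 7, 7, 5, 5, 2, 1, 1]),
    ([5, 9], [9, 8, 7, 7, 5, 5, 3, 2, 1, 1, 0]), ([6, 9], [9, 7, 7, 6, 5, 4, 4, 3, 3, 2, 0]),
    ([7, 9], [9, 7, 0, 0]), ([8, 9], [9, 8, 7, 2, 2, 0, 0]), ([9, 9, 9], []), ([10, 0], [0, 10]),
    ([10, 1], [3, 3, 2, 2, 1, 1, 0, 10]), ([10, 2], [2, 2, 0, 0, 10]), ([10, 3], [3, 3, 2, 2, 1, 0, 10]),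
    ([10, 4], [7, 7, 5, 5, 4, 3, 2, 2, 10]), ([10, 5], [8, 7, 7, 5, 5, 2, 2, 0, 10]),
    ([10, 7], [8, 8, 5, 5, 2, 2, 0, 10]), ([10, 8], [7, 7, 4, 3, 2, 1, 1, 0, 10]), ([11, 0], [0, 11]),
    ([11, 2], [6, 6, 3, 2, 11]), ([11, 3], [6, 11]), ([11, 5, 4, 4], [6, 6, 5, 4, 4, 3, 11]),
    ([11, 6], [7, 6, 5, 4, 4, 3, 0, 11]), ([11, 7], [7, 7, 6, 6, 5, 4, 4, 3, 3, 0, 11]),
    ([12, 0], [0, 12]), ([12, 1], [5, 4, 3, 3, 2, 1, 1, 12]), ([12, 2], [2, 2, 0, 12]),
    ([12, 3], [5, 3, 2, 1, 0, 0, 12]), ([12, 4], [5, 4, 4, 3, 0, 12]),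
    ([12, 5], [5, 4, 4, 3, 2, 2, 1, 1, 12]), ([12, 7], [8, 8, 7, 7, 5, 4, 4, 3, 3, 2, 2, 0, 12]),
    ([12, 8], [8, 8, 7, 4, 4, 3, 1, 0, 0, 12]), ([12, 9], [9, 9, 7, 5, 5, 3, 3, 2, 1, 12]),
    ([13, 0], [0, 13]), ([13, 2], [6, 5, 4, 4, 3, 2, 0, 13]), ([13, 3], [7, 7, 5, 5, 4, 3, 3, 2, 0, 13]),
    ([13, 5, 4, 4], [5, 4, 4, 13]), ([13, 6], [7, 6, 6, 5, 5, 4, 13]),
    ([13, 7], [7, 6, 6, 5, 5, 4, 3, 3, 2, 2, 0, 0, 13]),
    ([13, 9, 8, 8, 4, 4, 1], [9, 9, 8, 8, 7, 4, 3, 1, 1, 0, 13])]
  eqs := [
    ([1, 1, 1, 3], [(0, 2, true)], [(2, 7, true), (1, 7, true), (0, 7, true), (4, 3, true), (3, 4, true), (1, 5, true), (2, 3, true), (1, 4, true), (3, 1, true), (5, 3, true), (4, 3, true), (3, 4, true), (2, 4, true), (6, 3, true), (5, 3, true), (4, 4, true), (3, 4, true), (1, 5, true), (4, 1, true), (3, 1, true), (1, 2, true), (1, 0, true)]),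
    ([0, 1, 3], [(0, 1, true), (1, 6, true), (0, 7, true)], [(1, 7, true), (0, 6, true), (1, 3, true), (2, 3, true), (3, 1, true)]),
    ([1, 3, 4], [(0, 7, true), (4, 10, true), (3, 11, true), (2, 12, true), (1, 12, true), (0, 13, true), (4, 3, true), (2, 5, true), (2, 3, true), (3, 3, true), (4, 1, true), (5, 0, true)], [(1, 13, true), (0, 11, true), (4, 6, true), (3, 6, true), (2, 7, true), (1, 8, true), (2, 5, true), (3, 0, true), (2, 4, true), (3, 4, true)]),
    ([1, 3, 5], [(0, 7, true), (4, 15, true), (3, 16, true), (2, 17, true), (1, 17, true), (0, 18, true), (4, 3, true), (2, 5, true), (2, 3, true), (3, 3, true), (4, 1, true), (5, 0, true)], [(1, 18, true), (0, 16, true), (4, 6, true), (3, 6, true), (2, 7, true), (1, 8, true), (2, 5, true), (3, 0, true), (2, 4, true), (3, 4, true)]),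
    ([4, 4, 4, 5], [(0, 14, true)], [(2, 19, true), (1, 19, true), (0, 19, true), (2, 12, true), (4, 12, true), (3, 12, true), (1, 14, true), (1, 5, true)]),
    ([1, 4, 5], [(0, 11, true), (4, 15, true), (3, 15, true), (2, 16, true), (1, 17, true), (0, 19, true), (2, 5, true), (3, 0, true)], [(1, 19, true), (0, 16, true), (4, 10, true), (3, 10, true), (2, 11, true), (1, 12, true), (5, 0, true), (5, 3, true), (4, 4, true), (2, 5, true)]),
    ([3, 4, 5], [(0, 13, true), (4, 15, true), (3, 17, true), (2, 17, true), (1, 18, true), (0, 19, true), (2, 8, true), (3, 5, true), (3, 3, true), (4, 3, true)], [(1, 19, true), (0, 18, true), (4, 10, true), (3, 12, true), (2, 12, true), (1, 13, true), (5, 3, true), (3, 5, true), (3, 3, true), (5, 3, true), (4, 3, true)]),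
    ([1, 1, 1, 6], [(0, 2, true)], [(2, 22, true), (1, 22, true), (0, 22, true), (3, 7, true), (1, 9, true), (4, 6, true), (3, 7, true), (2, 8, true), (1, 8, true), (2, 5, true), (5, 1, true), (4, 1, true), (6, 6, true), (5, 6, true), (4, 7, true), (3, 7, true), (2, 8, true), (3, 5, true), (4, 3, true), (3, 4, true), (5, 3, true), (4, 4, true), (6, 1, true), (7, 0, true), (7, 6, true), (6, 7, true), (5, 7, true), (4, 8, true), (3, 8, true), (1, 9, true), (1, 5, true), (3, 3, true), (2, 4, true), (4, 3, true), (3, 4, true), (1, 5, true), (2, 1, true), (3, 0, true), (1, 2, true)]),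
    ([1, 6, 6, 6], [(0, 22, true), (3, 22, true), (2, 24, true), (1, 24, true), (2, 9, true), (3, 22, true), (2, 24, true), (0, 27, true), (0, 9, true)], [(1, 27, true)]),
    ([0, 1, 6], [(0, 1, true), (1, 21, true), (0, 22, true)], [(1, 22, true), (0, 21, true), (1, 6, true), (2, 6, true), (3, 1, true)]),
    ([1, 3, 6], [(0, 7, true), (4, 21, true), (3, 22, true), (2, 23, true), (1, 23, true), (0, 24, true), (3, 8, true), (2, 8, true), (4, 8, true), (3, 8, true), (1, 9, true)], [(1, 24, true), (0, 22, true), (3, 7, true), (1, 9, true)]),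
    ([4, 4, 4, 6], [(0, 14, true)], [(2, 25, true), (1, 25, true), (0, 25, true), (5, 15, true), (4, 15, true), (3, 17, true), (2, 18, true), (6, 3, true), (4, 5, true), (4, 0, true), (7, 15, true), (6, 15, true), (5, 17, true), (4, 18, true), (3, 18, true), (1, 20, true), (4, 6, true), (3, 8, true), (2, 8, true), (5, 3, true), (3, 5, true), (3, 3, true), (5, 3, true), (4, 3, true), (5, 0, true), (5, 6, true), (4, 8, true), (3, 8, true), (1, 9, true), (3, 3, true), (1, 5, true), (1, 0, true)]),
    ([4, 6, 6, 6], [(0, 25, true), (5, 21, true), (4, 21, true), (3, 23, true), (2, 24, true), (1, 26, true), (8, 6, true), (7, 6, true), (9, 3, true), (8, 3, true), (9, 0, true), (9, 21, true), (8, 23, true), (7, 24, true), (6, 24, true), (5, 25, true), (4, 25, true), (3, 26, true), (2, 26, true), (0, 27, true), (6, 15, true), (5, 15, true), (4, 18, true), (3, 19, true), (2, 19, true), (0, 20, true), (1, 12, true), (3, 8, true), (2, 8, true), (3, 5, true), (4, 0, true), (3, 17, true), (2, 18, true), (1, 19, true), (0, 19, true), (2, 12, true),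 (4, 8, true), (3, 8, true), (4, 5, true), (5, 3, true), (6, 10, true), (5, 12, true), (4, 12, true), (3, 13, true), (1, 14, true), (4, 3, true), (2, 5, true), (2, 3, true), (4, 10, true), (3, 10, true), (2, 12, true), (1, 13, true), (5, 3, true), (3, 5, true), (3, 0, true), (5, 15, true), (4, 15, true), (3, 18, true), (2, 18, true), (1, 19, true), (3, 8, true), (4, 5, true), (4, 6, true), (5, 3, true), (6, 3, true), (7, 0, true), (7, 6, true), (6, 8, true), (5, 8, true), (3, 9, true), (5, 3, true), (3, 5, true), (3, 0, true), (2, 19, true), (0, 20, true), (1, 8, true), (5, 6, true), (4, 6, true), (3, 8, true), (2, 8, true), (6, 6, true), (5, 6, true), (4, 8, true), (3, 8, true), (1, 9, true), (4, 3, true), (3, 3, true), (1, 5, true), (1, 0, true)], [(1, 27, true)]),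
    ([0, 4, 6], [(0, 10, true), (1, 21, true), (0, 25, true), (4, 0, true)], [(1, 25, true), (0, 21, true), (1, 15, true), (2, 6, true), (3, 3, true), (4, 0, true)]),
    ([1, 4, 6], [(0, 11, true), (4, 21, true), (3, 21, true), (2, 22, true), (1, 23, true), (0, 25, true), (5, 3, true), (4, 3, true), (6, 6, true), (5, 6, true), (4, 8, true), (3, 8, true), (7, 6, true), (6, 6, true), (5, 8, true), (4, 8, true), (2, 9, true), (5, 1, true), (4, 1, true), (5, 0, true)], [(1, 25, true), (0, 22, true), (3, 16, true), (2, 18, true), (1, 18, true), (5, 6, true), (4, 8, true), (3, 8, true), (6, 3, true), (4, 5, true), (4, 3, true), (6, 3, true), (5, 3, true), (7, 1, true), (6, 1, true), (7, 0, true), (7, 6, true), (6, 7, true), (5, 8, true), (4, 8, true), (2, 9, true), (2, 5, true), (5, 3, true), (4, 3, true), (3, 4, true), (5, 0, true)]),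
    ([3, 4, 6], [(0, 13, true), (4, 21, true), (3, 23, true), (2, 23, true), (1, 24, true), (0, 25, true), (5, 6, true), (4, 6, true), (3, 8, true), (6, 3, true), (5, 3, true), (7, 3, true), (6, 3, true), (4, 5, true), (4, 0, true)], [(1, 25, true), (0, 24, true), (1, 18, true), (5, 6, true), (4, 8, true), (3, 8, true), (6, 3, true), (4, 5, true), (4, 0, true)]),
    ([4, 5, 6], [(0, 19, true), (2, 23, true), (1, 25, true), (0, 26, true), (7, 15, true), (6, 15, true), (5, 18, true), (4, 19, true), (3, 19, true), (1, 20, true), (2, 12, true), (4, 8, true), (3, 8, true), (4, 5, true), (5, 0, true), (4, 8, true), (8, 3, true), (7, 3, true), (5, 5, true)], [(1, 26, true), (0, 25, true), (5, 15, true), (4, 15, true), (3, 17, true), (2, 18, true), (6, 3, true), (4, 5, true), (4, 0, true), (3, 18, true), (1, 20, true), (4, 10, true), (3, 12, true), (2, 12, true), (1, 13, true), (5, 3, true), (3, 5, true), (3, 3, true), (5, 10, true), (4, 10, true), (3, 12, true), (2, 13, true), (6, 3, true), (4, 5, true), (4, 0, true)]),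
    ([1, 3, 7], [(0, 7, true), (4, 28, true), (3, 29, true), (2, 30, true), (1, 30, true), (0, 31, true), (2, 5, true), (3, 0, true)], [(1, 31, true), (0, 29, true), (4, 6, true), (3, 6, true), (2, 7, true), (1, 8, true), (2, 5, true), (3, 0, true)]),
    ([4, 5, 7], [(0, 19, true), (2, 30, true), (1, 32, true), (0, 33, true), (3, 10, true), (2, 12, true), (4, 3, true), (6, 3, true), (5, 3, true), (3, 5, true)], [(1, 33, true), (0, 32, true), (3, 15, true), (2, 17, true), (1, 19, true), (5, 3, true), (3, 5, true)]),
    ([1, 6, 7], [(0, 22, true), (3, 29, true), (2, 31, true), (1, 31, true), (0, 34, true)], [(1, 34, true), (0, 29, true), (4, 21, true), (3, 21, true), (2, 22, true), (1, 23, true), (2, 8, true), (3, 8, true)]),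
    ([4, 6, 7], [(0, 25, true), (5, 28, true), (4, 28, true), (3, 30, true), (2, 31, true), (1, 33, true), (0, 34, true), (4, 6, true), (3, 8, true), (5, 3, true), (6, 0, true)], [(1, 34, true), (0, 32, true), (3, 21, true), (2, 23, true), (1, 25, true), (6, 3, true), (5, 3, true), (6, 0, true)]),
    ([1, 3, 8], [(0, 7, true), (4, 36, true), (3, 37, true), (2, 38, true), (1, 38, true), (0, 39, true), (4, 3, true), (2, 5, true), (2, 3, true), (3, 1, true)], [(1, 39, true), (0, 37, true), (1, 7, true), (5, 3, true), (4, 4, true), (2, 5, true), (3, 3, true), (2, 4, true)]),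
    ([4, 5, 8], [(0, 19, true), (2, 38, true), (1, 40, true), (0, 41, true), (3, 10, true), (2, 10, true), (4, 3, true), (3, 3, true), (4, 0, true), (4, 3, true)], [(1, 41, true), (0, 40, true), (4, 15, true), (3, 15, true), (2, 17, true), (1, 19, true), (5, 0, true)]),
    ([6, 6, 6, 8], [(0, 27, true)], [(2, 42, true), (1, 42, true), (0, 42, true), (4, 28, true), (3, 28, true), (2, 34, true), (5, 21, true), (4, 21, true), (5, 0, true), (5, 28, true), (4, 34, true), (3, 34, true), (1, 35, true), (3, 21, true), (1, 27, true), (1, 0, true)]),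
    ([1, 6, 8], [(0, 22, true), (3, 37, true), (2, 39, true), (1, 39, true), (0, 42, true), (4, 6, true), (3, 6, true), (5, 3, true), (4, 3, true), (6, 3, true), (5, 3, true), (6, 0, true), (5, 8, true), (4, 8, true), (5, 5, true), (6, 1, true)], [(1, 42, true), (0, 37, true), (1, 29, true), (5, 21, true), (4, 21, true), (3, 22, true), (2, 23, true), (3, 8, true), (4, 8, true), (7, 0, true)]),
    ([4, 6, 8], [(0, 25, true), (5, 36, true), (4, 36, true), (3, 38, true), (2, 39, true), (1, 41, true), (0, 42, true), (4, 15, true), (3, 15, true), (4, 0, true), (4, 6, true), (5, 3, true), (6, 3, true), (8, 3, true), (7, 3, true), (5, 5, true), (5, 0, true)], [(1, 42, true), (0, 40, true), (4, 28, true), (3, 28, true), (2, 30, true), (1, 32, true), (4, 3, true), (5, 0, true), (4, 23, true), (3, 23, true), (2, 25, true), (7, 3, true), (6, 3, true), (8, 3, true), (7, 3, true), (5, 5, true), (5, 0, true)]),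
    ([1, 1, 1, 9], [(0, 2, true)], [(2, 46, true), (1, 46, true), (0, 46, true), (9, 38, true), (8, 40, true), (7, 40, true), (6, 41, true), (5, 41, true), (4, 43, true), (3, 43, true), (1, 44, true), (5, 15, true), (4, 15, true), (5, 0, true), (5, 10, true), (6, 3, true), (7, 0, true), (6, 12, true), (10, 3, true), (9, 3, true), (7, 5, true), (8, 36, true), (7, 36, true), (6, 40, true), (5, 40, true), (4, 41, true), (3, 41, true), (2, 43, true), (1, 43, true), (6, 15, true), (5, 15, true), (6, 0, true), (6, 10, true), (7, 3, true), (8, 0, true), (7, 12, true), (10, 0, true), (10, 28, true), (9, 30, true), (8, 30, true), (7, 32, true), (6, 32, true), (5, 33, true), (4, 33, true), (2, 35, true), (4, 15, true), (3, 17, true), (5, 3, true), (7, 10, true), (6, 10, true), (5, 12, true), (4, 12, true), (8, 3, true), (7, 3, true), (5, 5, true), (5, 0, true), (7, 3, true), (8, 3, true), (6, 5, true), (7, 28, true), (6, 28, true), (5, 32, true), (4, 32, true), (3, 33, true), (2, 33, true), (5, 15, true), (4, 17, true), (6, 3, true), (8, 10,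 true), (7, 10, true), (6, 12, true), (5, 12, true), (9, 3, true), (8, 3, true), (6, 5, true), (6, 0, true), (8, 0, true), (7, 17, true), (6, 19, true), (5, 19, true), (3, 20, true), (4, 12, true), (5, 5, true), (4, 19, true), (3, 19, true), (5, 12, true), (7, 12, true), (6, 12, true), (4, 14, true), (5, 12, true), (4, 12, true), (5, 5, true), (4, 40, true), (3, 41, true), (2, 43, true), (6, 10, true), (5, 10, true), (7, 3, true), (6, 3, true), (7, 0, true), (7, 36, true), (6, 38, true), (5, 40, true), (4, 41, true), (3, 43, true), (1, 44, true), (4, 10, true), (3, 10, true), (5, 3, true), (4, 3, true), (5, 0, true), (5, 3, true), (7, 28, true), (6, 28, true), (5, 30, true), (4, 30, true), (3, 32, true), (2, 33, true), (5, 10, true), (4, 12, true), (6, 3, true), (8, 3, true), (7, 3, true), (5, 5, true), (6, 3, true), (5, 3, true), (6, 0, true), (6, 28, true), (5, 30, true), (4, 32, true), (3, 33, true), (1, 35, true), (3, 10, true), (2, 12, true), (4, 3, true), (6, 3, true), (5, 3, true), (3, 5, true), (3, 0, true), (2, 19, true), (4,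 17, true), (3, 19, true), (1, 20, true), (3, 12, true), (2, 12, true), (4, 12, true), (3, 12, true), (1, 14, true), (1, 5, true)]),
    ([1, 9, 9, 9], [(0, 46, true), (9, 47, true), (8, 49, true), (7, 49, true), (6, 50, true), (5, 50, true), (4, 52, true), (3, 52, true), (2, 53, true), (1, 53, true), (7, 36, true), (6, 36, true), (5, 38, true), (4, 38, true), (3, 43, true), (8, 28, true), (7, 28, true), (6, 30, true), (5, 30, true), (9, 3, true), (8, 3, true), (6, 5, true), (7, 3, true), (6, 3, true), (7, 0, true), (7, 28, true), (6, 30, true), (4, 35, true), (5, 0, true), (4, 30, true), (7, 36, true), (6, 36, true), (5, 38, true), (4, 43, true), (2, 44, true), (5, 28, true), (4, 28, true), (3, 30, true), (6, 28, true), (5, 28, true), (4, 30, true), (2, 35, true), (4, 15, true), (3, 15, true), (2, 17, true), (5, 15, true), (4, 15, true), (3, 17, true), (6, 6, true), (5, 6, true), (4, 8, true), (7, 3, true), (6, 3, true), (8, 1, true), (7, 1, true), (9, 1, true), (8, 1, true), (9, 0, true), (8, 37, true), (7, 37, true), (6, 38, true),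 (5, 38, true), (4, 39, true), (3, 41, true), (2, 41, true), (5, 15, true), (4, 15, true), (5, 0, true), (5, 6, true), (6, 3, true), (7, 3, true), (9, 3, true), (8, 3, true), (6, 5, true), (7, 3, true), (6, 3, true), (8, 1, true), (7, 1, true), (9, 1, true), (8, 1, true), (10, 28, true), (9, 28, true), (8, 29, true), (7, 29, true), (6, 30, true), (5, 31, true), (4, 33, true), (3, 33, true), (6, 15, true), (5, 17, true), (7, 3, true), (9, 6, true), (8, 6, true), (7, 8, true), (6, 8, true), (10, 3, true), (9, 3, true), (7, 5, true), (8, 3, true), (7, 3, true), (9, 1, true), (8, 1, true), (9, 0, true), (9, 3, true), (8, 4, true), (10, 1, true), (11, 0, true), (12, 28, true), (11, 28, true), (10, 29, true), (9, 29, true), (8, 30, true), (7, 30, true), (6, 31, true), (5, 33, true), (4, 33, true), (7, 15, true), (6, 17, true), (8, 3, true), (10, 6, true), (9, 6, true), (8, 8, true), (7, 8, true), (11, 3, true), (10, 3, true), (8, 5, true), (9, 3, true), (8, 3, true), (10, 3, true), (9, 3, true), (11, 1, true), (10, 1, true), (11, 0, true),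 (11, 3, true), (10, 4, true), (8, 5, true), (9, 1, true), (10, 0, true), (11, 15, true), (10, 15, true), (9, 16, true), (8, 16, true), (7, 18, true), (5, 20, true), (8, 3, true), (6, 5, true), (6, 1, true), (7, 0, true), (6, 4, true), (9, 0, true), (9, 15, true), (8, 16, true), (7, 16, true), (6, 17, true), (5, 18, true), (9, 3, true), (7, 5, true), (7, 3, true), (8, 1, true), (9, 0, true), (8, 4, true), (11, 0, true), (10, 7, true), (9, 7, true), (8, 8, true), (7, 8, true), (8, 5, true), (10, 3, true), (9, 4, true), (11, 3, true), (10, 4, true), (8, 5, true), (9, 1, true), (11, 3, true), (10, 3, true), (9, 4, true), (8, 4, true), (12, 1, true), (11, 1, true), (9, 2, true), (10, 1, true), (9, 1, true), (10, 0, true), (9, 37, true), (8, 38, true), (7, 39, true), (6, 39, true), (5, 41, true), (4, 43, true), (3, 43, true), (8, 6, true), (7, 6, true), (9, 3, true), (8, 3, true), (10, 3, true), (9, 3, true), (10, 0, true), (9, 8, true), (8, 8, true), (9, 5, true), (10, 3, true), (11, 1, true), (12, 28, true), (11, 29, true), (10, 30, true),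 (9, 30, true), (8, 31, true), (7, 31, true), (6, 33, true), (4, 35, true), (6, 6, true), (5, 8, true), (7, 6, true), (6, 8, true), (8, 3, true), (9, 3, true), (7, 5, true), (7, 3, true), (8, 1, true), (9, 0, true), (9, 28, true), (8, 29, true), (7, 30, true), (6, 31, true), (5, 31, true), (4, 33, true), (7, 6, true), (6, 8, true), (8, 6, true), (7, 8, true), (9, 3, true), (10, 3, true), (8, 5, true), (8, 1, true), (9, 0, true), (9, 15, true), (8, 16, true), (7, 18, true), (6, 18, true), (10, 6, true), (9, 8, true), (8, 8, true), (11, 3, true), (9, 5, true), (9, 3, true), (11, 3, true), (10, 3, true), (12, 1, true), (11, 1, true), (12, 0, true), (13, 15, true), (12, 15, true), (11, 16, true), (10, 17, true), (9, 17, true), (8, 18, true), (7, 18, true), (5, 20, true), (8, 6, true), (7, 8, true), (6, 8, true), (9, 3, true), (7, 5, true), (7, 3, true), (9, 3, true), (8, 3, true), (10, 3, true), (9, 3, true), (7, 5, true), (8, 3, true), (7, 3, true), (9, 1, true), (8, 1, true), (9, 0, true), (9, 0, true), (8, 4, true), (9, 2, true), (8,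 38, true), (7, 38, true), (6, 39, true), (5, 39, true), (4, 43, true), (2, 44, true), (6, 6, true), (5, 8, true), (4, 8, true), (7, 3, true), (5, 5, true), (5, 3, true), (7, 3, true), (6, 3, true), (8, 3, true), (7, 3, true), (5, 5, true), (6, 28, true), (5, 28, true), (4, 31, true), (3, 31, true), (7, 28, true), (6, 28, true), (5, 31, true), (4, 31, true), (2, 35, true), (5, 15, true), (4, 15, true), (3, 18, true), (2, 18, true), (6, 6, true), (5, 8, true), (4, 8, true), (7, 3, true), (5, 5, true), (5, 3, true), (6, 0, true), (6, 15, true), (5, 17, true), (4, 18, true), (3, 18, true), (7, 6, true), (6, 8, true), (5, 8, true), (8, 3, true), (6, 5, true), (6, 3, true), (8, 3, true), (7, 3, true), (8, 0, true), (6, 5, true), (7, 4, true), (6, 4, true), (10, 45, true), (9, 45, true), (8, 46, true), (7, 46, true), (6, 47, true), (5, 48, true), (4, 48, true), (3, 50, true), (2, 50, true), (0, 54, true), (9, 36, true), (8, 37, true), (7, 37, true), (6, 38, true), (5, 39, true), (4, 41, true), (3, 41, true), (2, 43, true), (1, 43, true), (6,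 15, true), (5, 15, true), (6, 0, true), (6, 6, true), (7, 3, true), (8, 3, true), (10, 3, true), (9, 3, true), (7, 5, true), (8, 1, true), (7, 1, true), (9, 1, true), (8, 1, true), (9, 0, true), (8, 29, true), (7, 29, true), (6, 31, true), (5, 33, true), (4, 33, true), (2, 35, true), (4, 15, true), (3, 17, true), (5, 3, true), (7, 6, true), (6, 6, true), (5, 8, true), (4, 8, true), (8, 3, true), (7, 3, true), (5, 5, true), (6, 1, true), (5, 1, true), (6, 0, true), (6, 3, true), (5, 4, true), (7, 1, true), (8, 0, true), (7, 29, true), (6, 29, true), (5, 30, true), (4, 31, true), (3, 33, true), (2, 33, true), (5, 15, true), (4, 17, true), (6, 3, true), (8, 6, true), (7, 6, true), (6, 8, true), (5, 8, true), (9, 3, true), (8, 3, true), (6, 5, true), (7, 3, true), (6, 3, true), (8, 1, true), (7, 1, true), (8, 0, true), (8, 3, true), (7, 4, true), (9, 1, true), (10, 0, true), (9, 16, true), (8, 16, true), (7, 17, true), (6, 17, true), (5, 18, true), (3, 20, true), (6, 3, true), (4, 5, true), (4, 3, true), (5, 3, true), (6, 1, true), (7,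 0, true), (6, 4, true), (4, 5, true), (7, 15, true), (6, 15, true), (5, 16, true), (4, 16, true), (3, 18, true), (7, 3, true), (5, 5, true), (5, 1, true), (6, 0, true), (5, 4, true), (8, 0, true), (8, 6, true), (7, 7, true), (6, 7, true), (5, 8, true), (6, 5, true), (7, 3, true), (6, 4, true), (8, 3, true), (7, 4, true), (9, 1, true), (10, 0, true), (9, 4, true), (8, 4, true), (6, 5, true), (6, 2, true), (7, 28, true), (6, 29, true), (5, 31, true), (4, 31, true), (3, 33, true), (6, 6, true), (5, 8, true), (7, 6, true), (6, 8, true), (8, 3, true), (9, 1, true), (10, 0, true), (10, 28, true), (9, 29, true), (8, 30, true), (7, 30, true), (6, 31, true), (5, 31, true), (4, 33, true), (2, 35, true), (4, 6, true), (3, 8, true), (5, 6, true), (4, 8, true), (6, 3, true), (7, 3, true), (5, 5, true), (5, 3, true), (6, 1, true), (7, 0, true), (7, 15, true), (6, 16, true), (5, 17, true), (4, 18, true), (3, 18, true), (7, 6, true), (6, 8, true), (5, 8, true), (8, 3, true), (6, 5, true), (6, 3, true), (8, 3, true), (7, 3, true), (9, 3, true), (8,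 3, true), (6, 5, true), (7, 1, true), (6, 1, true), (7, 0, true), (8, 15, true), (7, 15, true), (6, 16, true), (5, 18, true), (4, 18, true), (2, 20, true), (5, 6, true), (4, 8, true), (3, 8, true), (6, 3, true), (4, 5, true), (4, 3, true), (6, 3, true), (5, 3, true), (7, 1, true), (6, 1, true), (7, 0, true), (7, 0, true), (6, 11, true), (5, 12, true), (4, 12, true), (3, 13, true), (2, 13, true), (6, 6, true), (5, 8, true), (4, 8, true), (7, 3, true), (5, 5, true), (5, 3, true), (7, 3, true), (6, 3, true), (8, 3, true), (7, 3, true), (5, 5, true), (6, 3, true), (5, 3, true), (7, 1, true), (6, 1, true), (7, 0, true), (7, 6, true), (6, 7, true), (5, 8, true), (3, 9, true), (3, 5, true), (5, 6, true), (4, 6, true), (3, 7, true), (7, 0, true), (6, 29, true), (5, 30, true), (4, 30, true), (3, 31, true), (2, 32, true), (5, 6, true), (4, 8, true), (6, 3, true), (7, 3, true), (5, 5, true), (5, 3, true), (6, 1, true), (7, 0, true), (6, 29, true), (5, 30, true), (4, 31, true), (3, 32, true), (6, 6, true), (5, 8, true), (7, 3, true), (8, 3, true),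 (6, 5, true), (6, 1, true), (7, 0, true), (6, 16, true), (5, 18, true), (4, 19, true), (6, 8, true), (7, 5, true), (7, 3, true), (8, 1, true), (9, 0, true), (8, 16, true), (7, 17, true), (6, 18, true), (5, 19, true), (7, 8, true), (8, 5, true), (8, 3, true), (9, 3, true), (10, 1, true), (11, 0, true), (10, 11, true), (9, 12, true), (8, 12, true), (7, 13, true), (11, 3, true), (9, 5, true), (9, 3, true), (10, 3, true), (11, 1, true), (12, 0, true), (11, 7, true), (10, 8, true), (9, 8, true), (10, 5, true), (12, 6, true), (11, 7, true), (10, 8, true), (8, 9, true), (8, 5, true), (10, 3, true), (9, 3, true), (8, 4, true), (10, 0, true), (10, 36, true), (9, 37, true), (8, 38, true), (7, 40, true), (6, 40, true), (5, 41, true), (4, 41, true), (3, 43, true), (2, 43, true), (0, 44, true), (4, 15, true), (3, 15, true), (4, 0, true), (4, 10, true), (5, 3, true), (6, 0, true), (5, 12, true), (9, 3, true), (8, 3, true), (6, 5, true), (7, 1, true), (6, 1, true), (7, 0, true), (6, 37, true), (5, 40, true), (4, 40, true), (3, 41, true), (2, 41, true),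 (1, 43, true), (0, 43, true), (5, 15, true), (4, 15, true), (5, 0, true), (5, 10, true), (6, 3, true), (7, 0, true), (6, 12, true), (10, 1, true), (9, 1, true), (11, 28, true), (10, 28, true), (9, 29, true), (8, 30, true), (7, 30, true), (6, 32, true), (5, 32, true), (4, 33, true), (3, 33, true), (1, 35, true), (3, 15, true), (2, 17, true), (4, 3, true), (6, 10, true), (5, 10, true), (4, 12, true), (3, 12, true), (7, 3, true), (6, 3, true), (4, 5, true), (4, 0, true), (6, 3, true), (7, 3, true), (5, 5, true), (5, 3, true), (6, 1, true), (7, 0, true), (8, 28, true), (7, 28, true), (6, 29, true), (5, 30, true), (4, 32, true), (3, 32, true), (2, 33, true), (1, 33, true), (4, 15, true), (3, 17, true), (5, 3, true), (7, 10, true), (6, 10, true), (5, 12, true), (4, 12, true), (8, 3, true), (7, 3, true), (5, 5, true), (5, 0, true), (7, 3, true), (8, 3, true), (6, 5, true), (6, 1, true), (7, 0, true), (8, 15, true), (7, 15, true), (6, 16, true), (5, 19, true), (4, 19, true), (2, 20, true), (3, 12, true), (4, 5, true), (5, 0, true), (5, 15,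 true), (4, 16, true), (3, 19, true), (2, 19, true), (4, 12, true), (5, 5, true), (6, 0, true), (5, 11, true), (3, 14, true), (6, 10, true), (5, 10, true), (4, 11, true), (3, 12, true), (7, 0, true), (7, 3, true), (6, 4, true), (4, 5, true), (5, 36, true), (4, 37, true), (3, 40, true), (2, 41, true), (1, 43, true), (5, 10, true), (4, 10, true), (6, 3, true), (5, 3, true), (6, 0, true), (6, 1, true), (8, 36, true), (7, 36, true), (6, 37, true), (5, 38, true), (4, 40, true), (3, 41, true), (2, 43, true), (0, 44, true), (3, 10, true), (2, 10, true), (4, 3, true), (3, 3, true), (4, 0, true), (4, 3, true), (5, 1, true), (6, 0, true), (5, 29, true), (4, 30, true), (3, 30, true), (2, 32, true), (1, 33, true), (4, 10, true), (3, 12, true), (5, 3, true), (7, 3, true), (6, 3, true), (4, 5, true), (5, 3, true), (4, 3, true), (6, 3, true), (5, 3, true), (7, 1, true), (6, 1, true), (7, 0, true), (7, 28, true), (6, 29, true), (5, 30, true), (4, 30, true), (3, 32, true), (2, 33, true), (0, 35, true), (2, 10, true), (1, 12, true), (3, 3, true), (5,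 3, true), (4, 3, true), (2, 5, true), (3, 3, true), (2, 3, true), (4, 3, true), (3, 3, true), (5, 1, true), (4, 1, true), (5, 0, true), (6, 15, true), (5, 15, true), (4, 16, true), (3, 17, true), (2, 17, true), (1, 19, true), (3, 5, true), (5, 0, true), (5, 15, true), (4, 16, true), (3, 17, true), (2, 19, true), (0, 20, true), (1, 5, true), (2, 0, true), (1, 11, true), (5, 10, true), (4, 10, true), (3, 11, true), (2, 12, true), (0, 14, true), (3, 0, true), (3, 3, true), (2, 4, true), (0, 5, true), (1, 0, true)], [(1, 54, true)]),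
    ([3, 9, 9, 9], [(0, 48, true), (7, 48, true), (6, 48, true), (5, 49, true), (4, 50, true), (3, 50, true), (2, 52, true), (1, 52, true), (4, 28, true), (3, 28, true), (4, 0, true), (4, 36, true), (3, 43, true), (2, 43, true), (5, 28, true), (3, 35, true), (3, 28, true), (4, 15, true), (5, 15, true), (6, 6, true), (7, 3, true), (8, 1, true), (9, 1, true), (11, 36, true), (10, 36, true), (9, 37, true), (8, 37, true), (7, 38, true), (6, 39, true), (5, 41, true), (4, 41, true), (3, 43, true), (7, 15, true), (6, 15, true), (7, 0, true), (7, 6, true), (8, 3, true), (9, 3, true), (11, 3, true), (10, 3, true), (8, 5, true), (9, 1, true), (8, 1, true), (10, 1, true), (9, 1, true), (10, 0, true), (10, 28, true), (9, 29, true), (8, 29, true), (7, 31, true), (6, 33, true), (5, 33, true), (8, 15, true), (7, 17, true), (9, 3, true), (11, 6, true), (10, 6, true), (9, 8, true), (8, 8, true), (12, 3, true), (11, 3, true), (9, 5, true), (10, 1, true), (9, 1, true), (10, 0, true), (10, 3, true), (9, 4, true), (11, 1, true), (12, 0, true), (12, 28,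 true), (11, 29, true), (10, 29, true), (9, 30, true), (8, 31, true), (7, 33, true), (6, 33, true), (4, 35, true), (6, 15, true), (5, 17, true), (7, 3, true), (9, 6, true), (8, 6, true), (7, 8, true), (6, 8, true), (10, 3, true), (9, 3, true), (7, 5, true), (8, 3, true), (7, 3, true), (9, 1, true), (8, 1, true), (9, 0, true), (9, 3, true), (8, 4, true), (10, 1, true), (11, 0, true), (11, 15, true), (10, 16, true), (9, 16, true), (8, 17, true), (7, 17, true), (6, 18, true), (4, 20, true), (7, 3, true), (5, 5, true), (5, 3, true), (6, 3, true), (7, 1, true), (8, 0, true), (7, 4, true), (5, 5, true), (7, 0, true), (6, 16, true), (5, 16, true), (4, 18, true), (8, 3, true), (6, 5, true), (6, 1, true), (7, 0, true), (6, 4, true), (10, 6, true), (9, 6, true), (8, 7, true), (7, 7, true), (6, 8, true), (7, 5, true), (8, 3, true), (7, 4, true), (9, 3, true), (8, 4, true), (10, 1, true), (11, 0, true), (11, 3, true), (10, 4, true), (9, 4, true), (7, 5, true), (9, 1, true), (7, 2, true), (7, 1, true), (9, 36, true), (8, 36, true), (7, 37, true),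 (6, 39, true), (5, 39, true), (4, 41, true), (2, 44, true), (4, 6, true), (3, 6, true), (5, 3, true), (4, 3, true), (6, 3, true), (5, 3, true), (6, 0, true), (5, 8, true), (4, 8, true), (5, 5, true), (6, 1, true), (7, 0, true), (6, 29, true), (5, 30, true), (4, 31, true), (3, 31, true), (2, 33, true), (5, 6, true), (4, 8, true), (6, 6, true), (5, 8, true), (7, 3, true), (8, 3, true), (6, 5, true), (6, 1, true), (7, 0, true), (6, 29, true), (5, 31, true), (4, 31, true), (3, 33, true), (6, 6, true), (5, 8, true), (7, 6, true), (6, 8, true), (8, 3, true), (9, 1, true), (10, 0, true), (9, 16, true), (8, 17, true), (7, 17, true), (6, 18, true), (5, 18, true), (9, 6, true), (8, 8, true), (7, 8, true), (10, 3, true), (8, 5, true), (8, 3, true), (10, 3, true), (9, 3, true), (11, 3, true), (10, 3, true), (8, 5, true), (9, 3, true), (8, 3, true), (10, 1, true), (9, 1, true), (10, 0, true), (10, 15, true), (9, 16, true), (8, 17, true), (7, 18, true), (6, 18, true), (4, 20, true), (7, 6, true), (6, 8, true), (5, 8, true), (8, 3, true), (6, 5, true),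 (6, 3, true), (8, 3, true), (7, 3, true), (9, 3, true), (8, 3, true), (6, 5, true), (7, 1, true), (6, 1, true), (7, 0, true), (8, 3, true), (7, 3, true), (6, 4, true), (9, 1, true), (8, 1, true), (10, 1, true), (9, 1, true), (7, 2, true), (8, 28, true), (7, 28, true), (6, 30, true), (5, 31, true), (4, 31, true), (2, 35, true), (6, 28, true), (5, 28, true), (4, 30, true), (3, 31, true), (2, 31, true), (7, 15, true), (6, 15, true), (5, 17, true), (4, 18, true), (3, 18, true), (7, 6, true), (6, 8, true), (5, 8, true), (8, 3, true), (6, 5, true), (6, 3, true), (8, 3, true), (7, 3, true), (8, 0, true), (8, 15, true), (7, 17, true), (6, 17, true), (5, 18, true), (4, 18, true), (8, 6, true), (7, 8, true), (6, 8, true), (9, 3, true), (7, 5, true), (7, 3, true), (9, 3, true), (8, 3, true), (10, 3, true), (9, 3, true), (7, 5, true), (7, 0, true), (6, 13, true), (5, 13, true), (9, 6, true), (8, 8, true), (7, 8, true), (10, 3, true), (8, 5, true), (8, 3, true), (10, 6, true), (9, 6, true), (8, 8, true), (6, 9, true), (8, 6, true), (7, 6, true),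 (6, 8, true), (9, 28, true), (8, 28, true), (7, 30, true), (6, 31, true), (5, 32, true), (4, 33, true), (3, 33, true), (6, 15, true), (5, 17, true), (7, 3, true), (9, 10, true), (8, 10, true), (7, 12, true), (6, 12, true), (10, 3, true), (9, 3, true), (7, 5, true), (7, 0, true), (10, 28, true), (9, 28, true), (8, 30, true), (7, 31, true), (6, 32, true), (5, 33, true), (4, 33, true), (2, 35, true), (4, 15, true), (3, 17, true), (5, 3, true), (7, 10, true), (6, 10, true), (5, 12, true), (4, 12, true), (8, 3, true), (7, 3, true), (5, 5, true), (5, 0, true), (8, 15, true), (7, 15, true), (6, 17, true), (5, 18, true), (4, 19, true), (2, 20, true), (3, 8, true), (4, 5, true), (4, 3, true), (5, 0, true), (4, 17, true), (3, 18, true), (2, 19, true), (4, 8, true), (5, 5, true), (5, 3, true), (6, 10, true), (5, 12, true), (4, 13, true), (8, 3, true), (6, 5, true), (7, 6, true), (6, 6, true), (8, 6, true), (7, 6, true), (5, 9, true), (6, 45, true), (5, 45, true), (4, 49, true), (3, 49, true), (2, 50, true), (0, 54, true), (9, 36, true), (8, 37,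 true), (7, 37, true), (6, 38, true), (5, 39, true), (4, 41, true), (3, 41, true), (2, 43, true), (1, 43, true), (6, 15, true), (5, 15, true), (6, 0, true), (6, 6, true), (7, 3, true), (8, 3, true), (10, 3, true), (9, 3, true), (7, 5, true), (8, 1, true), (7, 1, true), (9, 1, true), (8, 1, true), (9, 0, true), (8, 29, true), (7, 29, true), (6, 31, true), (5, 33, true), (4, 33, true), (2, 35, true), (4, 15, true), (3, 17, true), (5, 3, true), (7, 6, true), (6, 6, true), (5, 8, true), (4, 8, true), (8, 3, true), (7, 3, true), (5, 5, true), (6, 1, true), (5, 1, true), (6, 0, true), (6, 3, true), (5, 4, true), (7, 1, true), (8, 0, true), (7, 29, true), (6, 29, true), (5, 30, true), (4, 31, true), (3, 33, true), (2, 33, true), (5, 15, true), (4, 17, true), (6, 3, true), (8, 6, true), (7, 6, true), (6, 8, true), (5, 8, true), (9, 3, true), (8, 3, true), (6, 5, true), (7, 3, true), (6, 3, true), (8, 1, true), (7, 1, true), (8, 0, true), (8, 3, true), (7, 4, true), (9, 1, true), (10, 0, true), (9, 16, true), (8, 16, true), (7, 17, true), (6,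 17, true), (5, 18, true), (3, 20, true), (6, 3, true), (4, 5, true), (4, 3, true), (5, 3, true), (6, 1, true), (7, 0, true), (6, 4, true), (4, 5, true), (7, 15, true), (6, 15, true), (5, 16, true), (4, 16, true), (3, 18, true), (7, 3, true), (5, 5, true), (5, 1, true), (6, 0, true), (5, 4, true), (8, 0, true), (8, 3, true), (7, 4, true), (6, 4, true), (9, 1, true), (7, 2, true), (7, 1, true), (8, 36, true), (7, 37, true), (6, 38, true), (5, 38, true), (4, 39, true), (3, 41, true), (2, 43, true), (0, 44, true), (3, 6, true), (2, 6, true), (4, 3, true), (3, 3, true), (5, 3, true), (4, 3, true), (5, 0, true), (3, 5, true), (5, 28, true), (4, 29, true), (3, 30, true), (2, 31, true), (1, 33, true), (4, 6, true), (3, 8, true), (5, 3, true), (6, 3, true), (4, 5, true), (4, 1, true), (5, 0, true), (5, 28, true), (4, 29, true), (3, 31, true), (2, 33, true), (0, 35, true), (2, 6, true), (1, 8, true), (3, 3, true), (4, 1, true), (5, 0, true), (5, 15, true), (4, 16, true), (3, 17, true), (2, 17, true), (1, 18, true), (5, 3, true), (3, 5, true),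 (3, 3, true), (4, 3, true), (5, 1, true), (6, 0, true), (6, 15, true), (5, 16, true), (4, 17, true), (3, 17, true), (2, 18, true), (0, 20, true), (3, 3, true), (1, 5, true), (1, 3, true), (2, 3, true), (3, 1, true), (4, 0, true), (4, 3, true), (3, 4, true), (1, 5, true), (2, 1, true), (3, 1, true), (1, 2, true), (1, 0, true)], [(1, 54, true)]),
    ([1, 3, 9], [(0, 7, true), (4, 45, true), (3, 46, true), (2, 47, true), (1, 47, true), (0, 48, true), (10, 3, true), (9, 3, true), (10, 0, true), (10, 36, true), (9, 38, true), (8, 38, true), (7, 39, true), (6, 39, true), (5, 40, true), (4, 41, true), (3, 41, true), (2, 43, true), (1, 43, true), (6, 15, true), (5, 15, true), (6, 0, true), (6, 10, true), (7, 3, true), (8, 0, true), (7, 8, true), (8, 5, true), (8, 6, true), (9, 3, true), (10, 3, true), (12, 3, true), (11, 3, true), (9, 5, true), (10, 3, true), (9, 3, true), (10, 0, true), (9, 38, true), (8, 39, true), (7, 39, true), (6, 40, true), (5, 41, true), (4, 41, true), (3, 43, true), (2, 43, true), (7, 15, true), (6, 15, true), (7,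 0, true), (7, 10, true), (8, 3, true), (9, 0, true), (8, 8, true), (9, 5, true), (9, 6, true), (10, 3, true), (11, 3, true), (13, 3, true), (12, 3, true), (10, 5, true), (11, 28, true), (10, 28, true), (9, 31, true), (8, 31, true), (7, 32, true), (6, 33, true), (5, 33, true), (3, 35, true), (5, 15, true), (4, 17, true), (6, 3, true), (8, 10, true), (7, 10, true), (6, 12, true), (5, 12, true), (9, 3, true), (8, 3, true), (6, 5, true), (6, 0, true), (9, 28, true), (8, 28, true), (7, 31, true), (6, 31, true), (5, 32, true), (4, 33, true), (3, 33, true), (6, 15, true), (5, 17, true), (7, 3, true), (9, 10, true), (8, 10, true), (7, 12, true), (6, 12, true), (10, 3, true), (9, 3, true), (7, 5, true), (7, 0, true), (10, 15, true), (9, 15, true), (8, 18, true), (7, 18, true), (6, 19, true), (4, 20, true), (5, 8, true), (6, 5, true), (6, 6, true), (7, 3, true), (8, 3, true), (9, 0, true), (9, 15, true), (8, 17, true), (7, 17, true), (6, 18, true), (5, 18, true), (4, 19, true), (6, 8, true), (7, 5, true), (7, 6, true), (8, 3, true), (9, 3, true),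 (11, 3, true), (10, 3, true), (8, 5, true), (9, 3, true), (8, 3, true), (9, 0, true), (8, 12, true), (7, 13, true), (6, 13, true), (10, 6, true), (9, 8, true), (8, 8, true), (11, 3, true), (9, 5, true), (9, 3, true), (11, 3, true), (10, 3, true), (12, 10, true), (11, 10, true), (10, 12, true), (9, 12, true), (8, 13, true), (7, 13, true), (5, 14, true), (8, 6, true), (7, 8, true), (6, 8, true), (9, 3, true), (7, 5, true), (7, 3, true), (9, 3, true), (8, 3, true), (10, 3, true), (9, 3, true), (7, 5, true), (7, 0, true), (7, 3, true)], [(1, 48, true), (0, 46, true), (9, 30, true), (8, 32, true), (7, 32, true), (6, 33, true), (5, 33, true), (3, 35, true), (5, 15, true), (4, 17, true), (6, 3, true), (8, 10, true), (7, 10, true), (6, 12, true), (5, 12, true), (9, 3, true), (8, 3, true), (6, 5, true), (6, 0, true), (8, 3, true), (9, 28, true), (8, 30, true), (7, 30, true), (6, 32, true), (5, 32, true), (4, 33, true), (3, 33, true), (6, 15, true), (5, 17, true), (7, 3, true), (9, 10, true), (8, 10, true), (7, 12, true), (6, 12, true), (10,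 3, true), (9, 3, true), (7, 5, true), (7, 0, true), (9, 3, true), (10, 3, true), (8, 5, true), (9, 15, true), (8, 15, true), (7, 19, true), (6, 19, true), (4, 20, true), (5, 12, true), (9, 15, true), (8, 15, true), (7, 17, true), (6, 17, true), (5, 19, true), (4, 19, true), (6, 12, true), (7, 5, true), (9, 10, true), (8, 10, true), (7, 12, true), (5, 14, true), (7, 6, true), (6, 6, true), (5, 8, true), (8, 6, true), (7, 6, true), (6, 8, true)]),
    ([4, 4, 4, 9], [(0, 14, true)], [(2, 49, true), (1, 49, true), (0, 49, true), (8, 37, true), (7, 37, true), (6, 38, true), (5, 41, true), (4, 41, true), (3, 43, true), (2, 43, true), (7, 15, true), (6, 15, true), (7, 0, true), (7, 3, true), (8, 1, true), (9, 1, true), (10, 28, true), (9, 29, true), (8, 29, true), (7, 30, true), (6, 33, true), (5, 33, true), (3, 35, true), (5, 15, true), (4, 17, true), (6, 3, true), (8, 3, true), (7, 3, true), (5, 5, true), (6, 3, true), (5, 3, true), (7, 1, true), (6, 1, true), (7, 0, true), (7, 3, true), (6, 4, true), (8, 1, true), (9, 0, true), (9, 28,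 true), (8, 29, true), (7, 29, true), (6, 30, true), (5, 30, true), (4, 33, true), (3, 33, true), (6, 15, true), (5, 17, true), (7, 3, true), (9, 3, true), (8, 3, true), (6, 5, true), (7, 3, true), (6, 3, true), (8, 3, true), (7, 3, true), (9, 1, true), (8, 1, true), (9, 0, true), (9, 3, true), (8, 4, true), (6, 5, true), (7, 1, true), (8, 0, true), (8, 15, true), (7, 16, true), (6, 16, true), (4, 20, true), (7, 3, true), (6, 3, true), (5, 4, true), (8, 1, true), (7, 1, true), (8, 0, true), (9, 15, true), (8, 15, true), (7, 16, true), (6, 16, true), (5, 17, true), (4, 17, true), (5, 5, true), (7, 3, true), (6, 3, true), (5, 4, true), (8, 1, true), (7, 1, true), (8, 0, true), (8, 0, true), (7, 4, true), (6, 4, true), (7, 2, true), (7, 37, true), (6, 38, true), (5, 38, true), (4, 41, true), (3, 43, true), (1, 44, true), (4, 3, true), (3, 3, true), (5, 3, true), (4, 3, true), (6, 1, true), (5, 1, true), (7, 28, true), (6, 28, true), (5, 29, true), (4, 30, true), (3, 30, true), (2, 33, true), (5, 3, true), (6, 3, true), (4, 5, true), (4,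 3, true), (5, 1, true), (6, 0, true), (7, 28, true), (6, 28, true), (5, 29, true), (4, 30, true), (3, 33, true), (1, 35, true), (3, 3, true), (4, 3, true), (2, 5, true), (2, 1, true), (3, 0, true), (4, 15, true), (3, 15, true), (2, 16, true), (5, 0, true), (5, 15, true), (4, 16, true), (3, 17, true), (1, 20, true), (4, 0, true), (3, 4, true), (1, 5, true), (1, 2, true)]),
    ([4, 9, 9, 9], [(0, 49, true), (8, 46, true), (7, 46, true), (6, 47, true), (5, 50, true), (4, 50, true), (3, 52, true), (2, 52, true), (1, 53, true), (7, 28, true), (6, 28, true), (5, 30, true), (4, 30, true), (7, 0, true), (7, 28, true), (6, 30, true), (5, 30, true), (3, 35, true), (5, 0, true), (4, 38, true), (3, 38, true), (5, 30, true), (4, 30, true), (6, 30, true), (5, 30, true), (7, 17, true), (6, 17, true), (8, 17, true), (7, 17, true), (9, 8, true), (8, 8, true), (9, 5, true), (11, 36, true), (10, 37, true), (9, 37, true), (8, 39, true), (7, 41, true), (6, 41, true), (5, 43, true), (4, 43, true), (2, 44, true), (6, 15, true), (5, 15, true), (6, 0, true),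 (6, 6, true), (7, 3, true), (8, 3, true), (10, 1, true), (9, 1, true), (11, 1, true), (10, 1, true), (11, 0, true), (10, 29, true), (9, 29, true), (8, 30, true), (7, 30, true), (6, 31, true), (5, 33, true), (4, 33, true), (2, 35, true), (4, 15, true), (3, 17, true), (5, 3, true), (7, 6, true), (6, 6, true), (5, 8, true), (4, 8, true), (8, 3, true), (7, 3, true), (5, 5, true), (6, 3, true), (5, 3, true), (7, 3, true), (6, 3, true), (8, 1, true), (7, 1, true), (8, 0, true), (8, 3, true), (7, 4, true), (5, 5, true), (6, 1, true), (7, 0, true), (6, 29, true), (5, 29, true), (4, 31, true), (3, 33, true), (2, 33, true), (5, 15, true), (4, 17, true), (6, 3, true), (8, 6, true), (7, 6, true), (6, 8, true), (5, 8, true), (9, 3, true), (8, 3, true), (6, 5, true), (7, 1, true), (6, 1, true), (7, 0, true), (7, 3, true), (6, 4, true), (8, 1, true), (9, 0, true), (8, 16, true), (7, 16, true), (6, 17, true), (5, 18, true), (3, 20, true), (6, 3, true), (4, 5, true), (4, 3, true), (5, 1, true), (6, 0, true), (5, 4, true), (9, 15, true), (8, 15, true),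 (7, 16, true), (6, 16, true), (5, 17, true), (4, 17, true), (3, 18, true), (7, 3, true), (5, 5, true), (5, 3, true), (6, 3, true), (7, 1, true), (8, 0, true), (7, 4, true), (5, 5, true), (7, 0, true), (7, 6, true), (6, 7, true), (5, 7, true), (9, 3, true), (8, 4, true), (6, 5, true), (7, 3, true), (6, 4, true), (8, 1, true), (9, 0, true), (8, 4, true), (7, 4, true), (8, 2, true), (9, 3, true), (8, 4, true), (6, 5, true), (7, 0, true), (6, 37, true), (5, 39, true), (4, 39, true), (3, 41, true), (2, 43, true), (6, 6, true), (5, 6, true), (7, 3, true), (6, 3, true), (8, 3, true), (7, 3, true), (8, 0, true), (7, 8, true), (6, 8, true), (7, 5, true), (8, 1, true), (9, 36, true), (8, 37, true), (7, 38, true), (6, 39, true), (5, 39, true), (4, 41, true), (3, 43, true), (7, 6, true), (6, 6, true), (8, 3, true), (7, 3, true), (9, 3, true), (8, 3, true), (9, 0, true), (8, 8, true), (7, 8, true), (8, 5, true), (9, 3, true), (10, 1, true), (12, 28, true), (11, 28, true), (10, 29, true), (9, 30, true), (8, 30, true), (7, 31, true), (6, 31, true),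 (5, 33, true), (8, 6, true), (7, 8, true), (9, 6, true), (8, 8, true), (10, 3, true), (11, 3, true), (9, 5, true), (9, 3, true), (10, 1, true), (11, 0, true), (12, 28, true), (11, 28, true), (10, 29, true), (9, 30, true), (8, 31, true), (7, 31, true), (6, 33, true), (4, 35, true), (6, 6, true), (5, 8, true), (7, 6, true), (6, 8, true), (8, 3, true), (9, 3, true), (7, 5, true), (7, 1, true), (8, 0, true), (9, 15, true), (8, 15, true), (7, 16, true), (6, 18, true), (5, 18, true), (9, 6, true), (8, 8, true), (7, 8, true), (10, 3, true), (8, 5, true), (8, 3, true), (10, 3, true), (9, 3, true), (11, 1, true), (10, 1, true), (11, 0, true), (11, 0, true), (10, 16, true), (9, 17, true), (8, 17, true), (7, 18, true), (6, 18, true), (4, 20, true), (7, 6, true), (6, 8, true), (5, 8, true), (8, 3, true), (6, 5, true), (6, 3, true), (8, 3, true), (7, 3, true), (9, 3, true), (8, 3, true), (6, 5, true), (7, 3, true), (6, 3, true), (8, 1, true), (7, 1, true), (8, 0, true), (8, 10, true), (7, 11, true), (6, 12, true), (5, 13, true), (4, 13, true), (8,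 6, true), (7, 8, true), (6, 8, true), (9, 3, true), (7, 5, true), (7, 3, true), (9, 3, true), (8, 3, true), (10, 3, true), (9, 3, true), (7, 5, true), (8, 1, true), (7, 1, true), (8, 0, true), (9, 10, true), (8, 10, true), (7, 11, true), (6, 13, true), (5, 13, true), (9, 6, true), (8, 8, true), (7, 8, true), (10, 3, true), (8, 5, true), (8, 3, true), (10, 3, true), (9, 3, true), (11, 1, true), (10, 1, true), (11, 0, true), (11, 0, true), (10, 4, true), (8, 5, true), (8, 37, true), (7, 39, true), (6, 39, true), (5, 40, true), (4, 40, true), (2, 44, true), (5, 10, true), (4, 10, true), (3, 12, true), (6, 3, true), (5, 3, true), (6, 0, true), (6, 6, true), (5, 8, true), (4, 8, true), (7, 3, true), (5, 5, true), (5, 3, true), (7, 6, true), (6, 6, true), (5, 8, true), (8, 3, true), (7, 3, true), (9, 3, true), (8, 3, true), (6, 5, true), (6, 0, true), (6, 37, true), (5, 39, true), (4, 39, true), (3, 40, true), (2, 40, true), (6, 10, true), (5, 10, true), (4, 12, true), (7, 3, true), (6, 3, true), (7, 0, true), (7, 6, true), (6, 8, true),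 (5, 8, true), (8, 3, true), (6, 5, true), (6, 3, true), (8, 6, true), (7, 6, true), (6, 8, true), (9, 3, true), (8, 3, true), (10, 3, true), (9, 3, true), (7, 5, true), (7, 0, true), (7, 29, true), (6, 31, true), (5, 31, true), (4, 32, true), (3, 32, true), (6, 10, true), (5, 12, true), (7, 3, true), (9, 6, true), (8, 6, true), (7, 8, true), (6, 8, true), (10, 6, true), (9, 6, true), (8, 8, true), (7, 8, true), (11, 3, true), (10, 3, true), (8, 5, true), (9, 1, true), (8, 1, true), (9, 0, true), (9, 28, true), (8, 29, true), (7, 31, true), (6, 31, true), (5, 32, true), (4, 32, true), (7, 10, true), (6, 12, true), (8, 3, true), (10, 6, true), (9, 6, true), (8, 8, true), (7, 8, true), (11, 6, true), (10, 6, true), (9, 8, true), (8, 8, true), (12, 3, true), (11, 3, true), (9, 5, true), (10, 1, true), (9, 1, true), (10, 0, true), (11, 15, true), (10, 15, true), (9, 16, true), (8, 18, true), (7, 18, true), (6, 19, true), (5, 19, true), (7, 12, true), (9, 8, true), (8, 8, true), (9, 5, true), (10, 6, true), (9, 8, true), (11, 3, true), (12,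 3, true), (10, 5, true), (11, 3, true), (10, 3, true), (12, 1, true), (11, 1, true), (12, 0, true), (12, 0, true), (11, 16, true), (10, 17, true), (9, 18, true), (8, 18, true), (7, 19, true), (6, 19, true), (8, 12, true), (10, 8, true), (9, 8, true), (10, 5, true), (11, 6, true), (10, 8, true), (12, 3, true), (13, 3, true), (11, 5, true), (12, 3, true), (11, 3, true), (13, 3, true), (12, 3, true), (14, 1, true), (13, 1, true), (14, 0, true), (14, 10, true), (13, 11, true), (12, 12, true), (11, 12, true), (10, 13, true), (9, 13, true), (7, 14, true), (10, 6, true), (9, 8, true), (8, 8, true), (11, 3, true), (9, 5, true), (9, 3, true), (11, 3, true), (10, 3, true), (12, 3, true), (11, 3, true), (9, 5, true), (10, 3, true), (9, 3, true), (11, 1, true), (10, 1, true), (11, 0, true), (12, 10, true), (11, 10, true), (10, 11, true), (9, 12, true), (8, 13, true), (7, 13, true), (11, 6, true), (10, 8, true), (9, 8, true), (12, 3, true), (10, 5, true), (10, 3, true), (12, 3, true), (11, 3, true), (13, 3, true), (12, 3, true), (10, 5, true), (11,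 1, true), (10, 1, true), (11, 0, true), (11, 0, true), (10, 4, true), (11, 46, true), (10, 47, true), (9, 48, true), (8, 48, true), (7, 49, true), (6, 50, true), (5, 50, true), (4, 52, true), (3, 52, true), (2, 53, true), (0, 54, true), (5, 28, true), (4, 28, true), (3, 30, true), (2, 30, true), (5, 0, true), (5, 28, true), (4, 30, true), (3, 30, true), (1, 35, true), (3, 0, true), (2, 38, true), (1, 38, true), (3, 30, true), (2, 30, true), (4, 30, true), (3, 30, true), (5, 17, true), (4, 17, true), (6, 17, true), (5, 17, true), (7, 8, true), (6, 8, true), (7, 5, true), (9, 36, true), (8, 37, true), (7, 37, true), (6, 39, true), (5, 41, true), (4, 41, true), (3, 43, true), (2, 43, true), (0, 44, true), (4, 15, true), (3, 15, true), (4, 0, true), (4, 6, true), (5, 3, true), (6, 3, true), (8, 1, true), (7, 1, true), (9, 1, true), (8, 1, true), (9, 0, true), (8, 29, true), (7, 29, true), (6, 30, true), (5, 30, true), (4, 31, true), (3, 33, true), (2, 33, true), (0, 35, true), (2, 15, true), (1, 17, true), (3, 3, true), (5, 6, true), (4,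 6, true), (3, 8, true), (2, 8, true), (6, 3, true), (5, 3, true), (3, 5, true), (4, 3, true), (3, 3, true), (5, 3, true), (4, 3, true), (6, 1, true), (5, 1, true), (6, 0, true), (6, 3, true), (5, 4, true), (3, 5, true), (4, 1, true), (5, 0, true), (4, 29, true), (3, 29, true), (2, 31, true), (1, 33, true), (0, 33, true), (3, 15, true), (2, 17, true), (4, 3, true), (6, 6, true), (5, 6, true), (4, 8, true), (3, 8, true), (7, 3, true), (6, 3, true), (4, 5, true), (5, 1, true), (4, 1, true), (5, 0, true), (5, 3, true), (4, 4, true), (6, 1, true), (7, 0, true), (6, 16, true), (5, 16, true), (4, 17, true), (3, 18, true), (1, 20, true), (4, 3, true), (2, 5, true), (2, 3, true), (3, 1, true), (4, 0, true), (3, 4, true), (7, 15, true), (6, 15, true), (5, 16, true), (4, 16, true), (3, 17, true), (2, 17, true), (1, 18, true), (5, 3, true), (3, 5, true), (3, 3, true), (4, 3, true), (5, 1, true), (6, 0, true), (5, 4, true), (3, 5, true), (5, 0, true), (5, 6, true), (4, 7, true), (3, 7, true), (7, 3, true), (6, 4, true), (4, 5, true), (5, 3, true),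 (4, 4, true), (6, 1, true), (7, 0, true), (6, 4, true), (5, 4, true), (6, 2, true), (7, 36, true), (6, 37, true), (5, 38, true), (4, 38, true), (3, 39, true), (2, 39, true), (1, 41, true), (0, 43, true), (4, 6, true), (3, 6, true), (5, 3, true), (4, 3, true), (6, 3, true), (5, 3, true), (6, 0, true), (5, 8, true), (4, 8, true), (5, 5, true), (6, 3, true), (7, 3, true), (5, 5, true), (5, 1, true), (7, 28, true), (6, 28, true), (5, 29, true), (4, 31, true), (3, 31, true), (2, 33, true), (5, 6, true), (4, 8, true), (6, 6, true), (5, 8, true), (7, 3, true), (8, 1, true), (9, 0, true), (10, 28, true), (9, 28, true), (8, 29, true), (7, 30, true), (6, 30, true), (5, 31, true), (4, 31, true), (3, 33, true), (1, 35, true), (3, 6, true), (2, 8, true), (4, 6, true), (3, 8, true), (5, 3, true), (6, 3, true), (4, 5, true), (4, 3, true), (5, 1, true), (6, 0, true), (7, 15, true), (6, 15, true), (5, 16, true), (4, 17, true), (3, 18, true), (2, 18, true), (6, 6, true), (5, 8, true), (4, 8, true), (7, 3, true), (5, 5, true), (5, 3, true), (7, 3, true),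 (6, 3, true), (8, 3, true), (7, 3, true), (5, 5, true), (6, 1, true), (5, 1, true), (6, 0, true), (6, 0, true), (5, 16, true), (4, 18, true), (3, 18, true), (1, 20, true), (4, 6, true), (3, 8, true), (2, 8, true), (5, 3, true), (3, 5, true), (3, 3, true), (5, 3, true), (4, 3, true), (6, 1, true), (5, 1, true), (6, 0, true), (6, 3, true), (5, 4, true), (3, 5, true), (4, 1, true), (5, 1, true), (3, 2, true), (3, 28, true), (2, 31, true), (1, 31, true), (4, 28, true), (3, 31, true), (2, 31, true), (5, 15, true), (4, 18, true), (3, 18, true), (7, 6, true), (6, 8, true), (5, 8, true), (8, 3, true), (6, 5, true), (6, 3, true), (7, 0, true), (6, 17, true), (5, 18, true), (4, 18, true), (8, 6, true), (7, 8, true), (6, 8, true), (9, 3, true), (7, 5, true), (7, 3, true), (9, 3, true), (8, 3, true), (10, 10, true), (9, 10, true), (8, 12, true), (7, 12, true), (6, 13, true), (5, 13, true), (9, 6, true), (8, 8, true), (7, 8, true), (10, 3, true), (8, 5, true), (8, 3, true), (10, 3, true), (9, 3, true), (11, 3, true), (10, 3, true), (8, 5, true),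 (8, 0, true), (8, 6, true), (6, 9, true), (6, 6, true), (7, 28, true), (6, 31, true), (5, 32, true), (4, 33, true), (3, 33, true), (1, 35, true), (3, 15, true), (2, 17, true), (4, 3, true), (6, 10, true), (5, 10, true), (4, 12, true), (3, 12, true), (7, 3, true), (6, 3, true), (4, 5, true), (4, 0, true), (5, 28, true), (4, 31, true), (3, 32, true), (2, 33, true), (1, 33, true), (4, 15, true), (3, 17, true), (5, 3, true), (7, 10, true), (6, 10, true), (5, 12, true), (4, 12, true), (8, 3, true), (7, 3, true), (5, 5, true), (5, 0, true), (6, 15, true), (5, 18, true), (4, 19, true), (2, 20, true), (3, 8, true), (4, 5, true), (5, 15, true), (4, 15, true), (3, 18, true), (2, 19, true), (4, 8, true), (5, 5, true), (5, 0, true), (4, 13, true), (8, 6, true), (7, 8, true), (6, 8, true), (9, 6, true), (8, 8, true), (7, 8, true), (5, 9, true), (7, 3, true), (5, 5, true), (5, 0, true), (4, 40, true), (3, 40, true), (2, 41, true), (1, 43, true), (5, 10, true), (4, 10, true), (6, 3, true), (5, 3, true), (6, 0, true), (6, 10, true), (5, 12, true),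 (7, 3, true), (8, 0, true), (7, 38, true), (6, 38, true), (5, 40, true), (4, 40, true), (3, 41, true), (2, 43, true), (0, 44, true), (3, 10, true), (2, 10, true), (4, 3, true), (3, 3, true), (4, 0, true), (4, 10, true), (3, 12, true), (5, 3, true), (6, 0, true), (4, 5, true), (4, 30, true), (3, 32, true), (2, 32, true), (1, 33, true), (4, 10, true), (3, 12, true), (5, 3, true), (7, 10, true), (6, 10, true), (5, 12, true), (4, 12, true), (8, 3, true), (7, 3, true), (5, 5, true), (5, 0, true), (5, 30, true), (4, 32, true), (3, 32, true), (2, 33, true), (0, 35, true), (2, 10, true), (1, 12, true), (3, 3, true), (5, 10, true), (4, 10, true), (3, 12, true), (2, 12, true), (6, 3, true), (5, 3, true), (3, 5, true), (3, 0, true), (3, 17, true), (2, 19, true), (1, 19, true), (3, 12, true), (4, 5, true), (3, 19, true), (2, 19, true), (0, 20, true), (1, 12, true), (3, 12, true), (2, 12, true), (0, 14, true), (1, 12, true), (0, 12, true), (1, 5, true)], [(1, 54, true)]),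
    ([1, 4, 9], [(0, 11, true), (4, 45, true), (3, 45, true), (2, 46, true), (1, 47, true), (0, 49, true), (8, 4, true), (7, 4, true), (11, 36, true), (10, 36, true), (9, 37, true), (8, 37, true), (7, 38, true), (6, 38, true), (5, 41, true), (4, 41, true), (3, 43, true), (2, 43, true), (7, 15, true), (6, 15, true), (7, 0, true), (7, 3, true), (8, 3, true), (9, 1, true), (10, 1, true), (11, 0, true), (10, 37, true), (9, 37, true), (8, 38, true), (7, 38, true), (6, 41, true), (5, 41, true), (4, 43, true), (3, 43, true), (1, 44, true), (5, 15, true), (4, 15, true), (5, 0, true), (5, 3, true), (6, 3, true), (7, 1, true), (8, 1, true), (9, 28, true), (8, 29, true), (7, 29, true), (6, 30, true), (5, 30, true), (4, 33, true), (3, 33, true), (1, 35, true), (3, 15, true), (2, 17, true), (4, 3, true), (6, 3, true), (5, 3, true), (3, 5, true), (4, 3, true), (3, 3, true), (5, 3, true), (4, 3, true), (6, 1, true), (5, 1, true), (6, 0, true), (6, 3, true), (5, 4, true), (3, 5, true), (4, 1, true), (5, 0, true), (5, 28, true), (4, 29, true), (3, 29,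 true), (2, 33, true), (1, 33, true), (4, 15, true), (3, 17, true), (5, 3, true), (7, 3, true), (6, 3, true), (4, 5, true), (5, 1, true), (4, 1, true), (5, 0, true), (5, 3, true), (4, 4, true), (6, 1, true), (7, 0, true), (7, 15, true), (6, 16, true), (5, 16, true), (4, 17, true), (2, 20, true), (6, 3, true), (5, 3, true), (4, 4, true), (2, 5, true), (4, 1, true), (3, 1, true), (4, 0, true), (5, 15, true), (4, 15, true), (3, 16, true), (2, 16, true), (6, 3, true), (5, 3, true), (4, 4, true), (7, 1, true), (6, 1, true), (7, 0, true), (7, 0, true), (6, 11, true), (5, 11, true), (4, 12, true), (3, 12, true), (4, 5, true), (6, 3, true), (5, 3, true), (4, 4, true), (7, 1, true), (6, 1, true), (7, 0, true), (7, 10, true), (6, 11, true), (5, 11, true), (4, 12, true), (9, 3, true), (8, 3, true), (7, 4, true), (5, 5, true), (7, 1, true), (6, 1, true), (7, 0, true), (8, 3, true), (7, 3, true), (6, 4, true), (5, 4, true), (8, 0, true)], [(1, 49, true), (0, 46, true), (9, 38, true), (8, 40, true), (7, 40, true), (6, 41, true), (5, 41, true), (4,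 43, true), (3, 43, true), (1, 44, true), (5, 15, true), (4, 15, true), (5, 0, true), (5, 10, true), (6, 3, true), (7, 0, true), (6, 12, true), (10, 3, true), (9, 3, true), (7, 5, true), (8, 28, true), (7, 28, true), (6, 32, true), (5, 32, true), (4, 33, true), (3, 33, true), (1, 35, true), (3, 15, true), (2, 17, true), (4, 3, true), (6, 10, true), (5, 10, true), (4, 12, true), (3, 12, true), (7, 3, true), (6, 3, true), (4, 5, true), (4, 0, true), (6, 0, true), (5, 30, true), (4, 32, true), (3, 32, true), (2, 33, true), (1, 33, true), (4, 15, true), (3, 17, true), (5, 3, true), (7, 10, true), (6, 10, true), (5, 12, true), (4, 12, true), (8, 3, true), (7, 3, true), (5, 5, true), (5, 0, true), (7, 3, true), (8, 15, true), (7, 17, true), (6, 17, true), (5, 19, true), (4, 19, true), (2, 20, true), (3, 12, true), (4, 5, true), (5, 15, true), (4, 17, true), (3, 19, true), (2, 19, true), (4, 12, true), (5, 5, true), (5, 3, true), (6, 1, true), (7, 1, true)]),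
    ([3, 4, 9], [(0, 13, true), (4, 45, true), (3, 47, true), (2, 47, true), (1, 48, true), (0, 49, true), (8, 29, true), (7, 29, true), (6, 30, true), (5, 33, true), (4, 33, true), (2, 35, true), (4, 15, true), (3, 17, true), (5, 3, true), (7, 3, true), (6, 3, true), (4, 5, true), (5, 3, true), (4, 3, true), (6, 1, true), (5, 1, true), (6, 0, true), (6, 3, true), (5, 4, true), (7, 1, true), (8, 0, true), (7, 29, true), (6, 29, true), (5, 30, true), (4, 30, true), (3, 33, true), (2, 33, true), (5, 15, true), (4, 17, true), (6, 3, true), (8, 3, true), (7, 3, true), (5, 5, true), (6, 3, true), (5, 3, true), (7, 3, true), (6, 3, true), (8, 1, true), (7, 1, true), (8, 0, true), (8, 3, true), (7, 4, true), (5, 5, true), (6, 1, true), (7, 0, true), (6, 16, true), (5, 16, true), (3, 20, true), (6, 3, true), (5, 3, true), (4, 4, true), (7, 1, true), (6, 1, true), (7, 0, true), (7, 15, true), (6, 16, true), (5, 16, true), (4, 17, true), (3, 17, true), (4, 5, true), (6, 3, true), (5, 3, true), (4, 4, true), (7, 1, true), (6, 1, true), (7, 0,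 true), (8, 10, true), (7, 10, true), (6, 11, true), (5, 11, true), (4, 12, true), (9, 3, true), (8, 3, true), (7, 4, true), (5, 5, true), (7, 1, true), (6, 1, true), (7, 0, true), (7, 0, true), (6, 7, true), (5, 7, true), (9, 3, true), (8, 4, true), (6, 5, true), (7, 3, true), (6, 4, true), (8, 1, true), (10, 6, true), (9, 6, true), (8, 7, true), (7, 7, true), (6, 8, true), (7, 5, true), (8, 3, true), (7, 4, true), (9, 3, true), (8, 4, true), (10, 1, true), (11, 0, true), (11, 3, true), (10, 4, true), (9, 4, true), (7, 5, true), (9, 0, true), (8, 4, true), (7, 4, true), (10, 0, true)], [(1, 49, true), (0, 48, true), (7, 39, true), (6, 39, true), (5, 40, true), (4, 41, true), (3, 41, true), (2, 43, true), (1, 43, true), (6, 15, true), (5, 15, true), (6, 0, true), (6, 10, true), (7, 3, true), (8, 0, true), (7, 8, true), (8, 5, true), (8, 6, true), (9, 3, true), (10, 3, true), (12, 28, true), (11, 28, true), (10, 30, true), (9, 30, true), (8, 31, true), (7, 31, true), (6, 32, true), (5, 33, true), (4, 33, true), (2, 35, true), (4, 15,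 true), (3, 17, true), (5, 3, true), (7, 10, true), (6, 10, true), (5, 12, true), (4, 12, true), (8, 3, true), (7, 3, true), (5, 5, true), (5, 0, true), (10, 28, true), (9, 28, true), (8, 30, true), (7, 30, true), (6, 31, true), (5, 31, true), (4, 32, true), (3, 33, true), (2, 33, true), (5, 15, true), (4, 17, true), (6, 3, true), (8, 10, true), (7, 10, true), (6, 12, true), (5, 12, true), (9, 3, true), (8, 3, true), (6, 5, true), (6, 0, true), (11, 15, true), (10, 15, true), (9, 17, true), (8, 17, true), (7, 18, true), (6, 18, true), (5, 19, true), (3, 20, true), (4, 8, true), (5, 5, true), (5, 6, true), (6, 3, true), (7, 3, true), (9, 3, true), (8, 3, true), (6, 5, true), (7, 3, true), (6, 3, true), (7, 0, true), (7, 15, true), (6, 17, true), (5, 18, true), (4, 18, true), (3, 19, true), (5, 8, true), (6, 5, true), (6, 6, true), (7, 3, true), (8, 3, true), (10, 3, true), (9, 3, true), (7, 5, true), (7, 0, true)]),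
    ([5, 9, 9, 9], [(0, 50, true), (10, 45, true), (9, 46, true), (8, 46, true), (7, 47, true), (6, 48, true), (5, 50, true), (4, 50, true), (3, 52, true), (2, 52, true), (1, 53, true), (7, 28, true), (6, 28, true), (5, 30, true), (4, 30, true), (7, 0, true), (7, 28, true), (6, 30, true), (5, 30, true), (3, 35, true), (5, 0, true), (4, 38, true), (3, 38, true), (5, 30, true), (4, 30, true), (6, 30, true), (5, 30, true), (7, 17, true), (6, 17, true), (8, 17, true), (7, 17, true), (9, 8, true), (8, 8, true), (9, 5, true), (11, 36, true), (10, 37, true), (9, 37, true), (8, 39, true), (7, 41, true), (6, 41, true), (5, 43, true), (4, 43, true), (2, 44, true), (6, 15, true), (5, 15, true), (6, 0, true), (6, 6, true), (7, 3, true), (8, 3, true), (10, 1, true), (9, 1, true), (11, 1, true), (10, 1, true), (11, 0, true), (10, 29, true), (9, 29, true), (8, 30, true), (7, 30, true), (6, 31, true), (5, 33, true), (4, 33, true), (2, 35, true), (4, 15, true), (3, 17, true), (5, 3, true), (7, 6, true), (6, 6, true), (5, 8, true), (4, 8, true), (8,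 3, true), (7, 3, true), (5, 5, true), (6, 3, true), (5, 3, true), (7, 3, true), (6, 3, true), (8, 1, true), (7, 1, true), (8, 0, true), (8, 3, true), (7, 4, true), (5, 5, true), (6, 1, true), (7, 0, true), (6, 29, true), (5, 29, true), (4, 31, true), (3, 33, true), (2, 33, true), (5, 15, true), (4, 17, true), (6, 3, true), (8, 6, true), (7, 6, true), (6, 8, true), (5, 8, true), (9, 3, true), (8, 3, true), (6, 5, true), (7, 1, true), (6, 1, true), (7, 0, true), (7, 3, true), (6, 4, true), (8, 1, true), (9, 0, true), (8, 16, true), (7, 16, true), (6, 17, true), (5, 18, true), (3, 20, true), (6, 3, true), (4, 5, true), (4, 3, true), (5, 1, true), (6, 0, true), (5, 4, true), (9, 15, true), (8, 15, true), (7, 16, true), (6, 16, true), (5, 17, true), (4, 17, true), (3, 18, true), (7, 3, true), (5, 5, true), (5, 3, true), (6, 3, true), (7, 1, true), (8, 0, true), (7, 4, true), (5, 5, true), (7, 0, true), (7, 6, true), (6, 7, true), (5, 7, true), (9, 3, true), (8, 4, true), (6, 5, true), (7, 3, true), (6, 4, true), (8, 1, true), (9, 0, true),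 (8, 4, true), (7, 4, true), (8, 2, true), (9, 28, true), (8, 29, true), (7, 30, true), (6, 30, true), (5, 31, true), (4, 31, true), (3, 33, true), (6, 6, true), (5, 8, true), (7, 6, true), (6, 8, true), (8, 3, true), (9, 3, true), (7, 5, true), (7, 3, true), (8, 1, true), (9, 0, true), (9, 28, true), (8, 29, true), (7, 30, true), (6, 31, true), (5, 31, true), (4, 33, true), (2, 35, true), (4, 6, true), (3, 8, true), (5, 6, true), (4, 8, true), (6, 3, true), (7, 3, true), (5, 5, true), (5, 1, true), (6, 0, true), (6, 15, true), (5, 16, true), (4, 18, true), (3, 18, true), (7, 6, true), (6, 8, true), (5, 8, true), (8, 3, true), (6, 5, true), (6, 3, true), (8, 3, true), (7, 3, true), (9, 1, true), (8, 1, true), (9, 0, true), (10, 15, true), (9, 15, true), (8, 16, true), (7, 17, true), (6, 17, true), (5, 18, true), (4, 18, true), (2, 20, true), (5, 6, true), (4, 8, true), (3, 8, true), (6, 3, true), (4, 5, true), (4, 3, true), (6, 3, true), (5, 3, true), (7, 3, true), (6, 3, true), (4, 5, true), (5, 3, true), (4, 3, true), (6, 1, true),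 (5, 1, true), (6, 0, true), (6, 0, true), (5, 11, true), (4, 12, true), (3, 13, true), (2, 13, true), (6, 6, true), (5, 8, true), (4, 8, true), (7, 3, true), (5, 5, true), (5, 3, true), (7, 3, true), (6, 3, true), (8, 3, true), (7, 3, true), (5, 5, true), (6, 1, true), (5, 1, true), (6, 0, true), (6, 6, true), (5, 7, true), (3, 9, true), (7, 6, true), (6, 6, true), (5, 7, true), (4, 8, true), (3, 8, true), (4, 5, true), (6, 0, true), (5, 4, true), (8, 36, true), (7, 36, true), (6, 37, true), (5, 38, true), (4, 38, true), (3, 39, true), (2, 40, true), (6, 6, true), (5, 6, true), (4, 8, true), (7, 3, true), (6, 3, true), (8, 3, true), (7, 3, true), (5, 5, true), (5, 0, true), (9, 36, true), (8, 36, true), (7, 37, true), (6, 38, true), (5, 38, true), (4, 39, true), (3, 40, true), (7, 6, true), (6, 6, true), (5, 8, true), (8, 3, true), (7, 3, true), (9, 3, true), (8, 3, true), (6, 5, true), (6, 0, true), (10, 28, true), (9, 28, true), (8, 29, true), (7, 30, true), (6, 30, true), (5, 31, true), (4, 32, true), (7, 6, true), (6, 8, true),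 (8, 3, true), (9, 3, true), (7, 5, true), (7, 3, true), (8, 1, true), (9, 0, true), (10, 28, true), (9, 28, true), (8, 29, true), (7, 30, true), (6, 31, true), (5, 32, true), (8, 6, true), (7, 8, true), (9, 3, true), (10, 3, true), (8, 5, true), (8, 1, true), (9, 0, true), (10, 15, true), (9, 15, true), (8, 16, true), (7, 18, true), (6, 19, true), (8, 8, true), (9, 5, true), (9, 3, true), (10, 1, true), (11, 0, true), (12, 15, true), (11, 15, true), (10, 16, true), (9, 17, true), (8, 18, true), (7, 19, true), (9, 8, true), (10, 5, true), (10, 3, true), (11, 3, true), (12, 1, true), (13, 0, true), (14, 10, true), (13, 10, true), (12, 11, true), (11, 12, true), (10, 12, true), (9, 13, true), (13, 3, true), (11, 5, true), (11, 3, true), (12, 3, true), (13, 1, true), (14, 0, true), (15, 10, true), (14, 10, true), (13, 11, true), (12, 12, true), (11, 12, true), (10, 13, true), (8, 14, true), (11, 3, true), (9, 5, true), (9, 3, true), (10, 3, true), (11, 1, true), (12, 0, true), (13, 3, true), (12, 3, true), (11, 4, true), (9, 5, true), (11,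 36, true), (10, 36, true), (9, 37, true), (8, 39, true), (7, 41, true), (6, 41, true), (5, 43, true), (4, 43, true), (2, 44, true), (6, 15, true), (5, 15, true), (6, 0, true), (6, 6, true), (7, 3, true), (8, 3, true), (10, 1, true), (9, 1, true), (10, 0, true), (10, 36, true), (9, 37, true), (8, 38, true), (7, 38, true), (6, 39, true), (5, 41, true), (4, 41, true), (3, 43, true), (2, 43, true), (7, 15, true), (6, 15, true), (7, 0, true), (7, 6, true), (8, 3, true), (9, 3, true), (11, 3, true), (10, 3, true), (8, 5, true), (9, 3, true), (8, 3, true), (10, 1, true), (9, 1, true), (10, 0, true), (9, 29, true), (8, 30, true), (7, 31, true), (6, 33, true), (5, 33, true), (3, 35, true), (5, 15, true), (4, 17, true), (6, 3, true), (8, 6, true), (7, 6, true), (6, 8, true), (5, 8, true), (9, 3, true), (8, 3, true), (6, 5, true), (7, 3, true), (6, 3, true), (8, 1, true), (7, 1, true), (8, 0, true), (8, 28, true), (7, 29, true), (6, 30, true), (5, 31, true), (4, 33, true), (3, 33, true), (6, 15, true), (5, 17, true), (7, 3, true), (9, 6, true),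 (8, 6, true), (7, 8, true), (6, 8, true), (10, 3, true), (9, 3, true), (7, 5, true), (8, 3, true), (7, 3, true), (9, 1, true), (8, 1, true), (9, 0, true), (10, 15, true), (9, 15, true), (8, 16, true), (7, 17, true), (6, 18, true), (4, 20, true), (7, 3, true), (5, 5, true), (5, 3, true), (6, 1, true), (7, 0, true), (8, 15, true), (7, 15, true), (6, 16, true), (5, 17, true), (4, 18, true), (8, 3, true), (6, 5, true), (6, 3, true), (7, 1, true), (8, 0, true), (9, 10, true), (8, 10, true), (7, 11, true), (6, 12, true), (5, 13, true), (9, 3, true), (7, 5, true), (7, 3, true), (8, 1, true), (9, 0, true), (10, 10, true), (9, 10, true), (8, 11, true), (7, 12, true), (6, 13, true), (10, 3, true), (8, 5, true), (8, 3, true), (9, 1, true), (10, 0, true), (11, 3, true), (10, 3, true), (9, 4, true), (11, 0, true), (10, 46, true), (9, 47, true), (8, 47, true), (7, 48, true), (6, 49, true), (5, 49, true), (4, 50, true), (3, 52, true), (2, 53, true), (0, 54, true), (5, 28, true), (4, 28, true), (3, 30, true), (2, 30, true), (5, 0, true), (5, 36, true),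 (4, 38, true), (3, 38, true), (2, 43, true), (1, 43, true), (6, 28, true), (5, 30, true), (4, 30, true), (2, 35, true), (4, 28, true), (3, 30, true), (2, 30, true), (5, 15, true), (4, 17, true), (3, 17, true), (6, 15, true), (5, 17, true), (4, 17, true), (7, 6, true), (6, 8, true), (5, 8, true), (8, 3, true), (6, 5, true), (6, 1, true), (7, 1, true), (9, 36, true), (8, 36, true), (7, 37, true), (6, 37, true), (5, 39, true), (4, 41, true), (3, 41, true), (2, 43, true), (0, 44, true), (3, 15, true), (2, 15, true), (3, 0, true), (3, 6, true), (4, 3, true), (5, 3, true), (7, 1, true), (6, 1, true), (8, 1, true), (7, 1, true), (8, 0, true), (8, 28, true), (7, 29, true), (6, 29, true), (5, 30, true), (4, 30, true), (3, 31, true), (2, 33, true), (1, 33, true), (4, 15, true), (3, 17, true), (5, 3, true), (7, 6, true), (6, 6, true), (5, 8, true), (4, 8, true), (8, 3, true), (7, 3, true), (5, 5, true), (6, 3, true), (5, 3, true), (7, 3, true), (6, 3, true), (8, 1, true), (7, 1, true), (8, 0, true), (8, 3, true), (7, 4, true), (5, 5, true), (6,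 1, true), (7, 0, true), (7, 28, true), (6, 29, true), (5, 29, true), (4, 31, true), (3, 33, true), (2, 33, true), (0, 35, true), (2, 15, true), (1, 17, true), (3, 3, true), (5, 6, true), (4, 6, true), (3, 8, true), (2, 8, true), (6, 3, true), (5, 3, true), (3, 5, true), (4, 1, true), (3, 1, true), (4, 0, true), (4, 3, true), (3, 4, true), (5, 1, true), (6, 0, true), (6, 15, true), (5, 16, true), (4, 16, true), (3, 17, true), (2, 18, true), (0, 20, true), (3, 3, true), (1, 5, true), (1, 3, true), (2, 1, true), (3, 0, true), (2, 4, true), (5, 0, true), (4, 16, true), (3, 16, true), (2, 17, true), (1, 17, true), (0, 18, true), (4, 3, true), (2, 5, true), (2, 3, true), (3, 3, true), (4, 1, true), (5, 0, true), (4, 4, true), (2, 5, true), (5, 3, true), (4, 3, true), (3, 4, true), (2, 4, true), (6, 1, true), (5, 1, true), (3, 2, true), (4, 1, true), (3, 1, true), (5, 36, true), (4, 36, true), (3, 37, true), (2, 38, true), (1, 39, true), (0, 41, true), (3, 6, true), (2, 6, true), (4, 3, true), (3, 3, true), (5, 3, true), (4, 3, true), (5,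 0, true), (3, 5, true), (5, 28, true), (4, 28, true), (3, 29, true), (2, 31, true), (1, 33, true), (4, 6, true), (3, 8, true), (5, 3, true), (6, 1, true), (7, 0, true), (8, 28, true), (7, 28, true), (6, 29, true), (5, 30, true), (4, 30, true), (3, 31, true), (2, 33, true), (5, 6, true), (4, 8, true), (6, 3, true), (7, 3, true), (5, 5, true), (5, 3, true), (6, 1, true), (7, 0, true), (8, 15, true), (7, 15, true), (6, 16, true), (5, 17, true), (4, 18, true), (8, 3, true), (6, 5, true), (6, 3, true), (7, 1, true), (8, 0, true), (9, 15, true), (8, 15, true), (7, 16, true), (6, 17, true), (5, 18, true), (3, 20, true), (6, 3, true), (4, 5, true), (4, 3, true), (5, 1, true), (6, 0, true), (7, 3, true), (6, 3, true), (5, 4, true), (8, 1, true), (7, 1, true), (9, 1, true), (8, 1, true), (6, 2, true), (7, 28, true), (6, 28, true), (5, 30, true), (4, 30, true), (3, 31, true), (1, 35, true), (5, 28, true), (4, 28, true), (3, 30, true), (2, 30, true), (1, 31, true), (6, 15, true), (5, 15, true), (4, 17, true), (3, 17, true), (2, 18, true), (6, 3,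 true), (4, 5, true), (4, 3, true), (5, 0, true), (4, 17, true), (3, 18, true), (7, 3, true), (5, 5, true), (5, 10, true), (4, 13, true), (9, 6, true), (8, 6, true), (7, 8, true), (6, 8, true), (10, 6, true), (9, 6, true), (8, 8, true), (7, 8, true), (5, 9, true), (8, 3, true), (7, 3, true), (5, 5, true), (5, 0, true), (5, 3, true), (6, 0, true), (5, 38, true), (4, 40, true), (3, 41, true), (2, 41, true), (1, 43, true), (5, 15, true), (4, 15, true), (5, 0, true), (5, 10, true), (6, 3, true), (7, 0, true), (7, 38, true), (6, 38, true), (5, 40, true), (4, 41, true), (3, 41, true), (2, 43, true), (0, 44, true), (3, 15, true), (2, 15, true), (3, 0, true), (3, 10, true), (4, 3, true), (5, 0, true), (4, 5, true), (3, 32, true), (2, 33, true), (1, 33, true), (4, 15, true), (3, 17, true), (5, 3, true), (7, 10, true), (6, 10, true), (5, 12, true), (4, 12, true), (8, 3, true), (7, 3, true), (5, 5, true), (5, 0, true), (4, 32, true), (3, 33, true), (2, 33, true), (0, 35, true), (2, 15, true), (1, 17, true), (3, 3, true), (5, 10, true), (4, 10,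 true), (3, 12, true), (2, 12, true), (6, 3, true), (5, 3, true), (3, 5, true), (3, 0, true), (2, 19, true), (0, 20, true), (1, 17, true), (0, 19, true), (3, 12, true), (2, 12, true), (4, 12, true), (3, 12, true), (1, 14, true), (1, 5, true)], [(1, 54, true)]),
    ([1, 6, 9], [(0, 22, true), (3, 46, true), (2, 48, true), (1, 48, true), (0, 51, true), (10, 28, true), (9, 30, true), (8, 31, true), (7, 31, true), (6, 32, true), (5, 32, true), (4, 33, true), (3, 34, true), (1, 35, true), (4, 10, true), (3, 12, true), (5, 3, true), (7, 10, true), (6, 10, true), (5, 12, true), (4, 12, true), (8, 3, true), (7, 3, true), (5, 5, true), (5, 0, true), (8, 28, true), (7, 30, true), (6, 31, true), (5, 31, true), (4, 32, true), (3, 32, true), (2, 33, true), (1, 34, true), (5, 10, true), (4, 12, true), (6, 3, true), (8, 10, true), (7, 10, true), (6, 12, true), (5, 12, true), (9, 3, true), (8, 3, true), (6, 5, true), (6, 0, true), (9, 15, true), (8, 17, true), (7, 18, true), (6, 18, true), (5, 19, true), (4, 19, true), (6, 12, true), (8, 8, true),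 (7, 8, true), (8, 5, true), (9, 6, true), (8, 8, true), (10, 3, true), (11, 3, true), (9, 5, true), (10, 3, true), (9, 3, true), (10, 0, true), (9, 17, true), (8, 18, true), (7, 18, true), (6, 19, true), (5, 19, true), (3, 20, true), (4, 12, true), (6, 8, true), (5, 8, true), (6, 5, true), (7, 6, true), (6, 8, true), (8, 3, true), (9, 3, true), (7, 5, true), (8, 3, true), (7, 3, true), (9, 10, true), (8, 10, true), (7, 12, true), (6, 13, true), (5, 13, true), (3, 14, true), (6, 6, true), (5, 8, true), (4, 8, true), (7, 3, true), (5, 5, true), (5, 3, true), (7, 3, true), (6, 3, true), (7, 0, true), (7, 6, true), (6, 8, true), (5, 8, true), (3, 9, true), (5, 6, true), (4, 8, true), (3, 8, true), (6, 28, true), (5, 30, true), (4, 30, true), (3, 31, true), (2, 34, true), (7, 28, true), (6, 30, true), (5, 30, true), (4, 31, true), (3, 34, true), (1, 35, true), (5, 15, true), (4, 17, true), (3, 17, true), (2, 18, true), (6, 3, true), (4, 5, true), (4, 3, true), (6, 15, true), (5, 15, true), (4, 17, true), (3, 18, true), (7, 3, true), (5,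 5, true), (5, 0, true), (4, 13, true), (8, 6, true), (7, 8, true), (6, 8, true), (9, 6, true), (8, 8, true), (7, 8, true), (5, 9, true), (7, 36, true), (6, 38, true), (5, 38, true), (4, 40, true), (3, 41, true), (2, 41, true), (1, 42, true), (5, 15, true), (4, 15, true), (5, 0, true), (5, 15, true), (6, 0, true), (9, 3, true), (8, 3, true), (10, 3, true), (9, 3, true), (7, 5, true), (7, 0, true), (6, 40, true), (5, 41, true), (4, 41, true), (3, 42, true), (2, 43, true), (7, 15, true), (6, 15, true), (7, 0, true), (7, 15, true), (8, 0, true), (11, 28, true), (10, 28, true), (9, 30, true), (8, 32, true), (7, 33, true), (6, 33, true), (5, 34, true), (3, 35, true), (6, 15, true), (5, 17, true), (7, 3, true), (9, 10, true), (8, 10, true), (7, 12, true), (6, 12, true), (10, 3, true), (9, 3, true), (7, 5, true), (7, 0, true), (9, 28, true), (8, 28, true), (7, 30, true), (6, 32, true), (5, 33, true), (4, 33, true), (3, 34, true), (7, 15, true), (6, 17, true), (8, 3, true), (10, 10, true), (9, 10, true), (8, 12, true), (7, 12, true), (11, 3,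 true), (10, 3, true), (8, 5, true), (8, 0, true), (10, 15, true), (9, 15, true), (8, 17, true), (7, 19, true), (5, 20, true), (9, 15, true), (8, 15, true), (7, 17, true), (6, 17, true), (5, 19, true), (7, 5, true), (8, 10, true), (7, 10, true), (9, 10, true), (8, 10, true), (6, 14, true), (7, 3, true), (6, 3, true)], [(1, 51, true), (0, 46, true), (9, 30, true), (8, 32, true), (7, 32, true), (6, 33, true), (5, 33, true), (3, 35, true), (5, 15, true), (4, 17, true), (6, 3, true), (8, 10, true), (7, 10, true), (6, 12, true), (5, 12, true), (9, 3, true), (8, 3, true), (6, 5, true), (6, 0, true), (8, 3, true), (9, 28, true), (8, 30, true), (7, 30, true), (6, 32, true), (5, 32, true), (4, 33, true), (3, 33, true), (6, 15, true), (5, 17, true), (7, 3, true), (9, 10, true), (8, 10, true), (7, 12, true), (6, 12, true), (10, 3, true), (9, 3, true), (7, 5, true), (7, 0, true), (9, 3, true), (10, 3, true), (8, 5, true), (9, 21, true), (8, 21, true), (7, 25, true), (6, 25, true), (5, 26, true), (4, 26, true), (11, 15, true), (10, 15, true), (9,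 18, true), (8, 19, true), (7, 19, true), (5, 20, true), (6, 12, true), (8, 8, true), (7, 8, true), (8, 5, true), (9, 0, true), (8, 17, true), (7, 18, true), (6, 19, true), (5, 19, true), (7, 12, true), (9, 8, true), (8, 8, true), (9, 5, true), (10, 3, true), (11, 10, true), (10, 12, true), (9, 12, true), (8, 13, true), (6, 14, true), (9, 3, true), (7, 5, true), (7, 3, true), (9, 10, true), (8, 10, true), (7, 12, true), (6, 13, true), (10, 3, true), (8, 5, true), (8, 0, true), (10, 15, true), (9, 15, true), (8, 18, true), (7, 18, true), (6, 19, true), (8, 8, true), (9, 5, true), (9, 6, true), (10, 3, true), (11, 3, true), (12, 0, true), (12, 6, true), (11, 8, true), (10, 8, true), (8, 9, true), (10, 3, true), (8, 5, true), (8, 0, true), (7, 19, true), (5, 20, true), (6, 8, true), (9, 0, true), (9, 15, true), (8, 17, true), (7, 17, true), (6, 18, true), (5, 19, true), (7, 8, true), (8, 5, true), (8, 3, true), (9, 3, true), (11, 10, true), (10, 10, true), (9, 12, true), (8, 12, true), (7, 13, true), (11, 3, true), (9, 5, true), (9, 3,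 true), (10, 0, true), (9, 12, true), (8, 13, true), (6, 14, true), (9, 3, true), (7, 5, true), (7, 6, true), (8, 6, true), (6, 9, true), (6, 3, true)]),
    ([3, 6, 9], [(0, 24, true), (1, 48, true), (0, 51, true), (10, 28, true), (9, 30, true), (8, 31, true), (7, 31, true), (6, 32, true), (5, 32, true), (4, 33, true), (3, 34, true), (1, 35, true), (4, 10, true), (3, 12, true), (5, 3, true), (7, 10, true), (6, 10, true), (5, 12, true), (4, 12, true), (8, 3, true), (7, 3, true), (5, 5, true), (5, 0, true), (8, 28, true), (7, 30, true), (6, 31, true), (5, 31, true), (4, 32, true), (3, 32, true), (2, 33, true), (1, 34, true), (5, 10, true), (4, 12, true), (6, 3, true), (8, 10, true), (7, 10, true), (6, 12, true), (5, 12, true), (9, 3, true), (8, 3, true), (6, 5, true), (6, 0, true), (9, 15, true), (8, 17, true), (7, 18, true), (6, 18, true), (5, 19, true), (4, 19, true), (6, 12, true), (8, 8, true), (7, 8, true), (8, 5, true), (9, 6, true), (8, 8, true), (10, 3, true), (11, 3, true), (9, 5, true), (10, 3, true), (9, 3, true), (10, 0, true),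 (9, 17, true), (8, 18, true), (7, 18, true), (6, 19, true), (5, 19, true), (3, 20, true), (4, 12, true), (6, 8, true), (5, 8, true), (6, 5, true), (7, 6, true), (6, 8, true), (8, 3, true), (9, 3, true), (7, 5, true), (8, 3, true), (7, 3, true), (9, 10, true), (8, 10, true), (7, 12, true), (6, 13, true), (5, 13, true), (3, 14, true), (6, 6, true), (5, 8, true), (4, 8, true), (7, 3, true), (5, 5, true), (5, 3, true), (7, 3, true), (6, 3, true), (7, 0, true), (7, 6, true), (6, 8, true), (5, 8, true), (3, 9, true), (5, 6, true), (4, 8, true), (3, 8, true)], [(1, 51, true), (0, 48, true), (7, 31, true), (6, 31, true), (5, 32, true), (4, 33, true), (3, 33, true), (1, 35, true), (3, 15, true), (2, 17, true), (4, 3, true), (6, 10, true), (5, 10, true), (4, 12, true), (3, 12, true), (7, 3, true), (6, 3, true), (4, 5, true), (4, 0, true), (5, 31, true), (4, 31, true), (3, 32, true), (2, 33, true), (1, 33, true), (4, 15, true), (3, 17, true), (5, 3, true), (7, 10, true), (6, 10, true), (5, 12, true), (4, 12, true), (8, 3, true), (7, 3, true),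 (5, 5, true), (5, 0, true), (6, 24, true), (5, 24, true), (4, 25, true), (3, 26, true), (2, 26, true), (9, 15, true), (8, 15, true), (7, 18, true), (6, 19, true), (5, 19, true), (3, 20, true), (4, 12, true), (6, 8, true), (5, 8, true), (6, 5, true), (7, 0, true), (6, 17, true), (5, 18, true), (4, 19, true), (3, 19, true), (5, 12, true), (7, 8, true), (6, 8, true), (7, 5, true), (8, 3, true), (9, 10, true), (8, 12, true), (7, 12, true), (6, 13, true), (4, 14, true), (7, 3, true), (5, 5, true), (5, 3, true), (7, 10, true), (6, 10, true), (5, 12, true), (4, 13, true), (8, 3, true), (6, 5, true), (6, 0, true), (8, 15, true), (7, 15, true), (6, 18, true), (5, 18, true), (4, 19, true), (6, 8, true), (7, 5, true), (7, 6, true), (8, 3, true), (9, 3, true), (10, 0, true), (10, 6, true), (9, 8, true), (8, 8, true), (6, 9, true), (8, 3, true), (6, 5, true), (6, 0, true), (7, 18, true), (6, 18, true), (5, 19, true), (3, 20, true), (4, 8, true), (5, 5, true), (5, 6, true), (6, 3, true), (7, 3, true), (9, 10, true), (8, 10, true), (7, 12, true),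 (6, 12, true), (5, 13, true), (4, 13, true), (8, 6, true), (7, 8, true), (6, 8, true), (9, 3, true), (7, 5, true), (7, 3, true), (9, 3, true), (8, 3, true), (10, 3, true), (9, 3, true), (7, 5, true), (7, 0, true), (7, 10, true), (6, 13, true), (5, 13, true), (3, 14, true), (6, 6, true), (5, 8, true), (4, 8, true), (7, 3, true), (5, 5, true), (5, 3, true), (6, 0, true), (5, 8, true), (3, 9, true), (3, 8, true)]),
    ([4, 6, 9], [(0, 25, true), (5, 45, true), (4, 45, true), (3, 47, true), (2, 48, true), (1, 50, true), (0, 51, true), (10, 36, true), (9, 38, true), (8, 39, true), (7, 39, true), (6, 40, true), (5, 40, true), (4, 41, true), (3, 42, true), (2, 43, true), (1, 43, true), (2, 35, true), (4, 15, true), (3, 15, true), (4, 0, true), (4, 10, true), (5, 3, true), (6, 0, true), (5, 12, true), (9, 6, true), (8, 6, true), (7, 8, true), (6, 8, true), (10, 3, true), (9, 3, true), (7, 5, true), (8, 3, true), (7, 3, true), (8, 0, true), (7, 8, true), (8, 5, true), (8, 3, true), (10, 28, true), (9, 28, true), (8, 30, true), (7, 31, true),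 (6, 31, true), (5, 32, true), (4, 32, true), (3, 33, true), (2, 34, true), (6, 10, true), (5, 12, true), (7, 3, true), (9, 10, true), (8, 10, true), (7, 12, true), (6, 12, true), (10, 3, true), (9, 3, true), (7, 5, true), (7, 0, true), (11, 28, true), (10, 28, true), (9, 30, true), (8, 31, true), (7, 31, true), (6, 32, true), (5, 32, true), (4, 33, true), (3, 34, true), (7, 10, true), (6, 12, true), (8, 3, true), (10, 10, true), (9, 10, true), (8, 12, true), (7, 12, true), (11, 3, true), (10, 3, true), (8, 5, true), (8, 0, true), (12, 15, true), (11, 15, true), (10, 17, true), (9, 18, true), (8, 18, true), (7, 19, true), (6, 19, true), (8, 12, true), (10, 8, true), (9, 8, true), (10, 5, true), (11, 6, true), (10, 8, true), (12, 3, true), (13, 3, true), (11, 5, true), (12, 3, true), (11, 3, true), (12, 0, true), (12, 15, true), (11, 17, true), (10, 18, true), (9, 18, true), (8, 19, true), (7, 19, true), (5, 20, true), (6, 12, true), (8, 8, true), (7, 8, true), (8, 5, true), (9, 6, true), (8, 8, true), (10, 3, true), (11, 3, true), (9,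 5, true), (10, 3, true), (9, 3, true), (10, 0, true), (9, 8, true), (7, 9, true), (11, 28, true), (10, 29, true), (9, 29, true), (8, 30, true), (7, 30, true), (6, 32, true), (5, 32, true), (4, 34, true), (2, 35, true), (5, 10, true), (4, 12, true), (6, 3, true), (8, 3, true), (7, 3, true), (5, 5, true), (6, 3, true), (5, 3, true), (7, 3, true), (6, 3, true), (8, 1, true), (7, 1, true), (8, 0, true), (8, 3, true), (7, 4, true), (5, 5, true), (6, 1, true), (7, 0, true), (7, 28, true), (6, 29, true), (5, 29, true), (4, 32, true), (3, 32, true), (2, 34, true), (6, 10, true), (5, 12, true), (7, 3, true), (9, 3, true), (8, 3, true), (6, 5, true), (7, 1, true), (6, 1, true), (7, 0, true), (7, 3, true), (6, 4, true), (8, 1, true), (9, 0, true), (9, 15, true), (8, 16, true), (7, 16, true), (6, 17, true), (5, 19, true), (4, 19, true), (6, 12, true), (7, 5, true), (10, 3, true), (9, 3, true), (8, 4, true), (11, 1, true), (10, 1, true), (11, 0, true), (12, 15, true), (11, 15, true), (10, 16, true), (9, 16, true), (8, 17, true), (7, 17, true), (6,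 19, true), (5, 19, true), (7, 12, true), (8, 5, true), (12, 3, true), (11, 3, true), (10, 4, true), (8, 5, true), (10, 1, true), (9, 1, true), (10, 0, true), (10, 0, true), (9, 11, true), (8, 11, true), (6, 14, true), (9, 3, true), (8, 3, true), (7, 4, true), (10, 1, true), (9, 1, true), (10, 0, true), (10, 6, true), (9, 7, true), (8, 7, true), (7, 8, true), (6, 8, true), (7, 5, true), (9, 3, true), (8, 4, true), (10, 3, true), (9, 4, true), (7, 5, true), (8, 1, true), (9, 0, true), (8, 7, true), (7, 7, true), (11, 3, true), (10, 4, true), (8, 5, true), (9, 3, true), (8, 4, true), (10, 1, true), (12, 3, true), (11, 3, true), (10, 4, true), (9, 4, true), (12, 0, true), (12, 0, true)], [(1, 51, true), (0, 49, true), (8, 29, true), (7, 29, true), (6, 30, true), (5, 33, true), (4, 33, true), (2, 35, true), (4, 15, true), (3, 17, true), (5, 3, true), (7, 3, true), (6, 3, true), (4, 5, true), (5, 3, true), (4, 3, true), (6, 1, true), (5, 1, true), (6, 0, true), (6, 3, true), (5, 4, true), (7, 1, true), (8, 0, true), (7, 29, true), (6, 29,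 true), (5, 30, true), (4, 30, true), (3, 33, true), (2, 33, true), (5, 15, true), (4, 17, true), (6, 3, true), (8, 3, true), (7, 3, true), (5, 5, true), (6, 3, true), (5, 3, true), (7, 3, true), (6, 3, true), (8, 1, true), (7, 1, true), (8, 0, true), (8, 3, true), (7, 4, true), (5, 5, true), (6, 1, true), (7, 0, true), (6, 22, true), (5, 22, true), (4, 26, true), (3, 26, true), (10, 15, true), (9, 15, true), (8, 18, true), (7, 19, true), (6, 19, true), (4, 20, true), (5, 12, true), (7, 8, true), (6, 8, true), (7, 5, true), (8, 0, true), (7, 17, true), (6, 18, true), (5, 19, true), (4, 19, true), (6, 12, true), (8, 8, true), (7, 8, true), (8, 5, true), (9, 3, true), (10, 10, true), (9, 12, true), (8, 12, true), (7, 13, true), (5, 14, true), (8, 3, true), (6, 5, true), (6, 3, true), (8, 10, true), (7, 10, true), (6, 12, true), (5, 13, true), (9, 3, true), (7, 5, true), (7, 0, true), (9, 6, true), (8, 6, true), (6, 9, true), (7, 6, true), (6, 6, true), (8, 1, true), (7, 1, true), (9, 6, true), (8, 6, true), (7, 7, true), (11, 0, true),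 (10, 7, true), (9, 8, true), (8, 8, true), (6, 9, true), (6, 5, true), (8, 1, true), (9, 15, true), (8, 16, true), (7, 16, true), (6, 17, true), (5, 19, true), (7, 5, true), (9, 3, true), (8, 3, true), (7, 4, true), (10, 1, true), (9, 1, true), (10, 0, true), (11, 10, true), (10, 10, true), (9, 11, true), (8, 11, true), (7, 12, true), (12, 3, true), (11, 3, true), (10, 4, true), (8, 5, true), (10, 1, true), (9, 1, true), (10, 0, true), (10, 0, true), (9, 11, true), (8, 11, true), (6, 14, true), (9, 3, true), (8, 3, true), (7, 4, true), (10, 1, true), (9, 1, true), (10, 0, true), (10, 6, true), (9, 7, true), (8, 7, true), (7, 8, true), (6, 8, true), (7, 5, true), (9, 3, true), (8, 4, true), (10, 3, true), (9, 4, true), (7, 5, true), (8, 1, true), (9, 0, true), (8, 7, true), (7, 7, true), (11, 3, true), (10, 4, true), (8, 5, true), (9, 3, true), (8, 4, true), (10, 1, true), (12, 3, true), (11, 3, true), (10, 4, true), (9, 4, true), (12, 0, true)]),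
    ([5, 6, 9], [(0, 26, true), (7, 45, true), (6, 45, true), (5, 48, true), (4, 49, true), (3, 49, true), (2, 50, true), (1, 50, true), (0, 51, true), (10, 36, true), (9, 38, true), (8, 39, true), (7, 39, true), (6, 40, true), (5, 40, true), (4, 41, true), (3, 42, true), (2, 43, true), (1, 43, true), (2, 35, true), (4, 15, true), (3, 15, true), (4, 0, true), (4, 10, true), (5, 3, true), (6, 0, true), (5, 12, true), (9, 6, true), (8, 6, true), (7, 8, true), (6, 8, true), (10, 3, true), (9, 3, true), (7, 5, true), (8, 3, true), (7, 3, true), (8, 0, true), (7, 8, true), (8, 5, true), (8, 3, true), (10, 28, true), (9, 28, true), (8, 30, true), (7, 31, true), (6, 31, true), (5, 32, true), (4, 32, true), (3, 33, true), (2, 34, true), (6, 10, true), (5, 12, true), (7, 3, true), (9, 10, true), (8, 10, true), (7, 12, true), (6, 12, true), (10, 3, true), (9, 3, true), (7, 5, true), (7, 0, true), (11, 28, true), (10, 28, true), (9, 30, true), (8, 31, true), (7, 31, true), (6, 32, true), (5, 32, true), (4, 33, true), (3, 34, true), (7, 10, true),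 (6, 12, true), (8, 3, true), (10, 10, true), (9, 10, true), (8, 12, true), (7, 12, true), (11, 3, true), (10, 3, true), (8, 5, true), (8, 0, true), (12, 15, true), (11, 15, true), (10, 17, true), (9, 18, true), (8, 18, true), (7, 19, true), (6, 19, true), (8, 12, true), (10, 8, true), (9, 8, true), (10, 5, true), (11, 6, true), (10, 8, true), (12, 3, true), (13, 3, true), (11, 5, true), (12, 3, true), (11, 3, true), (12, 0, true), (12, 15, true), (11, 17, true), (10, 18, true), (9, 18, true), (8, 19, true), (7, 19, true), (5, 20, true), (6, 12, true), (8, 8, true), (7, 8, true), (8, 5, true), (9, 6, true), (8, 8, true), (10, 3, true), (11, 3, true), (9, 5, true), (10, 3, true), (9, 3, true), (10, 0, true), (9, 8, true), (7, 9, true), (11, 36, true), (10, 37, true), (9, 37, true), (8, 38, true), (7, 38, true), (6, 40, true), (5, 40, true), (4, 42, true), (3, 43, true), (2, 43, true), (3, 35, true), (5, 10, true), (4, 10, true), (6, 3, true), (5, 3, true), (6, 0, true), (6, 10, true), (5, 12, true), (7, 3, true), (8, 0, true), (6, 5,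 true), (9, 28, true), (8, 29, true), (7, 29, true), (6, 30, true), (5, 32, true), (4, 32, true), (3, 34, true), (7, 10, true), (6, 12, true), (8, 3, true), (10, 3, true), (9, 3, true), (7, 5, true), (8, 3, true), (7, 3, true), (9, 1, true), (8, 1, true), (9, 0, true), (9, 3, true), (8, 4, true), (10, 1, true), (11, 0, true), (11, 28, true), (10, 29, true), (9, 29, true), (8, 30, true), (7, 30, true), (6, 32, true), (5, 32, true), (4, 34, true), (8, 10, true), (7, 12, true), (9, 3, true), (11, 3, true), (10, 3, true), (8, 5, true), (9, 3, true), (8, 3, true), (10, 3, true), (9, 3, true), (11, 1, true), (10, 1, true), (11, 0, true), (11, 3, true), (10, 4, true), (8, 5, true), (9, 1, true), (10, 0, true), (10, 15, true), (9, 16, true), (8, 16, true), (7, 19, true), (6, 19, true), (8, 12, true), (9, 5, true), (11, 3, true), (10, 3, true), (9, 4, true), (12, 1, true), (11, 1, true), (12, 0, true), (13, 15, true), (12, 15, true), (11, 16, true), (10, 16, true), (9, 17, true), (8, 19, true), (7, 19, true), (9, 12, true), (10, 5, true), (13,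 3, true), (12, 3, true), (11, 4, true), (14, 1, true), (13, 1, true), (14, 0, true), (14, 0, true), (13, 7, true), (12, 7, true), (11, 8, true), (10, 8, true), (11, 5, true), (13, 3, true), (12, 4, true), (14, 3, true), (13, 4, true), (11, 5, true), (12, 1, true), (14, 3, true), (13, 3, true), (12, 4, true), (11, 4, true), (15, 1, true), (14, 1, true), (12, 2, true), (13, 1, true), (12, 1, true), (13, 0, true), (12, 37, true), (11, 38, true), (10, 39, true), (9, 40, true), (8, 40, true), (7, 41, true), (6, 41, true), (5, 42, true), (4, 43, true), (3, 43, true), (1, 44, true), (1, 35, true), (3, 15, true), (2, 15, true), (3, 0, true), (3, 15, true), (4, 0, true), (7, 10, true), (6, 10, true), (5, 12, true), (8, 3, true), (7, 3, true), (8, 0, true), (8, 6, true), (7, 8, true), (6, 8, true), (9, 3, true), (7, 5, true), (7, 3, true), (9, 3, true), (8, 3, true), (10, 1, true), (9, 1, true), (11, 28, true), (10, 28, true), (9, 29, true), (8, 30, true), (7, 30, true), (6, 31, true), (5, 32, true), (4, 32, true), (3, 33, true), (2, 33, true),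 (1, 34, true), (5, 15, true), (4, 17, true), (6, 3, true), (8, 10, true), (7, 10, true), (6, 12, true), (5, 12, true), (9, 3, true), (8, 3, true), (6, 5, true), (6, 0, true), (8, 6, true), (7, 8, true), (9, 3, true), (10, 3, true), (8, 5, true), (8, 3, true), (9, 1, true), (10, 0, true), (11, 28, true), (10, 28, true), (9, 29, true), (8, 30, true), (7, 31, true), (6, 32, true), (5, 32, true), (4, 33, true), (3, 33, true), (2, 34, true), (6, 15, true), (5, 17, true), (7, 3, true), (9, 10, true), (8, 10, true), (7, 12, true), (6, 12, true), (10, 3, true), (9, 3, true), (7, 5, true), (7, 0, true), (9, 6, true), (8, 8, true), (10, 3, true), (11, 3, true), (9, 5, true), (9, 1, true), (10, 0, true), (11, 15, true), (10, 15, true), (9, 16, true), (8, 18, true), (7, 19, true), (6, 19, true), (4, 20, true), (5, 12, true), (7, 8, true), (6, 8, true), (7, 5, true), (8, 3, true), (9, 1, true), (10, 0, true), (11, 15, true), (10, 15, true), (9, 16, true), (8, 17, true), (7, 17, true), (6, 18, true), (5, 19, true), (4, 19, true), (6, 12, true), (8,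 8, true), (7, 8, true), (8, 5, true), (9, 3, true), (10, 3, true), (8, 5, true), (8, 3, true), (9, 1, true), (10, 0, true), (11, 3, true), (10, 3, true), (9, 4, true), (12, 1, true), (11, 1, true), (13, 1, true), (12, 1, true), (10, 2, true), (11, 36, true), (10, 36, true), (9, 38, true), (8, 38, true), (7, 39, true), (6, 40, true), (5, 40, true), (4, 41, true), (3, 42, true), (2, 43, true), (1, 43, true), (2, 35, true), (4, 15, true), (3, 15, true), (4, 0, true), (4, 10, true), (5, 3, true), (6, 0, true), (5, 12, true), (9, 6, true), (8, 6, true), (7, 8, true), (6, 8, true), (10, 3, true), (9, 3, true), (7, 5, true), (8, 3, true), (7, 3, true), (8, 0, true), (7, 5, true), (8, 28, true), (7, 28, true), (6, 31, true), (5, 32, true), (4, 32, true), (3, 33, true), (2, 34, true), (6, 10, true), (5, 12, true), (7, 3, true), (9, 10, true), (8, 10, true), (7, 12, true), (6, 12, true), (10, 3, true), (9, 3, true), (7, 5, true), (7, 0, true), (9, 28, true), (8, 28, true), (7, 31, true), (6, 32, true), (5, 32, true), (4, 33, true), (3, 34, true),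 (7, 10, true), (6, 12, true), (8, 3, true), (10, 10, true), (9, 10, true), (8, 12, true), (7, 12, true), (11, 3, true), (10, 3, true), (8, 5, true), (8, 0, true), (10, 15, true), (9, 15, true), (8, 18, true), (7, 19, true), (6, 19, true), (8, 12, true), (10, 8, true), (9, 8, true), (10, 5, true), (11, 0, true), (10, 17, true), (9, 18, true), (8, 19, true), (7, 19, true), (5, 20, true), (6, 12, true), (8, 8, true), (7, 8, true), (8, 5, true), (9, 3, true), (10, 3, true), (8, 5, true), (8, 1, true), (9, 1, true), (10, 28, true), (9, 29, true), (8, 29, true), (7, 31, true), (6, 32, true), (5, 32, true), (4, 34, true), (2, 35, true), (5, 10, true), (4, 12, true), (6, 3, true), (8, 6, true), (7, 6, true), (6, 8, true), (5, 8, true), (9, 3, true), (8, 3, true), (6, 5, true), (7, 1, true), (6, 1, true), (7, 0, true), (7, 3, true), (6, 4, true), (8, 1, true), (9, 0, true), (9, 28, true), (8, 29, true), (7, 29, true), (6, 30, true), (5, 31, true), (4, 32, true), (3, 32, true), (2, 34, true), (6, 10, true), (5, 12, true), (7, 3, true), (9, 6,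 true), (8, 6, true), (7, 8, true), (6, 8, true), (10, 3, true), (9, 3, true), (7, 5, true), (8, 3, true), (7, 3, true), (9, 1, true), (8, 1, true), (9, 0, true), (9, 3, true), (8, 4, true), (10, 1, true), (11, 0, true), (11, 15, true), (10, 16, true), (9, 16, true), (8, 17, true), (7, 17, true), (6, 18, true), (5, 19, true), (4, 19, true), (6, 12, true), (8, 8, true), (7, 8, true), (8, 5, true), (9, 3, true), (10, 3, true), (8, 5, true), (8, 3, true), (9, 1, true), (10, 0, true), (9, 4, true), (12, 0, true), (11, 16, true), (10, 16, true), (9, 17, true), (8, 17, true), (7, 18, true), (6, 19, true), (5, 19, true), (7, 12, true), (9, 8, true), (8, 8, true), (9, 5, true), (10, 3, true), (11, 3, true), (9, 5, true), (9, 3, true), (10, 1, true), (11, 0, true), (10, 4, true), (14, 10, true), (13, 10, true), (12, 11, true), (11, 11, true), (10, 12, true), (9, 12, true), (8, 13, true), (6, 14, true), (9, 3, true), (7, 5, true), (7, 3, true), (8, 3, true), (9, 1, true), (10, 0, true), (9, 4, true), (7, 5, true), (9, 0, true), (9, 6, true), (8,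 7, true), (7, 7, true), (11, 3, true), (10, 4, true), (8, 5, true), (9, 3, true), (8, 4, true), (10, 1, true), (11, 0, true), (10, 7, true), (9, 7, true), (8, 8, true), (6, 9, true), (6, 5, true), (7, 3, true), (6, 4, true), (8, 3, true), (7, 4, true), (9, 1, true), (10, 0, true)], [(1, 51, true), (0, 50, true), (10, 28, true), (9, 29, true), (8, 29, true), (7, 30, true), (6, 31, true), (5, 33, true), (4, 33, true), (2, 35, true), (4, 15, true), (3, 17, true), (5, 3, true), (7, 6, true), (6, 6, true), (5, 8, true), (4, 8, true), (8, 3, true), (7, 3, true), (5, 5, true), (6, 3, true), (5, 3, true), (7, 1, true), (6, 1, true), (7, 0, true), (7, 3, true), (6, 4, true), (8, 1, true), (9, 0, true), (9, 28, true), (8, 29, true), (7, 29, true), (6, 30, true), (5, 30, true), (4, 31, true), (3, 33, true), (2, 33, true), (5, 15, true), (4, 17, true), (6, 3, true), (8, 6, true), (7, 6, true), (6, 8, true), (5, 8, true), (9, 3, true), (8, 3, true), (6, 5, true), (7, 3, true), (6, 3, true), (8, 3, true), (7, 3, true), (9, 1, true), (8, 1, true),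 (9, 0, true), (9, 3, true), (8, 4, true), (6, 5, true), (7, 1, true), (8, 0, true), (8, 21, true), (7, 22, true), (6, 22, true), (5, 24, true), (4, 26, true), (3, 26, true), (10, 15, true), (9, 15, true), (8, 18, true), (7, 19, true), (6, 19, true), (4, 20, true), (5, 12, true), (7, 8, true), (6, 8, true), (7, 5, true), (8, 0, true), (7, 17, true), (6, 18, true), (5, 19, true), (4, 19, true), (6, 12, true), (8, 8, true), (7, 8, true), (8, 5, true), (9, 3, true), (10, 10, true), (9, 12, true), (8, 12, true), (7, 13, true), (5, 14, true), (8, 3, true), (6, 5, true), (6, 3, true), (8, 10, true), (7, 10, true), (6, 12, true), (5, 13, true), (9, 3, true), (7, 5, true), (7, 0, true), (9, 6, true), (8, 6, true), (6, 9, true), (7, 6, true), (6, 6, true), (8, 6, true), (7, 6, true), (9, 1, true), (8, 1, true), (10, 6, true), (9, 6, true), (8, 7, true), (6, 9, true), (9, 0, true), (8, 7, true), (7, 8, true), (6, 8, true), (7, 5, true), (9, 1, true), (11, 15, true), (10, 15, true), (9, 16, true), (8, 16, true), (7, 17, true), (6, 18, true), (5,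 19, true), (7, 8, true), (8, 5, true), (8, 3, true), (9, 3, true), (10, 1, true), (11, 0, true), (10, 4, true), (8, 5, true), (10, 0, true), (10, 10, true), (9, 11, true), (8, 11, true), (7, 13, true), (11, 3, true), (9, 5, true), (9, 1, true), (10, 0, true), (9, 4, true), (12, 0, true), (11, 11, true), (10, 11, true), (9, 12, true), (8, 13, true), (6, 14, true), (9, 3, true), (7, 5, true), (7, 3, true), (8, 1, true), (9, 0, true), (8, 4, true), (12, 6, true), (11, 6, true), (10, 7, true), (9, 7, true), (8, 8, true), (7, 8, true), (8, 5, true), (10, 3, true), (9, 4, true), (11, 3, true), (10, 4, true), (8, 5, true), (9, 1, true), (10, 0, true), (10, 6, true), (9, 7, true), (8, 7, true), (6, 9, true), (9, 3, true), (8, 4, true), (6, 5, true), (7, 3, true), (6, 4, true), (8, 1, true), (9, 0, true), (8, 4, true), (7, 4, true)]),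
    ([1, 8, 9], [(0, 37, true), (1, 46, true), (0, 53, true), (6, 36, true), (5, 36, true), (4, 38, true), (3, 38, true), (2, 43, true), (7, 36, true), (6, 36, true), (5, 38, true), (4, 38, true), (3, 43, true), (1, 44, true), (5, 28, true), (4, 28, true), (3, 30, true), (2, 30, true), (6, 28, true), (5, 28, true), (4, 30, true), (3, 30, true), (1, 35, true), (4, 15, true), (3, 15, true), (2, 17, true), (1, 17, true), (5, 15, true), (4, 15, true), (3, 17, true), (2, 17, true), (6, 10, true), (5, 10, true), (4, 12, true), (3, 12, true), (7, 10, true), (6, 10, true), (5, 12, true), (4, 12, true), (8, 3, true), (7, 3, true), (5, 5, true)], [(1, 53, true), (0, 46, true), (9, 38, true), (8, 40, true), (7, 40, true), (6, 41, true), (5, 41, true), (4, 43, true), (3, 43, true), (1, 44, true), (5, 15, true), (4, 15, true), (5, 0, true), (5, 10, true), (6, 3, true), (7, 0, true), (6, 12, true), (10, 3, true), (9, 3, true), (7, 5, true), (8, 28, true), (7, 28, true), (6, 32, true), (5, 32, true), (4, 33, true), (3, 33, true), (1, 35, true), (3,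 15, true), (2, 17, true), (4, 3, true), (6, 10, true), (5, 10, true), (4, 12, true), (3, 12, true), (7, 3, true), (6, 3, true), (4, 5, true), (4, 0, true), (6, 0, true), (5, 5, true)]),
    ([10, 1, 1, 1], [(0, 56, true), (7, 56, true), (14, 56, true), (6, 6, true), (5, 7, true), (4, 7, true), (3, 8, true), (2, 8, true), (0, 9, true), (0, 5, true), (2, 3, true), (1, 4, true), (3, 3, true), (2, 4, true), (0, 5, true), (1, 1, true), (2, 0, true), (1, 7, true), (0, 7, true), (4, 3, true), (3, 4, true), (1, 5, true), (2, 3, true), (1, 4, true), (3, 1, true), (5, 3, true), (4, 3, true), (3, 4, true), (2, 4, true), (6, 3, true), (5, 3, true), (4, 4, true), (3, 4, true), (1, 5, true), (4, 1, true), (3, 1, true), (1, 2, true), (2, 1, true), (1, 1, true), (2, 0, true), (1, 7, true), (5, 6, true), (4, 7, true), (3, 8, true), (2, 8, true), (0, 9, true), (0, 5, true), (3, 3, true), (2, 3, true), (1, 4, true), (4, 3, true), (3, 3, true), (2, 4, true), (0, 5, true), (2, 1, true), (1, 1, true), (3, 1, true), (2, 1, true), (0, 2, true), (0, 0, true)],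 [(1, 2, true)]),
    ([10, 1, 3], [(0, 56, true), (7, 58, true), (6, 6, true), (5, 7, true), (4, 7, true), (3, 8, true), (2, 8, true), (0, 9, true), (0, 5, true), (2, 3, true), (1, 4, true), (3, 3, true), (2, 4, true), (0, 5, true), (1, 1, true), (2, 0, true), (1, 7, true), (0, 7, true), (4, 3, true), (3, 4, true), (1, 5, true), (2, 3, true), (1, 4, true), (3, 1, true), (5, 3, true), (4, 3, true), (3, 4, true), (2, 4, true), (6, 3, true), (5, 3, true), (4, 4, true), (3, 4, true), (1, 5, true), (4, 1, true), (3, 1, true), (1, 2, true), (1, 0, true)], [(1, 7, true), (0, 58, true), (6, 57, true), (10, 57, true), (14, 56, true), (21, 55, true), (5, 3, true), (4, 4, true), (2, 5, true), (3, 3, true), (2, 4, true), (4, 0, true), (3, 4, true), (4, 4, true), (2, 5, true), (4, 6, true), (3, 6, true), (2, 7, true), (0, 9, true), (3, 0, true), (2, 7, true), (1, 8, true), (0, 8, true), (1, 5, true), (3, 3, true), (2, 4, true), (4, 3, true), (3, 4, true), (1, 5, true), (2, 1, true), (3, 1, true), (1, 2, true), (1, 0, true)]),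
    ([10, 1, 4], [(0, 56, true), (7, 59, true), (6, 28, true), (5, 29, true), (4, 29, true), (3, 30, true), (2, 30, true), (1, 31, true), (0, 31, true), (3, 5, true), (5, 3, true), (4, 3, true), (3, 4, true), (6, 1, true), (5, 1, true), (6, 0, true), (7, 28, true), (6, 28, true), (5, 29, true), (4, 29, true), (3, 30, true), (2, 31, true), (1, 31, true), (8, 3, true), (7, 3, true), (6, 4, true), (4, 5, true), (6, 1, true), (5, 1, true), (6, 0, true), (6, 0, true), (5, 16, true), (4, 16, true), (3, 18, true), (2, 18, true), (6, 6, true), (5, 8, true), (4, 8, true), (7, 3, true), (5, 5, true), (5, 3, true), (7, 3, true), (6, 3, true), (8, 1, true), (7, 1, true), (8, 0, true), (8, 3, true), (7, 4, true), (5, 5, true), (6, 1, true), (7, 0, true), (6, 16, true), (5, 16, true), (4, 18, true), (3, 18, true), (7, 6, true), (6, 8, true), (5, 8, true), (8, 3, true), (6, 5, true), (6, 3, true), (8, 3, true), (7, 3, true), (9, 1, true), (8, 1, true), (9, 0, true), (9, 3, true), (8, 4, true), (6, 5, true), (7, 1, true), (8, 0, true), (7, 11, true),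 (6, 11, true), (5, 13, true), (4, 13, true), (8, 6, true), (7, 8, true), (6, 8, true), (9, 3, true), (7, 5, true), (7, 3, true), (9, 3, true), (8, 3, true), (10, 1, true), (9, 1, true), (10, 0, true), (10, 3, true), (9, 4, true), (7, 5, true), (8, 1, true), (9, 0, true), (8, 7, true), (7, 7, true), (5, 9, true), (8, 3, true), (7, 4, true), (5, 5, true), (6, 3, true), (5, 4, true), (7, 1, true), (9, 3, true), (8, 3, true), (7, 4, true), (6, 4, true), (10, 3, true), (9, 3, true), (8, 4, true), (7, 4, true), (5, 5, true)], [(1, 11, true), (0, 59, true), (8, 57, true), (12, 56, true), (19, 55, true), (20, 55, true), (6, 5, true), (8, 6, true), (7, 6, true), (6, 8, true), (9, 6, true), (8, 6, true), (7, 8, true), (5, 9, true), (7, 3, true), (6, 3, true), (8, 3, true), (7, 3, true), (5, 5, true), (6, 1, true), (5, 1, true), (7, 1, true), (6, 1, true), (7, 0, true)]),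
    ([10, 4, 5], [(0, 59, true), (8, 60, true), (7, 38, true), (6, 38, true), (5, 39, true), (4, 40, true), (3, 41, true), (2, 41, true), (1, 43, true), (0, 43, true), (5, 15, true), (4, 15, true), (5, 0, true), (5, 10, true), (6, 3, true), (7, 0, true), (6, 8, true), (7, 5, true), (7, 3, true), (8, 3, true), (9, 28, true), (8, 30, true), (7, 30, true), (6, 31, true), (5, 32, true), (4, 33, true), (3, 33, true), (1, 35, true), (3, 15, true), (2, 17, true), (4, 3, true), (6, 10, true), (5, 10, true), (4, 12, true), (3, 12, true), (7, 3, true), (6, 3, true), (4, 5, true), (4, 0, true), (7, 28, true), (6, 30, true), (5, 30, true), (4, 31, true), (3, 32, true), (2, 33, true), (1, 33, true), (4, 15, true), (3, 17, true), (5, 3, true), (7, 10, true), (6, 10, true), (5, 12, true), (4, 12, true), (8, 3, true), (7, 3, true), (5, 5, true), (5, 0, true), (8, 15, true), (7, 17, true), (6, 17, true), (5, 18, true), (4, 19, true), (2, 20, true), (3, 8, true), (4, 5, true), (4, 3, true), (5, 3, true), (7, 15, true), (6, 15, true), (5, 17, true), (4,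 17, true), (3, 18, true), (2, 19, true), (4, 8, true), (5, 5, true), (5, 3, true), (6, 3, true), (7, 0, true), (5, 5, true)], [(1, 19, true), (0, 60, true), (8, 59, true), (16, 57, true), (7, 28, true), (6, 30, true), (5, 30, true), (4, 33, true), (3, 33, true), (1, 35, true), (3, 15, true), (2, 17, true), (4, 3, true), (6, 3, true), (5, 3, true), (3, 5, true), (4, 3, true), (3, 3, true), (4, 0, true), (3, 30, true), (2, 33, true), (1, 33, true), (4, 15, true), (3, 17, true), (5, 3, true), (7, 3, true), (6, 3, true), (4, 5, true), (5, 15, true), (4, 15, true), (2, 20, true), (3, 15, true), (2, 15, true), (4, 10, true), (3, 10, true), (5, 6, true), (4, 6, true), (6, 3, true), (5, 3, true), (7, 3, true), (6, 3, true), (8, 3, true), (7, 3, true), (5, 5, true), (6, 3, true), (5, 3, true), (6, 0, true)]),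
    ([10, 1, 7], [(0, 56, true), (7, 61, true), (6, 36, true), (5, 37, true), (4, 37, true), (3, 38, true), (2, 38, true), (1, 39, true), (0, 39, true), (4, 6, true), (3, 8, true), (2, 8, true), (5, 3, true), (3, 5, true), (3, 3, true), (5, 3, true), (4, 3, true), (6, 3, true), (5, 3, true), (3, 5, true), (4, 1, true), (3, 1, true), (5, 1, true), (4, 1, true), (5, 0, true), (4, 37, true), (3, 37, true), (2, 39, true), (1, 39, true), (5, 6, true), (4, 8, true), (3, 8, true), (6, 3, true), (4, 5, true), (4, 3, true), (6, 1, true), (5, 1, true), (7, 1, true), (6, 1, true), (8, 15, true), (7, 15, true), (6, 16, true), (5, 16, true), (4, 17, true), (3, 18, true), (2, 18, true), (6, 6, true), (5, 8, true), (4, 8, true), (7, 3, true), (5, 5, true), (5, 3, true), (7, 3, true), (6, 3, true), (8, 3, true), (7, 3, true), (5, 5, true), (6, 1, true), (5, 1, true), (6, 0, true), (6, 3, true), (5, 4, true), (7, 1, true), (8, 0, true), (9, 15, true), (8, 15, true), (7, 16, true), (6, 16, true), (5, 17, true), (4, 18, true), (3, 18, true), (7, 6, true),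 (6, 8, true), (5, 8, true), (8, 3, true), (6, 5, true), (6, 3, true), (8, 3, true), (7, 3, true), (9, 3, true), (8, 3, true), (6, 5, true), (7, 1, true), (6, 1, true), (7, 0, true), (7, 3, true), (6, 4, true), (8, 1, true), (9, 0, true), (10, 3, true), (9, 3, true), (8, 4, true), (7, 4, true), (11, 3, true), (10, 3, true), (9, 4, true), (8, 4, true), (6, 5, true), (8, 0, true)], [(1, 29, true), (0, 61, true), (7, 57, true), (11, 56, true), (18, 55, true), (19, 55, true), (6, 3, true), (4, 5, true), (4, 3, true), (5, 0, true), (4, 8, true), (5, 8, true), (6, 5, true), (8, 0, true)]),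
    ([10, 7, 8], [(0, 61, true), (7, 62, true), (6, 28, true), (5, 30, true), (4, 30, true), (3, 33, true), (2, 33, true), (5, 15, true), (4, 17, true), (6, 3, true), (8, 3, true), (7, 3, true), (5, 5, true), (6, 3, true), (5, 3, true), (6, 0, true), (5, 30, true), (4, 33, true), (3, 33, true), (6, 15, true), (5, 17, true), (7, 3, true), (9, 3, true), (8, 3, true), (6, 5, true), (7, 10, true), (6, 10, true), (8, 6, true), (7, 6, true), (9, 3, true), (8, 3, true), (10, 1, true), (9, 1, true), (11, 1, true), (10, 1, true), (11, 0, true)], [(1, 43, true), (0, 62, true), (8, 61, true), (7, 36, true), (6, 37, true), (5, 37, true), (4, 38, true), (3, 39, true), (2, 40, true), (1, 43, true), (0, 43, true), (6, 6, true), (5, 6, true), (4, 8, true), (7, 3, true), (6, 3, true), (8, 3, true), (7, 3, true), (5, 5, true), (5, 0, true), (8, 36, true), (7, 37, true), (6, 37, true), (5, 38, true), (4, 39, true), (3, 40, true), (2, 43, true), (1, 43, true), (7, 6, true), (6, 6, true), (5, 8, true), (8, 3, true), (7, 3, true), (9, 3, true), (8, 3, true),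 (6, 5, true), (6, 0, true), (9, 15, true), (8, 16, true), (7, 16, true), (6, 17, true), (5, 18, true), (4, 19, true), (6, 8, true), (7, 5, true), (7, 3, true), (8, 3, true), (9, 1, true), (10, 0, true), (9, 4, true), (7, 5, true), (9, 0, true), (8, 16, true), (7, 16, true), (6, 18, true), (5, 19, true), (7, 8, true), (8, 5, true), (8, 3, true), (9, 1, true), (10, 0, true), (9, 4, true), (13, 3, true), (12, 3, true), (11, 4, true), (10, 4, true), (8, 5, true), (11, 3, true), (10, 3, true), (9, 4, true), (8, 4, true), (11, 0, true)]),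
    ([11, 2, 2, 2], [(0, 64, true), (4, 64, true), (8, 64, true), (3, 23, true), (2, 24, true), (0, 27, true), (1, 23, true), (0, 24, true), (2, 8, true), (4, 23, true), (3, 23, true), (2, 24, true), (1, 24, true), (5, 23, true), (4, 23, true), (3, 24, true), (2, 24, true), (0, 27, true), (3, 8, true), (2, 8, true), (0, 9, true), (0, 5, true)], [(1, 5, true)]),
    ([11, 2, 3], [(0, 64, true), (4, 65, true), (3, 23, true), (2, 24, true), (0, 27, true)], [(1, 8, true), (0, 65, true), (1, 64, true), (0, 27, true)]),
    ([12, 1, 3], [(0, 70, true), (7, 72, true), (6, 16, true), (5, 16, true), (4, 17, true), (3, 18, true), (2, 18, true), (1, 19, true), (3, 8, true), (4, 5, true), (4, 6, true), (5, 3, true), (6, 3, true), (8, 3, true), (7, 3, true), (5, 5, true), (6, 3, true), (5, 3, true), (7, 1, true), (6, 1, true), (7, 0, true), (7, 3, true), (6, 4, true), (8, 1, true), (9, 0, true), (8, 7, true), (7, 7, true), (6, 8, true), (5, 8, true), (3, 9, true), (3, 5, true), (5, 3, true), (4, 4, true), (6, 3, true), (5, 4, true), (3, 5, true),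 (4, 1, true), (6, 3, true), (5, 3, true), (4, 4, true), (3, 4, true), (7, 1, true), (6, 1, true), (4, 2, true), (4, 0, true)], [(1, 7, true), (0, 72, true), (6, 71, true), (9, 71, true), (12, 70, true), (19, 69, true), (5, 3, true), (4, 3, true), (3, 4, true), (6, 3, true), (5, 3, true), (4, 4, true), (2, 5, true), (3, 0, true), (2, 4, true), (3, 4, true), (5, 15, true), (4, 16, true), (3, 17, true), (2, 17, true), (1, 18, true), (5, 3, true), (3, 5, true), (3, 3, true), (4, 3, true), (5, 1, true), (6, 0, true), (6, 10, true), (5, 11, true), (4, 12, true), (3, 12, true), (2, 13, true), (6, 3, true), (4, 5, true), (4, 3, true), (5, 3, true), (6, 1, true), (7, 0, true), (7, 6, true), (6, 7, true), (5, 8, true), (4, 8, true), (5, 5, true), (8, 6, true), (7, 6, true), (6, 7, true), (5, 8, true), (3, 9, true), (3, 5, true), (4, 0, true), (3, 4, true), (4, 2, true)]),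
    ([12, 4, 5], [(0, 73, true), (5, 74, true), (4, 15, true), (3, 18, true), (2, 19, true), (1, 19, true), (3, 12, true), (5, 8, true), (4, 8, true), (5, 5, true), (7, 10, true), (6, 10, true), (5, 12, true), (4, 13, true), (2, 14, true), (5, 3, true), (3, 5, true), (3, 0, true), (2, 13, true), (6, 6, true), (5, 8, true), (4, 8, true), (7, 3, true), (5, 5, true), (5, 3, true), (6, 1, true), (7, 1, true)], [(1, 19, true), (0, 74, true), (8, 73, true), (13, 71, true), (7, 16, true), (6, 16, true), (5, 17, true), (4, 17, true), (3, 18, true), (2, 19, true), (1, 19, true), (3, 12, true), (5, 8, true), (4, 8, true), (5, 5, true), (6, 3, true), (7, 3, true), (5, 5, true), (5, 3, true), (6, 1, true), (7, 0, true), (6, 4, true), (10, 10, true), (9, 10, true), (8, 11, true), (7, 11, true), (6, 12, true), (5, 12, true), (4, 13, true), (2, 14, true), (5, 3, true), (3, 5, true), (3, 3, true), (4, 3, true), (5, 1, true), (6, 0, true), (5, 4, true), (3, 5, true), (5, 0, true), (5, 10, true), (4, 11, true), (3, 11, true), (2, 13, true), (6, 3, true),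 (4, 5, true), (4, 1, true), (5, 0, true), (4, 4, true), (7, 0, true), (6, 7, true), (5, 7, true), (4, 8, true), (5, 5, true), (6, 3, true), (5, 4, true), (7, 3, true), (6, 4, true), (8, 1, true), (9, 0, true), (8, 4, true), (7, 4, true), (5, 5, true), (6, 4, true), (5, 4, true)]),
    ([12, 9, 9, 9], [(0, 77, true), (9, 77, true), (18, 77, true), (8, 46, true), (7, 47, true), (6, 48, true), (5, 48, true), (4, 50, true), (3, 50, true), (2, 52, true), (0, 54, true), (2, 36, true), (1, 36, true), (0, 43, true), (3, 28, true), (2, 28, true), (4, 28, true), (3, 28, true), (1, 35, true), (2, 15, true), (1, 15, true), (3, 15, true), (2, 15, true), (4, 6, true), (3, 6, true), (5, 3, true), (4, 3, true), (6, 1, true), (5, 1, true), (7, 1, true), (6, 1, true), (7, 0, true), (6, 37, true), (5, 37, true), (4, 38, true), (3, 39, true), (2, 41, true), (1, 41, true), (4, 15, true), (3, 15, true), (4, 0, true), (4, 6, true), (5, 3, true), (6, 3, true), (8, 3, true), (7, 3, true), (5, 5, true), (6, 1, true), (5, 1, true), (7, 1, true), (6, 1, true),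 (8, 28, true), (7, 28, true), (6, 29, true), (5, 29, true), (4, 31, true), (3, 33, true), (2, 33, true), (5, 15, true), (4, 17, true), (6, 3, true), (8, 6, true), (7, 6, true), (6, 8, true), (5, 8, true), (9, 3, true), (8, 3, true), (6, 5, true), (7, 1, true), (6, 1, true), (7, 0, true), (7, 3, true), (6, 4, true), (8, 1, true), (9, 0, true), (10, 28, true), (9, 28, true), (8, 29, true), (7, 29, true), (6, 30, true), (5, 31, true), (4, 33, true), (3, 33, true), (6, 15, true), (5, 17, true), (7, 3, true), (9, 6, true), (8, 6, true), (7, 8, true), (6, 8, true), (10, 3, true), (9, 3, true), (7, 5, true), (8, 3, true), (7, 3, true), (9, 1, true), (8, 1, true), (9, 0, true), (9, 3, true), (8, 4, true), (10, 1, true), (11, 0, true), (12, 15, true), (11, 15, true), (10, 16, true), (9, 16, true), (8, 17, true), (7, 17, true), (6, 18, true), (4, 20, true), (7, 3, true), (5, 5, true), (5, 3, true), (6, 3, true), (7, 1, true), (8, 0, true), (7, 4, true), (5, 5, true), (7, 0, true), (7, 15, true), (6, 16, true), (5, 16, true), (4, 18, true), (8,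 3, true), (6, 5, true), (6, 1, true), (7, 0, true), (6, 4, true), (9, 0, true), (8, 7, true), (7, 7, true), (6, 8, true), (7, 5, true), (8, 3, true), (7, 4, true), (9, 3, true), (8, 4, true), (10, 1, true), (12, 3, true), (11, 3, true), (10, 4, true), (9, 4, true), (7, 5, true), (10, 1, true), (9, 1, true), (7, 2, true), (8, 1, true), (7, 1, true), (8, 0, true), (7, 29, true), (6, 31, true), (5, 31, true), (4, 33, true), (2, 35, true), (4, 6, true), (3, 8, true), (5, 6, true), (4, 8, true), (6, 3, true), (7, 1, true), (8, 0, true), (7, 29, true), (6, 30, true), (5, 30, true), (4, 31, true), (3, 31, true), (2, 33, true), (5, 6, true), (4, 8, true), (6, 6, true), (5, 8, true), (7, 3, true), (8, 3, true), (6, 5, true), (6, 3, true), (7, 1, true), (8, 0, true), (7, 16, true), (6, 17, true), (5, 18, true), (4, 18, true), (8, 6, true), (7, 8, true), (6, 8, true), (9, 3, true), (7, 5, true), (7, 3, true), (9, 3, true), (8, 3, true), (10, 3, true), (9, 3, true), (7, 5, true), (8, 1, true), (7, 1, true), (8, 0, true), (8, 15, true), (7, 16,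 true), (6, 18, true), (5, 18, true), (3, 20, true), (6, 6, true), (5, 8, true), (4, 8, true), (7, 3, true), (5, 5, true), (5, 3, true), (7, 3, true), (6, 3, true), (8, 1, true), (7, 1, true), (8, 0, true), (9, 10, true), (8, 10, true), (7, 11, true), (6, 12, true), (5, 12, true), (4, 13, true), (3, 13, true), (7, 6, true), (6, 8, true), (5, 8, true), (8, 3, true), (6, 5, true), (6, 3, true), (8, 3, true), (7, 3, true), (9, 3, true), (8, 3, true), (6, 5, true), (7, 3, true), (6, 3, true), (8, 1, true), (7, 1, true), (8, 0, true), (8, 0, true), (7, 7, true), (6, 8, true), (4, 9, true), (4, 5, true), (5, 6, true), (4, 7, true), (9, 28, true), (8, 28, true), (7, 29, true), (6, 30, true), (5, 30, true), (4, 31, true), (3, 32, true), (6, 6, true), (5, 8, true), (7, 3, true), (8, 3, true), (6, 5, true), (6, 3, true), (7, 1, true), (8, 0, true), (9, 28, true), (8, 28, true), (7, 29, true), (6, 30, true), (5, 31, true), (4, 32, true), (2, 35, true), (4, 6, true), (3, 8, true), (5, 3, true), (6, 3, true), (4, 5, true), (4, 1, true), (5, 0, true),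 (6, 15, true), (5, 15, true), (4, 16, true), (3, 18, true), (2, 19, true), (4, 8, true), (5, 5, true), (5, 3, true), (6, 1, true), (7, 0, true), (8, 15, true), (7, 15, true), (6, 16, true), (5, 17, true), (4, 18, true), (3, 19, true), (5, 8, true), (6, 5, true), (6, 3, true), (7, 3, true), (8, 1, true), (9, 0, true), (10, 10, true), (9, 10, true), (8, 11, true), (7, 12, true), (6, 12, true), (5, 13, true), (9, 3, true), (7, 5, true), (7, 3, true), (8, 3, true), (9, 1, true), (10, 0, true), (11, 6, true), (10, 6, true), (9, 7, true), (8, 8, true), (7, 8, true), (8, 5, true), (10, 0, true), (9, 7, true), (8, 8, true), (6, 9, true), (6, 5, true), (7, 3, true), (6, 4, true), (8, 0, true), (7, 37, true), (6, 38, true), (5, 40, true), (4, 40, true), (3, 41, true), (2, 41, true), (0, 44, true), (2, 15, true), (1, 15, true), (2, 0, true), (2, 10, true), (3, 3, true), (4, 0, true), (3, 12, true), (7, 3, true), (6, 3, true), (4, 5, true), (5, 1, true), (4, 1, true), (6, 36, true), (5, 36, true), (4, 37, true), (3, 40, true), (2, 40, true), (1,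 41, true), (0, 41, true), (3, 15, true), (2, 15, true), (3, 0, true), (3, 10, true), (4, 3, true), (5, 0, true), (4, 12, true), (8, 1, true), (7, 1, true), (8, 0, true), (8, 28, true), (7, 29, true), (6, 30, true), (5, 30, true), (4, 32, true), (3, 32, true), (2, 33, true), (1, 33, true), (4, 15, true), (3, 17, true), (5, 3, true), (7, 10, true), (6, 10, true), (5, 12, true), (4, 12, true), (8, 3, true), (7, 3, true), (5, 5, true), (5, 0, true), (7, 3, true), (8, 3, true), (6, 5, true), (6, 3, true), (7, 1, true), (8, 0, true), (8, 28, true), (7, 29, true), (6, 30, true), (5, 32, true), (4, 32, true), (3, 33, true), (2, 33, true), (5, 15, true), (4, 17, true), (6, 3, true), (8, 10, true), (7, 10, true), (6, 12, true), (5, 12, true), (9, 3, true), (8, 3, true), (6, 5, true), (6, 0, true), (8, 3, true), (9, 3, true), (7, 5, true), (7, 1, true), (8, 0, true), (8, 15, true), (7, 16, true), (6, 19, true), (5, 19, true), (3, 20, true), (4, 12, true), (5, 5, true), (6, 0, true), (5, 16, true), (4, 19, true), (3, 19, true), (5, 12, true), (6,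 5, true), (8, 10, true), (7, 10, true), (6, 11, true), (4, 14, true), (6, 0, true), (6, 10, true), (5, 11, true), (4, 12, true), (8, 0, true), (7, 4, true), (5, 5, true), (5, 46, true), (4, 49, true), (3, 50, true), (2, 52, true), (1, 52, true), (0, 53, true), (6, 28, true), (5, 28, true), (4, 30, true), (3, 30, true), (6, 0, true), (6, 28, true), (5, 30, true), (4, 30, true), (2, 35, true), (4, 0, true), (3, 38, true), (2, 38, true), (4, 30, true), (3, 30, true), (5, 30, true), (4, 30, true), (6, 17, true), (5, 17, true), (7, 17, true), (6, 17, true), (8, 8, true), (7, 8, true), (8, 5, true), (10, 36, true), (9, 37, true), (8, 37, true), (7, 39, true), (6, 41, true), (5, 41, true), (4, 43, true), (3, 43, true), (1, 44, true), (5, 15, true), (4, 15, true), (5, 0, true), (5, 6, true), (6, 3, true), (7, 3, true), (9, 1, true), (8, 1, true), (10, 1, true), (9, 1, true), (10, 0, true), (9, 29, true), (8, 29, true), (7, 30, true), (6, 30, true), (5, 31, true), (4, 33, true), (3, 33, true), (1, 35, true), (3, 15, true), (2, 17, true), (4,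 3, true), (6, 6, true), (5, 6, true), (4, 8, true), (3, 8, true), (7, 3, true), (6, 3, true), (4, 5, true), (5, 3, true), (4, 3, true), (6, 3, true), (5, 3, true), (7, 1, true), (6, 1, true), (7, 0, true), (7, 3, true), (6, 4, true), (4, 5, true), (5, 1, true), (6, 0, true), (5, 29, true), (4, 29, true), (3, 31, true), (2, 33, true), (1, 33, true), (4, 15, true), (3, 17, true), (5, 3, true), (7, 6, true), (6, 6, true), (5, 8, true), (4, 8, true), (8, 3, true), (7, 3, true), (5, 5, true), (6, 1, true), (5, 1, true), (6, 0, true), (6, 3, true), (5, 4, true), (7, 1, true), (8, 0, true), (7, 16, true), (6, 16, true), (5, 17, true), (4, 18, true), (2, 20, true), (5, 3, true), (3, 5, true), (3, 3, true), (4, 1, true), (5, 0, true), (4, 4, true), (8, 15, true), (7, 15, true), (6, 16, true), (5, 16, true), (4, 17, true), (3, 17, true), (2, 18, true), (6, 3, true), (4, 5, true), (4, 3, true), (5, 3, true), (6, 1, true), (7, 0, true), (6, 4, true), (4, 5, true), (6, 0, true), (6, 3, true), (5, 4, true), (4, 4, true), (7, 1, true), (5, 2, true),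 (5, 1, true), (6, 36, true), (5, 37, true), (4, 38, true), (3, 39, true), (2, 41, true), (1, 43, true), (5, 6, true), (4, 6, true), (6, 3, true), (5, 3, true), (7, 3, true), (6, 3, true), (7, 0, true), (5, 5, true), (6, 36, true), (5, 37, true), (4, 39, true), (3, 41, true), (2, 43, true), (6, 6, true), (5, 6, true), (7, 3, true), (6, 3, true), (8, 3, true), (7, 3, true), (8, 0, true), (9, 28, true), (8, 29, true), (7, 30, true), (6, 30, true), (5, 31, true), (4, 33, true), (7, 6, true), (6, 8, true), (8, 3, true), (9, 3, true), (7, 5, true), (7, 3, true), (8, 1, true), (9, 0, true), (9, 28, true), (8, 29, true), (7, 30, true), (6, 31, true), (5, 33, true), (3, 35, true), (5, 6, true), (4, 8, true), (6, 3, true), (7, 3, true), (5, 5, true), (5, 1, true), (6, 0, true), (6, 15, true), (5, 16, true), (4, 18, true), (8, 3, true), (6, 5, true), (6, 1, true), (7, 0, true), (7, 15, true), (6, 16, true), (5, 18, true), (3, 20, true), (6, 3, true), (4, 5, true), (4, 1, true), (5, 0, true), (5, 10, true), (4, 11, true), (3, 13, true), (7, 3,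 true), (5, 5, true), (5, 1, true), (6, 0, true), (6, 10, true), (5, 11, true), (4, 13, true), (8, 3, true), (6, 5, true), (6, 1, true), (7, 0, true), (7, 3, true), (6, 4, true), (8, 28, true), (7, 29, true), (6, 30, true), (5, 31, true), (4, 32, true), (3, 32, true), (6, 10, true), (5, 12, true), (7, 3, true), (9, 6, true), (8, 6, true), (7, 8, true), (6, 8, true), (10, 3, true), (9, 3, true), (7, 5, true), (8, 3, true), (7, 3, true), (9, 1, true), (8, 1, true), (9, 0, true), (10, 15, true), (9, 15, true), (8, 16, true), (7, 17, true), (6, 18, true), (5, 19, true), (4, 19, true), (6, 12, true), (8, 8, true), (7, 8, true), (8, 5, true), (9, 3, true), (10, 3, true), (8, 5, true), (8, 1, true), (9, 0, true), (10, 15, true), (9, 15, true), (8, 16, true), (7, 18, true), (6, 19, true), (5, 19, true), (7, 12, true), (9, 8, true), (8, 8, true), (9, 5, true), (10, 3, true), (11, 1, true), (12, 0, true), (13, 6, true), (12, 6, true), (11, 7, true), (10, 8, true), (9, 8, true), (10, 5, true), (12, 0, true), (11, 7, true), (10, 8, true), (8, 9,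 true), (8, 5, true), (9, 3, true), (8, 4, true), (10, 1, true), (11, 45, true), (10, 46, true), (9, 46, true), (8, 47, true), (7, 49, true), (6, 49, true), (5, 50, true), (4, 50, true), (3, 52, true), (2, 53, true), (1, 53, true), (7, 36, true), (6, 36, true), (5, 38, true), (4, 38, true), (3, 43, true), (8, 28, true), (7, 28, true), (6, 30, true), (5, 30, true), (9, 3, true), (8, 3, true), (6, 5, true), (7, 3, true), (6, 3, true), (7, 0, true), (7, 28, true), (6, 30, true), (4, 35, true), (5, 0, true), (4, 38, true), (2, 44, true), (2, 30, true), (3, 30, true), (4, 17, true), (5, 17, true), (6, 8, true), (11, 36, true), (10, 37, true), (9, 37, true), (8, 38, true), (7, 38, true), (6, 39, true), (5, 41, true), (4, 41, true), (3, 43, true), (2, 43, true), (7, 15, true), (6, 15, true), (7, 0, true), (7, 6, true), (8, 3, true), (9, 3, true), (11, 3, true), (10, 3, true), (8, 5, true), (9, 3, true), (8, 3, true), (10, 1, true), (9, 1, true), (11, 1, true), (10, 1, true), (11, 0, true), (10, 29, true), (9, 29, true), (8, 30, true), (7, 31,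 true), (6, 33, true), (5, 33, true), (3, 35, true), (5, 15, true), (4, 17, true), (6, 3, true), (8, 6, true), (7, 6, true), (6, 8, true), (5, 8, true), (9, 3, true), (8, 3, true), (6, 5, true), (7, 3, true), (6, 3, true), (8, 1, true), (7, 1, true), (8, 0, true), (8, 3, true), (7, 4, true), (9, 1, true), (10, 0, true), (9, 29, true), (8, 29, true), (7, 30, true), (6, 30, true), (5, 31, true), (4, 33, true), (3, 33, true), (6, 15, true), (5, 17, true), (7, 3, true), (9, 6, true), (8, 6, true), (7, 8, true), (6, 8, true), (10, 3, true), (9, 3, true), (7, 5, true), (8, 3, true), (7, 3, true), (9, 3, true), (8, 3, true), (10, 1, true), (9, 1, true), (10, 0, true), (10, 3, true), (9, 4, true), (7, 5, true), (8, 1, true), (9, 0, true), (8, 16, true), (7, 16, true), (6, 18, true), (4, 20, true), (7, 3, true), (5, 5, true), (5, 1, true), (6, 0, true), (5, 4, true), (9, 15, true), (8, 15, true), (7, 16, true), (6, 16, true), (5, 17, true), (4, 18, true), (8, 3, true), (6, 5, true), (6, 3, true), (7, 1, true), (8, 0, true), (7, 4, true), (10,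 0, true), (10, 6, true), (9, 7, true), (8, 7, true), (7, 8, true), (6, 8, true), (7, 5, true), (9, 3, true), (8, 4, true), (10, 3, true), (9, 4, true), (7, 5, true), (8, 1, true), (9, 0, true), (8, 4, true), (7, 4, true), (8, 2, true), (9, 36, true), (8, 37, true), (7, 38, true), (6, 39, true), (5, 39, true), (4, 41, true), (3, 43, true), (7, 6, true), (6, 6, true), (8, 3, true), (7, 3, true), (9, 3, true), (8, 3, true), (9, 0, true), (8, 8, true), (7, 8, true), (8, 5, true), (9, 3, true), (10, 1, true), (12, 28, true), (11, 28, true), (10, 29, true), (9, 30, true), (8, 30, true), (7, 31, true), (6, 31, true), (5, 33, true), (8, 6, true), (7, 8, true), (9, 6, true), (8, 8, true), (10, 3, true), (11, 3, true), (9, 5, true), (9, 3, true), (10, 1, true), (11, 0, true), (12, 28, true), (11, 28, true), (10, 29, true), (9, 30, true), (8, 31, true), (7, 31, true), (6, 33, true), (4, 35, true), (6, 6, true), (5, 8, true), (7, 6, true), (6, 8, true), (8, 3, true), (9, 3, true), (7, 5, true), (7, 1, true), (8, 0, true), (9, 15, true), (8, 15,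 true), (7, 16, true), (6, 18, true), (5, 18, true), (9, 6, true), (8, 8, true), (7, 8, true), (10, 3, true), (8, 5, true), (8, 3, true), (10, 3, true), (9, 3, true), (11, 1, true), (10, 1, true), (11, 0, true), (11, 0, true), (10, 16, true), (9, 17, true), (8, 17, true), (7, 18, true), (6, 18, true), (4, 20, true), (7, 6, true), (6, 8, true), (5, 8, true), (8, 3, true), (6, 5, true), (6, 3, true), (8, 3, true), (7, 3, true), (9, 3, true), (8, 3, true), (6, 5, true), (7, 3, true), (6, 3, true), (8, 1, true), (7, 1, true), (8, 0, true), (8, 3, true), (7, 4, true), (9, 1, true), (10, 1, true), (8, 2, true), (8, 36, true), (7, 38, true), (6, 38, true), (5, 39, true), (4, 39, true), (2, 44, true), (5, 6, true), (4, 8, true), (3, 8, true), (6, 3, true), (4, 5, true), (4, 3, true), (6, 3, true), (5, 3, true), (7, 3, true), (6, 3, true), (4, 5, true), (4, 0, true), (3, 31, true), (2, 31, true), (4, 31, true), (3, 31, true), (5, 18, true), (4, 18, true), (8, 6, true), (7, 8, true), (6, 8, true), (9, 3, true), (7, 5, true), (7, 3, true), (9,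 15, true), (8, 15, true), (7, 17, true), (6, 18, true), (5, 18, true), (9, 6, true), (8, 8, true), (7, 8, true), (10, 3, true), (8, 5, true), (8, 3, true), (10, 3, true), (9, 3, true), (10, 0, true), (10, 3, true), (8, 5, true), (8, 1, true), (9, 1, true), (10, 3, true), (9, 4, true), (8, 4, true), (11, 0, true), (10, 37, true), (9, 37, true), (8, 38, true), (7, 39, true), (6, 39, true), (5, 41, true), (4, 41, true), (3, 43, true), (2, 43, true), (7, 15, true), (6, 15, true), (7, 0, true), (7, 6, true), (8, 3, true), (9, 3, true), (11, 6, true), (10, 6, true), (9, 8, true), (8, 8, true), (12, 3, true), (11, 3, true), (9, 5, true), (10, 3, true), (9, 3, true), (10, 0, true), (12, 37, true), (11, 37, true), (10, 38, true), (9, 38, true), (8, 39, true), (7, 39, true), (6, 41, true), (5, 41, true), (4, 43, true), (3, 43, true), (8, 15, true), (7, 15, true), (8, 0, true), (8, 6, true), (9, 3, true), (10, 3, true), (12, 6, true), (11, 6, true), (10, 8, true), (9, 8, true), (13, 3, true), (12, 3, true), (10, 5, true), (11, 3, true), (10, 3,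 true), (11, 0, true), (10, 5, true), (11, 29, true), (10, 29, true), (9, 31, true), (8, 31, true), (7, 33, true), (6, 33, true), (4, 35, true), (6, 15, true), (5, 17, true), (7, 3, true), (9, 6, true), (8, 6, true), (7, 8, true), (6, 8, true), (10, 6, true), (9, 6, true), (8, 8, true), (7, 8, true), (11, 3, true), (10, 3, true), (8, 5, true), (9, 1, true), (8, 1, true), (9, 0, true), (9, 3, true), (8, 4, true), (10, 1, true), (11, 0, true), (10, 29, true), (9, 29, true), (8, 30, true), (7, 31, true), (6, 31, true), (5, 33, true), (4, 33, true), (7, 15, true), (6, 17, true), (8, 3, true), (10, 6, true), (9, 6, true), (8, 8, true), (7, 8, true), (11, 6, true), (10, 6, true), (9, 8, true), (8, 8, true), (12, 3, true), (11, 3, true), (9, 5, true), (10, 3, true), (9, 3, true), (11, 1, true), (10, 1, true), (11, 0, true), (11, 3, true), (10, 4, true), (12, 1, true), (13, 0, true), (12, 16, true), (11, 16, true), (10, 17, true), (9, 17, true), (8, 18, true), (7, 18, true), (5, 20, true), (8, 6, true), (7, 8, true), (6, 8, true), (9, 3, true),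 (7, 5, true), (7, 3, true), (9, 3, true), (8, 3, true), (10, 3, true), (9, 3, true), (7, 5, true), (8, 3, true), (7, 3, true), (9, 1, true), (8, 1, true), (9, 0, true), (9, 3, true), (8, 4, true), (10, 1, true), (11, 0, true), (10, 16, true), (9, 16, true), (8, 17, true), (7, 17, true), (6, 18, true), (5, 18, true), (9, 6, true), (8, 8, true), (7, 8, true), (10, 3, true), (8, 5, true), (8, 3, true), (10, 3, true), (9, 3, true), (11, 3, true), (10, 3, true), (8, 5, true), (9, 3, true), (8, 3, true), (10, 1, true), (9, 1, true), (10, 0, true), (10, 3, true), (9, 4, true), (11, 1, true), (12, 0, true), (11, 11, true), (10, 11, true), (9, 12, true), (8, 12, true), (7, 13, true), (6, 13, true), (10, 6, true), (9, 8, true), (8, 8, true), (11, 3, true), (9, 5, true), (9, 3, true), (11, 3, true), (10, 3, true), (12, 3, true), (11, 3, true), (9, 5, true), (10, 3, true), (9, 3, true), (11, 1, true), (10, 1, true), (11, 0, true), (11, 3, true), (10, 4, true), (12, 1, true), (13, 0, true), (12, 11, true), (11, 11, true), (10, 12, true), (9, 12,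 true), (8, 13, true), (7, 13, true), (11, 6, true), (10, 8, true), (9, 8, true), (12, 3, true), (10, 5, true), (10, 3, true), (12, 3, true), (11, 3, true), (13, 3, true), (12, 3, true), (10, 5, true), (11, 3, true), (10, 3, true), (12, 1, true), (11, 1, true), (12, 0, true), (12, 3, true), (11, 4, true), (13, 1, true), (14, 0, true), (13, 4, true), (12, 4, true), (10, 5, true), (11, 37, true), (10, 37, true), (9, 39, true), (8, 39, true), (7, 40, true), (6, 40, true), (5, 41, true), (4, 43, true), (2, 44, true), (5, 10, true), (4, 10, true), (6, 3, true), (5, 3, true), (6, 0, true), (6, 10, true), (5, 12, true), (7, 3, true), (8, 0, true), (7, 8, true), (6, 8, true), (7, 5, true), (8, 6, true), (7, 8, true), (9, 3, true), (10, 3, true), (8, 5, true), (9, 1, true), (8, 1, true), (10, 1, true), (9, 1, true), (11, 36, true), (10, 36, true), (9, 37, true), (8, 37, true), (7, 39, true), (6, 39, true), (5, 40, true), (4, 40, true), (3, 41, true), (2, 43, true), (6, 10, true), (5, 10, true), (7, 3, true), (6, 3, true), (7, 0, true), (7, 10,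 true), (6, 12, true), (8, 3, true), (9, 0, true), (8, 8, true), (7, 8, true), (8, 5, true), (9, 6, true), (8, 8, true), (10, 3, true), (11, 3, true), (9, 5, true), (10, 1, true), (9, 1, true), (11, 1, true), (10, 1, true), (11, 0, true), (11, 28, true), (10, 29, true), (9, 29, true), (8, 31, true), (7, 31, true), (6, 32, true), (5, 32, true), (4, 33, true), (7, 10, true), (6, 12, true), (8, 3, true), (10, 10, true), (9, 10, true), (8, 12, true), (7, 12, true), (11, 3, true), (10, 3, true), (8, 5, true), (8, 0, true), (13, 3, true), (12, 3, true), (11, 4, true), (14, 1, true), (13, 1, true), (14, 0, true), (15, 28, true), (14, 28, true), (13, 29, true), (12, 29, true), (11, 30, true), (10, 30, true), (9, 31, true), (8, 31, true), (7, 32, true), (6, 32, true), (5, 33, true), (3, 35, true), (5, 10, true), (4, 12, true), (6, 3, true), (8, 10, true), (7, 10, true), (6, 12, true), (5, 12, true), (9, 3, true), (8, 3, true), (6, 5, true), (6, 0, true), (8, 5, true), (10, 3, true), (9, 3, true), (8, 4, true), (11, 1, true), (10, 1, true), (11,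 0, true), (11, 0, true), (10, 16, true), (9, 16, true), (8, 17, true), (7, 18, true), (6, 18, true), (5, 19, true), (4, 19, true), (6, 12, true), (8, 8, true), (7, 8, true), (8, 5, true), (9, 6, true), (8, 8, true), (10, 3, true), (11, 3, true), (9, 5, true), (10, 3, true), (9, 3, true), (11, 3, true), (10, 3, true), (12, 1, true), (11, 1, true), (12, 0, true), (12, 3, true), (11, 4, true), (9, 5, true), (10, 1, true), (11, 0, true), (10, 16, true), (9, 16, true), (8, 18, true), (7, 18, true), (6, 19, true), (5, 19, true), (3, 20, true), (4, 12, true), (6, 8, true), (5, 8, true), (6, 5, true), (7, 6, true), (6, 8, true), (8, 3, true), (9, 3, true), (7, 5, true), (8, 3, true), (7, 3, true), (9, 1, true), (8, 1, true), (9, 0, true), (9, 3, true), (8, 4, true), (10, 1, true), (11, 0, true), (10, 11, true), (9, 11, true), (8, 12, true), (7, 12, true), (6, 13, true), (5, 13, true), (3, 14, true), (6, 6, true), (5, 8, true), (4, 8, true), (7, 3, true), (5, 5, true), (5, 3, true), (7, 3, true), (6, 3, true), (8, 3, true), (7, 3, true), (5,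 5, true), (6, 3, true), (5, 3, true), (7, 1, true), (6, 1, true), (7, 0, true), (7, 3, true), (6, 4, true), (8, 1, true), (9, 0, true), (8, 11, true), (7, 11, true), (6, 12, true), (5, 12, true), (4, 13, true), (3, 13, true), (7, 6, true), (6, 8, true), (5, 8, true), (8, 3, true), (6, 5, true), (6, 3, true), (8, 3, true), (7, 3, true), (9, 3, true), (8, 3, true), (6, 5, true), (7, 3, true), (6, 3, true), (8, 1, true), (7, 1, true), (8, 0, true), (8, 3, true), (7, 4, true), (9, 1, true), (10, 0, true), (9, 4, true), (8, 4, true), (6, 5, true), (8, 45, true), (7, 46, true), (6, 46, true), (5, 48, true), (4, 48, true), (3, 49, true), (2, 53, true), (0, 54, true), (5, 36, true), (4, 36, true), (3, 38, true), (2, 38, true), (1, 43, true), (6, 28, true), (5, 28, true), (4, 30, true), (3, 30, true), (7, 28, true), (6, 28, true), (5, 30, true), (4, 30, true), (2, 35, true), (5, 15, true), (4, 15, true), (3, 17, true), (2, 17, true), (6, 15, true), (5, 15, true), (4, 17, true), (3, 17, true), (7, 3, true), (6, 3, true), (4, 5, true), (5, 1,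 true), (4, 1, true), (6, 1, true), (5, 1, true), (7, 28, true), (6, 28, true), (5, 29, true), (4, 29, true), (3, 33, true), (2, 33, true), (5, 15, true), (4, 17, true), (6, 3, true), (8, 3, true), (7, 3, true), (5, 5, true), (6, 1, true), (5, 1, true), (6, 0, true), (6, 3, true), (5, 4, true), (7, 1, true), (8, 0, true), (9, 28, true), (8, 28, true), (7, 29, true), (6, 29, true), (5, 30, true), (4, 33, true), (3, 33, true), (6, 15, true), (5, 17, true), (7, 3, true), (9, 3, true), (8, 3, true), (6, 5, true), (7, 3, true), (6, 3, true), (8, 1, true), (7, 1, true), (8, 0, true), (8, 3, true), (7, 4, true), (9, 1, true), (10, 0, true), (11, 15, true), (10, 15, true), (9, 16, true), (8, 16, true), (7, 17, true), (6, 17, true), (4, 20, true), (4, 5, true), (6, 3, true), (5, 3, true), (4, 4, true), (7, 1, true), (6, 1, true), (7, 0, true), (7, 0, true), (6, 16, true), (5, 16, true), (4, 17, true), (9, 3, true), (8, 3, true), (7, 4, true), (5, 5, true), (7, 1, true), (6, 1, true), (7, 0, true), (7, 10, true), (6, 11, true), (5, 11, true),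 (9, 3, true), (8, 3, true), (7, 4, true), (10, 1, true), (9, 1, true), (10, 0, true), (11, 6, true), (10, 6, true), (9, 7, true), (8, 7, true), (7, 8, true), (6, 8, true), (7, 5, true), (9, 3, true), (8, 4, true), (10, 3, true), (9, 4, true), (7, 5, true), (8, 1, true), (9, 0, true), (9, 6, true), (8, 7, true), (7, 7, true), (11, 3, true), (10, 4, true), (8, 5, true), (9, 3, true), (8, 4, true), (10, 1, true), (11, 0, true), (10, 29, true), (9, 29, true), (8, 30, true), (7, 31, true), (6, 31, true), (5, 32, true), (4, 33, true), (2, 35, true), (4, 10, true), (3, 12, true), (5, 3, true), (7, 6, true), (6, 6, true), (5, 8, true), (4, 8, true), (8, 6, true), (7, 6, true), (6, 8, true), (5, 8, true), (9, 3, true), (8, 3, true), (6, 5, true), (7, 3, true), (6, 3, true), (8, 1, true), (7, 1, true), (8, 0, true), (8, 3, true), (7, 4, true), (9, 1, true), (10, 0, true), (9, 29, true), (8, 29, true), (7, 30, true), (6, 30, true), (5, 31, true), (4, 31, true), (3, 32, true), (2, 33, true), (5, 10, true), (4, 12, true), (6, 3, true), (8, 6, true),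 (7, 6, true), (6, 8, true), (5, 8, true), (9, 6, true), (8, 6, true), (7, 8, true), (6, 8, true), (10, 3, true), (9, 3, true), (7, 5, true), (8, 3, true), (7, 3, true), (9, 3, true), (8, 3, true), (10, 1, true), (9, 1, true), (10, 0, true), (10, 3, true), (9, 4, true), (7, 5, true), (8, 1, true), (9, 0, true), (8, 16, true), (7, 16, true), (6, 18, true), (5, 18, true), (4, 19, true), (6, 8, true), (7, 5, true), (7, 6, true), (8, 3, true), (9, 3, true), (11, 3, true), (10, 3, true), (8, 5, true), (9, 1, true), (8, 1, true), (9, 0, true), (9, 3, true), (8, 4, true), (10, 1, true), (11, 0, true), (10, 16, true), (9, 16, true), (8, 17, true), (7, 18, true), (6, 18, true), (5, 19, true), (3, 20, true), (4, 8, true), (5, 5, true), (5, 6, true), (6, 3, true), (7, 3, true), (9, 3, true), (8, 3, true), (6, 5, true), (7, 3, true), (6, 3, true), (8, 1, true), (7, 1, true), (8, 0, true), (8, 3, true), (7, 4, true), (9, 1, true), (10, 0, true), (9, 11, true), (8, 11, true), (7, 12, true), (6, 12, true), (5, 13, true), (4, 13, true), (8, 6, true),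 (7, 8, true), (6, 8, true), (9, 3, true), (7, 5, true), (7, 3, true), (9, 3, true), (8, 3, true), (10, 3, true), (9, 3, true), (7, 5, true), (8, 3, true), (7, 3, true), (9, 1, true), (8, 1, true), (9, 0, true), (9, 3, true), (8, 4, true), (10, 1, true), (11, 0, true), (10, 7, true), (9, 7, true), (8, 8, true), (7, 8, true), (5, 9, true), (5, 5, true), (7, 3, true), (6, 4, true), (8, 3, true), (7, 4, true), (5, 5, true), (6, 1, true), (8, 6, true), (7, 6, true), (6, 7, true), (5, 7, true), (9, 3, true), (8, 4, true), (6, 5, true), (7, 3, true), (6, 4, true), (8, 1, true), (9, 0, true), (9, 36, true), (8, 37, true), (7, 37, true), (6, 38, true), (5, 39, true), (4, 40, true), (3, 40, true), (2, 43, true), (0, 44, true), (4, 10, true), (3, 10, true), (2, 12, true), (5, 3, true), (4, 3, true), (5, 0, true), (5, 6, true), (4, 8, true), (3, 8, true), (6, 3, true), (4, 5, true), (4, 3, true), (6, 3, true), (5, 3, true), (7, 1, true), (6, 1, true), (8, 1, true), (7, 1, true), (8, 0, true), (7, 37, true), (6, 37, true), (5, 38, true), (4, 38,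 true), (3, 39, true), (2, 40, true), (1, 40, true), (0, 43, true), (5, 10, true), (4, 10, true), (3, 12, true), (6, 3, true), (5, 3, true), (6, 0, true), (6, 6, true), (5, 8, true), (4, 8, true), (7, 3, true), (5, 5, true), (5, 3, true), (7, 3, true), (6, 3, true), (8, 3, true), (7, 3, true), (5, 5, true), (6, 1, true), (5, 1, true), (7, 1, true), (6, 1, true), (8, 28, true), (7, 28, true), (6, 29, true), (5, 29, true), (4, 31, true), (3, 32, true), (2, 32, true), (5, 10, true), (4, 12, true), (6, 3, true), (8, 6, true), (7, 6, true), (6, 8, true), (5, 8, true), (9, 3, true), (8, 3, true), (6, 5, true), (7, 1, true), (6, 1, true), (7, 0, true), (7, 3, true), (6, 4, true), (8, 1, true), (9, 0, true), (10, 28, true), (9, 28, true), (8, 29, true), (7, 29, true), (6, 30, true), (5, 31, true), (4, 32, true), (3, 32, true), (1, 35, true), (3, 10, true), (2, 12, true), (4, 3, true), (6, 6, true), (5, 6, true), (4, 8, true), (3, 8, true), (7, 3, true), (6, 3, true), (4, 5, true), (5, 3, true), (4, 3, true), (6, 1, true), (5, 1, true), (6, 0,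 true), (6, 3, true), (5, 4, true), (7, 1, true), (8, 0, true), (9, 15, true), (8, 15, true), (7, 16, true), (6, 16, true), (5, 17, true), (4, 17, true), (3, 18, true), (2, 19, true), (1, 19, true), (3, 12, true), (5, 8, true), (4, 8, true), (5, 5, true), (6, 3, true), (7, 3, true), (5, 5, true), (5, 3, true), (6, 1, true), (7, 0, true), (6, 4, true), (9, 0, true), (9, 15, true), (8, 16, true), (7, 16, true), (6, 17, true), (5, 17, true), (4, 18, true), (3, 19, true), (2, 19, true), (4, 12, true), (6, 8, true), (5, 8, true), (6, 5, true), (7, 3, true), (8, 3, true), (6, 5, true), (6, 3, true), (7, 1, true), (8, 0, true), (7, 4, true), (10, 0, true), (9, 11, true), (8, 11, true), (7, 12, true), (6, 12, true), (5, 13, true), (3, 14, true), (6, 3, true), (4, 5, true), (4, 3, true), (5, 3, true), (6, 1, true), (7, 0, true), (6, 4, true), (4, 5, true), (7, 10, true), (6, 10, true), (5, 11, true), (4, 11, true), (3, 13, true), (7, 3, true), (5, 5, true), (5, 1, true), (6, 0, true), (5, 4, true), (8, 0, true), (8, 3, true), (7, 4, true), (6,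 4, true), (9, 36, true), (8, 37, true), (7, 37, true), (6, 38, true), (5, 38, true), (4, 39, true), (3, 40, true), (2, 41, true), (1, 41, true), (4, 15, true), (3, 15, true), (4, 0, true), (4, 10, true), (5, 3, true), (6, 0, true), (5, 8, true), (6, 5, true), (6, 3, true), (7, 3, true), (8, 1, true), (9, 1, true), (11, 36, true), (10, 36, true), (9, 37, true), (8, 37, true), (7, 38, true), (6, 38, true), (5, 39, true), (4, 40, true), (3, 41, true), (2, 41, true), (0, 44, true), (2, 15, true), (1, 15, true), (2, 0, true), (2, 10, true), (3, 3, true), (4, 0, true), (3, 8, true), (4, 5, true), (4, 3, true), (5, 3, true), (6, 1, true), (7, 1, true), (8, 0, true), (7, 29, true), (6, 29, true), (5, 30, true), (4, 30, true), (3, 31, true), (2, 32, true), (1, 33, true), (0, 33, true), (3, 15, true), (2, 17, true), (4, 3, true), (6, 10, true), (5, 10, true), (4, 12, true), (3, 12, true), (7, 3, true), (6, 3, true), (4, 5, true), (4, 0, true), (5, 5, true), (7, 3, true), (6, 3, true), (5, 4, true), (8, 1, true), (7, 1, true), (8, 0, true), (8,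 28, true), (7, 29, true), (6, 29, true), (5, 30, true), (4, 31, true), (3, 32, true), (2, 33, true), (1, 33, true), (4, 15, true), (3, 17, true), (5, 3, true), (7, 10, true), (6, 10, true), (5, 12, true), (4, 12, true), (8, 3, true), (7, 3, true), (5, 5, true), (5, 0, true), (10, 3, true), (9, 3, true), (8, 4, true), (6, 5, true), (8, 1, true), (7, 1, true), (8, 0, true), (9, 15, true), (8, 15, true), (7, 16, true), (6, 16, true), (5, 18, true), (4, 19, true), (2, 20, true), (3, 8, true), (4, 5, true), (4, 3, true), (5, 1, true), (6, 0, true), (5, 4, true), (8, 0, true), (8, 15, true), (7, 16, true), (6, 16, true), (5, 17, true), (4, 17, true), (3, 18, true), (2, 19, true), (4, 8, true), (5, 5, true), (5, 3, true), (6, 3, true), (7, 3, true), (5, 5, true), (5, 1, true), (6, 0, true), (5, 4, true), (8, 0, true), (7, 11, true), (6, 11, true), (5, 12, true), (4, 13, true), (8, 3, true), (6, 5, true), (6, 3, true), (7, 1, true), (8, 0, true), (7, 4, true), (11, 10, true), (10, 10, true), (9, 11, true), (8, 11, true), (7, 12, true), (6,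 12, true), (5, 13, true), (3, 14, true), (6, 3, true), (4, 5, true), (4, 3, true), (5, 3, true), (6, 1, true), (7, 0, true), (6, 4, true), (4, 5, true), (6, 0, true), (6, 3, true), (5, 4, true), (4, 4, true), (8, 28, true), (7, 28, true), (6, 29, true), (5, 29, true), (4, 30, true), (3, 31, true), (2, 33, true), (0, 35, true), (2, 6, true), (1, 8, true), (3, 3, true), (4, 3, true), (2, 5, true), (2, 1, true), (3, 0, true), (2, 4, true), (5, 0, true), (5, 15, true), (4, 16, true), (3, 16, true), (2, 17, true), (1, 18, true), (5, 3, true), (3, 5, true), (3, 3, true), (4, 1, true), (5, 0, true), (4, 4, true), (7, 0, true), (6, 16, true), (5, 16, true), (4, 17, true), (3, 17, true), (2, 18, true), (0, 20, true), (3, 3, true), (1, 5, true), (1, 3, true), (2, 3, true), (3, 1, true), (4, 0, true), (3, 4, true), (1, 5, true), (4, 6, true), (3, 6, true), (2, 7, true), (1, 7, true), (5, 3, true), (4, 4, true), (2, 5, true), (3, 3, true), (2, 4, true), (4, 1, true), (5, 0, true), (5, 6, true), (4, 7, true), (3, 7, true), (2, 8, true), (0, 9, true),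 (0, 5, true), (1, 3, true), (0, 4, true), (2, 3, true), (1, 4, true), (3, 1, true), (4, 0, true), (3, 4, true), (2, 4, true), (0, 5, true), (0, 2, true)], [(1, 54, true)]),
    ([12, 1, 9], [(0, 70, true), (7, 77, true), (6, 46, true), (5, 46, true), (4, 47, true), (3, 48, true), (2, 48, true), (1, 49, true), (0, 50, true), (10, 36, true), (9, 37, true), (8, 37, true), (7, 38, true), (6, 39, true), (5, 41, true), (4, 41, true), (3, 43, true), (2, 43, true), (7, 15, true), (6, 15, true), (7, 0, true), (7, 6, true), (8, 3, true), (9, 3, true), (11, 3, true), (10, 3, true), (8, 5, true), (9, 1, true), (8, 1, true), (10, 1, true), (9, 1, true), (10, 0, true), (9, 29, true), (8, 29, true), (7, 31, true), (6, 33, true), (5, 33, true), (3, 35, true), (5, 15, true), (4, 17, true), (6, 3, true), (8, 6, true), (7, 6, true), (6, 8, true), (5, 8, true), (9, 3, true), (8, 3, true), (6, 5, true), (7, 1, true), (6, 1, true), (7, 0, true), (7, 3, true), (6, 4, true), (8, 1, true), (9, 0, true), (8, 29, true), (7, 29, true), (6, 30, true), (5, 31, true),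 (4, 33, true), (3, 33, true), (6, 15, true), (5, 17, true), (7, 3, true), (9, 6, true), (8, 6, true), (7, 8, true), (6, 8, true), (10, 3, true), (9, 3, true), (7, 5, true), (8, 3, true), (7, 3, true), (9, 1, true), (8, 1, true), (9, 0, true), (9, 3, true), (8, 4, true), (10, 1, true), (11, 0, true), (10, 16, true), (9, 16, true), (8, 17, true), (7, 17, true), (6, 18, true), (4, 20, true), (7, 3, true), (5, 5, true), (5, 3, true), (6, 3, true), (7, 1, true), (8, 0, true), (7, 4, true), (5, 5, true), (8, 15, true), (7, 15, true), (6, 16, true), (5, 16, true), (4, 18, true), (8, 3, true), (6, 5, true), (6, 1, true), (7, 0, true), (6, 4, true), (9, 0, true), (9, 3, true), (8, 4, true), (7, 4, true), (10, 1, true), (8, 2, true), (8, 1, true), (9, 28, true), (8, 29, true), (7, 30, true), (6, 30, true), (5, 31, true), (4, 33, true), (7, 6, true), (6, 8, true), (8, 3, true), (9, 3, true), (7, 5, true), (7, 3, true), (8, 1, true), (9, 0, true), (9, 28, true), (8, 29, true), (7, 30, true), (6, 31, true), (5, 33, true), (3, 35, true), (5, 6, true),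 (4, 8, true), (6, 3, true), (7, 3, true), (5, 5, true), (5, 1, true), (6, 0, true), (6, 15, true), (5, 16, true), (4, 18, true), (8, 3, true), (6, 5, true), (6, 1, true), (7, 0, true), (7, 15, true), (6, 16, true), (5, 18, true), (3, 20, true), (6, 3, true), (4, 5, true), (4, 1, true), (5, 0, true), (5, 10, true), (4, 11, true), (3, 13, true), (7, 3, true), (5, 5, true), (5, 1, true), (6, 0, true), (6, 6, true), (5, 7, true), (10, 6, true), (9, 6, true), (8, 7, true), (7, 8, true), (6, 8, true), (4, 9, true), (4, 5, true), (6, 0, true), (5, 29, true), (4, 30, true), (3, 32, true), (6, 3, true), (7, 3, true), (5, 5, true), (5, 1, true), (6, 0, true), (5, 29, true), (4, 32, true), (7, 3, true), (8, 1, true), (9, 0, true), (8, 16, true), (7, 17, true), (6, 17, true), (5, 19, true), (7, 5, true), (10, 15, true), (9, 15, true), (8, 16, true), (7, 17, true), (6, 19, true), (8, 5, true), (9, 0, true), (9, 10, true), (8, 11, true), (11, 0, true), (10, 7, true), (9, 8, true), (10, 5, true), (11, 6, true), (10, 7, true), (15, 3, true), (14, 3,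 true), (13, 4, true), (11, 5, true), (12, 0, true), (12, 36, true), (11, 37, true), (10, 39, true), (9, 39, true), (8, 40, true), (7, 40, true), (6, 41, true), (5, 41, true), (4, 43, true), (3, 43, true), (1, 44, true), (5, 15, true), (4, 15, true), (5, 0, true), (5, 10, true), (6, 3, true), (7, 0, true), (6, 12, true), (10, 6, true), (9, 6, true), (8, 8, true), (7, 8, true), (11, 3, true), (10, 3, true), (8, 5, true), (9, 3, true), (8, 3, true), (9, 0, true), (8, 8, true), (9, 5, true), (9, 1, true), (11, 36, true), (10, 36, true), (9, 37, true), (8, 39, true), (7, 39, true), (6, 40, true), (5, 40, true), (4, 41, true), (3, 41, true), (2, 43, true), (1, 43, true), (6, 15, true), (5, 15, true), (6, 0, true), (6, 10, true), (7, 3, true), (8, 0, true), (7, 12, true), (11, 6, true), (10, 6, true), (9, 8, true), (8, 8, true), (12, 3, true), (11, 3, true), (9, 5, true), (10, 3, true), (9, 3, true), (10, 0, true), (9, 8, true), (10, 5, true), (10, 1, true), (11, 0, true), (10, 29, true), (9, 31, true), (8, 31, true), (7, 32, true), (6, 32,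 true), (5, 33, true), (4, 33, true), (2, 35, true), (4, 15, true), (3, 17, true), (5, 3, true), (7, 10, true), (6, 10, true), (5, 12, true), (4, 12, true), (8, 3, true), (7, 3, true), (5, 5, true), (5, 0, true), (7, 6, true), (6, 8, true), (8, 6, true), (7, 8, true), (9, 3, true), (10, 1, true), (11, 0, true), (10, 29, true), (9, 30, true), (8, 30, true), (7, 31, true), (6, 31, true), (5, 32, true), (4, 32, true), (3, 33, true), (2, 33, true), (5, 15, true), (4, 17, true), (6, 3, true), (8, 10, true), (7, 10, true), (6, 12, true), (5, 12, true), (9, 3, true), (8, 3, true), (6, 5, true), (6, 0, true), (8, 6, true), (7, 8, true), (9, 6, true), (8, 8, true), (10, 3, true), (11, 3, true), (9, 5, true), (9, 3, true), (10, 1, true), (11, 0, true), (10, 16, true), (9, 17, true), (8, 18, true), (7, 18, true), (6, 19, true), (5, 19, true), (3, 20, true), (4, 12, true), (6, 8, true), (5, 8, true), (6, 5, true), (7, 6, true), (6, 8, true), (8, 3, true), (9, 3, true), (7, 5, true), (8, 3, true), (7, 3, true), (9, 3, true), (8, 3, true), (10, 1,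 true), (9, 1, true), (10, 0, true), (10, 15, true), (9, 16, true), (8, 17, true), (7, 17, true), (6, 18, true), (5, 18, true), (4, 19, true), (3, 19, true), (5, 12, true), (7, 8, true), (6, 8, true), (7, 5, true), (8, 6, true), (7, 8, true), (9, 3, true), (10, 3, true), (8, 5, true), (9, 3, true), (8, 3, true), (10, 3, true), (9, 3, true), (11, 3, true), (10, 3, true), (8, 5, true), (9, 1, true), (8, 1, true), (9, 0, true), (10, 10, true), (9, 10, true), (8, 11, true), (7, 13, true), (6, 13, true), (4, 14, true), (7, 6, true), (6, 8, true), (5, 8, true), (8, 3, true), (6, 5, true), (6, 3, true), (8, 3, true), (7, 3, true), (9, 1, true), (8, 1, true), (9, 0, true), (9, 0, true), (8, 11, true), (7, 12, true), (6, 12, true), (5, 13, true), (4, 13, true), (8, 6, true), (7, 8, true), (6, 8, true), (9, 3, true), (7, 5, true), (7, 3, true), (9, 3, true), (8, 3, true), (10, 3, true), (9, 3, true), (7, 5, true), (8, 3, true), (7, 3, true), (9, 1, true), (8, 1, true), (9, 0, true), (9, 3, true), (8, 4, true), (10, 36, true), (9, 37, true), (8,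 38, true), (7, 38, true), (6, 39, true), (5, 39, true), (4, 40, true), (3, 41, true), (2, 43, true), (6, 10, true), (5, 10, true), (7, 3, true), (6, 3, true), (7, 0, true), (7, 6, true), (6, 8, true), (8, 3, true), (9, 3, true), (7, 5, true), (8, 6, true), (7, 6, true), (9, 3, true), (8, 3, true), (10, 3, true), (9, 3, true), (10, 0, true), (8, 5, true), (10, 36, true), (9, 37, true), (8, 38, true), (7, 39, true), (6, 39, true), (5, 40, true), (4, 41, true), (3, 43, true), (1, 44, true), (4, 10, true), (3, 10, true), (5, 3, true), (4, 3, true), (5, 0, true), (5, 6, true), (4, 8, true), (6, 3, true), (7, 3, true), (5, 5, true), (6, 6, true), (5, 6, true), (7, 3, true), (6, 3, true), (8, 3, true), (7, 3, true), (8, 0, true), (6, 5, true), (7, 28, true), (6, 29, true), (5, 31, true), (4, 31, true), (3, 32, true), (2, 33, true), (5, 10, true), (4, 12, true), (6, 3, true), (8, 6, true), (7, 6, true), (6, 8, true), (5, 8, true), (9, 6, true), (8, 6, true), (7, 8, true), (6, 8, true), (10, 3, true), (9, 3, true), (7, 5, true), (8, 1, true),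 (7, 1, true), (8, 0, true), (9, 28, true), (8, 28, true), (7, 29, true), (6, 31, true), (5, 31, true), (4, 32, true), (3, 33, true), (1, 35, true), (3, 10, true), (2, 12, true), (4, 3, true), (6, 6, true), (5, 6, true), (4, 8, true), (3, 8, true), (7, 6, true), (6, 6, true), (5, 8, true), (4, 8, true), (8, 3, true), (7, 3, true), (5, 5, true), (6, 1, true), (5, 1, true), (6, 0, true), (6, 0, true), (5, 16, true), (4, 18, true), (3, 18, true), (2, 19, true), (4, 8, true), (5, 5, true), (5, 6, true), (6, 3, true), (7, 3, true), (9, 3, true), (8, 3, true), (6, 5, true), (7, 1, true), (6, 1, true), (7, 0, true), (7, 15, true), (6, 16, true), (5, 18, true), (4, 18, true), (3, 19, true), (1, 20, true), (2, 8, true), (3, 5, true), (3, 6, true), (4, 3, true), (5, 3, true), (7, 3, true), (6, 3, true), (4, 5, true), (5, 1, true), (4, 1, true), (5, 0, true), (6, 10, true), (5, 10, true), (4, 11, true), (3, 13, true), (2, 13, true), (6, 6, true), (5, 8, true), (4, 8, true), (7, 3, true), (5, 5, true), (5, 3, true), (7, 3, true), (6, 3, true), (8,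 1, true), (7, 1, true), (8, 0, true), (8, 0, true), (7, 11, true), (6, 12, true), (5, 12, true), (4, 13, true), (3, 13, true), (1, 14, true), (4, 6, true), (3, 8, true), (2, 8, true), (5, 3, true), (3, 5, true), (3, 3, true), (5, 3, true), (4, 3, true), (6, 3, true), (5, 3, true), (3, 5, true), (4, 3, true), (3, 3, true), (5, 1, true), (4, 1, true), (5, 0, true), (5, 3, true), (4, 4, true), (6, 45, true), (5, 46, true), (4, 47, true), (3, 47, true), (2, 48, true), (1, 48, true), (8, 31, true), (7, 31, true), (6, 32, true), (5, 33, true), (4, 33, true), (2, 35, true), (4, 15, true), (3, 17, true), (5, 3, true), (7, 10, true), (6, 10, true), (5, 12, true), (4, 12, true), (8, 3, true), (7, 3, true), (5, 5, true), (5, 0, true), (6, 31, true), (5, 31, true), (4, 32, true), (3, 33, true), (2, 33, true), (5, 15, true), (4, 17, true), (6, 3, true), (8, 10, true), (7, 10, true), (6, 12, true), (5, 12, true), (9, 3, true), (8, 3, true), (6, 5, true), (6, 0, true), (7, 18, true), (6, 18, true), (5, 19, true), (3, 20, true), (4, 8, true), (5, 5,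 true), (5, 6, true), (6, 3, true), (7, 3, true), (9, 15, true), (8, 15, true), (7, 17, true), (6, 17, true), (5, 18, true), (4, 18, true), (3, 19, true), (5, 8, true), (6, 5, true), (6, 6, true), (7, 3, true), (8, 3, true), (10, 3, true), (9, 3, true), (7, 5, true), (8, 3, true), (7, 3, true), (8, 0, true), (8, 10, true), (7, 12, true), (6, 13, true), (5, 13, true), (9, 6, true), (8, 8, true), (7, 8, true), (10, 3, true), (8, 5, true), (8, 3, true), (10, 3, true), (9, 3, true), (10, 0, true), (9, 8, true), (8, 8, true), (6, 9, true), (7, 8, true), (6, 8, true), (7, 5, true), (8, 3, true), (7, 3, true), (8, 0, true), (8, 36, true), (7, 38, true), (6, 39, true), (5, 40, true), (4, 40, true), (3, 41, true), (2, 43, true), (6, 10, true), (5, 10, true), (7, 3, true), (6, 3, true), (7, 0, true), (7, 10, true), (6, 12, true), (8, 3, true), (9, 0, true), (8, 8, true), (7, 8, true), (8, 5, true), (9, 3, true), (11, 36, true), (10, 36, true), (9, 38, true), (8, 38, true), (7, 39, true), (6, 40, true), (5, 40, true), (4, 41, true), (3, 43, true),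 (7, 10, true), (6, 10, true), (8, 3, true), (7, 3, true), (8, 0, true), (8, 10, true), (7, 12, true), (9, 3, true), (10, 0, true), (9, 8, true), (8, 8, true), (9, 5, true), (10, 3, true), (11, 3, true), (9, 5, true), (9, 0, true), (8, 31, true), (7, 32, true), (6, 32, true), (5, 33, true), (8, 10, true), (7, 12, true), (9, 3, true), (11, 10, true), (10, 10, true), (9, 12, true), (8, 12, true), (12, 3, true), (11, 3, true), (9, 5, true), (9, 0, true), (9, 31, true), (8, 32, true), (7, 32, true), (6, 33, true), (4, 35, true), (6, 10, true), (5, 12, true), (7, 3, true), (9, 10, true), (8, 10, true), (7, 12, true), (6, 12, true), (10, 3, true), (9, 3, true), (7, 5, true), (7, 0, true), (7, 18, true), (6, 19, true), (5, 19, true), (7, 12, true), (9, 8, true), (8, 8, true), (9, 5, true), (10, 15, true), (9, 17, true), (8, 18, true), (7, 19, true), (6, 19, true), (4, 20, true), (5, 12, true), (7, 8, true), (6, 8, true), (7, 5, true), (8, 3, true), (10, 10, true), (9, 10, true), (8, 12, true), (7, 12, true), (6, 13, true), (4, 14, true), (7,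 3, true), (5, 5, true), (5, 3, true), (6, 0, true), (5, 12, true), (4, 13, true), (8, 3, true), (6, 5, true), (6, 3, true), (8, 28, true), (7, 28, true), (6, 30, true), (5, 31, true), (4, 32, true), (7, 6, true), (6, 8, true), (8, 3, true), (9, 0, true), (8, 17, true), (7, 17, true), (6, 18, true), (5, 19, true), (7, 8, true), (8, 5, true), (8, 3, true), (9, 3, true), (10, 15, true), (9, 17, true), (8, 17, true), (7, 18, true), (6, 19, true), (8, 8, true), (9, 5, true), (9, 3, true), (10, 3, true), (12, 6, true), (11, 6, true), (10, 8, true), (9, 8, true), (13, 6, true), (12, 6, true), (11, 8, true), (10, 8, true), (8, 9, true), (11, 3, true), (10, 3, true), (8, 5, true), (9, 1, true), (8, 1, true)], [(1, 46, true), (0, 77, true), (9, 76, true), (18, 76, true), (27, 75, true), (39, 75, true), (51, 74, true), (59, 74, true), (67, 73, true), (72, 73, true), (77, 71, true), (8, 37, true), (7, 38, true), (6, 39, true), (5, 39, true), (4, 41, true), (3, 41, true), (2, 43, true), (6, 15, true), (5, 15, true), (6, 0, true), (6, 6, true), (7,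 3, true), (8, 3, true), (10, 6, true), (9, 6, true), (8, 8, true), (7, 8, true), (11, 3, true), (10, 3, true), (8, 5, true), (9, 3, true), (8, 3, true), (9, 0, true), (10, 37, true), (9, 38, true), (8, 38, true), (7, 39, true), (6, 39, true), (5, 41, true), (4, 41, true), (3, 43, true), (7, 15, true), (6, 15, true), (7, 0, true), (7, 6, true), (8, 3, true), (9, 3, true), (11, 6, true), (10, 6, true), (9, 8, true), (8, 8, true), (12, 3, true), (11, 3, true), (9, 5, true), (10, 3, true), (9, 3, true), (10, 0, true), (9, 5, true), (9, 29, true), (8, 31, true), (7, 31, true), (6, 33, true), (5, 33, true), (8, 15, true), (7, 17, true), (9, 3, true), (11, 6, true), (10, 6, true), (9, 8, true), (8, 8, true), (12, 6, true), (11, 6, true), (10, 8, true), (9, 8, true), (13, 3, true), (12, 3, true), (10, 5, true), (11, 1, true), (10, 1, true), (11, 0, true), (11, 10, true), (10, 11, true), (9, 13, true), (8, 13, true), (12, 6, true), (11, 8, true), (10, 8, true), (13, 3, true), (11, 5, true), (11, 3, true), (13, 3, true), (12, 3, true), (14, 1,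 true), (13, 1, true), (14, 0, true), (15, 10, true), (14, 10, true), (13, 11, true), (12, 12, true), (11, 12, true), (10, 13, true), (9, 13, true), (13, 6, true), (12, 8, true), (11, 8, true), (14, 3, true), (12, 5, true), (12, 3, true), (14, 3, true), (13, 3, true), (15, 3, true), (14, 3, true), (12, 5, true), (13, 3, true), (12, 3, true), (14, 1, true), (13, 1, true), (14, 0, true), (14, 0, true), (13, 7, true), (12, 8, true), (10, 9, true), (10, 5, true), (11, 1, true), (12, 0, true), (11, 37, true), (10, 37, true), (9, 40, true), (8, 40, true), (7, 41, true), (6, 41, true), (5, 43, true), (4, 43, true), (2, 44, true), (6, 15, true), (5, 15, true), (6, 0, true), (6, 10, true), (7, 3, true), (8, 0, true), (7, 12, true), (11, 1, true), (10, 1, true), (12, 1, true), (11, 1, true), (13, 36, true), (12, 36, true), (11, 37, true), (10, 37, true), (9, 38, true), (8, 38, true), (7, 40, true), (6, 40, true), (5, 41, true), (4, 41, true), (3, 43, true), (2, 43, true), (7, 15, true), (6, 15, true), (7, 0, true), (7, 10, true), (8, 3, true),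 (9, 0, true), (8, 12, true), (12, 3, true), (11, 3, true), (9, 5, true), (10, 3, true), (9, 3, true), (11, 1, true), (10, 1, true), (12, 1, true), (11, 1, true), (12, 0, true), (12, 28, true), (11, 29, true), (10, 29, true), (9, 30, true), (8, 32, true), (7, 32, true), (6, 33, true), (5, 33, true), (3, 35, true), (5, 15, true), (4, 17, true), (6, 3, true), (8, 10, true), (7, 10, true), (6, 12, true), (5, 12, true), (9, 3, true), (8, 3, true), (6, 5, true), (6, 0, true), (8, 3, true), (9, 3, true), (7, 5, true), (7, 1, true), (8, 0, true), (7, 4, true), (10, 0, true), (9, 11, true), (8, 11, true), (7, 12, true), (5, 14, true), (9, 3, true), (8, 3, true), (7, 4, true), (5, 5, true), (7, 1, true), (6, 1, true), (7, 0, true), (7, 10, true), (6, 11, true), (5, 11, true), (9, 3, true), (8, 3, true), (7, 4, true), (10, 1, true), (9, 1, true), (10, 0, true), (11, 6, true), (10, 6, true), (9, 7, true), (8, 7, true), (7, 8, true), (6, 8, true), (7, 5, true), (9, 3, true), (8, 4, true), (10, 3, true), (9, 4, true), (7, 5, true), (8, 1, true),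 (9, 0, true), (9, 1, true), (7, 2, true), (7, 0, true), (6, 39, true), (5, 40, true), (4, 41, true), (3, 41, true), (6, 15, true), (5, 15, true), (6, 0, true), (6, 10, true), (7, 3, true), (8, 0, true), (7, 8, true), (8, 5, true), (8, 36, true), (7, 39, true), (6, 40, true), (5, 41, true), (4, 41, true), (2, 44, true), (4, 15, true), (3, 15, true), (4, 0, true), (4, 10, true), (5, 3, true), (6, 0, true), (5, 8, true), (6, 5, true), (7, 28, true), (6, 28, true), (5, 31, true), (4, 32, true), (3, 33, true), (2, 33, true), (5, 15, true), (4, 17, true), (6, 3, true), (8, 10, true), (7, 10, true), (6, 12, true), (5, 12, true), (9, 3, true), (8, 3, true), (6, 5, true), (6, 0, true), (8, 28, true), (7, 28, true), (6, 31, true), (5, 32, true), (4, 33, true), (3, 33, true), (6, 15, true), (5, 17, true), (7, 3, true), (9, 10, true), (8, 10, true), (7, 12, true), (6, 12, true), (10, 3, true), (9, 3, true), (7, 5, true), (7, 0, true), (9, 15, true), (8, 15, true), (7, 18, true), (6, 19, true), (4, 20, true), (5, 8, true), (6, 5, true), (6, 0, true),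 (5, 13, true), (9, 10, true), (8, 12, true), (7, 12, true), (6, 13, true), (4, 14, true), (7, 3, true), (5, 5, true), (5, 3, true), (7, 6, true), (6, 6, true), (5, 8, true), (8, 6, true), (7, 6, true), (6, 8, true), (4, 9, true), (6, 3, true), (5, 3, true), (7, 3, true), (6, 3, true), (4, 5, true), (4, 0, true), (3, 43, true), (2, 43, true), (4, 43, true), (3, 43, true), (4, 35, true), (12, 15, true), (11, 17, true), (10, 17, true), (9, 18, true), (8, 18, true), (7, 19, true), (6, 19, true), (8, 12, true), (10, 8, true), (9, 8, true), (10, 5, true), (11, 6, true), (10, 8, true), (12, 3, true), (13, 3, true), (11, 5, true), (12, 3, true), (11, 3, true), (13, 3, true), (12, 3, true), (13, 0, true), (12, 12, true), (11, 12, true), (10, 13, true), (9, 13, true), (7, 14, true), (10, 6, true), (9, 8, true), (8, 8, true), (11, 3, true), (9, 5, true), (9, 3, true), (11, 3, true), (10, 3, true), (12, 3, true), (11, 3, true), (9, 5, true), (10, 10, true), (9, 10, true), (8, 13, true), (7, 13, true), (11, 6, true), (10, 8, true), (9, 8, true),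 (12, 3, true), (10, 5, true), (10, 3, true), (11, 0, true), (11, 6, true), (10, 8, true), (8, 9, true), (9, 3, true), (10, 3, true), (8, 5, true), (8, 1, true), (9, 1, true), (10, 15, true), (9, 16, true), (8, 16, true), (7, 19, true), (5, 20, true), (10, 3, true), (9, 3, true), (8, 4, true), (6, 5, true), (8, 1, true), (7, 1, true), (8, 0, true), (9, 10, true), (8, 10, true), (7, 11, true), (6, 11, true), (10, 3, true), (9, 3, true), (8, 4, true), (11, 1, true), (10, 1, true), (11, 0, true), (11, 0, true), (10, 11, true), (9, 11, true), (8, 12, true), (7, 12, true), (5, 14, true), (5, 5, true), (7, 3, true), (6, 3, true), (5, 4, true), (8, 1, true), (7, 1, true), (8, 0, true), (8, 6, true), (7, 7, true), (6, 7, true), (5, 8, true), (6, 5, true), (7, 3, true), (6, 4, true), (8, 3, true), (7, 4, true), (9, 1, true), (10, 0, true), (9, 4, true), (8, 4, true), (6, 5, true), (7, 4, true), (6, 4, true), (7, 2, true), (7, 16, true), (6, 17, true), (5, 18, true), (9, 3, true), (7, 5, true), (7, 3, true), (8, 1, true), (9, 0, true), (8, 11,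 true), (7, 12, true), (6, 13, true), (10, 3, true), (8, 5, true), (8, 3, true), (9, 1, true), (10, 0, true), (9, 11, true), (8, 12, true), (7, 13, true), (11, 3, true), (9, 5, true), (9, 3, true), (10, 1, true), (11, 0, true), (10, 7, true), (9, 8, true), (10, 5, true), (12, 15, true), (11, 15, true), (10, 16, true), (9, 18, true), (8, 18, true), (7, 19, true), (6, 19, true), (8, 12, true), (10, 8, true), (9, 8, true), (10, 5, true), (11, 6, true), (10, 8, true), (12, 3, true), (13, 3, true), (11, 5, true), (12, 3, true), (11, 3, true), (13, 1, true), (12, 1, true), (13, 0, true), (13, 0, true), (12, 11, true), (11, 12, true), (10, 13, true), (9, 13, true), (7, 14, true), (10, 6, true), (9, 8, true), (8, 8, true), (11, 3, true), (9, 5, true), (9, 3, true), (11, 3, true), (10, 3, true), (12, 3, true), (11, 3, true), (9, 5, true), (10, 1, true), (9, 1, true), (10, 0, true), (10, 10, true), (9, 11, true), (8, 13, true), (7, 13, true), (11, 6, true), (10, 8, true), (9, 8, true), (12, 3, true), (10, 5, true), (10, 3, true), (12, 3, true),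 (11, 3, true), (13, 1, true), (12, 1, true), (13, 0, true), (14, 6, true), (13, 6, true), (12, 7, true), (11, 8, true), (10, 8, true), (8, 9, true), (8, 5, true), (10, 0, true), (10, 3, true), (9, 4, true), (11, 3, true), (10, 4, true), (8, 5, true)]),
    ([12, 3, 9], [(0, 72, true), (6, 77, true), (5, 45, true), (4, 45, true), (3, 46, true), (2, 47, true), (1, 48, true), (0, 50, true), (10, 28, true), (9, 29, true), (8, 29, true), (7, 30, true), (6, 31, true), (5, 33, true), (4, 33, true), (2, 35, true), (4, 15, true), (3, 17, true), (5, 3, true), (7, 6, true), (6, 6, true), (5, 8, true), (4, 8, true), (8, 3, true), (7, 3, true), (5, 5, true), (6, 3, true), (5, 3, true), (7, 1, true), (6, 1, true), (7, 0, true), (7, 3, true), (6, 4, true), (8, 1, true), (9, 0, true), (9, 28, true), (8, 29, true), (7, 29, true), (6, 30, true), (5, 30, true), (4, 31, true), (3, 33, true), (2, 33, true), (5, 15, true), (4, 17, true), (6, 3, true), (8, 6, true), (7, 6, true), (6, 8, true), (5, 8, true), (9, 3, true), (8, 3, true), (6, 5, true), (7, 3,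 true), (6, 3, true), (8, 3, true), (7, 3, true), (9, 1, true), (8, 1, true), (9, 0, true), (9, 3, true), (8, 4, true), (6, 5, true), (7, 1, true), (8, 0, true), (8, 15, true), (7, 16, true), (6, 16, true), (5, 18, true), (3, 20, true), (6, 3, true), (4, 5, true), (4, 1, true), (5, 0, true), (4, 4, true), (7, 0, true), (6, 16, true), (5, 16, true), (4, 17, true), (3, 18, true), (7, 3, true), (5, 5, true), (5, 3, true), (6, 1, true), (7, 0, true), (6, 4, true), (10, 10, true), (9, 10, true), (8, 11, true), (7, 11, true), (6, 12, true), (5, 12, true), (4, 13, true), (8, 3, true), (6, 5, true), (6, 3, true), (7, 3, true), (8, 1, true), (9, 0, true), (8, 4, true), (6, 5, true), (8, 0, true), (8, 6, true), (7, 7, true), (6, 7, true), (10, 3, true), (9, 4, true), (7, 5, true), (8, 3, true), (7, 4, true), (9, 1, true), (10, 0, true), (9, 7, true), (8, 7, true), (7, 8, true), (5, 9, true), (5, 5, true), (6, 3, true), (5, 4, true), (7, 3, true), (6, 4, true), (8, 1, true), (10, 3, true), (9, 3, true), (8, 4, true), (7, 4, true), (5, 5, true),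 (7, 0, true), (7, 36, true), (6, 37, true), (5, 37, true), (4, 40, true), (3, 41, true), (2, 43, true), (6, 10, true), (5, 10, true), (7, 3, true), (6, 3, true), (7, 0, true), (7, 1, true), (8, 1, true), (10, 36, true), (9, 36, true), (8, 37, true), (7, 37, true), (6, 38, true), (5, 40, true), (4, 41, true), (3, 43, true), (1, 44, true), (4, 10, true), (3, 10, true), (5, 3, true), (4, 3, true), (5, 0, true), (5, 3, true), (6, 1, true), (7, 1, true), (8, 0, true), (7, 29, true), (6, 29, true), (5, 30, true), (4, 30, true), (3, 32, true), (2, 33, true), (5, 10, true), (4, 12, true), (6, 3, true), (8, 3, true), (7, 3, true), (5, 5, true), (6, 3, true), (5, 3, true), (7, 3, true), (6, 3, true), (8, 1, true), (7, 1, true), (8, 0, true), (8, 3, true), (7, 4, true), (5, 5, true), (6, 1, true), (7, 0, true), (6, 29, true), (5, 29, true), (4, 32, true), (3, 33, true), (1, 35, true), (3, 10, true), (2, 12, true), (4, 3, true), (6, 3, true), (5, 3, true), (3, 5, true), (4, 1, true), (3, 1, true), (4, 0, true), (4, 3, true), (3, 4, true), (5, 1,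 true), (6, 0, true), (5, 16, true), (4, 16, true), (3, 17, true), (2, 19, true), (4, 5, true), (6, 3, true), (5, 3, true), (4, 4, true), (7, 1, true), (6, 1, true), (7, 0, true), (7, 15, true), (6, 16, true), (5, 16, true), (4, 17, true), (3, 19, true), (1, 20, true), (2, 5, true), (4, 3, true), (3, 3, true), (2, 4, true), (5, 1, true), (4, 1, true), (5, 0, true), (6, 10, true), (5, 10, true), (4, 11, true), (3, 11, true), (2, 12, true), (7, 3, true), (6, 3, true), (5, 4, true), (3, 5, true), (5, 1, true), (4, 1, true), (5, 0, true), (5, 0, true), (4, 11, true), (3, 11, true), (1, 14, true), (4, 3, true), (3, 3, true), (2, 4, true), (5, 1, true), (4, 1, true), (5, 0, true), (5, 3, true), (4, 4, true), (3, 4, true), (1, 5, true), (3, 0, true), (2, 46, true), (1, 46, true), (10, 38, true), (9, 40, true), (8, 40, true), (7, 41, true), (6, 41, true), (5, 43, true), (4, 43, true), (2, 44, true), (6, 15, true), (5, 15, true), (6, 0, true), (6, 10, true), (7, 3, true), (8, 0, true), (7, 12, true), (11, 3, true), (10, 3, true), (8, 5, true),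 (9, 36, true), (8, 36, true), (7, 40, true), (6, 40, true), (5, 41, true), (4, 41, true), (3, 43, true), (2, 43, true), (7, 15, true), (6, 15, true), (7, 0, true), (7, 10, true), (8, 3, true), (9, 0, true), (8, 12, true), (11, 0, true), (11, 28, true), (10, 30, true), (9, 30, true), (8, 32, true), (7, 32, true), (6, 33, true), (5, 33, true), (3, 35, true), (5, 15, true), (4, 17, true), (6, 3, true), (8, 10, true), (7, 10, true), (6, 12, true), (5, 12, true), (9, 3, true), (8, 3, true), (6, 5, true), (6, 0, true), (8, 3, true), (9, 3, true), (7, 5, true), (8, 28, true), (7, 28, true), (6, 32, true), (5, 32, true), (4, 33, true), (3, 33, true), (6, 15, true), (5, 17, true), (7, 3, true), (9, 10, true), (8, 10, true), (7, 12, true), (6, 12, true), (10, 3, true), (9, 3, true), (7, 5, true), (7, 0, true), (9, 0, true), (8, 17, true), (7, 19, true), (6, 19, true), (4, 20, true), (5, 12, true), (6, 5, true), (5, 19, true), (4, 19, true), (6, 12, true), (8, 12, true), (7, 12, true), (5, 14, true), (6, 12, true), (5, 12, true), (6, 5, true),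 (5, 32, true), (4, 33, true), (7, 10, true), (6, 12, true), (8, 3, true), (10, 15, true), (9, 15, true), (8, 17, true), (7, 17, true), (6, 19, true), (8, 5, true), (9, 15, true), (8, 15, true), (7, 19, true), (5, 20, true), (8, 6, true), (7, 6, true), (6, 8, true), (9, 6, true), (8, 6, true), (7, 8, true), (10, 3, true), (9, 3, true), (11, 1, true), (10, 1, true)], [(1, 48, true), (0, 77, true), (9, 75, true), (21, 75, true), (33, 74, true), (41, 74, true), (49, 73, true), (54, 72, true), (60, 72, true), (8, 37, true), (7, 38, true), (6, 39, true), (5, 39, true), (4, 41, true), (3, 41, true), (2, 43, true), (6, 15, true), (5, 15, true), (6, 0, true), (6, 6, true), (7, 3, true), (8, 3, true), (10, 6, true), (9, 6, true), (8, 8, true), (7, 8, true), (11, 3, true), (10, 3, true), (8, 5, true), (9, 3, true), (8, 3, true), (9, 0, true), (10, 37, true), (9, 38, true), (8, 38, true), (7, 39, true), (6, 39, true), (5, 41, true), (4, 41, true), (3, 43, true), (7, 15, true), (6, 15, true), (7, 0, true), (7, 6, true), (8, 3, true), (9, 3, true),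 (11, 6, true), (10, 6, true), (9, 8, true), (8, 8, true), (12, 3, true), (11, 3, true), (9, 5, true), (10, 3, true), (9, 3, true), (10, 0, true), (9, 5, true), (9, 29, true), (8, 31, true), (7, 31, true), (6, 33, true), (5, 33, true), (8, 15, true), (7, 17, true), (9, 3, true), (11, 6, true), (10, 6, true), (9, 8, true), (8, 8, true), (12, 6, true), (11, 6, true), (10, 8, true), (9, 8, true), (13, 3, true), (12, 3, true), (10, 5, true), (11, 1, true), (10, 1, true), (11, 0, true), (11, 28, true), (10, 29, true), (9, 31, true), (8, 31, true), (7, 33, true), (6, 33, true), (4, 35, true), (6, 15, true), (5, 17, true), (7, 3, true), (9, 6, true), (8, 6, true), (7, 8, true), (6, 8, true), (10, 6, true), (9, 6, true), (8, 8, true), (7, 8, true), (11, 3, true), (10, 3, true), (8, 5, true), (9, 1, true), (8, 1, true), (9, 0, true), (10, 15, true), (9, 15, true), (8, 16, true), (7, 18, true), (6, 18, true), (4, 20, true), (7, 6, true), (6, 8, true), (5, 8, true), (8, 3, true), (6, 5, true), (6, 3, true), (8, 3, true), (7, 3, true), (9, 1, true),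 (8, 1, true), (9, 0, true), (9, 0, true), (8, 11, true), (7, 12, true), (6, 12, true), (5, 13, true), (4, 13, true), (8, 6, true), (7, 8, true), (6, 8, true), (9, 3, true), (7, 5, true), (7, 3, true), (9, 3, true), (8, 3, true), (10, 3, true), (9, 3, true), (7, 5, true), (8, 3, true), (7, 3, true), (9, 1, true), (8, 1, true), (9, 0, true), (9, 10, true), (8, 11, true), (7, 12, true), (6, 13, true), (5, 13, true), (9, 6, true), (8, 8, true), (7, 8, true), (10, 3, true), (8, 5, true), (8, 3, true), (10, 3, true), (9, 3, true), (11, 3, true), (10, 3, true), (8, 5, true), (9, 1, true), (8, 1, true), (9, 0, true), (10, 6, true), (9, 6, true), (8, 7, true), (6, 9, true), (9, 0, true), (8, 7, true), (7, 8, true), (6, 8, true), (7, 5, true), (9, 3, true), (8, 4, true), (10, 3, true), (9, 4, true), (7, 5, true), (9, 36, true), (8, 36, true), (7, 37, true), (6, 39, true), (5, 40, true), (4, 40, true), (2, 44, true), (5, 10, true), (4, 10, true), (3, 12, true), (6, 3, true), (5, 3, true), (6, 0, true), (6, 6, true), (5, 8, true), (4, 8, true),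 (7, 3, true), (5, 5, true), (5, 3, true), (7, 1, true), (6, 1, true), (7, 0, true), (7, 36, true), (6, 37, true), (5, 38, true), (4, 39, true), (3, 40, true), (2, 40, true), (6, 10, true), (5, 10, true), (4, 12, true), (7, 3, true), (6, 3, true), (7, 0, true), (7, 6, true), (6, 8, true), (5, 8, true), (8, 3, true), (6, 5, true), (6, 3, true), (8, 3, true), (7, 3, true), (9, 1, true), (8, 1, true), (9, 0, true), (8, 29, true), (7, 30, true), (6, 30, true), (5, 31, true), (4, 32, true), (3, 32, true), (6, 10, true), (5, 12, true), (7, 3, true), (9, 6, true), (8, 6, true), (7, 8, true), (6, 8, true), (10, 3, true), (9, 3, true), (7, 5, true), (8, 3, true), (7, 3, true), (9, 3, true), (8, 3, true), (10, 1, true), (9, 1, true), (10, 0, true), (10, 28, true), (9, 29, true), (8, 30, true), (7, 30, true), (6, 31, true), (5, 32, true), (4, 32, true), (7, 10, true), (6, 12, true), (8, 3, true), (10, 6, true), (9, 6, true), (8, 8, true), (7, 8, true), (11, 3, true), (10, 3, true), (8, 5, true), (9, 3, true), (8, 3, true), (10, 3, true), (9, 3,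 true), (11, 1, true), (10, 1, true), (11, 0, true), (12, 15, true), (11, 15, true), (10, 16, true), (9, 17, true), (8, 17, true), (7, 18, true), (6, 19, true), (5, 19, true), (7, 12, true), (9, 8, true), (8, 8, true), (9, 5, true), (10, 3, true), (11, 3, true), (9, 5, true), (9, 3, true), (10, 1, true), (11, 0, true), (12, 10, true), (11, 10, true), (10, 11, true), (9, 12, true), (8, 13, true), (6, 14, true), (9, 3, true), (7, 5, true), (7, 3, true), (8, 1, true), (9, 0, true), (10, 10, true), (9, 10, true), (8, 11, true), (7, 12, true), (6, 13, true), (10, 3, true), (8, 5, true), (8, 3, true), (9, 1, true), (10, 0, true), (11, 6, true), (10, 6, true), (9, 7, true), (8, 8, true), (9, 5, true), (10, 0, true), (9, 7, true), (7, 9, true), (10, 3, true), (9, 4, true), (7, 5, true), (8, 3, true), (7, 4, true), (10, 15, true), (9, 15, true), (8, 16, true), (7, 17, true), (6, 19, true), (8, 5, true), (9, 0, true), (9, 10, true), (8, 11, true), (11, 0, true), (10, 11, true), (9, 12, true), (7, 14, true), (11, 6, true), (10, 6, true), (9, 7,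 true), (8, 8, true), (7, 8, true), (8, 5, true), (10, 0, true), (9, 4, true), (10, 4, true), (8, 5, true), (8, 2, true), (7, 18, true), (5, 20, true), (8, 10, true), (7, 12, true), (6, 12, true), (5, 13, true), (9, 3, true), (7, 5, true), (7, 3, true), (9, 10, true), (8, 10, true), (7, 12, true), (6, 13, true), (10, 3, true), (8, 5, true), (8, 0, true), (12, 16, true), (11, 16, true), (10, 17, true), (9, 17, true), (8, 18, true), (7, 18, true), (6, 19, true), (5, 19, true), (7, 12, true), (9, 8, true), (8, 8, true), (9, 5, true), (10, 6, true), (9, 8, true), (11, 3, true), (12, 3, true), (10, 5, true), (11, 3, true), (10, 3, true), (12, 3, true), (11, 3, true), (13, 3, true), (12, 3, true), (10, 5, true), (11, 1, true), (10, 1, true), (11, 0, true), (11, 3, true), (10, 4, true), (12, 1, true), (13, 0, true), (12, 11, true), (11, 11, true), (10, 12, true), (9, 13, true), (8, 13, true), (6, 14, true), (9, 6, true), (8, 8, true), (7, 8, true), (10, 3, true), (8, 5, true), (8, 3, true), (10, 3, true), (9, 3, true), (11, 3, true), (10, 3,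 true), (8, 5, true), (9, 1, true), (8, 1, true), (9, 0, true), (9, 3, true), (8, 4, true), (10, 1, true), (11, 0, true), (10, 11, true), (9, 11, true), (8, 12, true), (7, 13, true), (6, 13, true), (10, 6, true), (9, 8, true), (8, 8, true), (11, 3, true), (9, 5, true), (9, 3, true), (11, 3, true), (10, 3, true), (12, 3, true), (11, 3, true), (9, 5, true), (10, 1, true), (9, 1, true), (10, 0, true), (10, 3, true), (9, 4, true), (11, 1, true), (12, 0, true), (11, 7, true), (10, 7, true), (9, 8, true), (7, 9, true), (7, 5, true), (8, 3, true), (7, 4, true), (9, 3, true), (8, 4, true), (10, 1, true), (11, 0, true), (10, 16, true), (9, 16, true), (8, 17, true), (7, 17, true), (6, 19, true), (8, 5, true), (11, 3, true), (10, 3, true), (9, 4, true), (12, 1, true), (11, 1, true), (12, 0, true), (12, 6, true), (11, 7, true), (10, 7, true), (9, 8, true), (8, 8, true), (9, 5, true), (11, 3, true), (10, 4, true), (12, 3, true), (11, 4, true), (9, 5, true), (10, 1, true), (11, 0, true), (10, 4, true), (9, 4, true), (10, 2, true), (11, 15, true),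 (10, 15, true), (9, 17, true), (8, 18, true), (7, 19, true), (5, 20, true), (6, 8, true), (7, 5, true), (7, 3, true), (8, 0, true), (7, 8, true)]),
    ([12, 4, 9], [(0, 73, true), (5, 77, true), (4, 45, true), (3, 48, true), (2, 49, true), (1, 49, true), (0, 50, true), (10, 36, true), (9, 37, true), (8, 37, true), (7, 38, true), (6, 39, true), (5, 41, true), (4, 41, true), (3, 43, true), (2, 43, true), (7, 15, true), (6, 15, true), (7, 0, true), (7, 6, true), (8, 3, true), (9, 3, true), (11, 3, true), (10, 3, true), (8, 5, true), (9, 1, true), (8, 1, true), (10, 1, true), (9, 1, true), (10, 0, true), (9, 29, true), (8, 29, true), (7, 31, true), (6, 33, true), (5, 33, true), (3, 35, true), (5, 15, true), (4, 17, true), (6, 3, true), (8, 6, true), (7, 6, true), (6, 8, true), (5, 8, true), (9, 3, true), (8, 3, true), (6, 5, true), (7, 1, true), (6, 1, true), (7, 0, true), (7, 3, true), (6, 4, true), (8, 1, true), (9, 0, true), (8, 29, true), (7, 29, true), (6, 30, true), (5, 31, true), (4, 33, true), (3, 33, true), (6, 15, true), (5,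 17, true), (7, 3, true), (9, 6, true), (8, 6, true), (7, 8, true), (6, 8, true), (10, 3, true), (9, 3, true), (7, 5, true), (8, 3, true), (7, 3, true), (9, 1, true), (8, 1, true), (9, 0, true), (9, 3, true), (8, 4, true), (10, 1, true), (11, 0, true), (10, 16, true), (9, 16, true), (8, 17, true), (7, 17, true), (6, 18, true), (4, 20, true), (7, 3, true), (5, 5, true), (5, 3, true), (6, 3, true), (7, 1, true), (8, 0, true), (7, 4, true), (5, 5, true), (8, 15, true), (7, 15, true), (6, 16, true), (5, 16, true), (4, 18, true), (8, 3, true), (6, 5, true), (6, 1, true), (7, 0, true), (6, 4, true), (9, 0, true), (9, 3, true), (8, 4, true), (7, 4, true), (10, 1, true), (8, 2, true), (8, 1, true), (9, 36, true), (8, 37, true), (7, 38, true), (6, 38, true), (5, 39, true), (4, 41, true), (3, 43, true), (1, 44, true), (4, 6, true), (3, 6, true), (5, 3, true), (4, 3, true), (6, 3, true), (5, 3, true), (6, 0, true), (4, 5, true), (6, 28, true), (5, 29, true), (4, 30, true), (3, 31, true), (2, 33, true), (5, 6, true), (4, 8, true), (6, 3, true),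 (7, 3, true), (5, 5, true), (5, 1, true), (6, 0, true), (6, 28, true), (5, 29, true), (4, 31, true), (3, 33, true), (1, 35, true), (3, 6, true), (2, 8, true), (4, 3, true), (5, 1, true), (6, 0, true), (6, 15, true), (5, 16, true), (4, 17, true), (3, 17, true), (2, 18, true), (6, 3, true), (4, 5, true), (4, 3, true), (5, 3, true), (6, 1, true), (7, 0, true), (7, 15, true), (6, 16, true), (5, 17, true), (4, 17, true), (3, 18, true), (1, 20, true), (4, 3, true), (2, 5, true), (2, 3, true), (3, 3, true), (4, 1, true), (5, 0, true), (5, 3, true), (4, 4, true), (2, 5, true), (3, 1, true), (4, 1, true), (2, 2, true), (2, 28, true), (1, 31, true), (3, 28, true), (2, 31, true), (4, 15, true), (3, 18, true), (8, 15, true), (7, 15, true), (6, 17, true), (5, 17, true), (4, 18, true), (8, 3, true), (6, 5, true), (6, 3, true), (7, 0, true), (6, 12, true), (5, 13, true), (9, 3, true), (7, 5, true), (7, 6, true), (8, 6, true), (6, 9, true), (7, 45, true), (6, 45, true), (5, 49, true), (4, 50, true), (3, 50, true), (2, 52, true), (1, 52, true), (4,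 28, true), (3, 28, true), (4, 0, true), (4, 36, true), (3, 43, true), (2, 43, true), (5, 28, true), (3, 35, true), (3, 28, true), (4, 15, true), (5, 15, true), (6, 6, true), (7, 3, true), (8, 1, true), (9, 1, true), (11, 36, true), (10, 36, true), (9, 37, true), (8, 37, true), (7, 38, true), (6, 39, true), (5, 41, true), (4, 41, true), (3, 43, true), (7, 15, true), (6, 15, true), (7, 0, true), (7, 6, true), (8, 3, true), (9, 3, true), (11, 3, true), (10, 3, true), (8, 5, true), (9, 1, true), (8, 1, true), (10, 1, true), (9, 1, true), (10, 0, true), (10, 28, true), (9, 29, true), (8, 29, true), (7, 31, true), (6, 33, true), (5, 33, true), (8, 15, true), (7, 17, true), (9, 3, true), (11, 6, true), (10, 6, true), (9, 8, true), (8, 8, true), (12, 3, true), (11, 3, true), (9, 5, true), (10, 1, true), (9, 1, true), (10, 0, true), (10, 3, true), (9, 4, true), (11, 1, true), (12, 0, true), (12, 28, true), (11, 29, true), (10, 29, true), (9, 30, true), (8, 31, true), (7, 33, true), (6, 33, true), (4, 35, true), (6, 15, true), (5, 17, true),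 (7, 3, true), (9, 6, true), (8, 6, true), (7, 8, true), (6, 8, true), (10, 3, true), (9, 3, true), (7, 5, true), (8, 3, true), (7, 3, true), (9, 1, true), (8, 1, true), (9, 0, true), (9, 3, true), (8, 4, true), (10, 1, true), (11, 0, true), (11, 15, true), (10, 16, true), (9, 16, true), (8, 17, true), (7, 17, true), (6, 18, true), (4, 20, true), (7, 3, true), (5, 5, true), (5, 3, true), (6, 3, true), (7, 1, true), (8, 0, true), (7, 4, true), (5, 5, true), (7, 0, true), (6, 16, true), (5, 16, true), (4, 18, true), (8, 3, true), (6, 5, true), (6, 1, true), (7, 0, true), (6, 4, true), (10, 6, true), (9, 6, true), (8, 7, true), (7, 7, true), (6, 8, true), (7, 5, true), (8, 3, true), (7, 4, true), (9, 3, true), (8, 4, true), (10, 1, true), (11, 0, true), (11, 3, true), (10, 4, true), (9, 4, true), (7, 5, true), (9, 1, true), (7, 2, true), (7, 1, true), (9, 36, true), (8, 36, true), (7, 37, true), (6, 39, true), (5, 39, true), (4, 41, true), (2, 44, true), (4, 6, true), (3, 6, true), (5, 3, true), (4, 3, true), (6, 3, true), (5, 3, true),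 (6, 0, true), (5, 8, true), (4, 8, true), (5, 5, true), (6, 1, true), (7, 0, true), (6, 29, true), (5, 30, true), (4, 31, true), (3, 31, true), (2, 33, true), (5, 6, true), (4, 8, true), (6, 6, true), (5, 8, true), (7, 3, true), (8, 3, true), (6, 5, true), (6, 1, true), (7, 0, true), (6, 29, true), (5, 31, true), (4, 31, true), (3, 33, true), (6, 6, true), (5, 8, true), (7, 6, true), (6, 8, true), (8, 3, true), (9, 1, true), (10, 0, true), (9, 16, true), (8, 17, true), (7, 17, true), (6, 18, true), (5, 18, true), (9, 6, true), (8, 8, true), (7, 8, true), (10, 3, true), (8, 5, true), (8, 3, true), (10, 3, true), (9, 3, true), (11, 3, true), (10, 3, true), (8, 5, true), (9, 3, true), (8, 3, true), (10, 1, true), (9, 1, true), (10, 0, true), (10, 15, true), (9, 16, true), (8, 17, true), (7, 18, true), (6, 18, true), (4, 20, true), (7, 6, true), (6, 8, true), (5, 8, true), (8, 3, true), (6, 5, true), (6, 3, true), (8, 3, true), (7, 3, true), (9, 3, true), (8, 3, true), (6, 5, true), (7, 1, true), (6, 1, true), (7, 0, true), (8, 3, true),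 (7, 3, true), (6, 4, true), (9, 1, true), (8, 1, true), (10, 1, true), (9, 1, true), (7, 2, true), (7, 0, true), (7, 28, true), (6, 30, true), (5, 31, true), (4, 31, true), (2, 35, true), (5, 15, true), (4, 17, true), (3, 18, true), (2, 18, true), (6, 6, true), (5, 8, true), (4, 8, true), (7, 3, true), (5, 5, true), (5, 3, true), (7, 3, true), (6, 3, true), (7, 0, true), (6, 17, true), (5, 17, true), (4, 18, true), (3, 18, true), (7, 6, true), (6, 8, true), (5, 8, true), (8, 3, true), (6, 5, true), (6, 3, true), (8, 3, true), (7, 3, true), (9, 3, true), (8, 3, true), (6, 5, true), (7, 6, true), (6, 6, true), (4, 9, true), (5, 6, true), (4, 6, true), (6, 3, true), (5, 3, true), (7, 1, true), (6, 1, true)], [(1, 49, true), (0, 77, true), (9, 76, true), (18, 75, true), (30, 75, true), (42, 74, true), (50, 74, true), (58, 71, true), (61, 70, true), (68, 70, true), (8, 37, true), (7, 38, true), (6, 39, true), (5, 39, true), (4, 41, true), (3, 41, true), (2, 43, true), (6, 15, true), (5, 15, true), (6, 0, true), (6, 6, true), (7, 3, true),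 (8, 3, true), (10, 6, true), (9, 6, true), (8, 8, true), (7, 8, true), (11, 3, true), (10, 3, true), (8, 5, true), (9, 3, true), (8, 3, true), (9, 0, true), (10, 37, true), (9, 38, true), (8, 38, true), (7, 39, true), (6, 39, true), (5, 41, true), (4, 41, true), (3, 43, true), (7, 15, true), (6, 15, true), (7, 0, true), (7, 6, true), (8, 3, true), (9, 3, true), (11, 6, true), (10, 6, true), (9, 8, true), (8, 8, true), (12, 3, true), (11, 3, true), (9, 5, true), (10, 3, true), (9, 3, true), (10, 0, true), (9, 5, true), (9, 29, true), (8, 31, true), (7, 31, true), (6, 33, true), (5, 33, true), (8, 15, true), (7, 17, true), (9, 3, true), (11, 6, true), (10, 6, true), (9, 8, true), (8, 8, true), (12, 6, true), (11, 6, true), (10, 8, true), (9, 8, true), (13, 3, true), (12, 3, true), (10, 5, true), (11, 1, true), (10, 1, true), (11, 0, true), (11, 10, true), (10, 11, true), (9, 13, true), (8, 13, true), (12, 6, true), (11, 8, true), (10, 8, true), (13, 3, true), (11, 5, true), (11, 3, true), (13, 3, true), (12, 3, true), (14, 1, true), (13,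 1, true), (14, 0, true), (15, 10, true), (14, 10, true), (13, 11, true), (12, 12, true), (11, 12, true), (10, 13, true), (9, 13, true), (13, 6, true), (12, 8, true), (11, 8, true), (14, 3, true), (12, 5, true), (12, 3, true), (14, 3, true), (13, 3, true), (15, 3, true), (14, 3, true), (12, 5, true), (13, 3, true), (12, 3, true), (14, 1, true), (13, 1, true), (14, 0, true), (14, 0, true), (13, 7, true), (12, 8, true), (10, 9, true), (10, 5, true), (11, 1, true), (12, 0, true), (11, 37, true), (10, 37, true), (9, 40, true), (8, 40, true), (7, 41, true), (6, 41, true), (5, 43, true), (4, 43, true), (2, 44, true), (6, 15, true), (5, 15, true), (6, 0, true), (6, 10, true), (7, 3, true), (8, 0, true), (7, 12, true), (11, 1, true), (10, 1, true), (12, 1, true), (11, 1, true), (13, 36, true), (12, 36, true), (11, 37, true), (10, 37, true), (9, 38, true), (8, 38, true), (7, 40, true), (6, 40, true), (5, 41, true), (4, 41, true), (3, 43, true), (2, 43, true), (7, 15, true), (6, 15, true), (7, 0, true), (7, 10, true), (8, 3, true), (9, 0, true),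 (8, 12, true), (12, 3, true), (11, 3, true), (9, 5, true), (10, 3, true), (9, 3, true), (11, 1, true), (10, 1, true), (12, 1, true), (11, 1, true), (12, 0, true), (12, 28, true), (11, 29, true), (10, 29, true), (9, 30, true), (8, 32, true), (7, 32, true), (6, 33, true), (5, 33, true), (3, 35, true), (5, 15, true), (4, 17, true), (6, 3, true), (8, 10, true), (7, 10, true), (6, 12, true), (5, 12, true), (9, 3, true), (8, 3, true), (6, 5, true), (6, 0, true), (8, 3, true), (9, 3, true), (7, 5, true), (7, 1, true), (8, 0, true), (7, 4, true), (10, 0, true), (9, 29, true), (8, 29, true), (7, 30, true), (6, 32, true), (5, 32, true), (4, 33, true), (3, 33, true), (6, 15, true), (5, 17, true), (7, 3, true), (9, 10, true), (8, 10, true), (7, 12, true), (6, 12, true), (10, 3, true), (9, 3, true), (7, 5, true), (7, 0, true), (9, 3, true), (10, 3, true), (8, 5, true), (8, 1, true), (9, 0, true), (8, 4, true), (12, 15, true), (11, 15, true), (10, 16, true), (9, 16, true), (8, 17, true), (7, 19, true), (6, 19, true), (4, 20, true), (5, 12, true),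 (6, 5, true), (9, 3, true), (8, 3, true), (7, 4, true), (10, 1, true), (9, 1, true), (10, 0, true), (10, 0, true), (9, 11, true), (8, 11, true), (7, 12, true), (6, 12, true), (4, 14, true), (4, 5, true), (6, 3, true), (5, 3, true), (4, 4, true), (7, 1, true), (6, 1, true), (7, 0, true), (7, 10, true), (6, 11, true), (5, 11, true), (4, 12, true), (9, 3, true), (8, 3, true), (7, 4, true), (5, 5, true), (7, 1, true), (6, 1, true), (7, 0, true), (8, 6, true), (7, 6, true), (6, 7, true), (5, 7, true), (9, 3, true), (8, 4, true), (6, 5, true), (7, 3, true), (6, 4, true), (8, 1, true), (9, 0, true), (9, 6, true), (8, 7, true), (7, 7, true), (6, 8, true), (7, 5, true), (8, 3, true), (7, 4, true), (9, 3, true), (8, 4, true), (10, 1, true), (11, 0, true), (10, 4, true), (9, 4, true), (7, 5, true), (8, 4, true), (7, 4, true), (10, 36, true), (9, 37, true), (8, 37, true), (7, 38, true), (6, 39, true), (5, 39, true), (4, 40, true), (3, 43, true), (8, 6, true), (7, 6, true), (6, 8, true), (9, 3, true), (8, 3, true), (10, 3, true), (9, 3, true), (7,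 5, true), (7, 0, true), (10, 3, true), (8, 5, true), (8, 1, true), (9, 1, true), (11, 36, true), (10, 36, true), (9, 37, true), (8, 37, true), (7, 39, true), (6, 39, true), (5, 40, true), (4, 43, true), (2, 44, true), (6, 6, true), (5, 6, true), (4, 8, true), (7, 3, true), (6, 3, true), (8, 3, true), (7, 3, true), (5, 5, true), (5, 0, true), (8, 1, true), (9, 1, true), (10, 0, true), (9, 29, true), (8, 29, true), (7, 30, true), (6, 30, true), (5, 31, true), (4, 31, true), (3, 32, true), (6, 6, true), (5, 8, true), (7, 6, true), (6, 8, true), (8, 3, true), (9, 3, true), (7, 5, true), (7, 3, true), (8, 1, true), (9, 0, true), (8, 4, true), (12, 28, true), (11, 28, true), (10, 29, true), (9, 29, true), (8, 30, true), (7, 30, true), (6, 31, true), (5, 31, true), (4, 32, true), (2, 35, true), (4, 6, true), (3, 8, true), (5, 6, true), (4, 8, true), (6, 3, true), (7, 3, true), (5, 5, true), (5, 3, true), (6, 1, true), (7, 0, true), (6, 4, true), (9, 0, true), (9, 15, true), (8, 16, true), (7, 16, true), (6, 17, true), (5, 17, true), (4, 18,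 true), (3, 18, true), (2, 19, true), (4, 8, true), (5, 5, true), (5, 6, true), (6, 3, true), (7, 3, true), (9, 3, true), (8, 3, true), (6, 5, true), (7, 3, true), (6, 3, true), (8, 3, true), (7, 3, true), (9, 1, true), (8, 1, true), (9, 0, true), (9, 3, true), (8, 4, true), (6, 5, true), (7, 1, true), (8, 0, true), (8, 10, true), (7, 11, true), (6, 11, true), (5, 13, true), (4, 13, true), (8, 6, true), (7, 8, true), (6, 8, true), (9, 3, true), (7, 5, true), (7, 3, true), (9, 3, true), (8, 3, true), (10, 1, true), (9, 1, true), (10, 0, true), (10, 3, true), (9, 4, true), (7, 5, true), (8, 1, true), (9, 0, true), (9, 10, true), (8, 11, true), (7, 11, true), (6, 13, true), (5, 13, true), (3, 14, true), (6, 6, true), (5, 8, true), (4, 8, true), (7, 3, true), (5, 5, true), (5, 3, true), (7, 3, true), (6, 3, true), (8, 1, true), (7, 1, true), (8, 0, true), (8, 3, true), (7, 4, true), (5, 5, true), (6, 1, true), (7, 0, true), (7, 6, true), (6, 7, true), (5, 7, true), (3, 9, true), (6, 3, true), (5, 4, true), (3, 5, true), (4, 3, true), (3,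 4, true), (5, 1, true), (6, 0, true), (5, 7, true), (4, 7, true), (3, 8, true), (4, 5, true), (5, 3, true), (4, 4, true), (6, 3, true), (5, 4, true), (7, 1, true), (9, 3, true), (8, 3, true), (7, 4, true), (6, 4, true), (4, 5, true), (7, 3, true), (6, 3, true), (5, 4, true), (4, 4, true), (7, 0, true), (6, 16, true), (5, 16, true), (4, 17, true), (3, 18, true), (7, 3, true), (5, 5, true), (5, 3, true), (6, 1, true), (7, 0, true), (6, 4, true), (10, 10, true), (9, 10, true), (8, 11, true), (7, 11, true), (6, 12, true), (5, 12, true), (4, 13, true), (8, 3, true), (6, 5, true), (6, 3, true), (7, 3, true), (8, 1, true), (9, 0, true), (8, 4, true), (6, 5, true), (8, 0, true), (8, 10, true), (7, 11, true), (6, 11, true), (5, 13, true), (9, 3, true), (7, 5, true), (7, 1, true), (8, 0, true), (7, 4, true), (10, 0, true), (9, 7, true), (8, 7, true), (7, 8, true), (8, 5, true), (9, 3, true), (8, 4, true), (10, 3, true), (9, 4, true), (11, 1, true), (13, 3, true), (12, 3, true), (11, 4, true), (10, 4, true), (8, 5, true), (11, 3, true), (10, 3,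 true), (9, 4, true), (8, 4, true), (12, 1, true), (11, 1, true), (9, 2, true), (10, 1, true), (9, 1, true), (11, 15, true), (10, 15, true), (9, 16, true), (8, 17, true), (7, 18, true), (6, 18, true), (5, 19, true), (4, 19, true), (2, 20, true), (3, 12, true), (5, 8, true), (4, 8, true), (5, 5, true), (6, 6, true), (5, 8, true), (7, 3, true), (8, 3, true), (6, 5, true), (7, 3, true), (6, 3, true), (8, 3, true), (7, 3, true), (9, 1, true), (8, 1, true), (9, 0, true), (9, 0, true), (8, 11, true), (7, 12, true), (6, 12, true), (5, 13, true), (4, 13, true), (2, 14, true), (5, 6, true), (4, 8, true), (3, 8, true), (6, 3, true), (4, 5, true), (4, 3, true), (6, 3, true), (5, 3, true), (7, 3, true), (6, 3, true), (4, 5, true), (5, 3, true), (4, 3, true), (6, 1, true), (5, 1, true), (6, 0, true), (6, 10, true), (5, 11, true), (4, 12, true), (3, 13, true), (2, 13, true), (6, 6, true), (5, 8, true), (4, 8, true), (7, 3, true), (5, 5, true), (5, 3, true), (7, 3, true), (6, 3, true), (8, 3, true), (7, 3, true), (5, 5, true), (6, 1, true), (5, 1,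 true), (6, 0, true), (7, 6, true), (6, 6, true), (5, 7, true), (3, 9, true), (6, 0, true), (5, 4, true), (3, 5, true), (3, 4, true), (4, 2, true), (3, 5, true), (3, 15, true), (2, 19, true), (5, 10, true), (4, 12, true), (6, 6, true), (5, 8, true), (7, 6, true), (6, 8, true), (8, 3, true), (9, 1, true), (10, 1, true), (11, 15, true), (10, 16, true), (9, 16, true), (8, 17, true), (7, 17, true), (6, 18, true), (5, 18, true), (4, 19, true), (3, 19, true), (5, 12, true), (7, 8, true), (6, 8, true), (7, 5, true), (8, 6, true), (7, 8, true), (9, 3, true), (10, 3, true), (8, 5, true), (9, 3, true), (8, 3, true), (10, 3, true), (9, 3, true), (11, 3, true), (10, 3, true), (8, 5, true), (9, 1, true), (8, 1, true), (9, 0, true), (9, 3, true), (8, 4, true), (10, 1, true), (11, 0, true), (11, 10, true), (10, 11, true), (9, 11, true), (8, 12, true), (7, 13, true), (6, 13, true), (4, 14, true), (7, 6, true), (6, 8, true), (5, 8, true), (8, 3, true), (6, 5, true), (6, 3, true), (8, 3, true), (7, 3, true), (9, 3, true), (8, 3, true), (6, 5, true), (7,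 1, true), (6, 1, true), (7, 0, true), (7, 3, true), (6, 4, true), (8, 1, true), (9, 0, true), (9, 6, true), (8, 7, true), (7, 7, true), (6, 8, true), (4, 9, true), (4, 5, true), (5, 3, true), (4, 4, true), (6, 3, true), (5, 4, true), (7, 1, true), (8, 0, true), (7, 7, true), (6, 7, true), (5, 8, true), (4, 8, true), (5, 5, true), (7, 3, true), (6, 4, true), (8, 3, true), (7, 4, true), (5, 5, true), (6, 1, true), (8, 3, true), (7, 3, true), (6, 4, true), (5, 4, true), (9, 1, true), (8, 1, true), (6, 2, true), (7, 1, true), (6, 1, true)]),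
    ([12, 5, 9], [(0, 74, true), (8, 77, true), (7, 46, true), (6, 46, true), (5, 47, true), (4, 47, true), (3, 48, true), (2, 49, true), (1, 49, true), (0, 50, true), (10, 36, true), (9, 37, true), (8, 37, true), (7, 38, true), (6, 39, true), (5, 41, true), (4, 41, true), (3, 43, true), (2, 43, true), (7, 15, true), (6, 15, true), (7, 0, true), (7, 6, true), (8, 3, true), (9, 3, true), (11, 3, true), (10, 3, true), (8, 5, true), (9, 1, true), (8, 1, true), (10, 1, true), (9, 1, true), (10, 0, true), (9, 29, true), (8, 29, true), (7, 31, true), (6, 33, true), (5, 33, true), (3, 35, true), (5, 15, true), (4, 17, true), (6, 3, true), (8, 6, true), (7, 6, true), (6, 8, true), (5, 8, true), (9, 3, true), (8, 3, true), (6, 5, true), (7, 1, true), (6, 1, true), (7, 0, true), (7, 3, true), (6, 4, true), (8, 1, true), (9, 0, true), (8, 29, true), (7, 29, true), (6, 30, true), (5, 31, true), (4, 33, true), (3, 33, true), (6, 15, true), (5, 17, true), (7, 3, true), (9, 6, true), (8, 6, true), (7, 8, true), (6, 8, true), (10, 3, true), (9, 3,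 true), (7, 5, true), (8, 3, true), (7, 3, true), (9, 1, true), (8, 1, true), (9, 0, true), (9, 3, true), (8, 4, true), (10, 1, true), (11, 0, true), (10, 16, true), (9, 16, true), (8, 17, true), (7, 17, true), (6, 18, true), (4, 20, true), (7, 3, true), (5, 5, true), (5, 3, true), (6, 3, true), (7, 1, true), (8, 0, true), (7, 4, true), (5, 5, true), (8, 15, true), (7, 15, true), (6, 16, true), (5, 16, true), (4, 18, true), (8, 3, true), (6, 5, true), (6, 1, true), (7, 0, true), (6, 4, true), (9, 0, true), (9, 3, true), (8, 4, true), (7, 4, true), (10, 1, true), (8, 2, true), (8, 1, true), (9, 36, true), (8, 37, true), (7, 38, true), (6, 38, true), (5, 39, true), (4, 41, true), (3, 43, true), (1, 44, true), (4, 6, true), (3, 6, true), (5, 3, true), (4, 3, true), (6, 3, true), (5, 3, true), (6, 0, true), (4, 5, true), (6, 28, true), (5, 29, true), (4, 30, true), (3, 31, true), (2, 33, true), (5, 6, true), (4, 8, true), (6, 3, true), (7, 3, true), (5, 5, true), (5, 1, true), (6, 0, true), (6, 28, true), (5, 29, true), (4, 31, true), (3,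 33, true), (1, 35, true), (3, 6, true), (2, 8, true), (4, 3, true), (5, 1, true), (6, 0, true), (6, 15, true), (5, 16, true), (4, 17, true), (3, 17, true), (2, 18, true), (6, 3, true), (4, 5, true), (4, 3, true), (5, 3, true), (6, 1, true), (7, 0, true), (7, 15, true), (6, 16, true), (5, 17, true), (4, 17, true), (3, 18, true), (1, 20, true), (4, 3, true), (2, 5, true), (2, 3, true), (3, 3, true), (4, 1, true), (5, 0, true), (5, 3, true), (4, 4, true), (2, 5, true), (3, 1, true), (4, 1, true), (2, 2, true), (2, 28, true), (1, 31, true), (3, 28, true), (2, 31, true), (4, 15, true), (3, 18, true), (8, 15, true), (7, 15, true), (6, 17, true), (5, 17, true), (4, 18, true), (8, 3, true), (6, 5, true), (6, 3, true), (7, 0, true), (6, 12, true), (5, 13, true), (9, 3, true), (7, 5, true), (7, 6, true), (8, 6, true), (6, 9, true), (6, 3, true), (7, 0, true), (9, 36, true), (8, 36, true), (7, 38, true), (6, 38, true), (5, 40, true), (4, 41, true), (3, 41, true), (2, 43, true), (1, 43, true), (6, 15, true), (5, 15, true), (6, 0, true), (6, 10,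 true), (7, 3, true), (8, 0, true), (7, 5, true), (8, 36, true), (7, 36, true), (6, 40, true), (5, 41, true), (4, 41, true), (3, 43, true), (2, 43, true), (7, 15, true), (6, 15, true), (7, 0, true), (7, 10, true), (8, 3, true), (9, 0, true), (10, 28, true), (9, 28, true), (8, 30, true), (7, 32, true), (6, 33, true), (5, 33, true), (3, 35, true), (5, 15, true), (4, 17, true), (6, 3, true), (8, 10, true), (7, 10, true), (6, 12, true), (5, 12, true), (9, 3, true), (8, 3, true), (6, 5, true), (6, 0, true), (8, 28, true), (7, 28, true), (6, 30, true), (5, 32, true), (4, 33, true), (3, 33, true), (6, 15, true), (5, 17, true), (7, 3, true), (9, 10, true), (8, 10, true), (7, 12, true), (6, 12, true), (10, 3, true), (9, 3, true), (7, 5, true), (7, 0, true), (9, 15, true), (8, 15, true), (7, 17, true), (6, 19, true), (4, 20, true), (8, 15, true), (7, 15, true), (6, 17, true), (5, 17, true), (4, 19, true), (6, 5, true), (7, 10, true), (6, 10, true), (8, 10, true), (7, 10, true), (5, 14, true), (6, 3, true), (5, 3, true), (7, 36, true), (6, 36,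 true), (5, 38, true), (4, 41, true), (3, 43, true), (1, 44, true), (4, 3, true), (3, 3, true), (4, 0, true), (4, 36, true), (3, 38, true), (2, 41, true), (1, 43, true), (5, 3, true), (4, 3, true), (5, 0, true), (4, 30, true), (3, 33, true), (6, 3, true), (7, 28, true), (6, 30, true), (5, 30, true), (4, 33, true), (2, 35, true), (4, 3, true), (5, 3, true), (3, 5, true), (4, 15, true), (3, 15, true), (5, 15, true), (4, 15, true), (2, 20, true), (3, 10, true), (2, 10, true), (4, 10, true), (3, 10, true), (5, 3, true), (4, 3, true), (6, 45, true), (5, 45, true), (4, 47, true), (3, 49, true), (2, 49, true), (1, 53, true), (7, 36, true), (6, 36, true), (5, 38, true), (4, 38, true), (3, 43, true), (8, 28, true), (7, 28, true), (6, 30, true), (5, 30, true), (9, 28, true), (8, 28, true), (7, 30, true), (6, 30, true), (4, 35, true), (7, 15, true), (6, 15, true), (5, 17, true), (4, 17, true), (8, 15, true), (7, 15, true), (6, 17, true), (5, 17, true), (9, 3, true), (8, 3, true), (6, 5, true), (7, 1, true), (6, 1, true), (8, 1, true), (7, 1, true),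 (9, 36, true), (8, 36, true), (7, 37, true), (6, 37, true), (5, 41, true), (4, 41, true), (2, 44, true), (4, 15, true), (3, 15, true), (4, 0, true), (4, 1, true), (5, 1, true), (6, 0, true), (5, 29, true), (4, 29, true), (3, 33, true), (2, 33, true), (5, 15, true), (4, 17, true), (6, 3, true), (8, 3, true), (7, 3, true), (5, 5, true), (6, 1, true), (5, 1, true), (6, 0, true), (6, 3, true), (5, 4, true), (7, 1, true), (8, 0, true), (7, 29, true), (6, 29, true), (5, 30, true), (4, 33, true), (3, 33, true), (6, 15, true), (5, 17, true), (7, 3, true), (9, 3, true), (8, 3, true), (6, 5, true), (7, 3, true), (6, 3, true), (8, 1, true), (7, 1, true), (8, 0, true), (8, 3, true), (7, 4, true), (9, 1, true), (10, 0, true), (9, 16, true), (8, 16, true), (7, 17, true), (6, 17, true), (4, 20, true), (4, 5, true), (6, 3, true), (5, 3, true), (4, 4, true), (7, 1, true), (6, 1, true), (7, 0, true), (7, 15, true), (6, 16, true), (5, 16, true), (4, 17, true), (9, 3, true), (8, 3, true), (7, 4, true), (5, 5, true), (7, 1, true), (6, 1, true), (7, 0, true),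 (8, 3, true), (7, 3, true), (6, 4, true), (5, 4, true), (9, 1, true), (8, 1, true), (6, 2, true), (7, 1, true), (6, 1, true), (8, 3, true), (7, 3, true), (6, 4, true), (8, 0, true), (8, 0, true), (7, 29, true), (6, 30, true), (5, 30, true), (4, 33, true), (2, 35, true), (4, 3, true), (5, 3, true), (3, 5, true), (3, 3, true), (4, 1, true), (5, 0, true), (4, 16, true), (3, 17, true), (8, 15, true), (7, 15, true), (6, 16, true), (5, 17, true), (4, 17, true), (2, 20, true), (2, 5, true), (3, 0, true), (3, 6, true), (2, 7, true), (7, 6, true), (6, 6, true), (5, 7, true), (4, 8, true), (3, 8, true), (4, 5, true), (6, 0, true), (5, 4, true)], [(1, 50, true), (0, 77, true), (9, 76, true), (18, 75, true), (30, 75, true), (42, 74, true), (50, 74, true), (58, 72, true), (64, 71, true), (67, 70, true), (74, 70, true), (81, 69, true), (8, 37, true), (7, 38, true), (6, 39, true), (5, 39, true), (4, 41, true), (3, 41, true), (2, 43, true), (6, 15, true), (5, 15, true), (6, 0, true), (6, 6, true), (7, 3, true), (8, 3, true), (10, 6, true), (9, 6, true),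 (8, 8, true), (7, 8, true), (11, 3, true), (10, 3, true), (8, 5, true), (9, 3, true), (8, 3, true), (9, 0, true), (10, 37, true), (9, 38, true), (8, 38, true), (7, 39, true), (6, 39, true), (5, 41, true), (4, 41, true), (3, 43, true), (7, 15, true), (6, 15, true), (7, 0, true), (7, 6, true), (8, 3, true), (9, 3, true), (11, 6, true), (10, 6, true), (9, 8, true), (8, 8, true), (12, 3, true), (11, 3, true), (9, 5, true), (10, 3, true), (9, 3, true), (10, 0, true), (9, 5, true), (9, 29, true), (8, 31, true), (7, 31, true), (6, 33, true), (5, 33, true), (8, 15, true), (7, 17, true), (9, 3, true), (11, 6, true), (10, 6, true), (9, 8, true), (8, 8, true), (12, 6, true), (11, 6, true), (10, 8, true), (9, 8, true), (13, 3, true), (12, 3, true), (10, 5, true), (11, 1, true), (10, 1, true), (11, 0, true), (11, 10, true), (10, 11, true), (9, 13, true), (8, 13, true), (12, 6, true), (11, 8, true), (10, 8, true), (13, 3, true), (11, 5, true), (11, 3, true), (13, 3, true), (12, 3, true), (14, 1, true), (13, 1, true), (14, 0, true), (15, 10, true),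 (14, 10, true), (13, 11, true), (12, 12, true), (11, 12, true), (10, 13, true), (9, 13, true), (13, 6, true), (12, 8, true), (11, 8, true), (14, 3, true), (12, 5, true), (12, 3, true), (14, 3, true), (13, 3, true), (15, 3, true), (14, 3, true), (12, 5, true), (13, 3, true), (12, 3, true), (14, 1, true), (13, 1, true), (14, 0, true), (14, 0, true), (13, 7, true), (12, 8, true), (10, 9, true), (10, 5, true), (11, 1, true), (12, 0, true), (11, 37, true), (10, 37, true), (9, 40, true), (8, 40, true), (7, 41, true), (6, 41, true), (5, 43, true), (4, 43, true), (2, 44, true), (6, 15, true), (5, 15, true), (6, 0, true), (6, 10, true), (7, 3, true), (8, 0, true), (7, 12, true), (11, 1, true), (10, 1, true), (12, 1, true), (11, 1, true), (13, 36, true), (12, 36, true), (11, 37, true), (10, 37, true), (9, 38, true), (8, 38, true), (7, 40, true), (6, 40, true), (5, 41, true), (4, 41, true), (3, 43, true), (2, 43, true), (7, 15, true), (6, 15, true), (7, 0, true), (7, 10, true), (8, 3, true), (9, 0, true), (8, 12, true), (12, 3, true), (11, 3,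 true), (9, 5, true), (10, 3, true), (9, 3, true), (11, 1, true), (10, 1, true), (12, 1, true), (11, 1, true), (12, 0, true), (12, 28, true), (11, 29, true), (10, 29, true), (9, 30, true), (8, 32, true), (7, 32, true), (6, 33, true), (5, 33, true), (3, 35, true), (5, 15, true), (4, 17, true), (6, 3, true), (8, 10, true), (7, 10, true), (6, 12, true), (5, 12, true), (9, 3, true), (8, 3, true), (6, 5, true), (6, 0, true), (8, 3, true), (9, 3, true), (7, 5, true), (7, 1, true), (8, 0, true), (7, 4, true), (10, 0, true), (9, 29, true), (8, 29, true), (7, 30, true), (6, 32, true), (5, 32, true), (4, 33, true), (3, 33, true), (6, 15, true), (5, 17, true), (7, 3, true), (9, 10, true), (8, 10, true), (7, 12, true), (6, 12, true), (10, 3, true), (9, 3, true), (7, 5, true), (7, 0, true), (9, 3, true), (10, 3, true), (8, 5, true), (8, 1, true), (9, 0, true), (8, 4, true), (12, 15, true), (11, 15, true), (10, 16, true), (9, 16, true), (8, 17, true), (7, 19, true), (6, 19, true), (4, 20, true), (5, 12, true), (6, 5, true), (9, 3, true), (8, 3, true),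 (7, 4, true), (10, 1, true), (9, 1, true), (10, 0, true), (10, 0, true), (9, 11, true), (8, 11, true), (7, 12, true), (6, 12, true), (4, 14, true), (4, 5, true), (6, 3, true), (5, 3, true), (4, 4, true), (7, 1, true), (6, 1, true), (7, 0, true), (7, 10, true), (6, 11, true), (5, 11, true), (4, 12, true), (9, 3, true), (8, 3, true), (7, 4, true), (5, 5, true), (7, 1, true), (6, 1, true), (7, 0, true), (8, 6, true), (7, 6, true), (6, 7, true), (5, 7, true), (9, 3, true), (8, 4, true), (6, 5, true), (7, 3, true), (6, 4, true), (8, 1, true), (9, 0, true), (9, 6, true), (8, 7, true), (7, 7, true), (6, 8, true), (7, 5, true), (8, 3, true), (7, 4, true), (9, 3, true), (8, 4, true), (10, 1, true), (11, 0, true), (10, 4, true), (9, 4, true), (7, 5, true), (8, 4, true), (7, 4, true), (10, 36, true), (9, 37, true), (8, 37, true), (7, 38, true), (6, 39, true), (5, 39, true), (4, 40, true), (3, 43, true), (8, 6, true), (7, 6, true), (6, 8, true), (9, 3, true), (8, 3, true), (10, 3, true), (9, 3, true), (7, 5, true), (7, 0, true), (10, 3, true),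 (8, 5, true), (8, 1, true), (9, 1, true), (11, 36, true), (10, 36, true), (9, 37, true), (8, 37, true), (7, 39, true), (6, 39, true), (5, 40, true), (4, 43, true), (2, 44, true), (6, 6, true), (5, 6, true), (4, 8, true), (7, 3, true), (6, 3, true), (8, 3, true), (7, 3, true), (5, 5, true), (5, 0, true), (8, 1, true), (9, 1, true), (10, 0, true), (9, 29, true), (8, 29, true), (7, 30, true), (6, 30, true), (5, 31, true), (4, 31, true), (3, 32, true), (6, 6, true), (5, 8, true), (7, 6, true), (6, 8, true), (8, 3, true), (9, 3, true), (7, 5, true), (7, 3, true), (8, 1, true), (9, 0, true), (8, 4, true), (12, 28, true), (11, 28, true), (10, 29, true), (9, 29, true), (8, 30, true), (7, 30, true), (6, 31, true), (5, 31, true), (4, 32, true), (2, 35, true), (4, 6, true), (3, 8, true), (5, 6, true), (4, 8, true), (6, 3, true), (7, 3, true), (5, 5, true), (5, 3, true), (6, 1, true), (7, 0, true), (6, 4, true), (9, 0, true), (9, 15, true), (8, 16, true), (7, 16, true), (6, 17, true), (5, 17, true), (4, 18, true), (3, 18, true), (2, 19, true),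 (4, 8, true), (5, 5, true), (5, 6, true), (6, 3, true), (7, 3, true), (9, 3, true), (8, 3, true), (6, 5, true), (7, 3, true), (6, 3, true), (8, 3, true), (7, 3, true), (9, 1, true), (8, 1, true), (9, 0, true), (9, 3, true), (8, 4, true), (6, 5, true), (7, 1, true), (8, 0, true), (8, 10, true), (7, 11, true), (6, 11, true), (5, 13, true), (4, 13, true), (8, 6, true), (7, 8, true), (6, 8, true), (9, 3, true), (7, 5, true), (7, 3, true), (9, 3, true), (8, 3, true), (10, 1, true), (9, 1, true), (10, 0, true), (10, 3, true), (9, 4, true), (7, 5, true), (8, 1, true), (9, 0, true), (9, 10, true), (8, 11, true), (7, 11, true), (6, 13, true), (5, 13, true), (3, 14, true), (6, 6, true), (5, 8, true), (4, 8, true), (7, 3, true), (5, 5, true), (5, 3, true), (7, 3, true), (6, 3, true), (8, 1, true), (7, 1, true), (8, 0, true), (8, 3, true), (7, 4, true), (5, 5, true), (6, 1, true), (7, 0, true), (7, 6, true), (6, 7, true), (5, 7, true), (3, 9, true), (6, 3, true), (5, 4, true), (3, 5, true), (4, 3, true), (3, 4, true), (5, 1, true), (6, 0, true),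 (5, 7, true), (4, 7, true), (3, 8, true), (4, 5, true), (5, 3, true), (4, 4, true), (6, 3, true), (5, 4, true), (7, 1, true), (9, 3, true), (8, 3, true), (7, 4, true), (6, 4, true), (4, 5, true), (7, 3, true), (6, 3, true), (5, 4, true), (4, 4, true), (7, 0, true), (6, 16, true), (5, 16, true), (4, 17, true), (3, 18, true), (7, 3, true), (5, 5, true), (5, 3, true), (6, 1, true), (7, 0, true), (6, 4, true), (10, 10, true), (9, 10, true), (8, 11, true), (7, 11, true), (6, 12, true), (5, 12, true), (4, 13, true), (8, 3, true), (6, 5, true), (6, 3, true), (7, 3, true), (8, 1, true), (9, 0, true), (8, 4, true), (6, 5, true), (8, 0, true), (8, 10, true), (7, 11, true), (6, 11, true), (5, 13, true), (9, 3, true), (7, 5, true), (7, 1, true), (8, 0, true), (7, 4, true), (10, 0, true), (9, 7, true), (8, 7, true), (7, 8, true), (8, 5, true), (9, 3, true), (8, 4, true), (10, 3, true), (9, 4, true), (11, 1, true), (13, 3, true), (12, 3, true), (11, 4, true), (10, 4, true), (8, 5, true), (11, 3, true), (10, 3, true), (9, 4, true), (8, 4, true), (12,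 1, true), (11, 1, true), (9, 2, true), (10, 1, true), (9, 1, true), (11, 15, true), (10, 15, true), (9, 16, true), (8, 17, true), (7, 18, true), (6, 18, true), (5, 19, true), (4, 19, true), (2, 20, true), (3, 12, true), (5, 8, true), (4, 8, true), (5, 5, true), (6, 6, true), (5, 8, true), (7, 3, true), (8, 3, true), (6, 5, true), (7, 3, true), (6, 3, true), (8, 3, true), (7, 3, true), (9, 1, true), (8, 1, true), (9, 0, true), (9, 0, true), (8, 11, true), (7, 12, true), (6, 12, true), (5, 13, true), (4, 13, true), (2, 14, true), (5, 6, true), (4, 8, true), (3, 8, true), (6, 3, true), (4, 5, true), (4, 3, true), (6, 3, true), (5, 3, true), (7, 3, true), (6, 3, true), (4, 5, true), (5, 3, true), (4, 3, true), (6, 1, true), (5, 1, true), (6, 0, true), (6, 10, true), (5, 11, true), (4, 12, true), (3, 13, true), (2, 13, true), (6, 6, true), (5, 8, true), (4, 8, true), (7, 3, true), (5, 5, true), (5, 3, true), (7, 3, true), (6, 3, true), (8, 3, true), (7, 3, true), (5, 5, true), (6, 1, true), (5, 1, true), (6, 0, true), (7, 6, true), (6, 6,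 true), (5, 7, true), (3, 9, true), (6, 0, true), (5, 4, true), (3, 5, true), (3, 4, true), (4, 2, true), (3, 17, true), (2, 19, true), (5, 8, true), (4, 8, true), (5, 5, true), (7, 3, true), (6, 3, true), (5, 4, true), (8, 3, true), (7, 3, true), (6, 4, true), (8, 0, true), (7, 16, true), (6, 17, true), (5, 17, true), (4, 18, true), (3, 19, true), (5, 8, true), (6, 5, true), (6, 3, true), (7, 3, true), (8, 3, true), (6, 5, true), (6, 1, true), (7, 0, true), (6, 11, true), (5, 13, true), (9, 3, true), (7, 5, true), (7, 1, true), (8, 0, true), (7, 7, true), (11, 6, true), (10, 7, true), (9, 8, true), (8, 8, true), (6, 9, true), (6, 5, true), (9, 3, true), (8, 3, true), (7, 4, true), (10, 1, true), (9, 1, true), (11, 1, true), (10, 1, true), (8, 2, true), (9, 15, true), (8, 15, true), (7, 17, true), (6, 17, true), (5, 19, true), (4, 19, true), (2, 20, true), (3, 12, true), (4, 5, true), (6, 10, true), (5, 10, true), (4, 12, true), (2, 14, true), (4, 6, true), (3, 6, true), (2, 8, true), (5, 6, true), (4, 6, true), (3, 8, true), (6, 3,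 true), (5, 3, true), (7, 1, true), (6, 1, true), (8, 1, true), (7, 1, true), (8, 0, true)]),
    ([13, 9, 8, 8, 4, 4, 1, 9, 8, 8, 4, 4, 1, 9, 8, 8, 4, 4, 1], [(0, 84, true), (10, 84, true), (20, 84, true), (9, 45, true), (8, 46, true), (7, 46, true), (6, 48, true), (5, 49, true), (4, 52, true), (3, 53, true), (2, 53, true), (0, 54, true), (5, 36, true), (4, 36, true), (3, 38, true), (2, 38, true), (1, 43, true), (6, 28, true), (5, 28, true), (4, 30, true), (3, 30, true), (7, 3, true), (6, 3, true), (4, 5, true), (5, 3, true), (4, 3, true), (5, 0, true), (5, 28, true), (4, 30, true), (2, 35, true), (3, 0, true), (2, 38, true), (0, 44, true), (0, 30, true), (1, 30, true), (2, 17, true), (3, 17, true), (7, 29, true), (6, 29, true), (5, 30, true), (4, 30, true), (3, 33, true), (2, 33, true), (0, 35, true), (2, 15, true), (1, 17, true), (3, 3, true), (5, 3, true), (4, 3, true), (2, 5, true), (3, 3, true), (2, 3, true), (4, 3, true), (3, 3, true), (5, 1, true), (4, 1, true), (5, 0, true), (5, 3, true), (4, 4, true), (2, 5, true), (3, 1, true),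 (4, 0, true), (3, 29, true), (2, 29, true), (1, 33, true), (0, 33, true), (3, 15, true), (2, 17, true), (4, 3, true), (6, 3, true), (5, 3, true), (3, 5, true), (4, 1, true), (3, 1, true), (4, 0, true), (4, 3, true), (3, 4, true), (5, 1, true), (6, 0, true), (5, 16, true), (4, 16, true), (3, 17, true), (1, 20, true), (5, 3, true), (4, 3, true), (3, 4, true), (1, 5, true), (3, 1, true), (2, 1, true), (3, 0, true), (3, 15, true), (2, 16, true), (1, 16, true), (5, 3, true), (4, 3, true), (3, 4, true), (6, 1, true), (5, 1, true), (6, 0, true), (7, 10, true), (6, 10, true), (5, 11, true), (4, 11, true), (3, 12, true), (2, 12, true), (3, 5, true), (5, 3, true), (4, 3, true), (3, 4, true), (6, 1, true), (5, 1, true), (6, 0, true), (6, 0, true), (5, 7, true), (4, 7, true), (3, 8, true), (4, 5, true), (5, 3, true), (4, 4, true), (6, 3, true), (5, 4, true), (7, 1, true), (9, 6, true), (8, 6, true), (7, 7, true), (6, 7, true), (5, 8, true), (4, 8, true), (5, 5, true), (7, 3, true), (6, 4, true), (8, 3, true), (7, 4, true), (5, 5, true), (6, 1,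 true), (7, 0, true), (7, 36, true), (6, 37, true), (5, 37, true), (4, 39, true), (3, 39, true), (2, 40, true), (1, 41, true), (0, 43, true), (4, 10, true), (3, 10, true), (5, 3, true), (4, 3, true), (5, 0, true), (5, 6, true), (4, 8, true), (6, 3, true), (7, 3, true), (5, 5, true), (6, 6, true), (5, 6, true), (7, 3, true), (6, 3, true), (8, 3, true), (7, 3, true), (8, 0, true), (10, 36, true), (9, 37, true), (8, 37, true), (7, 38, true), (6, 38, true), (5, 39, true), (4, 39, true), (3, 40, true), (2, 41, true), (1, 43, true), (5, 10, true), (4, 10, true), (6, 3, true), (5, 3, true), (6, 0, true), (6, 6, true), (5, 8, true), (7, 3, true), (8, 3, true), (6, 5, true), (7, 6, true), (6, 6, true), (8, 3, true), (7, 3, true), (9, 3, true), (8, 3, true), (9, 0, true), (7, 5, true), (10, 28, true), (9, 29, true), (8, 29, true), (7, 30, true), (6, 31, true), (5, 31, true), (4, 32, true), (3, 33, true), (6, 10, true), (5, 12, true), (7, 3, true), (9, 6, true), (8, 6, true), (7, 8, true), (6, 8, true), (10, 6, true), (9, 6, true), (8, 8, true),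 (7, 8, true), (11, 3, true), (10, 3, true), (8, 5, true), (9, 3, true), (8, 3, true), (10, 1, true), (9, 1, true), (10, 0, true), (10, 3, true), (9, 4, true), (11, 1, true), (12, 0, true), (12, 28, true), (11, 29, true), (10, 29, true), (9, 30, true), (8, 30, true), (7, 31, true), (6, 31, true), (5, 32, true), (4, 33, true), (2, 35, true), (4, 10, true), (3, 12, true), (5, 3, true), (7, 6, true), (6, 6, true), (5, 8, true), (4, 8, true), (8, 6, true), (7, 6, true), (6, 8, true), (5, 8, true), (9, 3, true), (8, 3, true), (6, 5, true), (7, 3, true), (6, 3, true), (8, 3, true), (7, 3, true), (9, 1, true), (8, 1, true), (9, 0, true), (9, 3, true), (8, 4, true), (6, 5, true), (7, 1, true), (8, 0, true), (8, 15, true), (7, 16, true), (6, 16, true), (5, 18, true), (4, 18, true), (3, 19, true), (5, 8, true), (6, 5, true), (6, 6, true), (7, 3, true), (8, 3, true), (10, 3, true), (9, 3, true), (7, 5, true), (8, 1, true), (7, 1, true), (8, 0, true), (8, 3, true), (7, 4, true), (9, 1, true), (10, 0, true), (10, 15, true), (9, 16, true), (8, 16,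 true), (7, 17, true), (6, 18, true), (5, 18, true), (4, 19, true), (2, 20, true), (3, 8, true), (4, 5, true), (4, 6, true), (5, 3, true), (6, 3, true), (8, 3, true), (7, 3, true), (5, 5, true), (6, 3, true), (5, 3, true), (7, 1, true), (6, 1, true), (7, 0, true), (7, 3, true), (6, 4, true), (8, 1, true), (9, 0, true), (9, 10, true), (8, 11, true), (7, 11, true), (6, 12, true), (5, 12, true), (4, 13, true), (3, 13, true), (7, 6, true), (6, 8, true), (5, 8, true), (8, 3, true), (6, 5, true), (6, 3, true), (8, 3, true), (7, 3, true), (9, 3, true), (8, 3, true), (6, 5, true), (7, 3, true), (6, 3, true), (8, 1, true), (7, 1, true), (8, 0, true), (8, 3, true), (7, 4, true), (9, 1, true), (10, 0, true), (10, 10, true), (9, 11, true), (8, 11, true), (7, 12, true), (6, 12, true), (5, 13, true), (4, 13, true), (2, 14, true), (5, 6, true), (4, 8, true), (3, 8, true), (6, 3, true), (4, 5, true), (4, 3, true), (6, 3, true), (5, 3, true), (7, 3, true), (6, 3, true), (4, 5, true), (5, 3, true), (4, 3, true), (6, 1, true), (5, 1, true), (6, 0, true),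 (6, 3, true), (5, 4, true), (7, 1, true), (8, 0, true), (8, 3, true), (7, 4, true), (6, 4, true), (4, 5, true), (6, 36, true), (5, 37, true), (4, 37, true), (3, 39, true), (2, 39, true), (0, 44, true), (3, 6, true), (2, 8, true), (1, 8, true), (4, 3, true), (2, 5, true), (2, 3, true), (4, 1, true), (3, 1, true), (5, 1, true), (4, 1, true), (5, 0, true), (4, 37, true), (3, 37, true), (2, 38, true), (1, 39, true), (0, 39, true), (4, 6, true), (3, 8, true), (2, 8, true), (5, 3, true), (3, 5, true), (3, 3, true), (5, 3, true), (4, 3, true), (6, 1, true), (5, 1, true), (7, 1, true), (6, 1, true), (8, 28, true), (7, 28, true), (6, 29, true), (5, 29, true), (4, 30, true), (3, 30, true), (2, 31, true), (1, 31, true), (4, 5, true), (6, 3, true), (5, 3, true), (4, 4, true), (7, 1, true), (6, 1, true), (7, 0, true), (7, 0, true), (6, 29, true), (5, 29, true), (4, 30, true), (3, 31, true), (2, 31, true), (9, 3, true), (8, 3, true), (7, 4, true), (5, 5, true), (7, 1, true), (6, 1, true), (7, 0, true), (7, 15, true), (6, 16, true), (5, 16, true),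 (4, 18, true), (3, 18, true), (7, 6, true), (6, 8, true), (5, 8, true), (8, 3, true), (6, 5, true), (6, 3, true), (8, 3, true), (7, 3, true), (9, 1, true), (8, 1, true), (9, 0, true), (9, 3, true), (8, 4, true), (6, 5, true), (7, 1, true), (8, 0, true), (8, 15, true), (7, 16, true), (6, 16, true), (5, 18, true), (4, 18, true), (8, 6, true), (7, 8, true), (6, 8, true), (9, 3, true), (7, 5, true), (7, 3, true), (9, 3, true), (8, 3, true), (10, 1, true), (9, 1, true), (10, 0, true), (10, 3, true), (9, 4, true), (7, 5, true), (8, 1, true), (9, 0, true), (9, 10, true), (8, 11, true), (7, 11, true), (6, 13, true), (5, 13, true), (9, 6, true), (8, 8, true), (7, 8, true), (10, 3, true), (8, 5, true), (8, 3, true), (10, 3, true), (9, 3, true), (11, 1, true), (10, 1, true), (11, 0, true), (11, 3, true), (10, 4, true), (8, 5, true), (9, 1, true), (10, 0, true), (10, 10, true), (9, 11, true), (8, 11, true), (7, 13, true), (6, 13, true), (10, 6, true), (9, 8, true), (8, 8, true), (11, 3, true), (9, 5, true), (9, 3, true), (11, 3, true), (10, 3,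 true), (12, 1, true), (11, 1, true), (12, 0, true), (12, 3, true), (11, 4, true), (9, 5, true), (10, 1, true), (11, 0, true), (11, 3, true), (10, 4, true), (9, 4, true), (13, 45, true), (12, 45, true), (11, 46, true), (10, 46, true), (9, 47, true), (8, 48, true), (7, 48, true), (6, 49, true), (5, 49, true), (4, 50, true), (3, 50, true), (2, 52, true), (1, 52, true), (0, 53, true), (6, 28, true), (5, 28, true), (4, 30, true), (3, 30, true), (6, 0, true), (6, 28, true), (5, 30, true), (4, 30, true), (2, 35, true), (4, 0, true), (3, 38, true), (2, 38, true), (4, 30, true), (3, 30, true), (5, 30, true), (4, 30, true), (6, 17, true), (5, 17, true), (7, 17, true), (6, 17, true), (8, 8, true), (7, 8, true), (8, 5, true), (10, 36, true), (9, 37, true), (8, 37, true), (7, 39, true), (6, 41, true), (5, 41, true), (4, 43, true), (3, 43, true), (1, 44, true), (5, 15, true), (4, 15, true), (5, 0, true), (5, 6, true), (6, 3, true), (7, 3, true), (9, 1, true), (8, 1, true), (10, 1, true), (9, 1, true), (10, 0, true), (9, 29, true), (8, 29, true),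 (7, 30, true), (6, 30, true), (5, 31, true), (4, 33, true), (3, 33, true), (1, 35, true), (3, 15, true), (2, 17, true), (4, 3, true), (6, 6, true), (5, 6, true), (4, 8, true), (3, 8, true), (7, 3, true), (6, 3, true), (4, 5, true), (5, 3, true), (4, 3, true), (6, 3, true), (5, 3, true), (7, 1, true), (6, 1, true), (7, 0, true), (7, 3, true), (6, 4, true), (4, 5, true), (5, 1, true), (6, 0, true), (5, 29, true), (4, 29, true), (3, 31, true), (2, 33, true), (1, 33, true), (4, 15, true), (3, 17, true), (5, 3, true), (7, 6, true), (6, 6, true), (5, 8, true), (4, 8, true), (8, 3, true), (7, 3, true), (5, 5, true), (6, 1, true), (5, 1, true), (6, 0, true), (6, 3, true), (5, 4, true), (7, 1, true), (8, 0, true), (7, 16, true), (6, 16, true), (5, 17, true), (4, 18, true), (2, 20, true), (5, 3, true), (3, 5, true), (3, 3, true), (4, 1, true), (5, 0, true), (4, 4, true), (8, 15, true), (7, 15, true), (6, 16, true), (5, 16, true), (4, 17, true), (3, 17, true), (2, 18, true), (6, 3, true), (4, 5, true), (4, 3, true), (5, 3, true), (6, 1, true),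 (7, 0, true), (6, 4, true), (4, 5, true), (6, 0, true), (6, 6, true), (5, 7, true), (4, 7, true), (8, 3, true), (7, 4, true), (5, 5, true), (6, 3, true), (5, 4, true), (7, 1, true), (8, 0, true), (7, 4, true), (6, 4, true), (7, 2, true), (8, 36, true), (7, 37, true), (6, 38, true), (5, 38, true), (4, 39, true), (3, 39, true), (2, 41, true), (1, 43, true), (5, 6, true), (4, 6, true), (6, 3, true), (5, 3, true), (7, 3, true), (6, 3, true), (7, 0, true), (6, 8, true), (5, 8, true), (6, 5, true), (7, 3, true), (8, 3, true), (6, 5, true), (6, 1, true), (8, 28, true), (7, 28, true), (6, 29, true), (5, 31, true), (4, 31, true), (3, 33, true), (6, 6, true), (5, 8, true), (7, 6, true), (6, 8, true), (8, 3, true), (9, 1, true), (10, 0, true), (11, 28, true), (10, 28, true), (9, 29, true), (8, 30, true), (7, 30, true), (6, 31, true), (5, 31, true), (4, 33, true), (2, 35, true), (4, 6, true), (3, 8, true), (5, 6, true), (4, 8, true), (6, 3, true), (7, 3, true), (5, 5, true), (5, 3, true), (6, 1, true), (7, 0, true), (8, 15, true), (7, 15, true),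 (6, 16, true), (5, 17, true), (4, 18, true), (3, 18, true), (7, 6, true), (6, 8, true), (5, 8, true), (8, 3, true), (6, 5, true), (6, 3, true), (8, 3, true), (7, 3, true), (9, 3, true), (8, 3, true), (6, 5, true), (7, 1, true), (6, 1, true), (7, 0, true), (7, 0, true), (6, 16, true), (5, 18, true), (4, 18, true), (2, 20, true), (5, 6, true), (4, 8, true), (3, 8, true), (6, 3, true), (4, 5, true), (4, 3, true), (6, 3, true), (5, 3, true), (7, 1, true), (6, 1, true), (7, 0, true), (7, 3, true), (6, 4, true), (4, 5, true), (5, 1, true), (6, 1, true), (4, 2, true), (4, 36, true), (3, 39, true), (2, 39, true), (6, 6, true), (5, 8, true), (4, 8, true), (7, 3, true), (5, 5, true), (5, 3, true), (6, 0, true), (5, 30, true), (4, 31, true), (3, 31, true), (6, 30, true), (5, 31, true), (4, 31, true), (7, 17, true), (6, 18, true), (5, 18, true), (9, 6, true), (8, 8, true), (7, 8, true), (10, 3, true), (8, 5, true), (8, 3, true), (10, 3, true), (9, 3, true), (11, 15, true), (10, 15, true), (9, 17, true), (8, 17, true), (7, 18, true), (6, 18, true),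 (10, 6, true), (9, 8, true), (8, 8, true), (11, 3, true), (9, 5, true), (9, 3, true), (11, 3, true), (10, 3, true), (12, 3, true), (11, 3, true), (9, 5, true), (9, 0, true), (9, 3, true), (10, 1, true), (11, 1, true), (12, 28, true), (11, 29, true), (10, 29, true), (9, 30, true), (8, 31, true), (7, 31, true), (6, 33, true), (5, 33, true), (3, 35, true), (5, 15, true), (4, 17, true), (6, 3, true), (8, 6, true), (7, 6, true), (6, 8, true), (5, 8, true), (9, 6, true), (8, 6, true), (7, 8, true), (6, 8, true), (10, 3, true), (9, 3, true), (7, 5, true), (8, 3, true), (7, 3, true), (9, 1, true), (8, 1, true), (9, 0, true), (9, 3, true), (8, 4, true), (10, 1, true), (11, 0, true), (11, 28, true), (10, 29, true), (9, 29, true), (8, 30, true), (7, 30, true), (6, 31, true), (5, 31, true), (4, 33, true), (3, 33, true), (6, 15, true), (5, 17, true), (7, 3, true), (9, 6, true), (8, 6, true), (7, 8, true), (6, 8, true), (10, 6, true), (9, 6, true), (8, 8, true), (7, 8, true), (11, 3, true), (10, 3, true), (8, 5, true), (9, 3, true), (8, 3, true),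 (10, 3, true), (9, 3, true), (11, 1, true), (10, 1, true), (11, 0, true), (11, 3, true), (10, 4, true), (8, 5, true), (9, 1, true), (10, 0, true), (10, 15, true), (9, 16, true), (8, 16, true), (7, 18, true), (6, 18, true), (4, 20, true), (7, 6, true), (6, 8, true), (5, 8, true), (8, 3, true), (6, 5, true), (6, 3, true), (8, 3, true), (7, 3, true), (9, 1, true), (8, 1, true), (9, 0, true), (9, 3, true), (8, 4, true), (6, 5, true), (7, 1, true), (8, 0, true), (8, 15, true), (7, 16, true), (6, 16, true), (5, 18, true), (4, 18, true), (8, 6, true), (7, 8, true), (6, 8, true), (9, 3, true), (7, 5, true), (7, 3, true), (9, 3, true), (8, 3, true), (10, 1, true), (9, 1, true), (10, 0, true), (10, 3, true), (9, 4, true), (7, 5, true), (8, 1, true), (9, 0, true), (9, 10, true), (8, 11, true), (7, 11, true), (6, 13, true), (5, 13, true), (9, 6, true), (8, 8, true), (7, 8, true), (10, 3, true), (8, 5, true), (8, 3, true), (10, 3, true), (9, 3, true), (11, 1, true), (10, 1, true), (11, 0, true), (11, 3, true), (10, 4, true), (8, 5, true), (9, 1,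 true), (10, 0, true), (10, 6, true), (9, 7, true), (8, 7, true), (6, 9, true), (9, 3, true), (8, 4, true), (6, 5, true), (7, 3, true), (6, 4, true), (8, 1, true), (9, 0, true), (8, 7, true), (7, 7, true), (6, 8, true), (7, 5, true), (8, 3, true), (7, 4, true), (9, 3, true), (8, 4, true), (10, 1, true), (12, 28, true), (11, 28, true), (10, 29, true), (9, 29, true), (8, 30, true), (7, 30, true), (6, 31, true), (5, 32, true), (4, 33, true), (7, 10, true), (6, 12, true), (8, 3, true), (10, 6, true), (9, 6, true), (8, 8, true), (7, 8, true), (11, 3, true), (10, 3, true), (8, 5, true), (9, 3, true), (8, 3, true), (10, 3, true), (9, 3, true), (11, 1, true), (10, 1, true), (11, 0, true), (11, 3, true), (10, 4, true), (8, 5, true), (9, 1, true), (10, 0, true), (11, 28, true), (10, 28, true), (9, 29, true), (8, 29, true), (7, 31, true), (6, 32, true), (5, 33, true), (3, 35, true), (5, 10, true), (4, 12, true), (6, 3, true), (8, 6, true), (7, 6, true), (6, 8, true), (5, 8, true), (9, 3, true), (8, 3, true), (6, 5, true), (7, 1, true), (6, 1, true),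 (7, 0, true), (7, 3, true), (6, 4, true), (8, 1, true), (9, 0, true), (10, 15, true), (9, 15, true), (8, 16, true), (7, 16, true), (6, 17, true), (5, 18, true), (4, 19, true), (6, 8, true), (7, 5, true), (7, 3, true), (8, 3, true), (9, 1, true), (10, 0, true), (9, 4, true), (7, 5, true), (9, 0, true), (9, 15, true), (8, 16, true), (7, 16, true), (6, 18, true), (5, 19, true), (3, 20, true), (4, 8, true), (5, 5, true), (5, 3, true), (6, 1, true), (7, 0, true), (6, 4, true), (9, 0, true), (8, 11, true), (7, 11, true), (6, 12, true), (5, 12, true), (4, 13, true), (8, 3, true), (6, 5, true), (6, 3, true), (7, 3, true), (8, 1, true), (9, 0, true), (8, 4, true), (6, 5, true), (9, 6, true), (8, 6, true), (7, 7, true), (6, 7, true), (10, 3, true), (9, 4, true), (7, 5, true), (8, 3, true), (7, 4, true), (9, 1, true), (10, 0, true), (10, 6, true), (9, 7, true), (8, 7, true), (7, 8, true), (5, 9, true), (5, 5, true), (6, 3, true), (5, 4, true), (7, 3, true), (6, 4, true), (8, 1, true), (9, 0, true), (8, 4, true), (7, 4, true), (5, 5, true), (8,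 36, true), (7, 36, true), (6, 37, true), (5, 37, true), (4, 40, true), (3, 40, true), (1, 44, true), (4, 10, true), (3, 10, true), (2, 12, true), (5, 3, true), (4, 3, true), (5, 0, true), (5, 1, true), (6, 1, true), (7, 0, true), (6, 37, true), (5, 37, true), (4, 38, true), (3, 38, true), (2, 40, true), (1, 40, true), (5, 10, true), (4, 10, true), (3, 12, true), (6, 3, true), (5, 3, true), (6, 0, true), (6, 3, true), (4, 5, true), (4, 3, true), (5, 1, true), (6, 1, true), (7, 28, true), (6, 29, true), (5, 29, true), (4, 30, true), (3, 32, true), (2, 32, true), (5, 10, true), (4, 12, true), (6, 3, true), (8, 3, true), (7, 3, true), (5, 5, true), (6, 3, true), (5, 3, true), (7, 1, true), (6, 1, true), (7, 0, true), (7, 3, true), (6, 4, true), (8, 1, true), (9, 0, true), (9, 28, true), (8, 29, true), (7, 29, true), (6, 30, true), (5, 30, true), (4, 32, true), (3, 32, true), (6, 10, true), (5, 12, true), (7, 3, true), (9, 3, true), (8, 3, true), (6, 5, true), (7, 3, true), (6, 3, true), (8, 3, true), (7, 3, true), (9, 1, true), (8, 1, true),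 (9, 0, true), (9, 3, true), (8, 4, true), (6, 5, true), (7, 1, true), (8, 0, true), (8, 15, true), (7, 16, true), (6, 16, true), (5, 19, true), (4, 19, true), (6, 12, true), (7, 5, true), (9, 3, true), (8, 3, true), (7, 4, true), (10, 1, true), (9, 1, true), (10, 0, true), (11, 15, true), (10, 15, true), (9, 16, true), (8, 16, true), (7, 17, true), (6, 19, true), (5, 19, true), (7, 12, true), (8, 5, true), (11, 3, true), (10, 3, true), (9, 4, true), (12, 1, true), (11, 1, true), (12, 0, true), (12, 0, true), (11, 11, true), (10, 11, true), (9, 12, true), (8, 12, true), (6, 14, true), (6, 5, true), (8, 3, true), (7, 3, true), (6, 4, true), (9, 1, true), (8, 1, true), (9, 0, true), (9, 10, true), (8, 11, true), (7, 11, true), (6, 12, true), (11, 3, true), (10, 3, true), (9, 4, true), (7, 5, true), (9, 1, true), (8, 1, true), (9, 0, true), (10, 3, true), (9, 3, true), (8, 4, true), (7, 4, true), (11, 36, true), (10, 36, true), (9, 37, true), (8, 37, true), (7, 38, true), (6, 40, true), (5, 41, true), (4, 41, true), (3, 43, true), (2, 43,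 true), (7, 15, true), (6, 15, true), (7, 0, true), (7, 10, true), (8, 3, true), (9, 0, true), (13, 36, true), (12, 36, true), (11, 37, true), (10, 37, true), (9, 38, true), (8, 38, true), (7, 40, true), (6, 41, true), (5, 41, true), (4, 43, true), (3, 43, true), (1, 44, true), (5, 15, true), (4, 15, true), (5, 0, true), (5, 10, true), (6, 3, true), (7, 0, true), (6, 5, true), (9, 28, true), (8, 28, true), (7, 29, true), (6, 29, true), (5, 32, true), (4, 33, true), (3, 33, true), (1, 35, true), (3, 15, true), (2, 17, true), (4, 3, true), (6, 10, true), (5, 10, true), (4, 12, true), (3, 12, true), (7, 3, true), (6, 3, true), (4, 5, true), (4, 0, true), (7, 3, true), (6, 3, true), (5, 4, true), (8, 1, true), (7, 1, true), (8, 0, true), (8, 0, true), (7, 29, true), (6, 29, true), (5, 30, true), (4, 30, true), (3, 32, true), (2, 33, true), (1, 33, true), (4, 15, true), (3, 17, true), (5, 3, true), (7, 10, true), (6, 10, true), (5, 12, true), (4, 12, true), (8, 3, true), (7, 3, true), (5, 5, true), (5, 0, true), (5, 5, true), (7, 3, true),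 (6, 3, true), (5, 4, true), (8, 1, true), (7, 1, true), (8, 0, true), (8, 15, true), (7, 16, true), (6, 16, true), (5, 17, true), (4, 19, true), (2, 20, true), (3, 5, true), (5, 3, true), (4, 3, true), (3, 4, true), (6, 1, true), (5, 1, true), (6, 0, true), (7, 15, true), (6, 15, true), (5, 16, true), (4, 16, true), (3, 17, true), (2, 19, true), (4, 5, true), (6, 3, true), (5, 3, true), (4, 4, true), (7, 1, true), (6, 1, true), (7, 0, true), (7, 0, true), (6, 11, true), (5, 11, true), (4, 12, true), (9, 3, true), (8, 3, true), (7, 4, true), (5, 5, true), (7, 1, true), (6, 1, true), (7, 0, true), (7, 10, true), (6, 11, true), (5, 11, true), (3, 14, true), (6, 3, true), (5, 3, true), (4, 4, true), (7, 1, true), (6, 1, true), (7, 0, true), (8, 3, true), (7, 3, true), (6, 4, true), (5, 4, true), (3, 5, true), (5, 0, true), (5, 36, true), (4, 37, true), (3, 37, true), (2, 41, true), (1, 43, true), (5, 1, true), (4, 1, true), (6, 1, true), (5, 1, true), (6, 0, true), (5, 37, true), (4, 37, true), (3, 41, true), (2, 43, true), (6, 1, true),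 (5, 1, true), (7, 1, true), (6, 1, true), (8, 28, true), (7, 28, true), (6, 29, true), (5, 29, true), (4, 33, true), (7, 3, true), (8, 1, true), (9, 0, true), (8, 4, true), (6, 5, true), (8, 0, true), (8, 10, true), (7, 11, true), (6, 11, true), (10, 3, true), (9, 3, true), (8, 4, true), (11, 1, true), (10, 1, true), (11, 0, true), (12, 6, true), (11, 6, true), (10, 7, true), (9, 7, true), (8, 8, true), (7, 8, true), (8, 5, true), (10, 3, true), (9, 4, true), (11, 3, true), (10, 4, true), (8, 5, true), (9, 1, true), (10, 0, true), (10, 1, true), (8, 2, true), (8, 1, true), (10, 45, true), (9, 45, true), (8, 46, true), (7, 48, true), (6, 49, true), (5, 50, true), (4, 52, true), (3, 52, true), (2, 53, true), (1, 53, true), (7, 36, true), (6, 36, true), (5, 38, true), (4, 38, true), (3, 43, true), (8, 28, true), (7, 28, true), (6, 30, true), (5, 30, true), (9, 3, true), (8, 3, true), (6, 5, true), (7, 3, true), (6, 3, true), (7, 0, true), (7, 28, true), (6, 30, true), (4, 35, true), (5, 0, true), (4, 30, true), (7, 36, true), (6, 36, true),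 (5, 38, true), (4, 43, true), (2, 44, true), (5, 28, true), (4, 28, true), (3, 30, true), (6, 28, true), (5, 28, true), (4, 30, true), (2, 35, true), (4, 15, true), (3, 15, true), (2, 17, true), (5, 15, true), (4, 15, true), (3, 17, true), (6, 6, true), (5, 6, true), (4, 8, true), (7, 3, true), (6, 3, true), (8, 1, true), (7, 1, true), (9, 1, true), (8, 1, true), (9, 0, true), (8, 37, true), (7, 37, true), (6, 38, true), (5, 38, true), (4, 39, true), (3, 41, true), (2, 41, true), (5, 15, true), (4, 15, true), (5, 0, true), (5, 6, true), (6, 3, true), (7, 3, true), (9, 3, true), (8, 3, true), (6, 5, true), (7, 3, true), (6, 3, true), (8, 1, true), (7, 1, true), (9, 1, true), (8, 1, true), (10, 28, true), (9, 28, true), (8, 29, true), (7, 29, true), (6, 30, true), (5, 31, true), (4, 33, true), (3, 33, true), (6, 15, true), (5, 17, true), (7, 3, true), (9, 6, true), (8, 6, true), (7, 8, true), (6, 8, true), (10, 3, true), (9, 3, true), (7, 5, true), (8, 3, true), (7, 3, true), (9, 1, true), (8, 1, true), (9, 0, true), (9, 3, true), (8,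 4, true), (10, 1, true), (11, 0, true), (12, 28, true), (11, 28, true), (10, 29, true), (9, 29, true), (8, 30, true), (7, 30, true), (6, 31, true), (5, 33, true), (4, 33, true), (7, 15, true), (6, 17, true), (8, 3, true), (10, 6, true), (9, 6, true), (8, 8, true), (7, 8, true), (11, 3, true), (10, 3, true), (8, 5, true), (9, 3, true), (8, 3, true), (10, 3, true), (9, 3, true), (11, 1, true), (10, 1, true), (11, 0, true), (11, 3, true), (10, 4, true), (8, 5, true), (9, 1, true), (10, 0, true), (11, 15, true), (10, 15, true), (9, 16, true), (8, 16, true), (7, 18, true), (5, 20, true), (8, 3, true), (6, 5, true), (6, 1, true), (7, 0, true), (6, 4, true), (9, 0, true), (9, 15, true), (8, 16, true), (7, 16, true), (6, 17, true), (5, 18, true), (9, 3, true), (7, 5, true), (7, 3, true), (8, 1, true), (9, 0, true), (8, 4, true), (11, 0, true), (10, 4, true), (9, 4, true), (7, 5, true), (7, 2, true), (7, 29, true), (6, 31, true), (5, 33, true), (3, 35, true), (5, 6, true), (4, 8, true), (6, 3, true), (7, 1, true), (8, 0, true), (7, 29, true),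 (6, 30, true), (5, 30, true), (4, 31, true), (3, 33, true), (6, 6, true), (5, 8, true), (7, 3, true), (8, 3, true), (6, 5, true), (6, 3, true), (7, 1, true), (8, 0, true), (7, 16, true), (6, 17, true), (5, 18, true), (9, 3, true), (7, 5, true), (7, 3, true), (8, 1, true), (9, 0, true), (8, 16, true), (7, 17, true), (6, 18, true), (4, 20, true), (7, 3, true), (5, 5, true), (5, 3, true), (6, 1, true), (7, 0, true), (6, 11, true), (5, 12, true), (4, 13, true), (8, 3, true), (6, 5, true), (6, 3, true), (7, 1, true), (8, 0, true), (7, 7, true), (6, 8, true), (7, 5, true), (8, 6, true), (7, 7, true), (5, 9, true), (9, 36, true), (8, 36, true), (7, 37, true), (6, 38, true), (5, 38, true), (4, 40, true), (3, 43, true), (8, 3, true), (7, 3, true), (9, 3, true), (8, 3, true), (6, 5, true), (7, 1, true), (6, 1, true), (7, 0, true), (7, 36, true), (6, 37, true), (5, 40, true), (4, 43, true), (2, 44, true), (6, 1, true), (5, 1, true), (6, 0, true), (5, 29, true), (4, 30, true), (3, 32, true), (6, 3, true), (7, 3, true), (5, 5, true), (5, 1, true),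 (6, 0, true), (5, 29, true), (4, 32, true), (2, 35, true), (4, 3, true), (5, 1, true), (6, 0, true), (5, 16, true), (4, 17, true), (3, 17, true), (2, 19, true), (4, 5, true), (7, 15, true), (6, 15, true), (5, 16, true), (4, 17, true), (3, 19, true), (5, 5, true), (6, 0, true), (6, 10, true), (5, 11, true), (8, 0, true), (7, 11, true), (6, 12, true), (4, 14, true), (8, 3, true), (7, 3, true), (6, 4, true), (4, 5, true), (5, 0, true), (5, 45, true), (4, 46, true), (3, 50, true), (2, 50, true), (0, 54, true), (9, 36, true), (8, 37, true), (7, 37, true), (6, 38, true), (5, 39, true), (4, 41, true), (3, 41, true), (2, 43, true), (1, 43, true), (6, 15, true), (5, 15, true), (6, 0, true), (6, 6, true), (7, 3, true), (8, 3, true), (10, 3, true), (9, 3, true), (7, 5, true), (8, 1, true), (7, 1, true), (9, 1, true), (8, 1, true), (9, 0, true), (8, 29, true), (7, 29, true), (6, 31, true), (5, 33, true), (4, 33, true), (2, 35, true), (4, 15, true), (3, 17, true), (5, 3, true), (7, 6, true), (6, 6, true), (5, 8, true), (4, 8, true), (8, 3, true),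 (7, 3, true), (5, 5, true), (6, 1, true), (5, 1, true), (6, 0, true), (6, 3, true), (5, 4, true), (7, 1, true), (8, 0, true), (7, 29, true), (6, 29, true), (5, 30, true), (4, 31, true), (3, 33, true), (2, 33, true), (5, 15, true), (4, 17, true), (6, 3, true), (8, 6, true), (7, 6, true), (6, 8, true), (5, 8, true), (9, 3, true), (8, 3, true), (6, 5, true), (7, 3, true), (6, 3, true), (8, 1, true), (7, 1, true), (8, 0, true), (8, 3, true), (7, 4, true), (9, 1, true), (10, 0, true), (9, 16, true), (8, 16, true), (7, 17, true), (6, 17, true), (5, 18, true), (3, 20, true), (6, 3, true), (4, 5, true), (4, 3, true), (5, 3, true), (6, 1, true), (7, 0, true), (6, 4, true), (4, 5, true), (7, 15, true), (6, 15, true), (5, 16, true), (4, 16, true), (3, 18, true), (7, 3, true), (5, 5, true), (5, 1, true), (6, 0, true), (5, 4, true), (8, 0, true), (8, 6, true), (7, 7, true), (6, 7, true), (5, 8, true), (6, 5, true), (7, 3, true), (6, 4, true), (8, 3, true), (7, 4, true), (9, 1, true), (10, 0, true), (9, 4, true), (8, 4, true), (6, 5, true), (6, 2,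 true), (7, 36, true), (6, 37, true), (5, 39, true), (4, 39, true), (3, 41, true), (2, 43, true), (0, 44, true), (3, 6, true), (2, 6, true), (4, 3, true), (3, 3, true), (5, 3, true), (4, 3, true), (5, 0, true), (4, 8, true), (3, 8, true), (4, 5, true), (5, 1, true), (7, 36, true), (6, 36, true), (5, 37, true), (4, 38, true), (3, 39, true), (2, 39, true), (1, 41, true), (0, 43, true), (4, 6, true), (3, 6, true), (5, 3, true), (4, 3, true), (6, 3, true), (5, 3, true), (6, 0, true), (5, 8, true), (4, 8, true), (5, 5, true), (6, 3, true), (7, 1, true), (8, 0, true), (7, 29, true), (6, 30, true), (5, 30, true), (4, 31, true), (3, 31, true), (2, 33, true), (5, 6, true), (4, 8, true), (6, 6, true), (5, 8, true), (7, 3, true), (8, 3, true), (6, 5, true), (6, 3, true), (7, 1, true), (8, 0, true), (7, 29, true), (6, 30, true), (5, 31, true), (4, 31, true), (3, 33, true), (1, 35, true), (3, 6, true), (2, 8, true), (4, 6, true), (3, 8, true), (5, 3, true), (6, 3, true), (4, 5, true), (4, 1, true), (5, 0, true), (4, 16, true), (3, 18, true), (2,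 18, true), (6, 6, true), (5, 8, true), (4, 8, true), (7, 3, true), (5, 5, true), (5, 3, true), (7, 3, true), (6, 3, true), (8, 1, true), (7, 1, true), (8, 0, true), (8, 15, true), (7, 16, true), (6, 17, true), (5, 17, true), (4, 18, true), (3, 18, true), (1, 20, true), (4, 6, true), (3, 8, true), (2, 8, true), (5, 3, true), (3, 5, true), (3, 3, true), (5, 3, true), (4, 3, true), (6, 3, true), (5, 3, true), (3, 5, true), (4, 3, true), (3, 3, true), (5, 1, true), (4, 1, true), (5, 0, true), (6, 10, true), (5, 10, true), (4, 11, true), (3, 12, true), (2, 13, true), (1, 13, true), (5, 6, true), (4, 8, true), (3, 8, true), (6, 3, true), (4, 5, true), (4, 3, true), (6, 3, true), (5, 3, true), (7, 3, true), (6, 3, true), (4, 5, true), (5, 1, true), (4, 1, true), (5, 0, true), (5, 0, true), (4, 11, true), (3, 13, true), (2, 13, true), (6, 6, true), (5, 8, true), (4, 8, true), (7, 3, true), (5, 5, true), (5, 3, true), (7, 3, true), (6, 3, true), (8, 1, true), (7, 1, true), (8, 0, true), (8, 3, true), (7, 4, true), (5, 5, true), (7, 36, true),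 (6, 36, true), (5, 37, true), (4, 39, true), (3, 39, true), (2, 40, true), (1, 40, true), (5, 10, true), (4, 10, true), (3, 12, true), (6, 3, true), (5, 3, true), (6, 0, true), (6, 6, true), (5, 8, true), (4, 8, true), (7, 3, true), (5, 5, true), (5, 3, true), (7, 6, true), (6, 6, true), (5, 8, true), (8, 3, true), (7, 3, true), (9, 3, true), (8, 3, true), (6, 5, true), (6, 0, true), (8, 36, true), (7, 36, true), (6, 37, true), (5, 39, true), (4, 39, true), (3, 40, true), (2, 40, true), (0, 44, true), (3, 10, true), (2, 10, true), (1, 12, true), (4, 3, true), (3, 3, true), (4, 0, true), (4, 6, true), (3, 8, true), (2, 8, true), (5, 3, true), (3, 5, true), (3, 3, true), (5, 6, true), (4, 6, true), (3, 8, true), (6, 3, true), (5, 3, true), (7, 3, true), (6, 3, true), (4, 5, true), (4, 0, true), (6, 28, true), (5, 28, true), (4, 29, true), (3, 31, true), (2, 31, true), (1, 32, true), (0, 32, true), (3, 10, true), (2, 12, true), (4, 3, true), (6, 6, true), (5, 6, true), (4, 8, true), (3, 8, true), (7, 6, true), (6, 6, true), (5, 8, true),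 (4, 8, true), (8, 3, true), (7, 3, true), (5, 5, true), (6, 1, true), (5, 1, true), (6, 0, true), (6, 0, true), (5, 11, true), (4, 13, true), (3, 13, true), (1, 14, true), (4, 6, true), (3, 8, true), (2, 8, true), (5, 3, true), (3, 5, true), (3, 3, true), (5, 3, true), (4, 3, true), (6, 1, true), (5, 1, true), (6, 0, true), (6, 6, true), (5, 7, true), (4, 8, true), (3, 8, true), (1, 9, true), (1, 5, true), (4, 1, true), (3, 1, true), (5, 1, true), (4, 1, true), (2, 2, true), (2, 0, true)], [(6, 46, true), (5, 49, true), (4, 49, true), (3, 53, true), (2, 53, true), (8, 36, true), (7, 36, true), (6, 38, true), (5, 38, true), (4, 43, true), (9, 28, true), (8, 28, true), (7, 30, true), (6, 30, true), (10, 3, true), (9, 3, true), (7, 5, true), (8, 3, true), (7, 3, true), (8, 0, true), (8, 36, true), (7, 38, true), (6, 43, true), (5, 43, true), (3, 44, true), (6, 28, true), (5, 30, true), (3, 35, true), (4, 28, true), (3, 30, true), (5, 15, true), (4, 17, true), (6, 15, true), (5, 17, true), (7, 3, true), (8, 1, true), (9, 1, true), (10,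 36, true), (9, 37, true), (8, 37, true), (7, 38, true), (6, 38, true), (5, 41, true), (4, 41, true), (3, 43, true), (7, 15, true), (6, 15, true), (7, 0, true), (7, 3, true), (8, 3, true), (9, 1, true), (10, 1, true), (12, 28, true), (11, 28, true), (10, 29, true), (9, 29, true), (8, 30, true), (7, 30, true), (6, 33, true), (5, 33, true), (8, 15, true), (7, 17, true), (9, 3, true), (11, 3, true), (10, 3, true), (8, 5, true), (9, 3, true), (8, 3, true), (10, 3, true), (9, 3, true), (11, 1, true), (10, 1, true), (11, 0, true), (11, 3, true), (10, 4, true), (8, 5, true), (9, 1, true), (10, 0, true), (11, 28, true), (10, 28, true), (9, 29, true), (8, 29, true), (7, 33, true), (6, 33, true), (4, 35, true), (6, 15, true), (5, 17, true), (7, 3, true), (9, 3, true), (8, 3, true), (6, 5, true), (7, 1, true), (6, 1, true), (7, 0, true), (7, 3, true), (6, 4, true), (8, 1, true), (9, 0, true), (10, 15, true), (9, 15, true), (8, 16, true), (7, 16, true), (6, 17, true), (4, 20, true), (8, 3, true), (7, 3, true), (6, 4, true), (4, 5, true), (6, 1,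 true), (5, 1, true), (6, 0, true), (6, 0, true), (5, 16, true), (4, 16, true), (8, 3, true), (7, 3, true), (6, 4, true), (9, 1, true), (8, 1, true), (9, 0, true), (9, 3, true), (8, 4, true), (7, 4, true), (5, 5, true), (7, 1, true), (5, 2, true), (5, 1, true), (6, 36, true), (5, 37, true), (4, 41, true), (7, 1, true), (6, 1, true), (7, 0, true), (6, 37, true), (5, 41, true), (3, 44, true), (5, 1, true), (4, 1, true), (6, 28, true), (5, 28, true), (4, 29, true), (3, 33, true), (6, 3, true), (7, 1, true), (8, 0, true), (9, 28, true), (8, 28, true), (7, 29, true), (6, 30, true), (5, 30, true), (4, 33, true), (7, 3, true), (8, 3, true), (6, 5, true), (6, 3, true), (7, 1, true), (8, 0, true), (9, 15, true), (8, 15, true), (7, 16, true), (6, 17, true), (10, 0, true), (10, 15, true), (9, 16, true), (8, 17, true), (7, 17, true), (5, 20, true), (5, 5, true), (6, 0, true), (5, 11, true), (9, 10, true), (8, 10, true), (7, 11, true), (6, 12, true), (10, 0, true), (10, 3, true), (9, 4, true), (7, 5, true), (8, 36, true), (7, 37, true), (6, 40, true),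 (5, 40, true), (4, 43, true), (3, 43, true), (9, 10, true), (8, 10, true), (7, 12, true), (10, 3, true), (9, 3, true), (10, 0, true), (10, 1, true), (12, 36, true), (11, 36, true), (10, 37, true), (9, 38, true), (8, 38, true), (7, 40, true), (6, 40, true), (5, 43, true), (4, 43, true), (10, 10, true), (9, 10, true), (8, 12, true), (11, 3, true), (10, 3, true), (11, 0, true), (11, 3, true), (9, 5, true), (9, 3, true), (10, 1, true), (11, 0, true), (10, 11, true), (9, 12, true), (7, 14, true), (11, 10, true), (10, 10, true), (9, 11, true), (8, 12, true), (7, 12, true), (8, 5, true), (9, 0, true), (9, 1, true), (10, 45, true), (9, 46, true), (8, 46, true), (7, 49, true), (6, 52, true), (5, 52, true), (4, 53, true), (3, 53, true), (1, 54, true), (6, 36, true), (5, 36, true), (4, 38, true), (3, 38, true), (2, 43, true), (7, 28, true), (6, 28, true), (5, 30, true), (4, 30, true), (8, 3, true), (7, 3, true), (5, 5, true), (6, 3, true), (5, 3, true), (6, 0, true), (6, 28, true), (5, 30, true), (3, 35, true), (4, 0, true), (3, 30, true), (6,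 36, true), (5, 36, true), (4, 38, true), (3, 43, true), (1, 44, true), (4, 28, true), (3, 28, true), (2, 30, true), (5, 28, true), (4, 28, true), (3, 30, true), (1, 35, true), (3, 15, true), (2, 15, true), (1, 17, true), (4, 15, true), (3, 15, true), (2, 17, true), (5, 3, true), (4, 3, true), (6, 1, true), (5, 1, true), (7, 1, true), (6, 1, true), (8, 36, true), (7, 36, true), (6, 37, true), (5, 37, true), (4, 38, true), (3, 38, true), (2, 41, true), (1, 41, true), (4, 15, true), (3, 15, true), (4, 0, true), (4, 3, true), (5, 3, true), (6, 1, true), (7, 1, true), (8, 0, true), (7, 37, true), (6, 37, true), (5, 38, true), (4, 38, true), (3, 41, true), (2, 41, true), (5, 15, true), (4, 15, true), (5, 0, true), (5, 3, true), (6, 3, true), (7, 1, true), (8, 1, true), (9, 28, true), (8, 29, true), (7, 29, true), (6, 30, true), (5, 30, true), (4, 33, true), (3, 33, true), (6, 15, true), (5, 17, true), (7, 3, true), (9, 3, true), (8, 3, true), (6, 5, true), (7, 3, true), (6, 3, true), (8, 3, true), (7, 3, true), (9, 1, true), (8, 1, true),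 (9, 0, true), (9, 3, true), (8, 4, true), (6, 5, true), (7, 1, true), (8, 0, true), (8, 28, true), (7, 29, true), (6, 29, true), (5, 33, true), (4, 33, true), (7, 15, true), (6, 17, true), (8, 3, true), (10, 3, true), (9, 3, true), (7, 5, true), (8, 1, true), (7, 1, true), (8, 0, true), (8, 3, true), (7, 4, true), (9, 1, true), (10, 0, true), (10, 15, true), (9, 16, true), (8, 16, true), (7, 17, true), (5, 20, true), (9, 3, true), (8, 3, true), (7, 4, true), (5, 5, true), (7, 1, true), (6, 1, true), (7, 0, true), (8, 15, true), (7, 15, true), (6, 16, true), (5, 16, true), (9, 3, true), (8, 3, true), (7, 4, true), (10, 1, true), (9, 1, true), (10, 0, true), (10, 0, true), (9, 11, true), (8, 11, true), (7, 12, true), (6, 12, true), (7, 5, true), (9, 3, true), (8, 3, true), (7, 4, true), (10, 1, true), (9, 1, true), (10, 0, true), (10, 10, true), (9, 11, true), (8, 11, true), (7, 12, true), (12, 3, true), (11, 3, true), (10, 4, true), (8, 5, true), (10, 1, true), (9, 1, true), (10, 0, true), (11, 3, true), (10, 3, true), (9, 4, true),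 (8, 4, true), (12, 36, true), (11, 36, true), (10, 37, true), (9, 37, true), (8, 38, true), (7, 40, true), (6, 40, true), (5, 41, true), (4, 43, true), (3, 43, true), (1, 44, true), (5, 10, true), (4, 10, true), (6, 3, true), (5, 3, true), (6, 0, true), (6, 10, true), (5, 12, true), (7, 3, true), (8, 0, true), (6, 5, true), (9, 36, true), (8, 36, true), (7, 37, true), (6, 37, true), (5, 40, true), (4, 40, true), (3, 41, true), (2, 43, true), (1, 43, true), (6, 10, true), (5, 10, true), (7, 3, true), (6, 3, true), (7, 0, true), (7, 10, true), (6, 12, true), (8, 3, true), (9, 0, true), (12, 28, true), (11, 28, true), (10, 29, true), (9, 29, true), (8, 30, true), (7, 30, true), (6, 32, true), (5, 32, true), (4, 33, true), (2, 35, true), (4, 10, true), (3, 12, true), (5, 3, true), (7, 10, true), (6, 10, true), (5, 12, true), (4, 12, true), (8, 3, true), (7, 3, true), (5, 5, true), (5, 0, true), (5, 5, true), (7, 3, true), (6, 3, true), (5, 4, true), (8, 1, true), (7, 1, true), (8, 0, true), (8, 0, true), (7, 29, true), (6, 29, true), (5,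 30, true), (4, 32, true), (3, 32, true), (2, 33, true), (5, 10, true), (4, 12, true), (6, 3, true), (8, 10, true), (7, 10, true), (6, 12, true), (5, 12, true), (9, 3, true), (8, 3, true), (6, 5, true), (6, 0, true), (10, 3, true), (9, 3, true), (8, 4, true), (6, 5, true), (8, 1, true), (7, 1, true), (8, 0, true), (8, 15, true), (7, 16, true), (6, 16, true), (5, 19, true), (4, 19, true), (6, 12, true), (7, 5, true), (9, 3, true), (8, 3, true), (7, 4, true), (10, 1, true), (9, 1, true), (10, 0, true), (11, 15, true), (10, 15, true), (9, 16, true), (8, 16, true), (7, 17, true), (6, 19, true), (5, 19, true), (3, 20, true), (4, 12, true), (5, 5, true), (8, 3, true), (7, 3, true), (6, 4, true), (9, 1, true), (8, 1, true), (9, 0, true), (9, 0, true), (8, 11, true), (7, 11, true), (6, 12, true), (5, 12, true), (3, 14, true), (3, 5, true), (5, 3, true), (4, 3, true), (3, 4, true), (6, 1, true), (5, 1, true), (6, 0, true), (6, 10, true), (5, 11, true), (4, 11, true), (3, 12, true), (8, 3, true), (7, 3, true), (6, 4, true), (4, 5, true), (6, 1,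 true), (5, 1, true), (6, 0, true), (7, 3, true), (6, 3, true), (5, 4, true), (4, 4, true), (7, 0, true), (6, 37, true), (5, 37, true), (4, 38, true), (3, 40, true), (2, 43, true), (7, 3, true), (6, 3, true), (8, 1, true), (7, 1, true), (9, 1, true), (8, 1, true), (10, 36, true), (9, 36, true), (8, 37, true), (7, 37, true), (6, 38, true), (5, 38, true), (4, 40, true), (3, 43, true), (1, 44, true), (5, 3, true), (4, 3, true), (6, 3, true), (5, 3, true), (3, 5, true), (4, 1, true), (3, 1, true), (5, 1, true), (4, 1, true), (5, 0, true), (5, 10, true), (4, 11, true), (3, 11, true), (7, 3, true), (6, 3, true), (5, 4, true), (8, 1, true), (7, 1, true), (8, 0, true), (9, 10, true), (8, 10, true), (7, 11, true), (6, 11, true), (5, 12, true), (4, 12, true), (2, 14, true), (2, 5, true), (4, 3, true), (3, 3, true), (2, 4, true), (5, 1, true), (4, 1, true), (5, 0, true), (5, 0, true), (3, 2, true), (0, 83, true), (12, 79, true), (11, 21, true), (10, 21, true), (9, 23, true), (8, 23, true), (7, 24, true), (6, 24, true), (5, 25, true), (4, 26, true),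 (3, 26, true), (1, 27, true), (7, 15, true), (6, 15, true), (5, 18, true), (4, 19, true), (3, 19, true), (1, 20, true), (2, 12, true), (4, 8, true), (3, 8, true), (4, 5, true), (5, 0, true), (4, 17, true), (3, 18, true), (2, 19, true), (1, 19, true), (3, 12, true), (5, 8, true), (4, 8, true), (5, 5, true), (6, 3, true), (7, 10, true), (6, 12, true), (5, 12, true), (4, 13, true), (2, 14, true), (5, 3, true), (3, 5, true), (3, 3, true), (5, 10, true), (4, 10, true), (3, 12, true), (2, 13, true), (6, 3, true), (4, 5, true), (4, 0, true), (6, 15, true), (5, 15, true), (4, 18, true), (3, 18, true), (2, 19, true), (4, 8, true), (5, 5, true), (5, 6, true), (6, 3, true), (7, 3, true), (8, 0, true), (8, 6, true), (7, 8, true), (6, 8, true), (4, 9, true), (6, 3, true), (4, 5, true), (4, 0, true), (9, 15, true), (8, 15, true), (7, 17, true), (6, 17, true), (5, 18, true), (4, 18, true), (3, 19, true), (1, 20, true), (2, 8, true), (3, 5, true), (3, 6, true), (4, 3, true), (5, 3, true), (7, 3, true), (6, 3, true), (4, 5, true), (5, 3, true), (4,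 3, true), (5, 0, true), (5, 10, true), (4, 12, true), (3, 13, true), (2, 13, true), (6, 6, true), (5, 8, true), (4, 8, true), (7, 3, true), (5, 5, true), (5, 3, true), (7, 3, true), (6, 3, true), (7, 0, true), (6, 12, true), (5, 12, true), (4, 13, true), (3, 13, true), (1, 14, true), (4, 6, true), (3, 8, true), (2, 8, true), (5, 3, true), (3, 5, true), (3, 3, true), (5, 3, true), (4, 3, true), (6, 3, true), (5, 3, true), (3, 5, true), (4, 6, true), (3, 6, true), (1, 9, true), (2, 3, true), (1, 3, true), (2, 0, true)]),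
    ([13, 2, 9, 8, 8, 4, 4, 1], [(0, 79, true), (7, 84, true), (6, 45, true), (5, 47, true), (4, 48, true), (3, 49, true), (2, 49, true), (1, 50, true), (0, 51, true), (10, 36, true), (9, 38, true), (8, 39, true), (7, 39, true), (6, 40, true), (5, 40, true), (4, 41, true), (3, 42, true), (2, 43, true), (1, 43, true), (2, 35, true), (4, 15, true), (3, 15, true), (4, 0, true), (4, 10, true), (5, 3, true), (6, 0, true), (5, 12, true), (9, 6, true), (8, 6, true), (7, 8, true), (6, 8, true), (10, 3, true), (9, 3, true), (7, 5, true), (8, 3, true), (7, 3, true), (8, 0, true), (7, 8, true), (8, 5, true), (8, 3, true), (10, 28, true), (9, 28, true), (8, 30, true), (7, 31, true), (6, 31, true), (5, 32, true), (4, 32, true), (3, 33, true), (2, 34, true), (6, 10, true), (5, 12, true), (7, 3, true), (9, 10, true), (8, 10, true), (7, 12, true), (6, 12, true), (10, 3, true), (9, 3, true), (7, 5, true), (7, 0, true), (11, 28, true), (10, 28, true), (9, 30, true), (8, 31, true), (7, 31, true), (6, 32, true), (5, 32, true), (4, 33, true), (3, 34, true),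 (7, 10, true), (6, 12, true), (8, 3, true), (10, 10, true), (9, 10, true), (8, 12, true), (7, 12, true), (11, 3, true), (10, 3, true), (8, 5, true), (8, 0, true), (12, 15, true), (11, 15, true), (10, 17, true), (9, 18, true), (8, 18, true), (7, 19, true), (6, 19, true), (8, 12, true), (10, 8, true), (9, 8, true), (10, 5, true), (11, 6, true), (10, 8, true), (12, 3, true), (13, 3, true), (11, 5, true), (12, 3, true), (11, 3, true), (12, 0, true), (12, 15, true), (11, 17, true), (10, 18, true), (9, 18, true), (8, 19, true), (7, 19, true), (5, 20, true), (6, 12, true), (8, 8, true), (7, 8, true), (8, 5, true), (9, 6, true), (8, 8, true), (10, 3, true), (11, 3, true), (9, 5, true), (10, 3, true), (9, 3, true), (10, 0, true), (9, 8, true), (7, 9, true), (11, 36, true), (10, 37, true), (9, 37, true), (8, 38, true), (7, 38, true), (6, 40, true), (5, 40, true), (4, 42, true), (3, 43, true), (2, 43, true), (3, 35, true), (5, 10, true), (4, 10, true), (6, 3, true), (5, 3, true), (6, 0, true), (6, 10, true), (5, 12, true), (7, 3, true), (8, 0,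 true), (6, 5, true), (9, 28, true), (8, 29, true), (7, 29, true), (6, 30, true), (5, 32, true), (4, 32, true), (3, 34, true), (7, 10, true), (6, 12, true), (8, 3, true), (10, 3, true), (9, 3, true), (7, 5, true), (8, 3, true), (7, 3, true), (9, 1, true), (8, 1, true), (9, 0, true), (9, 3, true), (8, 4, true), (10, 1, true), (11, 0, true), (11, 28, true), (10, 29, true), (9, 29, true), (8, 30, true), (7, 30, true), (6, 32, true), (5, 32, true), (4, 34, true), (8, 10, true), (7, 12, true), (9, 3, true), (11, 3, true), (10, 3, true), (8, 5, true), (9, 3, true), (8, 3, true), (10, 3, true), (9, 3, true), (11, 1, true), (10, 1, true), (11, 0, true), (11, 3, true), (10, 4, true), (8, 5, true), (9, 1, true), (10, 0, true), (10, 15, true), (9, 16, true), (8, 16, true), (7, 19, true), (6, 19, true), (8, 12, true), (9, 5, true), (11, 3, true), (10, 3, true), (9, 4, true), (12, 1, true), (11, 1, true), (12, 0, true), (13, 15, true), (12, 15, true), (11, 16, true), (10, 16, true), (9, 17, true), (8, 19, true), (7, 19, true), (9, 12, true), (10,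 5, true), (13, 3, true), (12, 3, true), (11, 4, true), (14, 1, true), (13, 1, true), (14, 0, true), (14, 0, true), (13, 4, true), (12, 4, true), (10, 5, true), (10, 2, true), (10, 37, true), (9, 40, true), (8, 40, true), (7, 41, true), (6, 41, true), (5, 42, true), (4, 43, true), (3, 43, true), (1, 44, true), (1, 35, true), (3, 15, true), (2, 15, true), (3, 0, true), (3, 15, true), (4, 0, true), (7, 10, true), (6, 10, true), (5, 12, true), (8, 3, true), (7, 3, true), (8, 0, true), (8, 1, true), (9, 28, true), (8, 29, true), (7, 30, true), (6, 30, true), (5, 32, true), (4, 32, true), (3, 33, true), (2, 33, true), (1, 34, true), (5, 15, true), (4, 17, true), (6, 3, true), (8, 10, true), (7, 10, true), (6, 12, true), (5, 12, true), (9, 3, true), (8, 3, true), (6, 5, true), (6, 0, true), (8, 3, true), (9, 3, true), (7, 5, true), (7, 3, true), (8, 1, true), (9, 0, true), (9, 28, true), (8, 29, true), (7, 30, true), (6, 32, true), (5, 32, true), (4, 33, true), (3, 33, true), (2, 34, true), (6, 15, true), (5, 17, true), (7, 3, true), (9, 10,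 true), (8, 10, true), (7, 12, true), (6, 12, true), (10, 3, true), (9, 3, true), (7, 5, true), (7, 0, true), (9, 3, true), (10, 3, true), (8, 5, true), (8, 1, true), (9, 0, true), (9, 15, true), (8, 16, true), (7, 19, true), (6, 19, true), (4, 20, true), (5, 12, true), (6, 5, true), (7, 0, true), (6, 16, true), (5, 19, true), (4, 19, true), (6, 12, true), (7, 5, true), (9, 3, true), (8, 3, true), (7, 4, true), (10, 1, true), (9, 1, true), (11, 1, true), (10, 1, true), (8, 2, true), (9, 28, true), (8, 28, true), (7, 30, true), (6, 32, true), (5, 32, true), (4, 33, true), (3, 34, true), (1, 35, true), (4, 10, true), (3, 12, true), (5, 3, true), (7, 10, true), (6, 10, true), (5, 12, true), (4, 12, true), (8, 3, true), (7, 3, true), (5, 5, true), (5, 0, true), (7, 28, true), (6, 28, true), (5, 30, true), (4, 32, true), (3, 32, true), (2, 33, true), (1, 34, true), (5, 10, true), (4, 12, true), (6, 3, true), (8, 10, true), (7, 10, true), (6, 12, true), (5, 12, true), (9, 3, true), (8, 3, true), (6, 5, true), (6, 0, true), (8, 15, true), (7,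 15, true), (6, 17, true), (5, 19, true), (4, 19, true), (6, 12, true), (7, 5, true), (8, 15, true), (7, 15, true), (6, 19, true), (5, 19, true), (3, 20, true), (4, 12, true), (8, 10, true), (7, 10, true), (6, 12, true), (5, 12, true), (3, 14, true), (6, 6, true), (5, 6, true), (4, 8, true), (3, 8, true), (7, 6, true), (6, 6, true), (5, 8, true), (4, 8, true), (8, 3, true), (7, 3, true), (5, 5, true), (5, 0, true), (6, 45, true), (5, 45, true), (4, 48, true), (3, 48, true), (2, 51, true), (1, 52, true), (4, 28, true), (3, 28, true), (5, 28, true), (4, 28, true), (2, 35, true), (3, 21, true), (2, 21, true), (4, 15, true), (3, 15, true), (5, 10, true), (4, 10, true), (6, 10, true), (5, 10, true), (7, 6, true), (6, 6, true), (8, 6, true), (7, 6, true), (9, 3, true), (8, 3, true), (9, 0, true), (8, 30, true), (7, 31, true), (6, 31, true), (5, 32, true), (4, 32, true), (3, 33, true), (2, 34, true), (6, 10, true), (5, 12, true), (7, 3, true), (9, 10, true), (8, 10, true), (7, 12, true), (6, 12, true), (10, 3, true), (9, 3, true), (7, 5, true),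 (7, 0, true), (9, 30, true), (8, 31, true), (7, 31, true), (6, 32, true), (5, 32, true), (4, 33, true), (3, 34, true), (7, 10, true), (6, 12, true), (8, 3, true), (10, 10, true), (9, 10, true), (8, 12, true), (7, 12, true), (11, 3, true), (10, 3, true), (8, 5, true), (8, 0, true), (10, 17, true), (9, 18, true), (8, 18, true), (7, 19, true), (6, 19, true), (8, 12, true), (10, 8, true), (9, 8, true), (10, 5, true), (11, 6, true), (10, 8, true), (12, 3, true), (13, 3, true), (11, 5, true), (12, 3, true), (11, 3, true), (13, 15, true), (12, 15, true), (11, 17, true), (10, 18, true), (9, 18, true), (8, 19, true), (7, 19, true), (5, 20, true), (6, 12, true), (8, 8, true), (7, 8, true), (8, 5, true), (9, 6, true), (8, 8, true), (10, 3, true), (11, 3, true), (9, 5, true), (10, 3, true), (9, 3, true), (10, 0, true), (10, 10, true), (9, 12, true), (8, 13, true), (7, 13, true), (5, 14, true), (8, 6, true), (7, 8, true), (6, 8, true), (9, 3, true), (7, 5, true), (7, 3, true), (9, 3, true), (8, 3, true), (9, 0, true), (8, 8, true), (7, 8, true),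 (5, 9, true), (6, 8, true), (5, 8, true), (7, 30, true), (6, 30, true), (5, 31, true), (4, 34, true), (2, 35, true), (5, 30, true), (4, 30, true), (3, 31, true), (2, 34, true), (6, 17, true), (5, 17, true), (4, 18, true), (8, 3, true), (6, 5, true), (6, 3, true), (7, 15, true), (6, 17, true), (5, 18, true), (9, 3, true), (7, 5, true), (8, 10, true), (7, 10, true), (6, 13, true), (10, 0, true), (9, 8, true), (8, 8, true), (10, 8, true), (9, 8, true), (7, 9, true), (10, 36, true), (9, 36, true), (8, 38, true), (7, 38, true), (6, 40, true), (5, 41, true), (4, 41, true), (3, 42, true), (2, 43, true), (7, 15, true), (6, 15, true), (7, 0, true), (7, 15, true), (8, 0, true), (11, 3, true), (10, 3, true), (12, 3, true), (11, 3, true), (9, 5, true), (9, 0, true), (9, 36, true), (8, 40, true), (7, 41, true), (6, 41, true), (5, 42, true), (4, 43, true), (3, 43, true), (4, 35, true), (6, 15, true), (5, 15, true), (6, 0, true), (6, 15, true), (7, 0, true), (9, 0, true), (8, 30, true), (7, 32, true), (6, 33, true), (5, 33, true), (4, 34, true), (8,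 15, true), (7, 17, true), (9, 3, true), (11, 10, true), (10, 10, true), (9, 12, true), (8, 12, true), (12, 3, true), (11, 3, true), (9, 5, true), (9, 0, true), (9, 12, true), (10, 8, true)], [(1, 47, true), (4, 36, true), (3, 36, true), (2, 38, true), (5, 36, true), (4, 36, true), (3, 38, true), (6, 10, true), (5, 10, true), (4, 12, true), (7, 10, true), (6, 10, true), (5, 12, true), (8, 1, true), (7, 1, true), (6, 4, false), (0, 84, true), (10, 79, true), (17, 78, true), (18, 78, true), (9, 21, true), (8, 22, true), (7, 22, true), (6, 24, true), (5, 25, true), (10, 6, true), (9, 6, true), (8, 8, true), (11, 6, true), (10, 6, true), (9, 8, true), (7, 9, true), (9, 6, true), (8, 6, true), (7, 8, true), (10, 1, true), (9, 1, true), (11, 6, true), (10, 6, true), (9, 7, true), (8, 8, true), (9, 5, true), (10, 0, true), (9, 7, true), (7, 9, true), (10, 1, true), (12, 15, true), (11, 15, true), (10, 16, true), (9, 16, true), (8, 17, true), (7, 17, true), (8, 5, true), (10, 3, true), (9, 3, true), (8, 4, true), (11, 1, true), (10, 1, true),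 (11, 0, true), (11, 0, true), (10, 11, true), (9, 11, true), (8, 12, true), (13, 3, true), (12, 3, true), (11, 4, true), (9, 5, true), (11, 1, true), (10, 1, true), (11, 0, true), (11, 10, true), (10, 11, true), (9, 11, true), (13, 3, true), (12, 3, true), (11, 4, true), (14, 1, true), (13, 1, true), (14, 0, true), (15, 6, true), (14, 6, true), (13, 7, true), (12, 7, true), (11, 8, true), (10, 8, true), (11, 5, true), (13, 3, true), (12, 4, true), (14, 3, true), (13, 4, true), (11, 5, true), (12, 1, true), (13, 0, true), (13, 3, true), (12, 4, true), (11, 4, true), (14, 0, true)]),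
    ([13, 3, 9, 8, 8, 4, 4, 1], [(0, 80, true), (9, 84, true), (8, 45, true), (7, 47, true), (6, 48, true), (5, 48, true), (4, 49, true), (3, 50, true), (2, 50, true), (1, 52, true), (0, 52, true), (3, 28, true), (2, 28, true), (3, 0, true), (3, 36, true), (2, 43, true), (1, 43, true), (4, 28, true), (2, 35, true), (2, 28, true), (3, 15, true), (4, 15, true), (5, 6, true), (6, 3, true), (7, 1, true), (8, 1, true), (10, 36, true), (9, 36, true), (8, 37, true), (7, 37, true), (6, 38, true), (5, 39, true), (4, 41, true), (3, 41, true), (2, 43, true), (6, 15, true), (5, 15, true), (6, 0, true), (6, 6, true), (7, 3, true), (8, 3, true), (10, 3, true), (9, 3, true), (7, 5, true), (8, 1, true), (7, 1, true), (9, 1, true), (8, 1, true), (9, 0, true), (9, 28, true), (8, 29, true), (7, 29, true), (6, 31, true), (5, 33, true), (4, 33, true), (7, 15, true), (6, 17, true), (8, 3, true), (10, 6, true), (9, 6, true), (8, 8, true), (7, 8, true), (11, 3, true), (10, 3, true), (8, 5, true), (9, 1, true), (8, 1, true), (9, 0, true), (9, 3, true), (8,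 4, true), (10, 1, true), (11, 0, true), (11, 28, true), (10, 29, true), (9, 29, true), (8, 30, true), (7, 31, true), (6, 33, true), (5, 33, true), (3, 35, true), (5, 15, true), (4, 17, true), (6, 3, true), (8, 6, true), (7, 6, true), (6, 8, true), (5, 8, true), (9, 3, true), (8, 3, true), (6, 5, true), (7, 3, true), (6, 3, true), (8, 1, true), (7, 1, true), (8, 0, true), (8, 3, true), (7, 4, true), (9, 1, true), (10, 0, true), (10, 15, true), (9, 16, true), (8, 16, true), (7, 17, true), (6, 17, true), (5, 18, true), (3, 20, true), (6, 3, true), (4, 5, true), (4, 3, true), (5, 3, true), (6, 1, true), (7, 0, true), (6, 4, true), (4, 5, true), (6, 0, true), (5, 16, true), (4, 16, true), (3, 18, true), (7, 3, true), (5, 5, true), (5, 1, true), (6, 0, true), (5, 4, true), (9, 6, true), (8, 6, true), (7, 7, true), (6, 7, true), (5, 8, true), (6, 5, true), (7, 3, true), (6, 4, true), (8, 3, true), (7, 4, true), (9, 1, true), (10, 0, true), (10, 3, true), (9, 4, true), (8, 4, true), (6, 5, true), (8, 1, true), (6, 2, true), (6, 1, true), (8,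 36, true), (7, 36, true), (6, 37, true), (5, 39, true), (4, 39, true), (3, 41, true), (1, 44, true), (3, 6, true), (2, 6, true), (4, 3, true), (3, 3, true), (5, 3, true), (4, 3, true), (5, 0, true), (4, 8, true), (3, 8, true), (4, 5, true), (5, 1, true), (6, 0, true), (5, 29, true), (4, 30, true), (3, 31, true), (2, 31, true), (1, 33, true), (4, 6, true), (3, 8, true), (5, 6, true), (4, 8, true), (6, 3, true), (7, 3, true), (5, 5, true), (5, 1, true), (6, 0, true), (5, 29, true), (4, 31, true), (3, 31, true), (2, 33, true), (5, 6, true), (4, 8, true), (6, 6, true), (5, 8, true), (7, 3, true), (8, 1, true), (9, 0, true), (8, 16, true), (7, 17, true), (6, 17, true), (5, 18, true), (4, 18, true), (8, 6, true), (7, 8, true), (6, 8, true), (9, 3, true), (7, 5, true), (7, 3, true), (9, 3, true), (8, 3, true), (10, 3, true), (9, 3, true), (7, 5, true), (8, 3, true), (7, 3, true), (9, 1, true), (8, 1, true), (9, 0, true), (9, 15, true), (8, 16, true), (7, 17, true), (6, 18, true), (5, 18, true), (3, 20, true), (6, 6, true), (5, 8, true), (4,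 8, true), (7, 3, true), (5, 5, true), (5, 3, true), (7, 3, true), (6, 3, true), (8, 3, true), (7, 3, true), (5, 5, true), (6, 1, true), (5, 1, true), (6, 0, true), (7, 3, true), (6, 3, true), (5, 4, true), (8, 1, true), (7, 1, true), (9, 1, true), (8, 1, true), (6, 2, true), (7, 28, true), (6, 28, true), (5, 30, true), (4, 31, true), (3, 31, true), (1, 35, true), (5, 28, true), (4, 28, true), (3, 30, true), (2, 31, true), (1, 31, true), (6, 15, true), (5, 15, true), (4, 17, true), (3, 18, true), (2, 18, true), (6, 6, true), (5, 8, true), (4, 8, true), (7, 3, true), (5, 5, true), (5, 3, true), (7, 3, true), (6, 3, true), (7, 0, true), (7, 15, true), (6, 17, true), (5, 17, true), (4, 18, true), (3, 18, true), (7, 6, true), (6, 8, true), (5, 8, true), (8, 3, true), (6, 5, true), (6, 3, true), (8, 3, true), (7, 3, true), (9, 3, true), (8, 3, true), (6, 5, true), (6, 0, true), (5, 13, true), (4, 13, true), (8, 6, true), (7, 8, true), (6, 8, true), (9, 3, true), (7, 5, true), (7, 3, true), (9, 6, true), (8, 6, true), (7, 8, true), (5, 9,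 true), (7, 6, true), (6, 6, true), (5, 8, true), (8, 28, true), (7, 28, true), (6, 30, true), (5, 31, true), (4, 32, true), (3, 33, true), (2, 33, true), (5, 15, true), (4, 17, true), (6, 3, true), (8, 10, true), (7, 10, true), (6, 12, true), (5, 12, true), (9, 3, true), (8, 3, true), (6, 5, true), (6, 0, true), (9, 28, true), (8, 28, true), (7, 30, true), (6, 31, true), (5, 32, true), (4, 33, true), (3, 33, true), (1, 35, true), (3, 15, true), (2, 17, true), (4, 3, true), (6, 10, true), (5, 10, true), (4, 12, true), (3, 12, true), (7, 3, true), (6, 3, true), (4, 5, true), (4, 0, true), (7, 15, true), (6, 15, true), (5, 17, true), (4, 18, true), (3, 19, true), (1, 20, true), (2, 8, true), (3, 5, true), (3, 3, true), (4, 0, true), (3, 17, true), (2, 18, true), (1, 19, true), (3, 8, true), (4, 5, true), (4, 3, true), (5, 10, true), (4, 12, true), (3, 13, true), (7, 3, true), (5, 5, true), (6, 6, true), (5, 6, true), (7, 6, true), (6, 6, true), (4, 9, true), (5, 3, true), (4, 3, true), (5, 0, true), (6, 45, true), (5, 45, true), (4, 47,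 true), (3, 49, true), (2, 49, true), (1, 50, true), (11, 36, true), (10, 37, true), (9, 37, true), (8, 38, true), (7, 39, true), (6, 41, true), (5, 41, true), (4, 43, true), (3, 43, true), (8, 15, true), (7, 15, true), (8, 0, true), (8, 6, true), (9, 3, true), (10, 3, true), (12, 3, true), (11, 3, true), (9, 5, true), (10, 1, true), (9, 1, true), (11, 1, true), (10, 1, true), (11, 0, true), (10, 29, true), (9, 29, true), (8, 31, true), (7, 33, true), (6, 33, true), (4, 35, true), (6, 15, true), (5, 17, true), (7, 3, true), (9, 6, true), (8, 6, true), (7, 8, true), (6, 8, true), (10, 3, true), (9, 3, true), (7, 5, true), (8, 1, true), (7, 1, true), (8, 0, true), (8, 3, true), (7, 4, true), (9, 1, true), (10, 0, true), (9, 29, true), (8, 29, true), (7, 30, true), (6, 31, true), (5, 33, true), (4, 33, true), (7, 15, true), (6, 17, true), (8, 3, true), (10, 6, true), (9, 6, true), (8, 8, true), (7, 8, true), (11, 3, true), (10, 3, true), (8, 5, true), (9, 3, true), (8, 3, true), (10, 1, true), (9, 1, true), (10, 0, true), (10, 3, true),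 (9, 4, true), (11, 1, true), (12, 0, true), (11, 16, true), (10, 16, true), (9, 17, true), (8, 17, true), (7, 18, true), (5, 20, true), (8, 3, true), (6, 5, true), (6, 3, true), (7, 3, true), (8, 1, true), (9, 0, true), (8, 4, true), (6, 5, true), (9, 15, true), (8, 15, true), (7, 16, true), (6, 16, true), (5, 18, true), (9, 3, true), (7, 5, true), (7, 1, true), (8, 0, true), (7, 4, true), (10, 0, true), (10, 3, true), (9, 4, true), (8, 4, true), (11, 1, true), (9, 2, true), (9, 1, true), (10, 36, true), (9, 37, true), (8, 38, true), (7, 38, true), (6, 39, true), (5, 41, true), (4, 43, true), (2, 44, true), (5, 6, true), (4, 6, true), (6, 3, true), (5, 3, true), (7, 3, true), (6, 3, true), (7, 0, true), (5, 5, true), (7, 28, true), (6, 29, true), (5, 30, true), (4, 31, true), (3, 33, true), (6, 6, true), (5, 8, true), (7, 3, true), (8, 3, true), (6, 5, true), (6, 1, true), (7, 0, true), (7, 28, true), (6, 29, true), (5, 31, true), (4, 33, true), (2, 35, true), (4, 6, true), (3, 8, true), (5, 3, true), (6, 1, true), (7, 0, true), (7,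 15, true), (6, 16, true), (5, 17, true), (4, 17, true), (3, 18, true), (7, 3, true), (5, 5, true), (5, 3, true), (6, 3, true), (7, 1, true), (8, 0, true), (8, 15, true), (7, 16, true), (6, 17, true), (5, 17, true), (4, 18, true), (2, 20, true), (5, 3, true), (3, 5, true), (3, 3, true), (4, 3, true), (5, 1, true), (6, 0, true), (6, 3, true), (5, 4, true), (3, 5, true), (4, 1, true), (5, 1, true), (3, 2, true), (3, 3, true), (4, 0, true), (5, 36, true), (4, 36, true), (3, 38, true), (2, 39, true), (6, 3, true), (4, 5, true), (4, 0, true), (3, 39, true), (7, 28, true), (6, 30, true), (5, 30, true), (4, 31, true), (8, 10, true), (7, 12, true), (6, 12, true), (5, 13, true), (9, 3, true), (7, 5, true), (7, 3, true), (9, 6, true), (8, 6, true), (7, 8, true), (10, 1, true), (9, 1, true), (11, 1, true), (10, 1, true), (11, 0, true)], [(1, 48, true), (8, 39, true), (7, 39, true), (6, 40, true), (5, 41, true), (4, 41, true), (3, 43, true), (2, 43, true), (7, 15, true), (6, 15, true), (7, 0, true), (7, 10, true), (8, 3, true), (9, 0, true), (8,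 8, true), (9, 5, true), (9, 6, true), (10, 3, true), (11, 3, true), (13, 36, true), (12, 36, true), (11, 38, true), (10, 38, true), (9, 39, true), (8, 39, true), (7, 40, true), (6, 41, true), (5, 41, true), (4, 43, true), (3, 43, true), (8, 15, true), (7, 15, true), (8, 0, true), (8, 10, true), (9, 3, true), (10, 0, true), (9, 8, true), (10, 5, true), (10, 6, true), (11, 3, true), (12, 3, true), (14, 3, true), (13, 3, true), (11, 5, true), (12, 3, true), (11, 3, true), (12, 0, true), (12, 10, true), (11, 12, true), (10, 13, true), (9, 13, true), (13, 6, true), (12, 8, true), (11, 8, true), (14, 3, true), (12, 5, true), (12, 3, true), (14, 3, true), (13, 3, true), (14, 0, true), (13, 12, true), (12, 12, true), (11, 13, true), (10, 13, true), (8, 14, true), (11, 6, true), (10, 8, true), (9, 8, true), (12, 3, true), (10, 5, true), (10, 3, true), (12, 3, true), (11, 3, true), (13, 3, true), (12, 3, true), (10, 5, true), (11, 1, true), (10, 1, true), (10, 5, false), (12, 4, false), (13, 3, false), (11, 4, false), (12, 3, false), (10, 5,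 false), (9, 8, false), (10, 8, false), (11, 7, false), (12, 0, false), (8, 7, false), (9, 6, false), (10, 6, false), (8, 5, false), (8, 14, false), (10, 12, false), (11, 12, false), (12, 11, false), (13, 0, false), (9, 12, false), (10, 11, false), (11, 10, false), (11, 0, false), (9, 5, false), (7, 19, false), (8, 17, false), (9, 17, false), (10, 16, false), (11, 15, false), (12, 15, false), (7, 12, false), (8, 11, false), (9, 0, false), (7, 14, false), (9, 11, false), (10, 10, false), (10, 0, false), (9, 5, false), (8, 12, false), (6, 19, false), (7, 19, false), (8, 16, false), (9, 15, false), (10, 15, false), (9, 0, false), (8, 1, false), (9, 1, false), (8, 5, false), (10, 3, false), (11, 3, false), (9, 3, false), (7, 12, false), (8, 10, false), (5, 32, false), (6, 32, false), (7, 29, false), (8, 28, false), (8, 0, false), (7, 1, false), (8, 1, false), (7, 5, false), (9, 3, false), (10, 3, false), (8, 3, false), (6, 12, false), (7, 10, false), (4, 32, false), (5, 32, false), (6, 29, false), (0, 84, true), (10, 83, true), (22, 83,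 true), (34, 81, true), (37, 81, true), (40, 80, true), (49, 80, true), (58, 79, true), (65, 79, true), (72, 78, true), (9, 28, true), (8, 29, true), (7, 29, true), (6, 31, true), (5, 32, true), (8, 6, true), (7, 8, true), (9, 3, true), (10, 1, true), (11, 0, true), (10, 4, true), (8, 5, true), (10, 0, true), (9, 22, true), (8, 22, true), (7, 24, true), (6, 25, true), (11, 6, true), (10, 6, true), (9, 8, true), (12, 6, true), (11, 6, true), (10, 8, true), (8, 9, true), (10, 6, true), (9, 6, true), (8, 8, true), (11, 1, true), (10, 1, true), (12, 6, true), (11, 6, true), (10, 7, true), (9, 8, true), (10, 5, true), (11, 0, true), (10, 7, true), (8, 9, true), (11, 1, true), (12, 21, true), (11, 22, true), (10, 22, true), (9, 23, true), (8, 23, true), (7, 26, true), (14, 3, true), (13, 3, true), (15, 3, true), (14, 3, true), (16, 6, true), (15, 6, true), (14, 8, true), (13, 8, true), (17, 6, true), (16, 6, true), (15, 8, true), (14, 8, true), (12, 9, true), (15, 1, true), (14, 1, true), (16, 6, true), (15, 6, true), (14, 7, true), (13, 8,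 true), (12, 8, true), (13, 5, true), (15, 0, true), (14, 7, true), (13, 8, true), (14, 5, true), (15, 1, true), (17, 15, true), (16, 15, true), (15, 16, true), (14, 16, true), (13, 18, true), (12, 18, true), (11, 19, true), (10, 19, true), (8, 20, true), (9, 12, true), (11, 8, true), (10, 8, true), (11, 5, true), (12, 6, true), (11, 8, true), (13, 3, true), (14, 3, true), (12, 5, true), (13, 3, true), (12, 3, true), (14, 1, true), (13, 1, true), (14, 0, true), (14, 3, true), (13, 4, true), (15, 1, true), (16, 0, true), (17, 15, true), (16, 15, true), (15, 16, true), (14, 16, true), (13, 17, true), (12, 17, true), (11, 18, true), (10, 18, true), (9, 19, true), (8, 19, true), (10, 12, true), (12, 8, true), (11, 8, true), (12, 5, true), (13, 6, true), (12, 8, true), (14, 3, true), (15, 3, true), (13, 5, true), (14, 3, true), (13, 3, true), (15, 3, true), (14, 3, true), (16, 3, true), (15, 3, true), (13, 5, true), (14, 1, true), (13, 1, true), (14, 0, true), (14, 3, true), (13, 4, true), (15, 1, true), (16, 0, true), (17, 10, true), (16,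 10, true), (15, 11, true), (14, 11, true), (13, 12, true), (12, 13, true), (11, 13, true), (9, 14, true), (12, 6, true), (11, 8, true), (10, 8, true), (13, 3, true), (11, 5, true), (11, 3, true), (13, 3, true), (12, 3, true), (14, 3, true), (13, 3, true), (11, 5, true), (12, 1, true), (11, 1, true), (12, 0, true), (12, 3, true), (11, 4, true), (13, 1, true), (14, 0, true), (15, 6, true), (14, 6, true), (13, 7, true), (12, 7, true), (11, 8, true), (9, 9, true), (9, 5, true), (10, 3, true), (9, 4, true), (11, 3, true), (10, 4, true), (12, 1, true), (13, 0, true), (13, 6, true), (12, 7, true), (11, 7, true), (10, 8, true), (9, 8, true), (10, 5, true), (12, 3, true), (11, 4, true), (13, 3, true), (12, 4, true), (10, 5, true), (11, 1, true), (12, 0, true), (11, 4, true), (10, 4, true), (12, 4, true), (11, 4, true), (15, 28, true), (14, 28, true), (13, 29, true), (12, 29, true), (11, 30, true), (10, 30, true), (9, 31, true), (8, 33, true), (7, 34, true), (6, 34, true), (4, 35, true), (8, 6, true), (7, 8, true), (9, 3, true), (10, 3, true),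 (8, 5, true), (8, 3, true), (9, 1, true), (10, 0, true), (9, 4, true), (12, 0, true), (12, 21, true), (11, 22, true), (10, 22, true), (9, 23, true), (8, 23, true), (7, 24, true), (6, 26, true), (4, 27, true), (10, 6, true), (9, 6, true), (11, 3, true), (10, 3, true), (12, 3, true), (11, 3, true), (13, 6, true), (12, 6, true), (11, 8, true), (10, 8, true), (8, 9, true), (11, 6, true), (10, 6, true), (9, 8, true), (8, 8, true), (12, 1, true), (11, 1, true), (13, 6, true), (12, 6, true), (11, 7, true), (10, 8, true), (9, 8, true), (10, 5, true), (12, 0, true), (11, 7, true), (10, 8, true), (8, 9, true), (8, 5, true), (9, 1, true), (11, 21, true), (10, 21, true), (9, 22, true), (8, 22, true), (7, 25, true), (6, 25, true), (5, 26, true), (4, 26, true), (11, 15, true), (10, 15, true), (9, 18, true), (8, 19, true), (7, 19, true), (5, 20, true), (6, 12, true), (8, 8, true), (7, 8, true), (8, 5, true), (9, 0, true), (8, 17, true), (7, 18, true), (6, 19, true), (5, 19, true), (7, 12, true), (9, 8, true), (8, 8, true), (9, 5, true), (10, 3, true),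 (11, 10, true), (10, 12, true), (9, 12, true), (8, 13, true), (6, 14, true), (9, 3, true), (7, 5, true), (7, 3, true), (9, 10, true), (8, 10, true), (7, 12, true), (6, 13, true), (10, 3, true), (8, 5, true), (8, 0, true), (10, 15, true), (9, 15, true), (8, 18, true), (7, 18, true), (6, 19, true), (8, 8, true), (9, 5, true), (9, 6, true), (10, 3, true), (11, 3, true), (12, 0, true), (12, 6, true), (11, 8, true), (10, 8, true), (8, 9, true), (10, 3, true), (8, 5, true), (8, 0, true), (7, 19, true), (5, 20, true), (6, 8, true), (10, 6, true), (9, 6, true), (8, 8, true), (7, 8, true), (11, 6, true), (10, 6, true), (9, 8, true), (8, 8, true), (6, 9, true), (9, 1, true), (8, 1, true), (10, 6, true), (9, 6, true), (8, 7, true), (7, 8, true), (6, 8, true), (7, 5, true), (9, 0, true), (8, 7, true), (7, 8, true), (8, 5, true), (9, 1, true), (10, 0, true), (9, 16, true), (8, 16, true), (7, 18, true), (6, 18, true), (5, 19, true), (7, 8, true), (8, 5, true), (8, 6, true), (9, 3, true), (10, 3, true), (12, 3, true), (11, 3, true), (9, 5, true),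 (10, 1, true), (9, 1, true), (10, 0, true), (10, 3, true), (9, 4, true), (11, 1, true), (12, 0, true), (11, 16, true), (10, 16, true), (9, 17, true), (8, 18, true), (7, 18, true), (6, 19, true), (8, 8, true), (9, 5, true), (9, 6, true), (10, 3, true), (11, 3, true), (13, 3, true), (12, 3, true), (10, 5, true), (11, 3, true), (10, 3, true), (12, 1, true), (11, 1, true), (12, 0, true), (12, 3, true), (11, 4, true), (13, 1, true), (14, 0, true), (13, 11, true), (12, 11, true), (11, 12, true), (10, 12, true), (9, 13, true), (8, 13, true), (12, 6, true), (11, 8, true), (10, 8, true), (13, 3, true), (11, 5, true), (11, 3, true), (13, 3, true), (12, 3, true), (14, 3, true), (13, 3, true), (11, 5, true), (12, 3, true), (11, 3, true), (13, 1, true), (12, 1, true), (13, 0, true), (13, 3, true), (12, 4, true), (14, 1, true), (15, 0, true), (14, 7, true), (13, 7, true), (12, 8, true), (11, 8, true), (9, 9, true), (9, 5, true), (11, 3, true), (10, 4, true), (12, 3, true), (11, 4, true), (9, 5, true), (10, 1, true), (12, 6, true), (11, 6, true),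 (10, 7, true), (9, 7, true), (13, 3, true), (12, 4, true), (10, 5, true), (11, 3, true), (10, 4, true), (12, 1, true), (13, 0, true), (13, 3, true), (12, 4, true), (11, 4, true), (14, 3, true), (13, 4, true), (12, 4, true), (10, 5, true), (12, 0, true), (11, 16, true), (10, 16, true), (9, 18, true), (8, 19, true), (7, 19, true), (5, 20, true), (6, 12, true), (8, 8, true), (7, 8, true), (8, 5, true), (9, 3, true), (10, 1, true), (11, 0, true), (10, 4, true), (8, 5, true), (11, 10, true), (10, 10, true), (9, 11, true), (8, 11, true), (7, 13, true), (5, 14, true), (8, 3, true), (6, 5, true), (6, 1, true), (7, 0, true), (6, 4, true), (9, 0, true), (9, 10, true), (8, 11, true), (7, 11, true), (6, 12, true), (5, 13, true), (9, 3, true), (7, 5, true), (7, 3, true), (8, 1, true), (9, 0, true), (8, 4, true), (11, 0, true), (10, 16, true), (9, 16, true), (8, 17, true), (7, 17, true), (6, 18, true), (5, 19, true), (7, 8, true), (8, 5, true), (8, 3, true), (9, 3, true), (10, 3, true), (8, 5, true), (8, 1, true), (9, 0, true), (8, 4, true), (12,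 10, true), (11, 10, true), (10, 11, true), (9, 11, true), (8, 12, true), (7, 13, true), (11, 3, true), (9, 5, true), (9, 3, true), (10, 1, true), (11, 0, true), (10, 4, true), (13, 0, true), (13, 10, true), (12, 11, true), (11, 11, true), (10, 12, true), (9, 12, true), (8, 13, true), (6, 14, true), (9, 3, true), (7, 5, true), (7, 3, true), (8, 3, true), (9, 1, true), (10, 0, true), (9, 4, true), (7, 5, true), (9, 0, true), (8, 29, true), (7, 29, true), (6, 31, true), (5, 33, true), (4, 34, true), (8, 6, true), (7, 8, true), (9, 3, true), (10, 1, true), (11, 0, true), (10, 4, true), (8, 5, true), (11, 28, true), (10, 28, true), (9, 29, true), (8, 29, true), (7, 31, true), (6, 33, true), (5, 34, true), (9, 6, true), (8, 8, true), (10, 3, true), (11, 1, true), (12, 0, true), (11, 4, true), (9, 5, true), (11, 0, true), (11, 15, true), (10, 16, true), (9, 16, true), (8, 18, true), (12, 3, true), (10, 5, true), (10, 1, true), (11, 0, true), (10, 4, true), (13, 0, true), (12, 16, true), (11, 16, true), (10, 17, true), (9, 18, true), (7, 20,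 true), (10, 3, true), (8, 5, true), (8, 3, true), (9, 1, true), (10, 0, true), (9, 4, true), (13, 10, true), (12, 10, true), (11, 11, true), (10, 11, true), (9, 12, true), (8, 12, true), (7, 13, true), (11, 3, true), (9, 5, true), (9, 3, true), (10, 3, true), (11, 1, true), (12, 0, true), (11, 4, true), (9, 5, true), (11, 0, true), (11, 6, true), (10, 7, true), (9, 7, true), (13, 3, true), (12, 4, true), (10, 5, true), (11, 3, true), (10, 4, true), (12, 1, true), (13, 0, true), (12, 7, true), (11, 7, true), (10, 8, true), (8, 9, true), (8, 5, true), (9, 3, true), (8, 4, true), (10, 3, true), (9, 4, true), (11, 1, true), (13, 3, true), (12, 3, true), (11, 4, true), (10, 4, true), (8, 5, true), (10, 0, true), (9, 29, true), (8, 29, true), (7, 32, true), (6, 34, true), (4, 35, true), (7, 3, true), (8, 1, true), (9, 0, true), (8, 4, true), (6, 5, true), (9, 28, true), (8, 28, true), (7, 29, true), (6, 29, true), (5, 32, true), (4, 34, true), (8, 3, true), (9, 1, true), (10, 0, true), (9, 4, true), (7, 5, true), (9, 0, true), (9, 15, true),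 (8, 16, true), (7, 16, true), (6, 19, true), (12, 3, true), (11, 3, true), (10, 4, true), (8, 5, true), (10, 1, true), (9, 1, true), (10, 0, true), (11, 15, true), (10, 15, true), (9, 16, true), (8, 16, true), (7, 19, true), (13, 3, true), (12, 3, true), (11, 4, true), (9, 5, true), (11, 1, true), (10, 1, true), (11, 0, true), (11, 0, true), (10, 11, true), (9, 11, true), (13, 3, true), (12, 3, true), (11, 4, true), (14, 1, true), (13, 1, true), (14, 0, true), (14, 6, true), (13, 7, true), (12, 7, true), (11, 8, true), (10, 8, true), (11, 5, true), (13, 3, true), (12, 4, true), (14, 3, true), (13, 4, true), (11, 5, true), (12, 1, true), (13, 0, true), (12, 7, true), (11, 7, true), (15, 3, true), (14, 4, true), (12, 5, true), (13, 3, true), (12, 4, true), (14, 1, true), (16, 3, true), (15, 3, true), (14, 4, true), (13, 4, true), (16, 0, true), (15, 22, true), (14, 22, true), (13, 23, true), (12, 23, true), (11, 24, true), (10, 24, true), (9, 25, true), (8, 25, true), (7, 26, true), (6, 26, true), (13, 15, true), (12, 15, true), (11,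 18, true), (10, 19, true), (9, 19, true), (7, 20, true), (8, 12, true), (10, 8, true), (9, 8, true), (10, 5, true), (11, 0, true), (10, 17, true), (9, 18, true), (8, 19, true), (7, 19, true), (9, 12, true), (11, 8, true), (10, 8, true), (11, 5, true), (12, 3, true), (13, 10, true), (12, 12, true), (11, 12, true), (10, 13, true), (8, 14, true), (11, 3, true), (9, 5, true), (9, 3, true), (11, 10, true), (10, 10, true), (9, 12, true), (8, 13, true), (12, 3, true), (10, 5, true), (10, 0, true), (12, 15, true), (11, 15, true), (10, 18, true), (9, 18, true), (8, 19, true), (10, 8, true), (11, 5, true), (11, 6, true), (12, 3, true), (13, 3, true), (14, 0, true), (14, 6, true), (13, 8, true), (12, 8, true), (10, 9, true), (12, 3, true), (10, 5, true), (10, 0, true), (9, 19, true), (7, 20, true), (8, 8, true), (12, 6, true), (11, 6, true), (10, 8, true), (9, 8, true), (13, 6, true), (12, 6, true), (11, 8, true), (10, 8, true), (8, 9, true), (11, 3, true), (10, 3, true), (8, 5, true), (9, 3, true), (8, 3, true), (10, 6, true), (9, 6, true), (8,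 8, true), (11, 6, true), (10, 6, true), (9, 8, true), (12, 1, true), (11, 1, true), (13, 6, true), (12, 6, true), (11, 7, true), (10, 8, true), (8, 9, true), (8, 5, true), (9, 0, true), (8, 7, true), (12, 1, true), (13, 15, true), (12, 16, true), (11, 16, true), (10, 17, true), (9, 17, true), (8, 18, true), (7, 19, true), (9, 8, true), (10, 5, true), (10, 3, true), (11, 3, true), (12, 3, true), (10, 5, true), (10, 1, true), (11, 0, true), (10, 4, true), (13, 0, true), (12, 11, true), (11, 11, true), (10, 12, true), (9, 13, true), (13, 3, true), (11, 5, true), (11, 3, true), (12, 1, true), (13, 0, true), (12, 4, true), (16, 10, true), (15, 10, true), (14, 11, true), (13, 11, true), (12, 12, true), (11, 12, true), (10, 13, true), (8, 14, true), (11, 3, true), (9, 5, true), (9, 3, true), (10, 3, true), (11, 1, true), (12, 0, true), (11, 4, true), (9, 5, true), (11, 0, true), (11, 6, true), (10, 7, true), (9, 7, true), (13, 3, true), (12, 4, true), (10, 5, true), (11, 3, true), (10, 4, true), (12, 1, true), (13, 0, true), (12, 4, true),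 (11, 4, true), (14, 21, true), (13, 22, true), (12, 22, true), (11, 23, true), (10, 23, true), (9, 24, true), (8, 24, true), (7, 26, true), (5, 27, true), (11, 6, true), (10, 6, true), (12, 6, true), (11, 6, true), (9, 9, true), (10, 3, true), (9, 3, true), (11, 3, true), (10, 3, true), (12, 6, true), (11, 6, true), (10, 8, true), (9, 8, true), (13, 6, true), (12, 6, true), (11, 8, true), (10, 8, true), (14, 1, true), (13, 1, true), (15, 6, true), (14, 6, true), (13, 7, true), (12, 8, true), (11, 8, true), (9, 9, true), (9, 5, true), (11, 0, true), (10, 7, true), (9, 8, true), (10, 5, true), (11, 1, true), (13, 15, true), (12, 15, true), (11, 16, true), (10, 16, true), (9, 18, true), (8, 19, true), (7, 19, true), (5, 20, true), (6, 12, true), (8, 8, true), (7, 8, true), (8, 5, true), (9, 3, true), (10, 1, true), (11, 0, true), (10, 4, true), (8, 5, true), (10, 0, true), (10, 10, true), (9, 11, true), (8, 11, true), (7, 13, true), (5, 14, true), (8, 3, true), (6, 5, true), (6, 1, true), (7, 0, true), (6, 4, true), (9, 0, true), (8, 11,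 true), (7, 11, true), (6, 12, true), (5, 13, true), (9, 3, true), (7, 5, true), (7, 3, true), (8, 1, true), (9, 0, true), (8, 4, true), (12, 6, true), (11, 6, true), (10, 7, true), (9, 7, true), (8, 8, true), (7, 8, true), (8, 5, true), (10, 3, true), (9, 4, true), (11, 3, true), (10, 4, true), (8, 5, true), (9, 1, true), (10, 0, true), (10, 3, true), (9, 4, true), (8, 4, true), (11, 0, true)]),
    ([13, 6, 9, 8, 8, 4, 4, 1], [(0, 82, true), (6, 84, true), (5, 49, true), (4, 50, true), (3, 50, true), (2, 51, true), (1, 51, true), (0, 52, true), (3, 28, true), (2, 28, true), (4, 28, true), (3, 28, true), (1, 35, true), (2, 21, true), (1, 21, true), (3, 15, true), (2, 15, true), (4, 10, true), (3, 10, true), (5, 10, true), (4, 10, true), (6, 6, true), (5, 6, true), (7, 6, true), (6, 6, true), (8, 3, true), (7, 3, true), (8, 0, true), (7, 30, true), (6, 31, true), (5, 31, true), (4, 32, true), (3, 32, true), (2, 33, true), (1, 34, true), (5, 10, true), (4, 12, true), (6, 3, true), (8, 10, true), (7, 10, true), (6, 12, true), (5, 12, true),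 (9, 3, true), (8, 3, true), (6, 5, true), (6, 0, true), (8, 30, true), (7, 31, true), (6, 31, true), (5, 32, true), (4, 32, true), (3, 33, true), (2, 34, true), (6, 10, true), (5, 12, true), (7, 3, true), (9, 10, true), (8, 10, true), (7, 12, true), (6, 12, true), (10, 3, true), (9, 3, true), (7, 5, true), (7, 0, true), (9, 23, true), (8, 24, true), (7, 24, true), (6, 25, true), (5, 25, true), (4, 26, true), (11, 15, true), (10, 15, true), (9, 18, true), (8, 19, true), (7, 19, true), (5, 20, true), (6, 12, true), (8, 8, true), (7, 8, true), (8, 5, true), (9, 0, true), (8, 8, true), (12, 15, true), (11, 15, true), (10, 17, true), (9, 17, true), (8, 18, true), (7, 18, true), (6, 19, true), (5, 19, true), (7, 12, true), (9, 8, true), (8, 8, true), (9, 5, true), (10, 6, true), (9, 8, true), (11, 3, true), (12, 3, true), (10, 5, true), (11, 3, true), (10, 3, true), (12, 3, true), (11, 3, true), (12, 0, true), (12, 6, true), (11, 8, true), (10, 8, true), (8, 9, true), (10, 3, true), (8, 5, true), (8, 0, true), (10, 17, true), (9, 18, true),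 (8, 18, true), (7, 19, true), (6, 19, true), (8, 12, true), (10, 8, true), (9, 8, true), (10, 5, true), (11, 6, true), (10, 8, true), (12, 3, true), (13, 3, true), (11, 5, true), (12, 3, true), (11, 3, true), (13, 10, true), (12, 10, true), (11, 12, true), (10, 13, true), (9, 13, true), (7, 14, true), (10, 6, true), (9, 8, true), (8, 8, true), (11, 3, true), (9, 5, true), (9, 3, true), (11, 3, true), (10, 3, true), (11, 0, true), (11, 10, true), (10, 12, true), (9, 12, true), (8, 13, true), (7, 13, true), (11, 6, true), (10, 8, true), (9, 8, true), (12, 3, true), (10, 5, true), (10, 3, true), (12, 3, true), (11, 3, true), (13, 3, true), (12, 3, true), (10, 5, true), (10, 0, true), (8, 9, true), (10, 36, true), (9, 38, true), (8, 39, true), (7, 40, true), (6, 41, true), (5, 41, true), (4, 42, true), (3, 42, true), (2, 43, true), (1, 43, true), (2, 35, true), (4, 28, true), (3, 28, true), (2, 34, true), (5, 21, true), (4, 21, true), (5, 0, true), (5, 15, true), (6, 0, true), (8, 10, true), (7, 10, true), (9, 3, true), (8, 3, true), (9,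 0, true), (9, 6, true), (8, 8, true), (10, 3, true), (11, 3, true), (9, 5, true), (10, 3, true), (9, 3, true), (10, 0, true), (9, 30, true), (8, 31, true), (7, 32, true), (6, 33, true), (5, 33, true), (4, 34, true), (3, 34, true), (8, 15, true), (7, 17, true), (9, 3, true), (11, 10, true), (10, 10, true), (9, 12, true), (8, 12, true), (12, 3, true), (11, 3, true), (9, 5, true), (9, 0, true), (10, 30, true), (9, 31, true), (8, 32, true), (7, 33, true), (6, 33, true), (5, 34, true), (4, 34, true), (2, 35, true), (6, 15, true), (5, 17, true), (7, 3, true), (9, 10, true), (8, 10, true), (7, 12, true), (6, 12, true), (10, 3, true), (9, 3, true), (7, 5, true), (7, 0, true), (8, 17, true), (7, 18, true), (6, 19, true), (4, 20, true), (5, 8, true), (6, 5, true), (6, 3, true), (7, 15, true), (6, 17, true), (5, 18, true), (4, 19, true), (6, 8, true), (7, 5, true), (7, 3, true), (9, 6, true), (8, 6, true), (7, 8, true), (10, 3, true), (9, 3, true), (11, 1, true), (10, 1, true), (12, 1, true), (11, 1, true), (12, 0, true), (11, 37, true), (10,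 37, true), (9, 38, true), (8, 38, true), (7, 39, true), (6, 39, true), (5, 40, true), (4, 41, true), (3, 42, true), (2, 42, true), (6, 28, true), (5, 28, true), (4, 34, true), (7, 21, true), (6, 21, true), (7, 0, true), (7, 15, true), (8, 0, true), (11, 6, true), (10, 6, true), (9, 8, true), (12, 3, true), (11, 3, true), (13, 3, true), (12, 3, true), (10, 5, true), (10, 0, true), (13, 3, true), (11, 5, true), (11, 3, true), (12, 1, true), (13, 1, true), (14, 28, true), (13, 29, true), (12, 29, true), (11, 30, true), (10, 31, true), (9, 31, true), (8, 32, true), (7, 33, true), (6, 34, true), (5, 34, true), (3, 35, true), (7, 10, true), (6, 12, true), (8, 3, true), (10, 6, true), (9, 6, true), (8, 8, true), (7, 8, true), (11, 6, true), (10, 6, true), (9, 8, true), (8, 8, true), (12, 3, true), (11, 3, true), (9, 5, true), (10, 3, true), (9, 3, true), (11, 1, true), (10, 1, true), (11, 0, true), (11, 3, true), (10, 4, true), (12, 1, true), (13, 0, true), (13, 28, true), (12, 29, true), (11, 29, true), (10, 30, true), (9, 30, true), (8,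 31, true), (7, 31, true), (6, 32, true), (5, 33, true), (4, 34, true), (3, 34, true), (8, 10, true), (7, 12, true), (9, 3, true), (11, 6, true), (10, 6, true), (9, 8, true), (8, 8, true), (12, 6, true), (11, 6, true), (10, 8, true), (9, 8, true), (13, 3, true), (12, 3, true), (10, 5, true), (11, 3, true), (10, 3, true), (12, 3, true), (11, 3, true), (13, 1, true), (12, 1, true), (13, 0, true), (13, 3, true), (12, 4, true), (10, 5, true), (11, 1, true), (12, 0, true), (12, 15, true), (11, 16, true), (10, 16, true), (9, 18, true), (8, 18, true), (7, 19, true), (9, 8, true), (10, 5, true), (10, 6, true), (11, 3, true), (12, 3, true), (14, 3, true), (13, 3, true), (11, 5, true), (12, 1, true), (11, 1, true), (12, 0, true), (12, 3, true), (11, 4, true), (13, 1, true), (14, 0, true), (14, 15, true), (13, 16, true), (12, 16, true), (11, 17, true), (10, 18, true), (9, 18, true), (8, 19, true), (6, 20, true), (7, 8, true), (8, 5, true), (8, 6, true), (9, 3, true), (10, 3, true), (12, 3, true), (11, 3, true), (9, 5, true), (10, 3, true), (9,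 3, true), (11, 1, true), (10, 1, true), (11, 0, true), (11, 3, true), (10, 4, true), (12, 1, true), (13, 0, true), (13, 6, true), (12, 7, true), (11, 7, true), (10, 8, true), (9, 8, true), (7, 9, true), (7, 5, true), (9, 3, true), (8, 4, true), (10, 3, true), (9, 4, true), (7, 5, true), (8, 1, true), (9, 0, true), (8, 4, true), (7, 4, true), (8, 2, true), (9, 36, true), (8, 37, true), (7, 38, true), (6, 40, true), (5, 42, true), (4, 42, true), (3, 43, true), (1, 44, true), (5, 28, true), (4, 28, true), (3, 34, true), (1, 35, true), (3, 21, true), (2, 21, true), (3, 0, true), (3, 10, true), (4, 3, true), (5, 0, true), (7, 28, true), (6, 29, true), (5, 30, true), (4, 30, true), (3, 32, true), (2, 34, true), (1, 34, true), (6, 3, true), (7, 3, true), (5, 5, true), (5, 3, true), (6, 1, true), (7, 0, true), (7, 28, true), (6, 29, true), (5, 30, true), (4, 32, true), (3, 34, true), (2, 34, true), (7, 3, true), (8, 3, true), (6, 5, true), (6, 1, true), (7, 0, true), (7, 15, true), (6, 16, true), (5, 19, true), (10, 0, true), (9, 16, true),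 (8, 17, true), (7, 17, true), (6, 19, true), (8, 5, true), (11, 3, true), (10, 3, true), (9, 4, true), (12, 1, true), (11, 1, true), (13, 1, true), (12, 1, true), (10, 2, true), (11, 45, true), (10, 45, true), (9, 47, true), (8, 47, true), (7, 49, true), (6, 50, true), (5, 50, true), (4, 51, true), (3, 51, true), (2, 52, true), (1, 52, true), (4, 28, true), (3, 28, true), (4, 0, true), (4, 28, true), (2, 35, true), (2, 28, true), (3, 21, true), (4, 15, true), (5, 10, true), (6, 10, true), (7, 6, true), (8, 6, true), (9, 3, true), (11, 28, true), (10, 28, true), (9, 30, true), (8, 31, true), (7, 31, true), (6, 32, true), (5, 32, true), (4, 33, true), (3, 34, true), (7, 10, true), (6, 12, true), (8, 3, true), (10, 10, true), (9, 10, true), (8, 12, true), (7, 12, true), (11, 3, true), (10, 3, true), (8, 5, true), (8, 0, true), (12, 28, true), (11, 28, true), (10, 30, true), (9, 31, true), (8, 31, true), (7, 32, true), (6, 32, true), (5, 33, true), (4, 34, true), (2, 35, true), (5, 10, true), (4, 12, true), (6, 3, true), (8, 10, true),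 (7, 10, true), (6, 12, true), (5, 12, true), (9, 3, true), (8, 3, true), (6, 5, true), (6, 0, true), (10, 21, true), (9, 21, true), (8, 23, true), (7, 24, true), (6, 24, true), (5, 25, true), (4, 25, true), (3, 26, true), (10, 15, true), (9, 15, true), (8, 18, true), (7, 19, true), (6, 19, true), (4, 20, true), (5, 12, true), (7, 8, true), (6, 8, true), (7, 5, true), (8, 0, true), (7, 8, true), (11, 15, true), (10, 15, true), (9, 17, true), (8, 17, true), (7, 18, true), (6, 18, true), (5, 19, true), (4, 19, true), (6, 12, true), (8, 8, true), (7, 8, true), (8, 5, true), (9, 6, true), (8, 8, true), (10, 3, true), (11, 3, true), (9, 5, true), (10, 3, true), (9, 3, true), (11, 3, true), (10, 3, true), (11, 0, true), (11, 6, true), (10, 8, true), (9, 8, true), (7, 9, true), (9, 3, true), (7, 5, true), (7, 0, true), (11, 15, true), (10, 15, true), (9, 17, true), (8, 18, true), (7, 18, true), (6, 19, true), (5, 19, true), (7, 12, true), (9, 8, true), (8, 8, true), (9, 5, true), (10, 6, true), (9, 8, true), (11, 3, true), (12, 3, true), (10,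 5, true), (11, 3, true), (10, 3, true), (11, 0, true), (11, 10, true), (10, 12, true), (9, 13, true), (8, 13, true), (6, 14, true), (9, 6, true), (8, 8, true), (7, 8, true), (10, 3, true), (8, 5, true), (8, 3, true), (10, 3, true), (9, 3, true), (10, 0, true), (9, 12, true), (8, 12, true), (7, 13, true), (6, 13, true), (10, 6, true), (9, 8, true), (8, 8, true), (11, 3, true), (9, 5, true), (9, 3, true), (11, 3, true), (10, 3, true), (12, 3, true), (11, 3, true), (9, 5, true), (10, 6, true), (9, 6, true), (7, 9, true), (8, 6, true), (7, 6, true), (9, 3, true), (8, 3, true), (9, 0, true), (8, 38, true), (7, 39, true), (6, 40, true), (5, 41, true), (4, 41, true), (3, 42, true), (2, 42, true), (6, 28, true), (5, 28, true), (4, 34, true), (7, 21, true), (6, 21, true), (7, 0, true), (7, 15, true), (8, 0, true), (10, 10, true), (9, 10, true), (11, 3, true), (10, 3, true), (11, 0, true), (11, 6, true), (10, 8, true), (12, 3, true), (13, 3, true), (11, 5, true), (12, 3, true), (11, 3, true), (13, 28, true), (12, 28, true), (11, 30, true), (10,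 31, true), (9, 32, true), (8, 33, true), (7, 33, true), (6, 34, true), (5, 34, true), (3, 35, true), (7, 15, true), (6, 17, true), (8, 3, true), (10, 10, true), (9, 10, true), (8, 12, true), (7, 12, true), (11, 3, true), (10, 3, true), (8, 5, true), (8, 0, true), (11, 28, true), (10, 28, true), (9, 30, true), (8, 31, true), (7, 32, true), (6, 33, true), (5, 33, true), (4, 34, true), (3, 34, true), (8, 15, true), (7, 17, true), (9, 3, true), (11, 10, true), (10, 10, true), (9, 12, true), (8, 12, true), (12, 3, true), (11, 3, true), (9, 5, true), (9, 0, true), (12, 15, true), (11, 15, true), (10, 17, true), (9, 18, true), (8, 19, true), (6, 20, true), (7, 8, true), (8, 5, true), (8, 3, true), (9, 0, true), (8, 17, true), (7, 18, true), (6, 19, true), (8, 8, true), (9, 5, true), (9, 3, true), (10, 6, true), (9, 8, true), (11, 3, true), (12, 1, true), (13, 1, true), (15, 36, true), (14, 36, true), (13, 37, true), (12, 37, true), (11, 38, true), (10, 38, true), (9, 39, true), (8, 39, true), (7, 40, true), (6, 41, true), (5, 42, true), (4,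 42, true), (3, 43, true), (8, 28, true), (7, 28, true), (6, 34, true), (4, 35, true), (6, 21, true), (5, 21, true), (6, 0, true), (6, 15, true), (7, 0, true), (10, 6, true), (9, 6, true), (8, 8, true), (11, 3, true), (10, 3, true), (12, 3, true), (11, 3, true), (9, 5, true), (9, 0, true), (12, 3, true), (10, 5, true), (10, 3, true), (11, 1, true), (12, 1, true), (13, 0, true), (12, 29, true), (11, 29, true), (10, 30, true), (9, 31, true), (8, 31, true), (7, 32, true), (6, 33, true), (5, 34, true), (4, 34, true), (9, 10, true), (8, 12, true), (10, 3, true), (12, 6, true), (11, 6, true), (10, 8, true), (9, 8, true), (13, 6, true), (12, 6, true), (11, 8, true), (10, 8, true), (14, 3, true), (13, 3, true), (11, 5, true), (12, 3, true), (11, 3, true), (13, 1, true), (12, 1, true), (13, 0, true), (13, 3, true), (12, 4, true), (14, 1, true), (15, 0, true), (14, 29, true), (13, 29, true), (12, 30, true), (11, 30, true), (10, 31, true), (9, 31, true), (8, 32, true), (7, 33, true), (6, 34, true), (5, 34, true), (10, 10, true), (9, 12, true),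 (11, 3, true), (13, 6, true), (12, 6, true), (11, 8, true), (10, 8, true), (14, 6, true), (13, 6, true), (12, 8, true), (11, 8, true), (15, 3, true), (14, 3, true), (12, 5, true), (13, 3, true), (12, 3, true), (14, 3, true), (13, 3, true), (15, 1, true), (14, 1, true), (15, 0, true), (15, 3, true), (14, 4, true), (12, 5, true), (13, 1, true), (14, 0, true), (13, 16, true), (12, 16, true), (11, 18, true), (10, 18, true), (9, 19, true), (11, 8, true), (12, 5, true), (12, 6, true), (13, 3, true), (14, 3, true), (16, 3, true), (15, 3, true), (13, 5, true), (14, 1, true), (13, 1, true), (14, 0, true), (14, 3, true), (13, 4, true), (15, 1, true), (16, 0, true), (15, 16, true), (14, 16, true), (13, 17, true), (12, 18, true), (11, 18, true), (10, 19, true), (8, 20, true), (9, 8, true), (10, 5, true), (10, 6, true), (11, 3, true), (12, 3, true), (14, 3, true), (13, 3, true), (11, 5, true), (12, 3, true), (11, 3, true), (13, 1, true), (12, 1, true), (13, 0, true), (13, 3, true), (12, 4, true), (14, 1, true), (15, 0, true), (14, 7, true), (13,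 7, true), (12, 8, true), (11, 8, true), (9, 9, true), (9, 5, true), (11, 3, true), (10, 4, true), (12, 3, true), (11, 4, true), (9, 5, true), (10, 1, true), (12, 3, true), (11, 3, true), (10, 4, true), (9, 4, true), (13, 1, true), (12, 1, true), (10, 2, true), (11, 1, true), (10, 1, true), (11, 0, true), (10, 37, true), (9, 38, true), (8, 40, true), (7, 42, true), (6, 42, true), (5, 43, true), (4, 43, true), (2, 44, true), (2, 35, true), (4, 28, true), (3, 28, true), (2, 34, true), (5, 21, true), (4, 21, true), (5, 0, true), (5, 10, true), (6, 3, true), (7, 0, true), (8, 29, true), (7, 30, true), (6, 30, true), (5, 32, true), (4, 34, true), (3, 34, true), (8, 3, true), (9, 3, true), (7, 5, true), (7, 3, true), (8, 1, true), (9, 0, true), (8, 29, true), (7, 30, true), (6, 32, true), (5, 34, true), (4, 34, true), (2, 35, true), (6, 3, true), (7, 3, true), (5, 5, true), (5, 1, true), (6, 0, true), (5, 16, true), (4, 19, true), (10, 15, true), (9, 15, true), (8, 16, true), (7, 17, true), (6, 17, true), (5, 19, true), (7, 5, true), (9, 0,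 true), (9, 3, true), (8, 4, true), (10, 1, true), (11, 1, true), (9, 2, true), (9, 3, true), (7, 5, true), (7, 0, true), (8, 0, true), (8, 36, true), (7, 38, true), (6, 40, true), (5, 41, true), (4, 41, true), (3, 42, true), (2, 42, true), (6, 28, true), (5, 28, true), (4, 34, true), (7, 21, true), (6, 21, true), (7, 0, true), (7, 15, true), (8, 0, true), (10, 10, true), (9, 10, true), (11, 3, true), (10, 3, true), (11, 0, true), (11, 3, true), (13, 36, true), (12, 36, true), (11, 38, true), (10, 38, true), (9, 40, true), (8, 41, true), (7, 41, true), (6, 42, true), (5, 42, true), (4, 43, true), (3, 43, true), (4, 35, true), (6, 28, true), (5, 28, true), (4, 34, true), (7, 21, true), (6, 21, true), (7, 0, true), (7, 15, true), (8, 0, true), (10, 10, true), (9, 10, true), (11, 3, true), (10, 3, true), (11, 0, true), (11, 3, true), (12, 3, true), (10, 5, true), (10, 0, true), (9, 32, true), (8, 33, true), (7, 33, true), (6, 34, true), (5, 34, true), (10, 15, true), (9, 17, true), (11, 3, true), (13, 10, true), (12, 10, true), (11, 12,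 true), (10, 12, true), (14, 3, true), (13, 3, true), (11, 5, true), (11, 0, true)], [(1, 51, true), (11, 36, true), (10, 38, true), (9, 39, true), (8, 39, true), (7, 40, true), (6, 40, true), (5, 41, true), (4, 42, true), (3, 43, true), (2, 43, true), (3, 35, true), (5, 15, true), (4, 15, true), (5, 0, true), (5, 10, true), (6, 3, true), (7, 0, true), (6, 12, true), (10, 6, true), (9, 6, true), (8, 8, true), (7, 8, true), (11, 3, true), (10, 3, true), (8, 5, true), (9, 3, true), (8, 3, true), (9, 0, true), (8, 8, true), (9, 5, true), (9, 3, true), (11, 36, true), (10, 36, true), (9, 38, true), (8, 39, true), (7, 39, true), (6, 40, true), (5, 40, true), (4, 41, true), (3, 42, true), (7, 15, true), (6, 15, true), (7, 0, true), (7, 10, true), (8, 3, true), (9, 0, true), (8, 12, true), (12, 6, true), (11, 6, true), (10, 8, true), (9, 8, true), (13, 3, true), (12, 3, true), (10, 5, true), (11, 3, true), (10, 3, true), (11, 0, true), (10, 8, true), (11, 5, true), (11, 3, true), (12, 0, true), (11, 12, true), (10, 13, true), (9, 13, true),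 (7, 14, true), (10, 6, true), (9, 8, true), (8, 8, true), (11, 3, true), (9, 5, true), (9, 3, true), (11, 3, true), (10, 3, true), (12, 10, true), (11, 10, true), (10, 12, true), (9, 12, true), (8, 13, true), (7, 13, true), (11, 6, true), (10, 8, true), (9, 8, true), (12, 3, true), (10, 5, true), (10, 3, true), (12, 3, true), (11, 3, true), (13, 3, true), (12, 3, true), (10, 5, true), (10, 0, true), (10, 1, true), (10, 5, false), (12, 4, false), (13, 3, false), (9, 7, false), (10, 0, false), (9, 1, false), (9, 5, false), (11, 3, false), (7, 13, false), (8, 11, false), (9, 0, false), (8, 1, false), (8, 5, false), (10, 3, false), (7, 14, false), (9, 13, false), (10, 11, false), (11, 0, false), (10, 1, false), (10, 5, false), (12, 3, false), (11, 3, false), (10, 5, false), (9, 8, false), (10, 8, false), (8, 12, false), (6, 19, false), (7, 19, false), (8, 18, false), (9, 17, false), (10, 16, false), (11, 0, false), (10, 1, false), (9, 3, false), (9, 5, false), (11, 3, false), (7, 13, false), (8, 12, false), (9, 11, false), (10, 0, false),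 (9, 1, false), (8, 3, false), (8, 5, false), (10, 3, false), (6, 13, false), (7, 12, false), (8, 11, false), (9, 0, false), (8, 1, false), (7, 3, false), (7, 5, false), (9, 3, false), (6, 20, false), (8, 18, false), (9, 17, false), (10, 16, false), (11, 0, false), (10, 1, false), (11, 1, false), (8, 8, false), (9, 6, false), (10, 6, false), (8, 9, false), (10, 8, false), (11, 6, false), (12, 6, false), (9, 0, false), (9, 5, false), (11, 3, false), (7, 18, false), (8, 17, false), (9, 15, false), (10, 15, false), (5, 25, false), (6, 25, false), (7, 22, false), (8, 21, false), (8, 0, false), (7, 1, false), (8, 1, false), (7, 5, false), (9, 3, false), (10, 3, false), (8, 3, false), (6, 12, false), (7, 10, false), (4, 32, false), (5, 32, false), (6, 29, false), (0, 84, true), (10, 83, true), (22, 82, true), (28, 81, true), (31, 81, true), (34, 80, true), (43, 79, true), (9, 28, true), (8, 29, true), (7, 29, true), (6, 31, true), (5, 32, true), (8, 6, true), (7, 8, true), (9, 3, true), (10, 1, true), (11, 0, true), (10, 4, true), (8, 5, true),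 (10, 0, true), (9, 22, true), (8, 22, true), (7, 24, true), (6, 25, true), (11, 6, true), (10, 6, true), (9, 8, true), (12, 6, true), (11, 6, true), (10, 8, true), (8, 9, true), (10, 6, true), (9, 6, true), (8, 8, true), (11, 1, true), (10, 1, true), (12, 6, true), (11, 6, true), (10, 7, true), (9, 8, true), (10, 5, true), (11, 0, true), (10, 7, true), (8, 9, true), (11, 1, true), (12, 21, true), (11, 22, true), (10, 22, true), (9, 23, true), (8, 23, true), (7, 26, true), (14, 3, true), (13, 3, true), (15, 3, true), (14, 3, true), (16, 6, true), (15, 6, true), (14, 8, true), (13, 8, true), (17, 6, true), (16, 6, true), (15, 8, true), (14, 8, true), (12, 9, true), (15, 1, true), (14, 1, true), (16, 6, true), (15, 6, true), (14, 7, true), (13, 8, true), (12, 8, true), (13, 5, true), (15, 0, true), (14, 7, true), (13, 8, true), (14, 5, true), (15, 1, true), (17, 15, true), (16, 15, true), (15, 16, true), (14, 16, true), (13, 18, true), (12, 18, true), (11, 19, true), (10, 19, true), (8, 20, true), (9, 12, true), (11, 8, true), (10, 8,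 true), (11, 5, true), (12, 6, true), (11, 8, true), (13, 3, true), (14, 3, true), (12, 5, true), (13, 3, true), (12, 3, true), (14, 1, true), (13, 1, true), (14, 0, true), (14, 3, true), (13, 4, true), (15, 1, true), (16, 0, true), (17, 15, true), (16, 15, true), (15, 16, true), (14, 16, true), (13, 17, true), (12, 17, true), (11, 18, true), (10, 18, true), (9, 19, true), (8, 19, true), (10, 12, true), (12, 8, true), (11, 8, true), (12, 5, true), (13, 6, true), (12, 8, true), (14, 3, true), (15, 3, true), (13, 5, true), (14, 3, true), (13, 3, true), (15, 3, true), (14, 3, true), (16, 3, true), (15, 3, true), (13, 5, true), (14, 1, true), (13, 1, true), (14, 0, true), (14, 3, true), (13, 4, true), (15, 1, true), (16, 0, true), (17, 10, true), (16, 10, true), (15, 11, true), (14, 11, true), (13, 12, true), (12, 13, true), (11, 13, true), (9, 14, true), (12, 6, true), (11, 8, true), (10, 8, true), (13, 3, true), (11, 5, true), (11, 3, true), (13, 3, true), (12, 3, true), (14, 3, true), (13, 3, true), (11, 5, true), (12, 1, true), (11,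 1, true), (12, 0, true), (12, 3, true), (11, 4, true), (13, 1, true), (14, 0, true), (15, 6, true), (14, 6, true), (13, 7, true), (12, 7, true), (11, 8, true), (9, 9, true), (9, 5, true), (10, 3, true), (9, 4, true), (11, 3, true), (10, 4, true), (12, 1, true), (13, 0, true), (13, 6, true), (12, 7, true), (11, 7, true), (10, 8, true), (9, 8, true), (10, 5, true), (12, 3, true), (11, 4, true), (13, 3, true), (12, 4, true), (10, 5, true), (11, 1, true), (12, 0, true), (11, 4, true), (10, 4, true), (12, 4, true), (11, 4, true), (15, 28, true), (14, 28, true), (13, 29, true), (12, 29, true), (11, 30, true), (10, 30, true), (9, 31, true), (8, 33, true), (7, 34, true), (6, 34, true), (4, 35, true), (8, 6, true), (7, 8, true), (9, 3, true), (10, 3, true), (8, 5, true), (8, 3, true), (9, 1, true), (10, 0, true), (9, 4, true), (12, 0, true), (12, 21, true), (11, 22, true), (10, 22, true), (9, 23, true), (8, 23, true), (7, 24, true), (6, 26, true), (4, 27, true), (10, 6, true), (9, 6, true), (11, 3, true), (10, 3, true), (12, 3, true), (11, 3,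 true), (13, 6, true), (12, 6, true), (11, 8, true), (10, 8, true), (8, 9, true), (11, 6, true), (10, 6, true), (9, 8, true), (8, 8, true), (12, 1, true), (11, 1, true), (13, 6, true), (12, 6, true), (11, 7, true), (10, 8, true), (9, 8, true), (10, 5, true), (12, 0, true), (11, 7, true), (10, 8, true), (8, 9, true), (8, 5, true), (9, 1, true), (11, 21, true), (10, 21, true), (9, 22, true), (8, 22, true), (7, 25, true), (6, 25, true), (5, 26, true), (4, 26, true), (11, 15, true), (10, 15, true), (9, 18, true), (8, 19, true), (7, 19, true), (5, 20, true), (6, 12, true), (8, 8, true), (7, 8, true), (8, 5, true), (9, 0, true), (8, 17, true), (7, 18, true), (6, 19, true), (5, 19, true), (7, 12, true), (9, 8, true), (8, 8, true), (9, 5, true), (10, 3, true), (11, 10, true), (10, 12, true), (9, 12, true), (8, 13, true), (6, 14, true), (9, 3, true), (7, 5, true), (7, 3, true), (9, 10, true), (8, 10, true), (7, 12, true), (6, 13, true), (10, 3, true), (8, 5, true), (8, 0, true), (10, 15, true), (9, 15, true), (8, 18, true), (7, 18, true), (6,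 19, true), (8, 8, true), (9, 5, true), (9, 6, true), (10, 3, true), (11, 3, true), (12, 0, true), (12, 6, true), (11, 8, true), (10, 8, true), (8, 9, true), (10, 3, true), (8, 5, true), (8, 0, true), (7, 19, true), (5, 20, true), (6, 8, true), (10, 6, true), (9, 6, true), (8, 8, true), (7, 8, true), (11, 6, true), (10, 6, true), (9, 8, true), (8, 8, true), (6, 9, true), (9, 1, true), (8, 1, true), (10, 6, true), (9, 6, true), (8, 7, true), (7, 8, true), (6, 8, true), (7, 5, true), (9, 0, true), (8, 7, true), (7, 8, true), (8, 5, true), (9, 1, true), (10, 0, true), (9, 16, true), (8, 16, true), (7, 18, true), (6, 18, true), (5, 19, true), (7, 8, true), (8, 5, true), (8, 6, true), (9, 3, true), (10, 3, true), (12, 3, true), (11, 3, true), (9, 5, true), (10, 1, true), (9, 1, true), (10, 0, true), (10, 3, true), (9, 4, true), (11, 1, true), (12, 0, true), (11, 16, true), (10, 16, true), (9, 17, true), (8, 18, true), (7, 18, true), (6, 19, true), (8, 8, true), (9, 5, true), (9, 6, true), (10, 3, true), (11, 3, true), (13, 3, true), (12,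 3, true), (10, 5, true), (11, 3, true), (10, 3, true), (12, 1, true), (11, 1, true), (12, 0, true), (12, 3, true), (11, 4, true), (13, 1, true), (14, 0, true), (13, 11, true), (12, 11, true), (11, 12, true), (10, 12, true), (9, 13, true), (8, 13, true), (12, 6, true), (11, 8, true), (10, 8, true), (13, 3, true), (11, 5, true), (11, 3, true), (13, 3, true), (12, 3, true), (14, 3, true), (13, 3, true), (11, 5, true), (12, 3, true), (11, 3, true), (13, 1, true), (12, 1, true), (13, 0, true), (13, 3, true), (12, 4, true), (14, 1, true), (15, 0, true), (14, 16, true), (13, 16, true), (12, 17, true), (11, 17, true), (10, 18, true), (9, 18, true), (8, 19, true), (7, 19, true), (5, 20, true), (6, 12, true), (8, 8, true), (7, 8, true), (8, 5, true), (9, 6, true), (8, 8, true), (10, 3, true), (11, 3, true), (9, 5, true), (10, 3, true), (9, 3, true), (11, 3, true), (10, 3, true), (12, 3, true), (11, 3, true), (9, 5, true), (10, 1, true), (9, 1, true), (10, 0, true), (10, 3, true), (9, 4, true), (11, 1, true), (12, 0, true), (11, 11, true), (10,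 11, true), (9, 12, true), (8, 13, true), (7, 13, true), (5, 14, true), (8, 6, true), (7, 8, true), (6, 8, true), (9, 3, true), (7, 5, true), (7, 3, true), (9, 3, true), (8, 3, true), (10, 3, true), (9, 3, true), (7, 5, true), (8, 1, true), (7, 1, true), (8, 0, true), (8, 3, true), (7, 4, true), (9, 1, true), (10, 0, true), (9, 11, true), (8, 11, true), (7, 12, true), (6, 13, true), (5, 13, true), (9, 6, true), (8, 8, true), (7, 8, true), (10, 3, true), (8, 5, true), (8, 3, true), (10, 3, true), (9, 3, true), (11, 3, true), (10, 3, true), (8, 5, true), (9, 1, true), (8, 1, true), (9, 0, true), (9, 3, true), (8, 4, true), (10, 1, true), (11, 0, true), (10, 16, true), (9, 16, true), (8, 17, true), (7, 18, true), (6, 18, true), (5, 19, true), (7, 8, true), (8, 5, true), (8, 6, true), (9, 3, true), (10, 3, true), (12, 3, true), (11, 3, true), (9, 5, true), (10, 3, true), (9, 3, true), (11, 1, true), (10, 1, true), (11, 0, true), (11, 3, true), (10, 4, true), (12, 1, true), (13, 0, true), (12, 11, true), (11, 11, true), (10, 12, true), (9,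 12, true), (8, 13, true), (7, 13, true), (11, 6, true), (10, 8, true), (9, 8, true), (12, 3, true), (10, 5, true), (10, 3, true), (12, 3, true), (11, 3, true), (13, 3, true), (12, 3, true), (10, 5, true), (11, 3, true), (10, 3, true), (12, 1, true), (11, 1, true), (12, 0, true), (12, 3, true), (11, 4, true), (13, 1, true), (14, 0, true), (13, 11, true), (12, 11, true), (11, 12, true), (10, 12, true), (9, 13, true), (8, 13, true), (6, 14, true), (9, 6, true), (8, 8, true), (7, 8, true), (10, 3, true), (8, 5, true), (8, 3, true), (10, 3, true), (9, 3, true), (11, 3, true), (10, 3, true), (8, 5, true), (9, 3, true), (8, 3, true), (10, 1, true), (9, 1, true), (10, 0, true), (10, 3, true), (9, 4, true), (11, 1, true), (12, 0, true), (11, 29, true), (10, 29, true), (9, 30, true), (8, 30, true), (7, 31, true), (6, 31, true), (5, 33, true), (4, 34, true), (8, 6, true), (7, 8, true), (9, 6, true), (8, 8, true), (10, 3, true), (11, 3, true), (9, 5, true), (9, 3, true), (10, 1, true), (11, 0, true), (10, 4, true), (14, 28, true), (13, 28, true),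 (12, 29, true), (11, 29, true), (10, 30, true), (9, 30, true), (8, 31, true), (7, 31, true), (6, 33, true), (5, 34, true), (9, 6, true), (8, 8, true), (10, 6, true), (9, 8, true), (11, 3, true), (12, 3, true), (10, 5, true), (10, 3, true), (11, 1, true), (12, 0, true), (11, 4, true), (14, 0, true), (14, 15, true), (13, 16, true), (12, 16, true), (11, 17, true), (10, 17, true), (9, 18, true), (8, 18, true), (12, 6, true), (11, 8, true), (10, 8, true), (13, 3, true), (11, 5, true), (11, 3, true), (13, 3, true), (12, 3, true), (14, 3, true), (13, 3, true), (11, 5, true), (12, 3, true), (11, 3, true), (13, 1, true), (12, 1, true), (13, 0, true), (13, 3, true), (12, 4, true), (14, 1, true), (15, 0, true), (15, 15, true), (14, 16, true), (13, 16, true), (12, 17, true), (11, 17, true), (10, 18, true), (9, 18, true), (7, 20, true), (10, 6, true), (9, 8, true), (8, 8, true), (11, 3, true), (9, 5, true), (9, 3, true), (11, 3, true), (10, 3, true), (12, 3, true), (11, 3, true), (9, 5, true), (10, 3, true), (9, 3, true), (11, 1, true), (10, 1,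 true), (11, 0, true), (11, 3, true), (10, 4, true), (12, 1, true), (13, 0, true), (13, 10, true), (12, 11, true), (11, 11, true), (10, 12, true), (9, 12, true), (8, 13, true), (7, 13, true), (11, 6, true), (10, 8, true), (9, 8, true), (12, 3, true), (10, 5, true), (10, 3, true), (12, 3, true), (11, 3, true), (13, 3, true), (12, 3, true), (10, 5, true), (11, 3, true), (10, 3, true), (12, 1, true), (11, 1, true), (12, 0, true), (12, 3, true), (11, 4, true), (13, 1, true), (14, 0, true), (14, 6, true), (13, 7, true), (12, 7, true), (11, 8, true), (10, 8, true), (8, 9, true), (8, 5, true), (10, 3, true), (9, 4, true), (11, 3, true), (10, 4, true), (8, 5, true), (9, 1, true), (10, 0, true), (9, 7, true), (8, 7, true), (12, 3, true), (11, 4, true), (9, 5, true), (10, 3, true), (9, 4, true), (11, 1, true), (13, 3, true), (12, 3, true), (11, 4, true), (10, 4, true), (13, 0, true), (12, 22, true), (11, 22, true), (10, 23, true), (9, 23, true), (8, 24, true), (7, 25, true), (12, 6, true), (11, 6, true), (10, 8, true), (13, 3, true), (12, 3, true),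 (14, 3, true), (13, 3, true), (11, 5, true), (12, 6, true), (11, 6, true), (9, 9, true), (10, 6, true), (9, 6, true), (11, 1, true), (10, 1, true), (12, 6, true), (11, 6, true), (10, 7, true), (14, 0, true), (13, 7, true), (12, 8, true), (11, 8, true), (9, 9, true), (9, 5, true), (11, 1, true), (12, 15, true), (11, 16, true), (10, 16, true), (9, 17, true), (14, 3, true), (13, 3, true), (12, 4, true), (10, 5, true), (12, 1, true), (11, 1, true), (12, 0, true), (13, 10, true), (12, 10, true), (11, 11, true), (10, 11, true), (14, 3, true), (13, 3, true), (12, 4, true), (15, 1, true), (14, 1, true), (15, 0, true), (15, 0, true), (14, 11, true), (13, 11, true), (12, 12, true), (11, 12, true), (12, 5, true), (14, 3, true), (13, 3, true), (12, 4, true), (15, 1, true), (14, 1, true), (15, 0, true), (15, 6, true), (14, 7, true), (13, 7, true), (12, 8, true), (13, 5, true), (14, 3, true), (13, 4, true), (15, 3, true), (14, 4, true), (16, 1, true), (17, 0, true), (16, 4, true), (15, 4, true), (13, 5, true)])]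
  gauge := [
    [(7, 1), (19, 1)], [(22, 1), (25, 1), (42, 2), (46, 1), (49, 1)], [(19, 1)], [(22, 2)],
    [(7, 2), (22, 2), (25, 2)], [], [], [(7, 1), (19, 1), (42, 1)], [(46, 1), (49, 2)], []]
  picks := [
    [(0, 2), (4, 2)], [(0, 2), (1, 2), (5, 1), (6, 1), (7, 2), (8, 2), (9, 2)],
    [(0, 1), (2, 1), (3, 2), (6, 1), (7, 1), (9, 2), (40, 1)], [(1, 1)],
    [(1, 2), (2, 1), (3, 2), (5, 2)], [(4, 2)], [(9, 1)], [], [(1, 2), (2, 1), (3, 2), (6, 1)], [(8, 2)],
    [(0, 1), (1, 1), (2, 2), (4, 2), (6, 2), (7, 2), (8, 2), (11, 2), (12, 1), (13, 1), (16, 1)],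
    [(0, 2), (1, 1), (2, 2), (4, 1), (6, 2), (7, 1), (8, 1), (11, 1), (12, 2), (13, 2), (14, 2), (15, 1), (16, 2), (17, 2), (18, 2), (19, 1), (21, 1), (22, 2), (32, 2), (33, 2), (41, 1), (44, 1)],
    [(2, 1), (4, 2), (6, 2), (7, 1), (8, 1), (11, 2), (12, 1), (13, 1), (16, 1)],
    [(0, 2), (1, 2), (2, 1), (3, 2), (4, 1), (5, 1), (7, 1), (8, 1), (14, 1), (15, 2), (17, 2), (19, 2), (22, 2), (29, 2), (32, 1), (33, 2), (41, 1), (42, 2), (44, 2)],
    [(0, 2), (1, 1), (4, 1), (6, 1), (11, 2), (13, 1), (18, 2), (22, 2), (23, 2), (26, 1), (30, 1), (40, 1)],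
    [(0, 1), (2, 2), (4, 2), (6, 2), (7, 2), (8, 2), (9, 2), (11, 2), (12, 1), (16, 1)],
    [(0, 2), (1, 1), (2, 1), (3, 1), (4, 2), (5, 2), (6, 1), (7, 2), (8, 2), (11, 1), (12, 2), (13, 2), (14, 2), (15, 2), (16, 2), (17, 1), (18, 2), (21, 1), (22, 1), (29, 2), (33, 1), (41, 2), (42, 2)],
    [(1, 2), (2, 2), (3, 2), (4, 2), (6, 2), (7, 1), (8, 1), (9, 2), (11, 2), (12, 1), (16, 1)],
    [(0, 2), (1, 1), (2, 2), (3, 1), (4, 1), (5, 1), (6, 1), (7, 1), (8, 1), (9, 1), (10, 1), (14, 1), (15, 1), (17, 2), (19, 2), (22, 2), (29, 2), (32, 1), (33, 2), (41, 1), (42, 2), (44, 2)],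
    [],
    [(0, 1), (1, 1), (2, 2), (4, 1), (7, 2), (9, 1), (11, 1), (13, 1), (18, 2), (22, 2), (23, 2), (26, 1), (30, 1), (40, 1)],
    [(0, 2), (1, 1), (2, 1), (3, 2), (4, 1), (10, 2), (13, 2), (15, 2), (16, 1)], [],
    [(0, 2), (2, 2), (3, 1), (4, 1), (6, 1), (10, 1), (13, 2), (15, 2), (16, 1)],
    [(0, 1), (1, 2), (2, 2), (3, 1), (4, 2), (10, 2), (13, 1), (15, 1), (16, 2), (47, 1)], [],
    [(0, 1), (1, 2), (2, 2), (6, 1), (9, 1), (10, 2), (11, 2), (12, 2), (13, 1), (15, 2), (16, 1), (17, 1), (18, 2), (19, 1), (20, 1), (21, 1), (22, 2), (23, 2), (26, 2), (27, 1), (31, 1), (34, 1), (37, 2), (38, 1), (40, 2), (47, 1)],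
    [(8, 2), (46, 2)], [(1, 1), (2, 2), (3, 1), (6, 1), (13, 1), (17, 1), (18, 1)],
    [(3, 2), (5, 2), (6, 1), (9, 1), (10, 1), (11, 1), (12, 2), (13, 2), (14, 2), (15, 1), (16, 2), (18, 2), (21, 1), (29, 1), (32, 1), (41, 1), (42, 2), (44, 2)],
    [(1, 2), (2, 1), (3, 2), (9, 1), (13, 1), (18, 1)], [(10, 1), (19, 2)],
    [(0, 2), (1, 1), (2, 1), (5, 1), (8, 1), (9, 1), (10, 2), (12, 1), (13, 2), (14, 2), (16, 1), (17, 1), (19, 2), (20, 1), (22, 2), (23, 2), (24, 2), (25, 2), (28, 1), (29, 1), (30, 2), (31, 1), (33, 1), (34, 2)],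
    [(2, 1), (4, 2), (5, 1), (6, 1), (8, 1), (9, 2), (10, 1), (12, 1), (14, 2), (15, 1), (17, 2), (20, 2), (22, 2), (23, 2), (24, 2), (25, 2), (28, 1), (29, 1), (30, 2), (31, 1), (33, 1), (34, 2)],
    [(0, 1), (1, 1), (3, 1), (4, 2), (7, 2), (8, 2), (9, 1), (12, 1), (13, 2), (15, 1), (17, 1), (18, 2), (19, 2), (20, 2), (21, 1), (22, 1), (23, 1), (27, 1), (30, 1), (31, 1), (34, 1), (36, 2), (37, 2), (38, 1)],
    [(0, 2), (4, 2), (23, 2)],
    [(0, 1), (1, 2), (2, 1), (4, 2), (6, 1), (7, 2), (8, 2), (9, 1), (11, 2), (12, 1), (13, 1), (16, 1), (21, 1), (22, 1)],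
    [(0, 2), (1, 2), (3, 1), (4, 1), (5, 1), (11, 1), (12, 2), (13, 2), (14, 1), (15, 2), (16, 2), (18, 2), (19, 1), (24, 1), (29, 1), (32, 1)],
    [(2, 2), (3, 2), (4, 2), (6, 2), (7, 1), (8, 1), (11, 2), (12, 1), (13, 1), (16, 1), (22, 1)],
    [(0, 2), (1, 1), (2, 2), (3, 2), (4, 2), (5, 2), (6, 2), (7, 2), (8, 2), (11, 2), (12, 1), (13, 1), (14, 1), (15, 2), (16, 1), (18, 1), (21, 2), (24, 2), (29, 2), (32, 2), (41, 2), (42, 1), (44, 1)],
    [(0, 2), (1, 1), (2, 1), (3, 1), (4, 1), (5, 2), (6, 1), (7, 2), (8, 2), (9, 2), (10, 1), (15, 2), (16, 1), (17, 2), (18, 1), (19, 2), (20, 1), (22, 1), (24, 2), (25, 1), (29, 2), (32, 2), (39, 2), (41, 1), (42, 2), (44, 2)],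
    [(0, 2), (1, 2), (2, 1), (5, 1), (6, 1), (8, 1), (10, 2), (12, 1), (13, 2), (14, 1), (15, 1), (16, 1), (17, 2), (19, 1), (20, 2), (21, 2), (23, 2), (24, 2), (25, 1), (28, 1), (29, 1), (30, 2), (31, 1), (33, 1), (34, 2), (39, 2), (41, 2), (42, 1), (44, 1)],
    [],
    [(0, 1), (1, 2), (2, 1), (3, 1), (4, 1), (5, 1), (6, 1), (7, 1), (12, 2), (13, 1), (14, 2), (15, 1), (16, 2), (18, 1), (21, 1), (23, 1), (24, 1), (28, 2), (29, 2), (30, 1), (31, 2), (32, 2), (33, 1), (34, 1), (39, 1), (41, 1), (44, 1), (45, 1)],
    [(1, 2), (2, 2), (3, 2), (4, 2), (6, 1), (9, 1), (13, 2), (18, 1), (22, 1), (26, 2), (30, 1)],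
    [(2, 1), (3, 1), (5, 2), (8, 2), (9, 2), (10, 2), (12, 2), (14, 1), (15, 1), (16, 2), (19, 1), (20, 2), (21, 2), (22, 2), (23, 1), (24, 2), (25, 1), (27, 1), (28, 2), (29, 2), (30, 1), (32, 1), (33, 1), (34, 2), (39, 2), (41, 2), (44, 2), (45, 2)],
    [],
    [(2, 1), (4, 2), (5, 1), (9, 2), (10, 1), (11, 2), (12, 1), (17, 2), (18, 1), (19, 2), (20, 1), (21, 2), (22, 2), (24, 1), (27, 1), (31, 1), (32, 2), (33, 2), (34, 1), (41, 2), (42, 1), (44, 1)],
    [(0, 1), (1, 2), (2, 2), (3, 1), (5, 1), (6, 2), (7, 2), (9, 1), (11, 1), (12, 1), (14, 2), (15, 2), (16, 1), (17, 2), (18, 2), (19, 1), (20, 2), (21, 2), (23, 2), (25, 2), (26, 2), (27, 1), (28, 1), (29, 2), (30, 2), (31, 2), (35, 2), (37, 2), (38, 1), (39, 1), (40, 2), (41, 2), (42, 2), (45, 1), (47, 1)],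
    [],
    [(0, 2), (1, 2), (2, 1), (3, 1), (6, 2), (7, 1), (8, 2), (10, 2), (11, 1), (13, 1), (14, 1), (15, 2), (16, 2), (17, 1), (19, 1), (21, 2), (23, 1), (24, 1), (25, 2), (28, 2), (29, 1), (30, 1), (31, 2), (33, 1), (34, 1), (35, 1), (36, 1), (37, 1), (39, 2), (41, 1), (42, 1), (45, 2), (47, 1)],
    [(1, 2), (2, 1), (3, 1), (4, 1), (5, 1), (6, 1), (7, 1), (8, 1), (9, 1), (10, 1), (13, 2), (14, 1), (15, 2), (16, 1), (17, 2), (22, 2), (24, 1), (25, 2), (26, 1), (27, 2), (29, 1), (30, 1), (32, 2), (34, 1), (35, 2), (37, 2), (38, 1), (40, 2), (41, 1), (42, 1), (45, 2), (47, 1), (50, 2), (55, 1), (56, 2), (57, 2), (58, 1)],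
    [(0, 2), (1, 2), (2, 2), (3, 2), (4, 2), (5, 2), (6, 1), (10, 2), (14, 2), (15, 2), (16, 2), (17, 1), (18, 2), (19, 1), (20, 2), (22, 2), (24, 2), (25, 2), (27, 2), (29, 1), (32, 1), (33, 1), (34, 1), (39, 1), (42, 1), (44, 2), (45, 1)],
    [(0, 2), (4, 1), (5, 1), (6, 2), (7, 1), (10, 2), (11, 1), (13, 1), (14, 1), (16, 1), (17, 2), (18, 2), (19, 2), (20, 2), (21, 1), (22, 2), (24, 2), (26, 2), (28, 2), (29, 2), (30, 1), (31, 2), (32, 1), (33, 2), (35, 2), (36, 1), (37, 2), (38, 2), (42, 2), (44, 1), (45, 2)],
    [(0, 2), (1, 2), (4, 1), (5, 2), (7, 1), (9, 2), (10, 1), (11, 1), (12, 1), (13, 1), (15, 1), (17, 2), (18, 2), (19, 2), (20, 1), (21, 2), (26, 1), (27, 2), (31, 1), (33, 2), (34, 1), (50, 1)]]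

/-- The combinations of tails vanishing by the rewritings at 3. -/
def maskThree : List (List (ℕ × ℕ)) :=
  [
    [(0, 2), (5, 1)], [(3, 1)], [(1, 1), (4, 1), (6, 1), (8, 2), (10, 1), (12, 2)],
    [(1, 1), (4, 1), (6, 1), (8, 2), (15, 1), (17, 2)], [(5, 2)],
    [(3, 2), (4, 2), (10, 1), (12, 2), (15, 2), (17, 1)],
    [(3, 1), (8, 1), (10, 2), (12, 1), (15, 1), (17, 2)],
    [(0, 1), (1, 2), (3, 2), (4, 2), (5, 2), (6, 2), (8, 1), (9, 1)], [(9, 2)], [(6, 1)],
    [(8, 1), (21, 1), (23, 2)], [(6, 1), (8, 2), (9, 2), (14, 1), (15, 2), (17, 1), (20, 2)],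
    [(3, 2), (5, 1), (6, 2), (9, 2), (12, 2), (13, 2), (14, 1), (15, 1), (17, 1), (18, 1), (20, 2), (23, 2)],
    [(3, 2), (6, 2), (10, 1), (15, 2)],
    [(0, 2), (3, 2), (4, 2), (5, 1), (6, 2), (7, 2), (11, 1), (16, 2), (18, 1), (21, 2), (23, 1)],
    [(6, 1), (8, 2), (13, 1), (18, 2), (21, 1), (23, 2)],
    [(0, 2), (3, 1), (5, 2), (12, 1), (13, 1), (17, 2), (18, 2), (23, 1)],
    [(6, 1), (8, 2), (28, 1), (30, 2)], [(3, 2), (10, 1), (12, 1), (15, 2), (17, 2), (30, 1)],
    [(8, 1), (21, 1), (23, 2), (31, 2)],
    [(3, 2), (6, 1), (8, 1), (21, 2), (23, 2), (28, 2), (30, 1), (31, 1), (32, 2), (33, 1)],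
    [(1, 1), (4, 1), (36, 1), (38, 2)], [(10, 2), (15, 1), (17, 2), (38, 1)], [(0, 1), (35, 2)],
    [(1, 1), (3, 1), (5, 1), (6, 2), (21, 1), (23, 2), (29, 2), (39, 2)],
    [(3, 2), (6, 1), (15, 2), (23, 1), (28, 1), (30, 2), (32, 2), (36, 2), (38, 1), (39, 1), (40, 2), (41, 1)],
    [(2, 1), (3, 2), (14, 1), (17, 2), (20, 1), (30, 1), (35, 1), (38, 1), (44, 1)],
    [(0, 2), (3, 2), (4, 1), (5, 1), (6, 1), (7, 2), (8, 1), (9, 2), (10, 1), (12, 1), (14, 2), (15, 2), (17, 1), (19, 2), (30, 1), (32, 2), (35, 2), (38, 2), (41, 2), (43, 1), (44, 1), (45, 2), (47, 2), (48, 2), (49, 2), (50, 1), (52, 2), (53, 2)],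
    [(0, 1), (2, 1), (4, 1), (5, 1), (7, 2), (8, 1), (9, 2), (10, 2), (12, 2), (15, 2), (17, 1), (18, 1), (19, 2), (20, 2), (28, 1), (30, 2), (31, 1), (32, 2), (33, 1), (36, 1), (38, 1), (39, 2), (44, 2), (45, 2), (52, 2)],
    [(5, 2), (6, 2), (7, 1), (10, 2), (13, 1), (18, 1), (19, 1), (31, 1), (32, 1), (36, 1), (39, 1), (40, 2), (41, 1), (43, 1), (45, 1), (47, 2)],
    [(1, 2), (2, 1), (3, 2), (4, 2), (5, 2), (14, 1), (15, 2), (17, 1), (20, 1), (35, 1), (44, 2)],
    [(0, 2), (1, 2), (4, 2), (7, 1), (8, 2), (9, 2), (11, 1), (13, 2), (14, 2), (16, 2), (17, 2), (18, 1), (19, 1), (28, 1), (29, 2), (31, 1), (32, 1), (35, 2), (36, 1), (40, 2), (44, 1), (47, 2), (48, 2), (49, 2), (50, 1), (52, 1), (53, 2)],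
    [(0, 2), (1, 1), (4, 1), (5, 1), (10, 2), (11, 2), (12, 2), (16, 1), (17, 1), (19, 2), (29, 1), (30, 1), (32, 2), (36, 2), (37, 1), (40, 1), (41, 2), (43, 2), (45, 2), (47, 1)],
    [(0, 2), (1, 2), (4, 1), (5, 1), (6, 2), (7, 1), (8, 1), (11, 2), (13, 1), (15, 2), (16, 1), (17, 2), (18, 2), (19, 1), (28, 2), (29, 1), (30, 2), (31, 2), (32, 1), (39, 1), (40, 2), (41, 1), (43, 1), (45, 1), (47, 2)],
    [(0, 2), (1, 2), (3, 2), (5, 2), (7, 1), (8, 1), (9, 2), (11, 2), (13, 1), (14, 2), (16, 1), (18, 1), (19, 1), (29, 1), (30, 2), (31, 1), (32, 1), (33, 2), (35, 2), (36, 1), (38, 2), (39, 1), (40, 1), (41, 1), (43, 2), (44, 1), (45, 1), (48, 2), (49, 2), (50, 1), (53, 2)],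
    [(0, 1), (3, 2), (5, 1), (8, 1), (10, 1), (12, 1), (13, 2), (17, 2), (18, 1), (19, 2), (21, 1), (22, 1), (25, 1), (26, 1), (28, 1), (30, 2), (32, 2), (33, 2), (35, 2), (36, 1), (38, 2), (40, 2), (41, 1), (42, 2), (43, 1), (48, 2)],
    [(0, 2), (3, 1), (5, 1), (8, 1), (9, 2), (10, 1), (12, 1), (13, 2), (14, 2), (15, 1), (17, 2), (18, 1), (19, 1), (20, 2), (24, 2), (25, 2), (26, 1), (28, 2), (30, 2), (32, 2), (33, 1), (34, 2)],
    [(0, 2), (3, 2), (5, 1), (6, 1), (7, 1), (8, 1), (9, 2), (10, 1), (11, 1), (12, 1), (13, 1), (14, 2), (16, 2), (17, 1), (18, 2), (22, 1), (25, 1), (26, 1), (30, 1), (31, 1), (32, 2), (33, 1), (34, 1), (35, 1), (36, 1), (38, 1), (39, 2), (40, 2), (41, 1), (42, 1), (43, 2), (45, 2), (47, 1), (48, 1), (49, 2), (50, 1)],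
    [(0, 2), (2, 2), (3, 2), (4, 1), (5, 2), (6, 2), (8, 1), (9, 2), (10, 1), (11, 1), (14, 2), (15, 1), (16, 2), (17, 2), (18, 1), (20, 2), (21, 2), (22, 1), (24, 2), (26, 2), (28, 2), (31, 2), (32, 2), (33, 1), (34, 1), (35, 1), (36, 1), (39, 1), (40, 2), (41, 1), (42, 1), (43, 2), (44, 1), (45, 2), (48, 1), (49, 2), (50, 1)],
    [(0, 2), (3, 2), (5, 1), (10, 1), (12, 1), (15, 1), (28, 2), (30, 1), (32, 1), (33, 1), (36, 1), (37, 1), (40, 1), (41, 1)],
    [(1, 1), (2, 1), (4, 1), (6, 2), (8, 1), (9, 2)],
    [(0, 2), (1, 2), (3, 1), (4, 2), (6, 2), (7, 1), (55, 2), (57, 1)],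
    [(0, 2), (1, 1), (4, 2), (5, 2), (6, 2), (7, 2), (8, 1), (11, 1), (13, 2), (16, 1), (18, 1), (29, 1), (31, 1), (55, 1), (57, 2)],
    [(6, 1), (12, 1), (15, 1), (17, 1), (18, 2), (19, 1), (28, 1), (30, 1), (31, 2), (32, 2), (38, 2), (39, 1), (40, 1), (41, 2), (43, 2), (57, 2)],
    [(0, 1), (1, 2), (6, 1), (15, 1), (16, 1), (17, 2), (18, 1), (29, 2), (36, 1), (37, 1), (38, 2), (39, 1), (55, 1), (57, 2)],
    [(0, 2), (1, 2), (3, 1), (5, 2), (6, 1), (8, 2), (10, 2), (15, 1), (16, 2), (17, 1), (18, 1), (19, 1), (28, 1), (33, 1), (36, 1), (37, 2), (38, 1), (39, 1), (40, 1), (43, 1)],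
    [(9, 1), (27, 2)], [(8, 2), (23, 1), (24, 1)],
    [(0, 2), (1, 1), (3, 1), (5, 2), (6, 1), (7, 2), (10, 2), (11, 2), (12, 1), (13, 2), (15, 2), (16, 1), (17, 2), (18, 1), (19, 1), (69, 2), (71, 1)],
    [(0, 1), (1, 1), (5, 2), (6, 1), (7, 1), (8, 1), (10, 2), (11, 2), (12, 2), (15, 1), (16, 1), (17, 1), (19, 2), (71, 2)],
    [(0, 1), (2, 2), (3, 1), (4, 1), (5, 2), (6, 2), (7, 1), (8, 1), (9, 2), (10, 2), (11, 2), (12, 2), (13, 1), (14, 1), (16, 1), (19, 1), (20, 1), (29, 1), (30, 2), (31, 1), (32, 2), (36, 2), (38, 1), (40, 2), (41, 2), (44, 1), (45, 2), (47, 2), (48, 1), (49, 1), (50, 2), (52, 1), (53, 1), (54, 1)],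
    [(1, 1), (2, 2), (3, 2), (4, 2), (5, 1), (8, 2), (9, 2), (10, 2), (11, 1), (12, 1), (14, 1), (15, 2), (16, 2), (17, 2), (18, 2), (19, 1), (20, 1), (28, 2), (30, 1), (32, 2), (33, 1), (35, 1), (38, 2), (39, 2), (40, 1), (41, 1), (45, 1), (46, 2), (48, 1), (49, 1), (50, 1), (70, 1), (71, 2), (73, 1), (74, 1), (75, 1), (76, 1)],
    [(2, 1), (3, 2), (7, 1), (8, 1), (9, 1), (10, 2), (11, 2), (12, 1), (13, 1), (14, 2), (16, 1), (18, 1), (19, 1), (20, 1), (29, 1), (31, 2), (33, 1), (35, 2), (36, 2), (38, 1), (40, 2), (41, 2), (43, 1), (44, 1), (45, 2), (47, 1), (50, 1), (72, 2), (73, 2), (74, 1), (75, 1)],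
    [(0, 1), (1, 1), (2, 1), (4, 1), (5, 1), (6, 2), (7, 1), (8, 2), (9, 1), (12, 1), (14, 2), (15, 2), (17, 1), (19, 1), (20, 2), (28, 2), (30, 2), (31, 2), (36, 2), (37, 2), (38, 1), (41, 1), (43, 1), (48, 1), (49, 2), (52, 2), (70, 1), (71, 2), (73, 1), (74, 1), (75, 1), (76, 2)],
    [(0, 2), (1, 2), (4, 2), (6, 1), (10, 2), (11, 1), (13, 1), (16, 1), (17, 2), (19, 2), (28, 1), (29, 2), (30, 2), (32, 2), (33, 2), (35, 1), (36, 2), (37, 1), (40, 2), (43, 2), (44, 1), (45, 2), (46, 2), (48, 1), (49, 1), (53, 1), (69, 2), (70, 1), (71, 2), (72, 2), (74, 2), (75, 1), (76, 2)],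
    [(0, 1), (2, 1), (4, 2), (5, 1), (6, 1), (9, 2), (11, 2), (15, 2), (16, 1), (17, 2), (18, 1), (19, 2), (20, 2), (21, 1), (23, 1), (24, 1), (25, 2), (26, 1), (27, 2), (28, 1), (29, 1), (30, 1), (32, 1), (33, 2), (35, 1), (36, 1), (39, 2), (40, 1), (41, 1), (43, 1), (44, 1), (45, 2), (47, 1), (48, 1), (49, 1), (50, 2), (53, 1), (54, 1), (79, 2), (83, 2)],
    [(1, 2), (2, 2), (3, 1), (4, 1), (5, 1), (6, 2), (7, 2), (8, 1), (9, 1), (11, 2), (12, 1), (14, 2), (15, 1), (16, 1), (17, 1), (18, 1), (19, 2), (20, 1), (21, 1), (22, 1), (24, 2), (25, 2), (28, 1), (30, 2), (31, 1), (34, 1), (35, 1), (36, 1), (39, 2), (40, 2), (41, 1), (42, 2), (44, 1), (49, 2), (50, 1), (51, 2), (52, 1), (78, 1)],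
    [(1, 2), (2, 1), (3, 1), (7, 2), (8, 1), (9, 2), (11, 1), (12, 2), (13, 1), (15, 1), (16, 2), (17, 2), (21, 1), (23, 1), (25, 1), (26, 2), (27, 1), (28, 2), (29, 2), (30, 2), (31, 1), (33, 1), (35, 1), (36, 1), (40, 1), (41, 2), (43, 2), (44, 2), (47, 2), (48, 1), (52, 2), (78, 2), (79, 1), (80, 2), (81, 1), (83, 1)],
    [(0, 2), (1, 2), (2, 1), (5, 2), (6, 2), (8, 1), (9, 2), (10, 2), (11, 1), (12, 1), (13, 1), (14, 1), (15, 1), (16, 2), (18, 2), (19, 2), (20, 2), (23, 2), (24, 1), (25, 2), (26, 1), (27, 2), (28, 1), (29, 2), (30, 2), (31, 2), (32, 1), (34, 1), (35, 1), (36, 1), (39, 2), (40, 1), (41, 2), (42, 2), (44, 2), (45, 2), (47, 2), (49, 2), (50, 1), (79, 2), (80, 2), (81, 1), (83, 2)]]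

/-- Words for the elements of the certificate at 3. -/
def wordThree : List (List ℕ) :=
  [
    [3, 2, 1, 3, 4, 5, 3, 7, 8, 3, 2, 1, 3, 4, 5, 3, 7, 8, 3, 2, 1, 3, 4, 5, 3, 7, 8, 3, 2, 1, 3, 4, 5, 3, 7, 8, 3, 2, 1, 3, 4, 5, 3, 7, 8, 3, 2, 1, 3, 4, 5, 3, 7, 8, 3, 2, 1, 3, 4, 5, 3, 7, 8, 3, 2, 1, 3, 4, 5, 3, 7, 8, 3, 2, 1, 3, 4, 5, 3, 7, 8, 3, 2, 1, 3, 4, 5, 3, 7, 8],
    [6, 4, 5, 6, 3, 7, 4, 3, 2, 3, 4, 5, 6, 7, 3, 2, 4, 3, 5, 7, 8, 7, 3, 2, 4, 5],
    [6, 5, 4, 1, 3, 2, 1, 3, 4, 5, 6, 5, 4, 1, 3, 2, 1, 3, 4, 5, 7, 3, 1, 2, 1, 3, 8, 4, 5, 6, 3, 4, 5, 7, 3, 2, 1, 2, 4, 3, 8, 7, 3, 2, 3, 4, 5, 6, 7, 3, 2, 1, 4, 3, 5, 4, 8, 7, 3, 2, 1, 4, 3, 5, 4, 6, 5, 7],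
    [8, 6, 5, 4, 1, 3, 2, 1, 3, 4, 5, 6, 3, 5, 2, 3, 4, 7, 0, 7, 8, 1, 7, 3, 2, 3, 4, 7, 3, 1, 2, 7, 1, 0, 4, 3, 7, 4, 7, 3, 1, 2, 1, 3, 7, 5, 6, 3, 5, 2, 3, 4, 7, 0, 7, 8, 1, 7, 3, 2, 3, 4, 7, 3, 1, 2, 7, 1, 0, 5, 7, 8, 2, 3, 4, 5, 6, 7, 3, 2, 1, 4, 3, 8, 7, 3, 2, 4, 3, 5, 4, 7, 3, 2, 1, 0, 1, 2, 3, 4, 5, 6, 7, 1, 2, 3, 4, 5, 6, 7, 1, 2, 3, 4, 5, 6, 7, 1, 2, 3, 4, 5, 6, 7, 1, 2, 3, 4, 5, 6, 7, 1, 2, 3, 4, 5, 6, 7, 1, 2, 3, 4, 5, 6, 7, 1, 2, 3, 4, 5, 6, 7, 1, 2, 3, 4, 5, 6, 7],
    [5, 4, 1, 3, 2, 1, 3, 4, 5, 1, 2, 1, 3, 4, 7, 3, 1, 2, 1, 7, 8, 4, 5, 6, 3, 4, 5, 7, 8, 3, 4, 2, 1, 2, 3, 7, 2, 3, 4, 5, 6, 7, 3, 2, 1, 4, 3, 5, 4, 8, 7, 3, 2, 1, 4, 3, 5, 4, 6, 7],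
    [6, 5, 4, 1, 3, 2, 1, 3, 4, 5, 6, 5, 4, 1, 3, 2, 1, 3, 4, 5, 7, 3, 1, 2, 1, 3, 7, 8, 5, 6, 7, 4, 5, 3, 1, 2, 1, 3, 8, 7, 3, 4, 7, 5, 6, 3, 4, 8, 7, 3, 2, 1, 2, 3, 4, 7, 8, 3, 7, 2, 3, 4, 5, 6, 7, 3, 2, 1, 4, 3, 5, 4, 8, 7, 3, 2, 1, 4, 3, 2, 5, 4, 3, 7, 8, 1, 2, 3, 4, 5, 6, 7, 1, 2, 3, 4, 5, 6, 7, 1, 2, 3, 4, 5, 6, 7, 1, 2, 3, 4, 5, 6, 7, 1, 2, 3, 4, 5, 6, 7, 1, 2, 3, 4, 5, 6, 7, 1, 2, 3, 4, 5, 6, 7, 1, 2, 3, 4, 5, 6, 7, 1, 2, 3, 4, 5, 6, 7],
    [6, 5, 4, 1, 3, 2, 1, 3, 4, 5, 6, 5, 4, 1, 3, 2, 1, 3, 4, 5, 7, 3, 1, 2, 1, 3, 7, 8, 5, 6, 7, 4, 5, 3, 1, 2, 1, 3, 2, 1, 3, 4, 5, 6, 7, 3, 2, 4, 5, 8, 7, 3, 2, 1, 4, 3, 2, 7],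
    [8, 1, 2, 1, 3, 4, 7, 3, 1, 2, 1, 8, 3, 5, 2, 3, 4, 7, 0, 7, 8, 1, 7, 3, 2, 3, 4, 7, 3, 1, 2, 7, 1, 0, 4, 3, 7, 4, 5, 4, 3, 1, 2, 3, 1, 4, 5, 7, 3, 1, 2, 1, 3, 7, 8, 5, 6, 7, 4, 5, 7, 8, 4, 7, 3, 1, 2, 1, 3, 7, 5, 6, 3, 5, 7, 2, 0, 6, 7, 1, 4, 8, 5, 3, 2, 7, 4, 3, 4, 7, 2, 3, 1, 2, 0, 5, 4, 3, 6, 4, 5, 6, 3, 0, 7, 6, 1, 4, 3, 0, 3, 5, 7, 2, 0, 6, 7, 1, 4, 8, 5, 3, 2, 7, 4, 3, 4, 7, 2, 3, 1, 2, 0, 5, 4, 3, 7, 4, 3, 2, 1, 2, 3, 4, 5, 4, 3, 7, 8, 2, 3, 4, 5, 6, 7, 3, 2, 1, 4, 5, 8, 7, 3, 2, 1, 0, 4, 3, 2, 5, 7],
    [1, 2, 1, 3, 4, 7, 3, 1, 2, 1, 8, 3, 5, 2, 3, 4, 7, 0, 7, 8, 1, 7, 3, 2, 3, 4, 7, 3, 1, 2, 7, 1, 0, 4, 3, 7, 4, 5, 4, 3, 1, 2, 3, 1, 4, 5, 7, 0, 3, 7, 1, 2, 3, 1, 4, 0, 7, 3, 2, 3, 7, 4, 3, 1, 2, 0, 4, 3, 7, 4, 3, 1, 2, 3, 1, 4, 7, 3, 1, 2, 1, 3, 7, 3, 5, 2, 3, 4, 7, 0, 7, 8, 1, 7, 3, 2, 3, 4, 7, 3, 1, 2, 7, 1, 0, 4, 3, 7, 4, 5, 6, 4, 1, 3, 2, 1, 3, 7, 3, 5, 2, 3, 4, 7, 0, 7, 8, 1, 7, 3, 2, 3, 4, 7, 3, 1, 2, 7, 1, 0, 4, 3, 8, 5, 4, 6, 3, 1, 2, 1, 4, 5, 7, 8, 3, 7, 4, 3, 2, 1, 2, 3, 6, 5, 4, 5, 3, 7, 8, 2, 3, 4, 5, 6, 7,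 3, 2, 1, 4, 3, 2, 5, 4, 8, 7, 3, 2, 1, 0, 4, 3, 2, 5, 7],
    [1, 2, 1, 3, 4, 7, 3, 1, 2, 1, 8, 3, 5, 2, 3, 4, 7, 0, 7, 8, 1, 7, 3, 2, 3, 4, 7, 3, 1, 2, 7, 1, 0, 4, 3, 7, 4, 5, 4, 3, 1, 2, 3, 1, 4, 5, 6, 7, 0, 3, 7, 1, 2, 3, 1, 4, 0, 7, 3, 2, 3, 7, 4, 3, 1, 2, 0, 4, 3, 7, 4, 3, 1, 2, 3, 1, 4, 7, 3, 1, 2, 1, 3, 7, 3, 5, 2, 3, 4, 7, 0, 7, 8, 1, 7, 3, 2, 3, 4, 7, 3, 1, 2, 7, 1, 0, 4, 3, 7, 4, 5, 6, 8, 4, 1, 3, 2, 1, 3, 4, 7, 4, 5, 7, 8, 4, 7, 3, 1, 2, 1, 3, 7, 5, 6, 3, 5, 7, 2, 0, 6, 7, 1, 4, 8, 5, 3, 2, 7, 4, 3, 4, 7, 2, 3, 1, 2, 0, 5, 4, 3, 6, 5, 4, 3, 1, 2, 1, 3, 4, 3, 0, 7, 6, 1, 4, 3, 0, 3, 5, 7, 2, 0, 6, 7, 1, 4, 8, 5, 3, 2, 7, 4, 3, 4, 7, 2, 3, 1, 2, 0, 5, 4, 3, 2, 1, 2, 7, 3, 8, 4, 3, 5, 6, 7, 4, 3, 2, 3, 4, 5, 6, 7, 3, 2, 4, 3, 5, 4, 8, 7, 3, 2, 1, 0, 4],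
    [6, 5, 4, 1, 3, 2, 1, 3, 4, 5, 6, 5, 4, 1, 3, 2, 1, 3, 4, 5, 7, 3, 1, 2, 1, 3, 7, 1, 2, 4, 7, 3, 2, 1, 5, 6, 4, 8, 7, 3, 4, 5, 7, 3, 2, 1, 2, 4, 3, 6, 5, 8, 7, 3, 2, 3, 4, 5, 6, 7, 3, 2, 1, 4, 3, 8, 7, 3, 2, 1],
    [5, 4, 1, 3, 2, 1, 3, 4, 5, 6, 7, 0, 3, 7, 1, 2, 3, 1, 4, 0, 7, 3, 2, 3, 7, 4, 3, 1, 2, 0, 4, 3, 7, 4, 3, 1, 2, 3, 1, 4, 5, 4, 1, 3, 2, 1, 3, 4, 5, 6, 5, 7, 3, 4, 5, 0, 2, 1, 3, 2, 7, 4, 3, 4, 7, 2, 3, 5, 8, 4, 1, 7, 6, 0, 2, 7, 5, 3, 6, 5, 7, 8, 7, 5, 7, 0, 3, 7, 1, 2, 3, 1, 4, 0, 7, 3, 2, 3, 7, 4, 3, 1, 2, 0, 4, 3, 7, 4, 3, 1, 2, 3, 1, 7, 3, 5, 2, 3, 4, 7, 0, 7, 8, 1, 7, 3, 2, 3, 4, 7, 3, 1, 2, 7, 1, 0, 4, 3, 8, 6, 7, 5, 0, 3, 7, 1, 0, 4, 6, 5, 8, 4, 5, 7, 3, 1, 2, 1, 3, 7, 3, 5, 7, 2, 0, 6, 7, 1, 4, 8, 5, 3, 2, 7, 4, 3, 4, 7, 2, 3, 1, 2, 0, 5, 6, 8, 7, 3, 4, 5, 2, 3, 4, 5, 6, 7, 3, 2, 1, 4, 3, 5, 8, 7, 3, 2, 1, 4, 3, 2, 5, 4, 7, 3, 2, 1, 0, 8, 7],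
    [7, 3, 1, 2, 1, 3, 7, 5, 4, 7, 5, 6, 3, 4, 5, 7, 8, 3, 7, 4, 3, 2, 1, 2, 3, 7, 4, 5, 3, 4, 2, 3, 4, 5, 6, 7, 3, 2, 1, 4, 3, 2, 5, 4, 7, 8, 7, 3, 2, 1, 4, 3, 2, 5, 4, 7, 3, 2, 8, 7, 3, 4, 5],
    [5, 4, 1, 3, 2, 1, 3, 4, 5, 6, 7, 0, 3, 7, 1, 2, 3, 1, 4, 0, 7, 3, 2, 3, 7, 4, 3, 1, 2, 0, 4, 3, 7, 4, 3, 1, 2, 3, 1, 4, 5, 4, 1, 3, 2, 1, 3, 4, 5, 7, 0, 3, 7, 1, 2, 3, 1, 4, 0, 7, 3, 2, 3, 7, 4, 3, 1, 2, 0, 4, 3, 7, 4, 3, 1, 2, 3, 1, 4, 8, 5, 7, 0, 3, 7, 1, 2, 3, 1, 4, 0, 7, 3, 2, 3, 7, 4, 3, 1, 2, 0, 4, 3, 7, 4, 3, 1, 2, 3, 1, 4, 8, 7, 8, 4, 3, 4, 5, 7, 3, 2, 1, 3, 4, 5, 6, 7, 3, 2, 4, 8, 7, 3, 2, 1, 0, 4]]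

/-- The matrices of the elements of the certificate at 3. -/
def matThree : List (List ℕ) :=
  [
    [0x8000001, 0x10000002, 0x20000004, 0x40000008, 0x80000010, 0x100000020, 0x200000040, 0x400000080, 0x800000100, 0x1000000200, 0x2000000400, 0x4000000800, 0x8000001000, 0x10000002000, 0x20000004000, 0x40000008000, 0x80000010000, 0x100000020000, 0x200000040000, 0x400000080000, 0x800000100000, 0x1000000200000, 0x2000000400000, 0x4000000800000, 0x8000001000000, 0x10000002000000, 0x20000004000000],
    [0x1a6ddd2d84baa9, 0xbf01111694000, 0x340fdf37a49aec, 0xbf813317b98ce, 0xf66afb9d94c9c, 0x2f6011625bb98e, 0xbfa0007ff4262, 0xe6739a2309e09, 0x359e8a0a6d9309, 0x996c57692234a, 0x582a57731dd3f, 0x3898f6e7dc6d09, 0xe61fdc591ef85, 0x3c984e6cec4b85, 0x2f65dd67fffba2, 0x389e32807d8405, 0x36f308037e9aae, 0xa1116940220, 0xa1111680220, 0x3ffa1111720222, 0xa1116860220, 0x2fa0807b32a8b, 0x3ffa11113a0222, 0x3ae568049162fb, 0x3ff30007b3f207, 0x99a1007ff4266, 0x3186700322f813],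
    [0x2d904e459edaed, 0x3665cc57a1420a, 0xb400136936126, 0x24fcf37e96142, 0x3cc86a10440add, 0x242802104cf9ea, 0x109003404d9880, 0x202cc5adef0ada, 0x270ecd425f9020, 0x1094c5217b98a8, 0x29099c240237a4, 0x42856e85d98b2, 0x1d2549accfc2d6, 0x2c4fc5425f08a0, 0x1997ce0680f9e8, 0x39251ee97dc83e, 0x366fdc04c8b980, 0x9558345a54a4, 0x34030b22136140, 0x1026cd47cc9022, 0x3d999c372537a4, 0x9249345849224, 0x1027c546ec08a2, 0x3b6d4b2124988c, 0x9205744a40aa4, 0x26ffdc07a0b980, 0x1f698f2124988c],
    [0x2704936b04dacb, 0x2d04c7717a98ee, 0x100803624d2308, 0x2d00000201da80, 0x9c4ade69dd7c0, 0xb47cc66cdbbc0, 0x3d080007a50048, 0x1908000050f45c, 0x356b08285edb82, 0x2d000000486360, 0x1a1b1cf5fde82, 0x9000007bd9db4, 0x2d000000181d50, 0x320004ffffa82, 0x9000007edb984, 0x3d080007f5ec38, 0x340000000098ee, 0x3e67ec9dc000a, 0x2404c761200008, 0x184b086856000a, 0x2c81b18f4f000a, 0x80007e5000b, 0x2e00000fbf000a, 0x5080007b5363b, 0x3d000007ad6107, 0x90800000498e6, 0x3100000058cfd3],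
    [0x33429abdabc5cd, 0x906fbdcb726fb, 0x17fbbd41faacdb, 0x3b4a134205ab62, 0x21eccd676165dd, 0x31a4c562c9be55, 0x180991cca21080, 0x1111b7c8b6d5ee, 0x270a3f20f9b745, 0x24d54df5ffc75, 0x2fa3fa8a022f9, 0xcf162ea93dcfc, 0x111133c8b67cee, 0x1143b321d94ec9, 0xeea02057c7239, 0x3abda6ebb38c70, 0x2faa407a0b980, 0x31183dae34e940, 0x3b53b3bddbdb75, 0x12095fcc831982, 0x2f56fbbdcf7275, 0x3411f9cdfce3f5, 0x194c17cda3b082, 0x3f4d9adcb210c, 0x3414b1ccdc4af5, 0x17f191adcb210c, 0x20a00005680000],
    [0x23110b845e7473, 0x100764ccebcbf5, 0x3d345205b2b9ce, 0x15ad7b05a78bf3, 0x2095c2fb14c94e, 0x15b5c2ab15c844, 0x1c90236131b811, 0x2ded75ecf172e5, 0x31c74eca3738d1, 0x3cd77df9452aa, 0x3bc64ca916aab1, 0x34633c4c9e7bad, 0x1ba575ecb932e9, 0x3a8646ca37a051, 0x2d29b2cd9220d1, 0x3620b02b7792a1, 0x35a0cb9482762, 0x2531b0bef9a946, 0x22e898acfe1331, 0x1545e84e87bc2d, 0x3b64e88ea3bc3d, 0x1cf428e280e6fd, 0x1e06642926eca1, 0x159777d984dc8e, 0x2abbe484016efd, 0x17511867e89f7d, 0x2fe7fc05b40408],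
    [0x145de3612aa41f, 0x2dab82bb94aed5, 0x236a99bf4c6104, 0x2024504725c864, 0xc8de19f8098fc, 0x1e611b637d07bb, 0x98470073116ac, 0x2605c32641b238, 0x331d4b093c02e6, 0x3c04c7661126df, 0x3988b766019cec, 0x3c04c766112cdf, 0x104c4f26095b34, 0x556436ed51266, 0x36e93b265dffe0, 0x3c04c76611a4df, 0xed6f407ef7055, 0x536c9ef5fa96e, 0x152106bea0c86c, 0x2393bf492007ee, 0x3988b7661198ec, 0x3687f007b166ef, 0x15d8b72e81366e, 0x922840080c864, 0x9ce7c07b13663, 0xe700007ffaedd, 0x3a630800103637],
    [0x1bfc91d774ccaf, 0x13fba2e4f498ef, 0x3a2761ee49fd98, 0x21592457d0f494, 0x2edc06340150cc, 0x363c6e3409a3fb, 0x5af6a1ffae54, 0x33a554a35ef400, 0x2c1613de3dfdc2, 0x3bb707dc2d4165, 0x2d8b6779ffc6af, 0x2eef57ded8b5e5, 0x14571b75ee7069, 0xb27a017350414, 0x27a8ef774f2a3d, 0x10d3652950fe14, 0x951b1dddeaed4, 0x27b0efdd4d2d48, 0x2f7cc37b60c6af, 0x301f1bdd19d9c8, 0x3b74937ca53c2f, 0x3a7a407a10000, 0x21d87442b10014, 0x21a9b1d8a15a54, 0x3cc06aa07ccfaf, 0x328665d8015054, 0x36fcea5283b2f],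
    [0x2d1b847183ec19, 0xde7d413096a97, 0x3448b9ebe88896, 0x9b053de3ea09, 0x3cccbeb31101d8, 0x26c12c896e01bd, 0x1c61d1883da657, 0x12f5b0b9523250, 0x1faf0f575bde2a, 0x1397340976038f, 0x16eedebf5adf66, 0x276cecc715ac7f, 0x2bda940ab709bb, 0x24acc13284fbdd, 0x2c230f520b583b, 0x25630f47af6340, 0x10689df0950391, 0x3e4fe00a05c672, 0x3983b6ba7efa66, 0x3270832d409602, 0x61a078d65cc30, 0x284b113da2fc07, 0x18a7b4addac640, 0x3dbcb218e2b411, 0x119d3ed766e5c1, 0x216a80b7b7fe16, 0x296dae672403b1],
    [0x3b6e7aa813b197, 0x3e625c12b8d1b5, 0x3af8b59b9220c4, 0x6667ae7ec9b1e, 0x237e2cefb2fbea, 0x2182d7c5109b15, 0x3d880002f56109, 0x3f7f7e35cd8c0f, 0x1a8eb98e117efe, 0x3914746c5d0844, 0x310b9bd184d07e, 0x1c1c760739ba37, 0x2cae0a09b43faa, 0x3fab0a4ab1c549, 0x9aa998e113ffe, 0x310fbbd3e0917e, 0x1faaf9be54db3e, 0x1b7e8fac7d3e3c, 0xe8b081120f4fe, 0x2f7a1e077d3e37, 0x3c9c3601193e37, 0x15cafbf4e2ea89, 0x1dab08130031fe, 0x3dcc91badd923e, 0xe2ab9bf45573e, 0x4cafbf4a62f89, 0x2226280444c500],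
    [0x67e4ebbd9aaf7, 0x9100e8d8326d1, 0x349774c86d1519, 0x5b1b2bd87ad64, 0x3b4401a35f345b, 0xacdf2baef8c28, 0x1b498c60cc3180, 0x11d1a025ae315f, 0x2c2cc665a4a8db, 0x2af7f2f984004c, 0x1b08135868105a, 0x13902c25e6105f, 0x349b27386061c5, 0xf674a0605d88c, 0x3582b663ed995b, 0x3499a35ea91049, 0x24008406ddff80, 0x3321b2139cfe5f, 0x126c66324899d, 0x3590b8fd9316c0, 0x31603e12f4fe5f, 0x1030866df9f5f, 0x3516c6624cb81d, 0xa06c4fec80193, 0x30018c00ce3180, 0xa42846737aedf, 0x14748ffe80193],
    [0x4d53bd24c0b23, 0x363f20150dccfd, 0x295341fbeddf99, 0x18efbb60f1f535, 0xab76f30cede3d, 0x13b197dfdb6400, 0x31bde312a022ff, 0x35c300fed973ab, 0x3207860126f26a, 0x3ca9866edd72ef, 0x1e465d9fa2c855, 0xfcebcfe467a79, 0x18e620f1931b99, 0x3d846fda4faea6, 0x184022026056fc, 0x25637d2b6d6cc3, 0x19421a2630ed00, 0x1adac3a10640c0, 0x3209cbfafb4a1d, 0x2f05ef03f060df, 0x1b2c61ebf9304b, 0x1a1a9b5fff9845, 0x2351cbf8cae49d, 0x377678ed464b96, 0xa54a17c4e4176, 0x797eb5eb93cd3, 0x28f5f130d78e69],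
    [0x31537f305cbee0, 0x294ffedfddf6dd, 0x2d82a1de22b7ad, 0x40873495ebe3d, 0x37255289b6526b, 0x1dcce90ab7e0b0, 0x40ee30f810d7d, 0x8db663e00b51b, 0x22762606051d56, 0x36f4fc86cb9da6, 0x26f8ac70bb8588, 0x140869b8ae67a6, 0x48f0fed17131c, 0x35076f9fe7914e, 0x277e4fea53e39c, 0x195f5e32ef7b40, 0x10d2a4e4b16227, 0x3958dcbafe3ecc, 0x13fcec762a1cd5, 0x33ac0984ff86eb, 0x1018a9c80ed72, 0x509b3d2a08000, 0x13fe0579a3207b, 0x377484d810b55a, 0x25906409fdec3, 0x33fe4595f52e54, 0x3176d647a5bc64],
    [0x1363d23207c614, 0x4252af609fbd6, 0x350121e667142e, 0x276d40563752cc, 0x3f451634def118, 0x28eab2348a0598, 0x176d60014c8c06, 0x1aa42237deffd4, 0xfa0f35aa42d44, 0x1aa4223718be54, 0x3880f1a4064c44, 0x2d0e6a64befb99, 0x6ac223400e7d4, 0x1bac62785ee544, 0x126b2267fa6de2, 0x1c002a6041e3bd, 0x2665200088a456, 0x166c623619ffc6, 0x2a6462f03c2d46, 0x33a1db0b00284e, 0x3d89d9f25997ce, 0x2bab6003316c47, 0x37a54a2ba43ace, 0x34ce280198573c, 0x3ad2001103663, 0x1a6d0806a9815c, 0x2b6548054ca94c]]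

/-- For each generator of the Sylow subgroup: whether the witness is a point, the witness and its orbit. -/
def witThree : List (Bool × ℕ × List ℕ) :=
  [
    (false, 1, [1]), (true, 9592, [9592]), (true, 11589, [11589]), (true, 11589, [11589, 13187, 15391]),
    (true, 5258, [5258]), (true, 5258, [1267, 4151, 5258]), (true, 4141, [4141]), (true, 6527, [6527]),
    (true, 6527, [910, 1298, 6527]), (true, 6527, [910, 1298, 1375, 1789, 2514, 2521, 3246, 4141, 6527])]

/-- The certificate at 5. -/
def certFive : Schur.PrimeCert.Cert where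
  p := 5
  n := 2
  rules := [
    ([0, 0, 0, 0, 0], []), ([0, 1], [1, 0]), ([1, 1, 1, 1, 1], []), ([2, 0], [1, 2]), ([2, 0], [1, 2]),
    ([2, 1], [1, 1, 1, 0, 0, 0, 2]), ([3, 0], [1, 1, 1, 1, 0, 3]), ([3, 0], [1, 1, 1, 1, 0, 3]),
    ([3, 1], [1, 1, 1, 3])]
  eqs := [
    ([2, 0, 0, 0, 0, 0], [(0, 3, true), (1, 3, true), (2, 3, true), (3, 3, true), (4, 3, true), (0, 2, true)], [(1, 0, true)]),
    ([2, 0, 0], [(0, 3, true), (1, 4, true)], [(0, 4, true), (1, 4, true)]),
    ([2, 0, 1], [(0, 3, true), (1, 5, true)], [(1, 1, true), (0, 5, true), (6, 4, true), (5, 1, true), (4, 1, true), (3, 1, true)]),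
    ([3, 0, 0, 0, 0, 0], [(0, 6, true), (5, 6, true), (10, 6, true), (15, 6, true), (20, 6, true), (4, 1, true), (0, 2, true), (0, 1, true), (1, 1, true), (2, 1, true), (4, 1, true), (3, 1, true), (5, 1, true), (4, 1, true), (0, 2, true), (1, 1, true), (0, 1, true), (2, 1, true), (1, 1, true), (4, 1, true), (3, 1, true), (2, 1, true), (5, 1, true), (4, 1, true), (3, 1, true), (6, 1, true), (5, 1, true), (4, 1, true), (0, 2, true), (2, 1, true), (1, 1, true), (0, 1, true), (4, 1, true), (3, 1, true), (2, 1, true), (1, 1, true), (5, 1, true), (4, 1, true), (3, 1, true), (2, 1, true), (6, 1, true), (5, 1, true), (4, 1, true), (3, 1, true), (7, 1, true), (6, 1, true), (5, 1, true), (4, 1, true), (0, 2, true), (0, 0, true)], [(1, 0, true)]),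
    ([3, 0, 0], [(0, 6, true), (5, 7, true), (4, 1, true), (0, 2, true), (0, 1, true), (1, 1, true), (2, 1, true)], [(0, 7, true), (5, 7, true), (4, 1, true), (0, 2, true), (0, 1, true), (1, 1, true), (2, 1, true)])]
  gauge := [
    [], []]
  picks := [
    [(0, 4), (3, 4)], [(1, 4), (2, 1)], [(3, 4)]]

/-- The combinations of tails vanishing by the rewritings at 5. -/
def maskFive : List (List (ℕ × ℕ)) :=
  [
    [(0, 4), (2, 1)], [(3, 1), (4, 4)], [(1, 1), (3, 1), (4, 4)], [(2, 4)], [(6, 1), (7, 4)]]

/-- Words for the elements of the certificate at 5. -/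
def wordFive : List (List ℕ) :=
  [
    [8, 6, 7, 0, 3, 7, 1, 2, 3, 1, 4, 0, 7, 3, 2, 3, 7, 4, 3, 1, 2, 0, 4, 3, 7, 4, 3, 1, 2, 3, 1, 4, 7, 3, 1, 2, 1, 3, 7, 3, 5, 2, 3, 4, 7, 0, 7, 8, 1, 7, 3, 2, 3, 4, 7, 3, 1, 2, 7, 1, 0, 4, 3, 7, 4, 6, 5, 8, 1, 2, 1, 3, 7, 4, 3, 1, 2, 1, 4, 2, 0, 7, 8, 3, 5, 2, 6, 1, 2, 5, 7, 0, 6, 4, 3, 7, 6, 4, 2, 3, 1, 2, 7, 1, 0, 4, 3, 5, 0, 3, 7, 1, 0, 4, 6, 5, 8, 4, 5, 7, 3, 1, 2, 1, 3, 7, 3, 5, 7, 2, 0, 6, 7, 1, 4, 8, 5, 3, 2, 7, 4, 3, 4, 7, 2, 3, 1, 2, 1, 0, 3, 6, 5, 8, 7, 3, 2, 3, 4, 5, 7, 3, 2, 4, 3, 8, 3, 2, 1, 3, 4, 5, 3, 7, 8, 3, 2, 1, 3, 4, 5, 3, 7, 8, 3, 2, 1, 3, 4, 5, 3, 7, 8, 3, 2, 1, 3, 4, 5, 3, 7, 8, 3, 2, 1, 3, 4, 5, 3, 7, 8, 3, 2, 1, 3, 4, 5, 3, 7, 8, 3, 2, 1, 3, 4, 5, 3, 7, 8, 3, 2, 1, 3, 4, 5, 3, 7, 8, 3, 2, 1, 3, 4, 5, 3, 7, 8, 3, 2, 1, 3, 4, 5, 3, 7, 8, 1, 2, 3, 4, 5, 6, 7, 1, 2, 3, 4, 5, 6, 7, 1, 2, 3, 4, 5, 6, 7, 1, 2, 3, 4, 5, 6, 7, 1, 2, 3, 4, 5, 6, 7, 1, 2, 3, 4, 5, 6, 7, 1, 2, 3, 4, 5, 6, 7, 1, 2, 3, 4, 5, 6, 7, 1, 2, 3, 4, 5, 6, 7],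
    [1, 2, 1, 3, 4, 7, 3, 1, 2, 1, 8, 3, 5, 2, 3, 4, 7, 0, 7, 8, 1, 7, 3, 2, 3, 4, 7, 3, 1, 2, 7, 1, 0, 4, 3, 7, 4, 5, 4, 3, 1, 2, 3, 1, 4, 5, 8, 7, 3, 1, 2, 1, 3, 7, 3, 5, 2, 3, 4, 7, 0, 7, 8, 1, 7, 3, 2, 3, 4, 7, 3, 1, 2, 7, 1, 0, 4, 3, 7, 4, 8, 5, 0, 8, 5, 3, 2, 4, 3, 6, 5, 6, 1, 0, 7, 4, 2, 3, 7, 6, 2, 4, 3, 1, 2, 0, 5, 4, 3, 7, 8, 6, 5, 7, 4, 3, 0, 7, 6, 1, 4, 3, 0, 3, 5, 7, 2, 0, 6, 7, 1, 4, 8, 5, 3, 2, 7, 4, 3, 4, 7, 2, 3, 1, 2, 0, 5, 4, 3, 2, 1, 2, 4, 3, 7, 3, 5, 6, 4, 5, 8, 7, 3, 2, 3, 4, 5, 6, 7, 3, 2, 1, 4, 3, 5, 4, 8, 7, 3, 2, 1, 0, 4, 3, 2, 5, 7, 3, 4, 8, 3, 2, 1, 3, 4, 5, 3, 7, 8, 3, 2, 1, 3, 4, 5, 3, 7, 8, 3, 2, 1, 3, 4, 5, 3, 7, 8, 3, 2, 1, 3, 4, 5, 3, 7, 8, 3, 2, 1, 3, 4, 5, 3, 7, 8, 3, 2, 1, 3, 4, 5, 3, 7, 8, 3, 2, 1, 3, 4, 5, 3, 7, 8, 3, 2, 1, 3, 4, 5, 3, 7, 8, 3, 2, 1, 3, 4, 5, 3, 7, 8, 3, 2, 1, 3, 4, 5, 3, 7, 8, 3, 2, 1, 3, 4, 5, 3, 7, 8, 3, 2, 1, 3, 4, 5, 3, 7, 8, 3, 2, 1, 3, 4, 5, 3, 7, 8, 3, 2, 1, 3, 4, 5, 3, 7, 8, 3, 2, 1, 3, 4, 5, 3, 7, 8, 3, 2, 1, 3, 4, 5, 3, 7, 8, 3, 2, 1, 3, 4, 5, 3, 7, 8, 3, 2, 1, 3, 4,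 5, 3, 7, 8, 3, 2, 1, 3, 4, 5, 3, 7, 8, 3, 2, 1, 3, 4, 5, 3, 7, 8],
    [5, 4, 1, 3, 2, 1, 3, 4, 5, 8, 7, 3, 4, 7, 3, 0, 2, 1, 3, 7, 2, 6, 4, 3, 2, 4, 7, 3, 5, 2, 6, 1, 7, 0, 8, 6, 8, 2, 1, 2, 1, 3, 7, 4, 3, 1, 2, 1, 6, 7, 3, 1, 2, 1, 3, 7, 3, 5, 2, 3, 4, 7, 0, 7, 8, 1, 7, 3, 2, 3, 4, 7, 3, 1, 2, 7, 1, 0, 4, 3, 7, 4, 5, 6, 5, 8, 1, 2, 1, 3, 7, 4, 3, 1, 2, 1, 4, 7, 3, 5, 2, 3, 4, 7, 0, 7, 8, 1, 7, 3, 2, 3, 4, 7, 3, 1, 2, 7, 1, 0, 4, 3, 5, 6, 4, 3, 1, 2, 1, 3, 4, 5, 3, 0, 7, 6, 1, 4, 3, 0, 3, 5, 7, 2, 0, 6, 7, 1, 4, 8, 5, 3, 2, 7, 4, 3, 4, 7, 2, 3, 1, 2, 0, 3, 4, 7, 5, 4, 3, 7, 8, 2, 1, 2, 3, 4, 5, 6, 2, 3, 4, 5, 6, 7, 3, 2, 1, 4, 3, 5, 7, 8, 7, 3, 2, 1, 4, 3, 2, 5, 7, 3, 4],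
    [8, 1, 2, 1, 3, 4, 7, 3, 1, 2, 1, 2, 8, 6, 8, 0, 7, 1, 6, 2, 5, 3, 7, 4, 2, 3, 4, 6, 2, 7, 3, 1, 2, 0, 3, 7, 4, 3, 7, 8, 5, 4, 3, 1, 2, 3, 1, 4, 5, 6, 5, 7, 3, 4, 5, 0, 2, 1, 3, 2, 7, 4, 3, 4, 7, 2, 3, 5, 8, 4, 1, 7, 6, 0, 2, 7, 5, 3, 6, 5, 7, 8, 0, 3, 7, 1, 2, 3, 1, 4, 0, 7, 3, 2, 3, 7, 4, 3, 1, 2, 0, 4, 3, 7, 4, 3, 1, 2, 3, 1, 4, 3, 5, 2, 3, 4, 7, 0, 7, 8, 1, 7, 3, 2, 3, 4, 7, 3, 1, 2, 7, 1, 0, 4, 3, 7, 4, 6, 8, 7, 3, 1, 2, 1, 3, 7, 4, 2, 0, 7, 8, 3, 5, 2, 6, 1, 2, 5, 7, 0, 6, 4, 3, 7, 6, 4, 2, 3, 1, 2, 7, 1, 0, 4, 3, 6, 4, 3, 0, 7, 6, 1, 4, 3, 0, 3, 5, 7, 2, 0, 6, 7, 1, 4, 8, 5, 3, 2, 7, 4, 3, 4, 7, 2, 3, 1, 2, 0, 5, 4, 3, 7, 8, 2, 1, 2, 4, 3, 2, 3, 4, 5, 6, 7, 3, 2, 1, 4, 3, 5, 4, 8, 7, 3, 2, 1, 0, 4, 3, 2, 5, 7, 3, 4, 8]]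

/-- The matrices of the elements of the certificate at 5. -/
def matFive : List (List ℕ) :=
  [
    [0x14834f15ea2e2, 0x505bbfa8974ef, 0x3f96580a5e7db7, 0xac5e7f45f264d, 0x310795d2742836, 0x5ec81d1e9a757, 0xf96be7bd5eef6, 0x1e56d5b445e2f2, 0x3eb731b13fde30, 0x3e00c057c9efd4, 0xeb730f265b5b0, 0x1933c81b06b23e, 0x3c772f54a25210, 0x2ea5387083b436, 0x6ed31b6def1c9, 0x7deff39011106, 0x1ff35749d243dc, 0x3886ca1285ca9b, 0xfb5393624107f, 0x129d33a7e2cd49, 0x2c608362b989e7, 0xed11b49f702f4, 0x1a95f08004ab49, 0x155de5338ebc64, 0x2ba3534c77134a, 0x1eca1d37733b8d, 0x3ac7fc01f89f4f],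
    [0x18e64f26124d05, 0x37ad6f7592eec7, 0x801f97c339627, 0xec6a4f529624a, 0x2ec08fccc95837, 0x37dcd6080294db, 0x2266df19abd980, 0xbb40ad78e15bb, 0x40eb2d10a42f9, 0xc58b9fdd8be0d, 0x9ab9fdc6f81c, 0x2dec2728b426d, 0x11c7f59049bb70, 0x25177f0ef28ca3, 0x342f6f0c638e80, 0x3840170cf89fd3, 0x1b600e9c002680, 0xa7b19513cacaa, 0x50391de3ecc79, 0x3d5dd51cae8ec2, 0xedec2fb1505ed, 0x3c080c88197180, 0x3bf6448c3354f0, 0x19000006f60000, 0x23680e9aa01080, 0x3c0ed385fdc900, 0x50ed3845bc900],
    [0x253bb88ce71471, 0x22a36c72d5c71f, 0x23c044581288d, 0x270bbe1689147c, 0x29abb430ed2c66, 0x1f32694c3b8bf0, 0x1ae35ece2d30d9, 0x106d3536048ea9, 0x12396534069c29, 0x157425fe9f5543, 0x23879dfb05b029, 0x23965340ed4a9, 0x2fa778b7f11cd1, 0x10b272d07fea06, 0x921a533f196cf, 0xdbb3eacdfa206, 0x2a886c7a5101b0, 0x23ee3ccea9ac80, 0x3fa995ffd4c94c, 0x12ada1365c9c29, 0x2aebddfadca843, 0x27c89402a00000, 0x23e77cb455c188, 0x3ea6394da51996, 0x289b18709290f, 0x3ba4794d051996, 0x800fc7a091330],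
    [0x8ed158280585e, 0x2a3e77273aa73, 0xd7e5366f6b838, 0x8647ebe3969b9, 0x20f90c6699b752, 0x3a45871839bcb0, 0x6727290a80f6, 0xbaf0fb21cbcd3, 0x255452f587d453, 0x27bf8cf9590eba, 0x1a2413fd0082de, 0x105ea8bbf026fd, 0x2c4adc0875605f, 0x1207c00d25c697, 0x1817f5cf27bc34, 0x384c8b8c458e0c, 0xe8ab5666996dc, 0x30ca56e0c436df, 0x15c18ca3064abb, 0x3c5ea9fd6a46fd, 0x123afbbd3b3271, 0x3d049000fef368, 0x24a650d63666e7, 0x3426b248d2ad52, 0x38e7424ffdb27e, 0x169ea4050d4bdd, 0x3fcf9561e05395]]

/-- For each generator of the Sylow subgroup: whether the witness is a point, the witness and its orbit. -/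
def witFive : List (Bool × ℕ × List ℕ) :=
  [
    (true, 11589, [11589]), (true, 5737, [5737])]

end CfsgLib.Fi22Cover
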